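import Groth.Agent.CastLib.InterSymm
import Groth.Agent.TwistShriek.SurfEff

/-!
# The class of the closed fibre is trivial
-/

set_option autoImplicit false
set_option backward.isDefEq.respectTransparency false
set_option linter.style.haveILetI false
set_option maxHeartbeats 1000000

universe u

open CategoryTheory CategoryTheory.Limits AlgebraicGeometry TopologicalSpace IsLocalRing IntMult

noncomputable section

namespace Groth.Agent.CastLib

open Groth.Agent.SurfPtBlow Groth.Agent.DivisorialLib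

theorem isInvertible_idealMod {Y : Scheme.{u}} {D : Y.IdealSheafData} (hD : BlowUp.IsEffCartierIdeal D) :
    PicF.IsInvertible (ClSub.idealMod D) := (Groth.Agent.S8914.result D).2 hD

theorem exists_inverse_idealMod {Y : Scheme.{u}} {D : Y.IdealSheafData} (hD : BlowUp.IsEffCartierIdeal D) :
    ∃ L : Y.Modules, ClSub.IsInverseOf L (ClSub.idealMod D) := by
  obtain ⟨L, hL, hc⟩ := PicLib.exists_cls (PicLib.cls (isInvertible_idealMod hD))⁻¹
  refine ⟨L, (PicLib.cls_eq_one (AmpleLib.isInvertible_tensor hL (isInvertible_idealMod hD))).1 ?_⟩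
  rw [PicLib.cls_tensor hL (isInvertible_idealMod hD), hc, inv_mul_cancel]

theorem mk_idealMod_mul {Y : Scheme.{u}} {A B : Y.IdealSheafData} (hA : BlowUp.IsEffCartierIdeal A)
    (hB : BlowUp.IsEffCartierIdeal B) :
    IntLib.mk (ClSub.idealMod (A * B)) = IntLib.mk (ClSub.idealMod A) * IntLib.mk (ClSub.idealMod B) := by
  obtain ⟨e⟩ := TwistShriek.nonempty_idealMod_mul_iso (isInvertible_idealMod hA) (isInvertible_idealMod hB)
    (isInvertible_idealMod (BlowCompLib.isEffCartier_mul hA hB))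
  exact IntLib.mk_congr e

theorem mk_idealMod_top {Y : Scheme.{u}} : IntLib.mk (ClSub.idealMod (⊤ : Y.IdealSheafData)) = 1 := by
  have hT : BlowUp.IsEffCartierIdeal (⊤ : Y.IdealSheafData) := BlowCompLib.isEffCartier_top
  obtain ⟨L, ⟨e⟩⟩ := exists_inverse_idealMod hT
  have h1 := mk_idealMod_mul hT hT
  rw [show (⊤ : Y.IdealSheafData) * ⊤ = ⊤ from one_mul _] at h1
  have h2 : IntLib.mk L * IntLib.mk (ClSub.idealMod (⊤ : Y.IdealSheafData)) = 1 :=
    (IntLib.mk_tensor _ _).symm.trans ((IntLib.mk_congr e).trans IntLib.mk_structureModule)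
  calc IntLib.mk (ClSub.idealMod (⊤ : Y.IdealSheafData))
      = (IntLib.mk L * IntLib.mk (ClSub.idealMod (⊤ : Y.IdealSheafData))) * IntLib.mk (ClSub.idealMod ⊤) := by
        rw [h2, one_mul]
    _ = IntLib.mk L * IntLib.mk (ClSub.idealMod (⊤ : Y.IdealSheafData)) := by rw [mul_assoc, ← h1]
    _ = 1 := h2

theorem mk_idealMod_prod {Y : Scheme.{u}} {ι : Type*} (D : ι → Y.IdealSheafData)
    (hD : ∀ i, BlowUp.IsEffCartierIdeal (D i)) (a : ι → ℕ) (s : Finset ι) :
    BlowUp.IsEffCartierIdeal (∏ i ∈ s, D i ^ a i) ∧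
      IntLib.mk (ClSub.idealMod (∏ i ∈ s, D i ^ a i)) = ∏ i ∈ s, IntLib.mk (ClSub.idealMod (D i)) ^ a i := by
  classical
  have hpow : ∀ i m, BlowUp.IsEffCartierIdeal (D i ^ m) ∧
      IntLib.mk (ClSub.idealMod (D i ^ m)) = IntLib.mk (ClSub.idealMod (D i)) ^ m := by
    intro i m
    induction m with
    | zero => rw [pow_zero, pow_zero]; exact ⟨BlowCompLib.isEffCartier_top, mk_idealMod_top⟩
    | succ m ih =>
      rw [pow_succ, pow_succ]
      exact ⟨BlowCompLib.isEffCartier_mul ih.1 (hD i), (mk_idealMod_mul ih.1 (hD i)).trans (by rw [ih.2])⟩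
  induction s using Finset.induction_on with
  | empty => rw [Finset.prod_empty, Finset.prod_empty]; exact ⟨BlowCompLib.isEffCartier_top, mk_idealMod_top⟩
  | insert j t hj ih =>
    rw [Finset.prod_insert hj, Finset.prod_insert hj]
    exact ⟨BlowCompLib.isEffCartier_mul (hpow j _).1 ih.1,
      (mk_idealMod_mul (hpow j _).1 ih.1).trans (by rw [(hpow j _).2, ih.2])⟩

theorem stalkIdeal_prod' {Y : Scheme.{u}} {ι : Type*} (D : ι → Y.IdealSheafData) (a : ι → ℕ) (x : Y) (s : Finset ι) :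
    IntMult.stalkIdeal (∏ i ∈ s, D i ^ a i) x = ∏ i ∈ s, IntMult.stalkIdeal (D i) x ^ a i := by
  classical
  induction s using Finset.induction_on with
  | empty => simp only [Finset.prod_empty]; rw [stalkIdeal_one, Ideal.one_eq_top]
  | insert j t hj ih => rw [Finset.prod_insert hj, Finset.prod_insert hj, stalkIdeal_mul, InfNbhdLib.stalkIdeal_pow, ih]

theorem mk_multiTwist {Y : Scheme.{u}} {n : ℕ} (L : Fin n → Y.Modules) (a : Fin n → ℕ) :
    IntLib.mk (FGA.multiTwist L a) = ∏ i, IntLib.mk (L i) ^ a i := by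
  rw [FGA.multiTwist, IntLib.mk_tensorList, List.map_map, Fin.prod_univ_def]
  exact congrArg List.prod (List.map_congr_left fun i _ => IntLib.mk_tensorPow (L i) (a i))

variable {R : Type u} [CommRing R] [IsDomain R] [IsDiscreteValuationRing R]
variable {X : Over (Spec (CommRingCat.of R))}

theorem FibreGood.nonempty_idealMod_fibre (h : FibreGood X) :
    Nonempty (ClSub.idealMod (fibreIdeal X.hom) ≅ Coh.structureModule X.left) := by
  haveI := h.int
  haveI := h.noeth
  obtain ⟨π, hπ⟩ := IsDiscreteValuationRing.exists_irreducible R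
  have hJ : ∀ z : X.left, IntMult.stalkIdeal (fibreIdeal X.hom) z =
      Ideal.span {(X.left.presheaf.germ ⊤ z trivial).hom (Coh.toGlobal X.hom π)} := fun z => by
    rw [fibreIdeal, hπ.maximalIdeal_eq]
    exact stalkIdeal_comap_principal X.hom π z
  have hc : Coh.toGlobal X.hom π ≠ 0 := fun h0 => by
    obtain ⟨f, hf, hfI⟩ := exists_gen h.isEffCartier_fibre (genericPoint X.left)
    rw [hJ, h0, map_zero, eq_comm, Ideal.span_singleton_eq_span_singleton] at hfI
    exact nonZeroDivisors.ne_zero hf ((associated_zero_iff_eq_zero f).1 hfI)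
  obtain ⟨w, hw⟩ := shortExact_smul hc hJ
  exact ⟨((hw.fIsKernel).conePointUniqueUpToIso (kernelIsKernel (ClSub.toSubscheme (fibreIdeal X.hom)))).symm⟩

/-- The twist by the whole fibre is trivial. -/
theorem FibreGood.multiTwist_fibre (h : FibreGood X) {n : ℕ} {J : Fin n → X.left.IdealSheafData}
    (hJ : ∀ i, BlowUp.IsEffCartierIdeal (J i)) (a : Fin n → ℕ) (hfib : fibreIdeal X.hom = ∏ i, J i ^ a i)
    (L : Fin n → X.left.Modules) (hL : ∀ i, ClSub.IsInverseOf (L i) (ClSub.idealMod (J i))) :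
    Nonempty (FGA.multiTwist L a ≅ Coh.structureModule X.left) := by
  obtain ⟨e⟩ := h.nonempty_idealMod_fibre
  have h1 : ∀ i, IntLib.mk (L i) * IntLib.mk (ClSub.idealMod (J i)) = 1 := fun i => by
    obtain ⟨e'⟩ := hL i
    exact (IntLib.mk_tensor _ _).symm.trans ((IntLib.mk_congr e').trans IntLib.mk_structureModule)
  have h2 : ∏ i, IntLib.mk (ClSub.idealMod (J i)) ^ a i = 1 := by
    rw [← (mk_idealMod_prod J hJ a Finset.univ).2, ← hfib]
    exact (IntLib.mk_congr e).trans IntLib.mk_structureModule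
  refine IntLib.mk_eq_mk.1 ?_
  rw [IntLib.mk_structureModule, mk_multiTwist]
  calc ∏ i, IntLib.mk (L i) ^ a i
      = (∏ i, IntLib.mk (L i) ^ a i) * ∏ i, IntLib.mk (ClSub.idealMod (J i)) ^ a i := by rw [h2, mul_one]
    _ = 1 := by
      rw [← Finset.prod_mul_distrib]
      exact Finset.prod_eq_one fun i _ => by rw [← mul_pow, h1, one_pow]

theorem VSurf.sum_mult_inter (h : VSurf X) {n : ℕ} {J : Fin n → X.left.IdealSheafData}
    (hJ : ∀ i, BlowUp.IsEffCartierIdeal (J i)) (a : Fin n → ℕ) (hfib : fibreIdeal X.hom = ∏ i, J i ^ a i)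
    (L : Fin n → X.left.Modules) (hL : ∀ i, ClSub.IsInverseOf (L i) (ClSub.idealMod (J i)))
    (Γ : ArSurf.VertComp R X) : ∑ i, (a i : ℤ) * ArSurf.inter R X (L i) Γ = 0 := by
  haveI := h.proper
  obtain ⟨e⟩ := h.toFibreGood.multiTwist_fibre hJ a hfib L hL
  rw [← (inter_multiTwist L (fun i => isInvertible_inverse_ideal (hL i)) a Γ).2, inter_congr Γ e, inter_one]

theorem VSurf.mult_pos (h : VSurf X) {n : ℕ} {Γ : Fin n → ArSurf.VertComp R X}
    (hΓ : Models.IsComponentList R X Γ) (i : Fin n) : 0 < Models.mult R X (Γ i) := by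
  haveI := h.int
  haveI := h.noeth
  obtain ⟨hco, hinj, -⟩ := h.toFibreGood.componentList hΓ
  obtain ⟨hC, heq⟩ := h.toFibreGood.fibre_eq_prod hΓ
  by_contra h0
  let ξ := Models.genPtOf R X (Γ i)
  have htop : IntMult.stalkIdeal (fibreIdeal X.hom) ξ = ⊤ := by
    rw [show fibreIdeal X.hom = ∏ j, (Γ j).ι.ker ^ Models.mult R X (Γ j) from heq, stalkIdeal_prod']
    rw [← Ideal.one_eq_top]
    refine Finset.prod_eq_one fun j _ => ?_
    by_cases hji : j = i
    · rw [hji, show Models.mult R X (Γ i) = 0 by omega, pow_zero]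
    · rw [ker_vertComp, stalkIdeal_cl_of_ne (hco j) (hco i) (fun e => hji (hinj e)), ← Ideal.one_eq_top, one_pow]
  exact (IsLocalRing.maximalIdeal.isMaximal _).ne_top (top_le_iff.1 (htop ▸
    IdealStalkLib.stalkIdeal_le_maximal (fibreIdeal X.hom) (FibreGood.mem_fibre.2 (vertComp_vertical (Γ i) _))))

theorem FibreGood.exists_fibre_decomp (h : FibreGood X) :
    ∃ (n : ℕ) (ξ : Fin n → X.left) (a : Fin n → ℕ), (∀ i, Order.coheight (ξ i) = 1) ∧ Function.Injective ξ ∧
      (∀ i, X.hom (ξ i) = closedPoint R) ∧ (∀ η, X.hom η = closedPoint R → Order.coheight η = 1 → ∃ i, ξ i = η) ∧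
      (∀ i, 0 < a i) ∧ fibreIdeal X.hom = ∏ i, cl (ξ i) ^ a i := by
  classical
  haveI := h.int
  haveI := h.noeth
  let F : Set X.left := {η | X.hom η = closedPoint R ∧ Order.coheight η = 1}
  have hF : F.Finite := by
    obtain ⟨S, hS, hSc, hSi, hSe⟩ :=
      NoetherianSpace.exists_finite_set_isClosed_irreducible (α := X.left) (fibreIdeal X.hom).support.isClosed
    refine (hS.biUnion fun T hT => Set.Subsingleton.finite (s := {η | IsGenericPoint η T})
      fun a ha b hb => IsGenericPoint.eq ha hb).subset fun η hη => ?_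
    have hmem : η ∈ ((fibreIdeal X.hom).support : Set X.left) := FibreGood.mem_fibre.2 hη.1
    obtain ⟨T, hT, hηT⟩ := Set.mem_sUnion.1 (hSe ▸ hmem)
    obtain ⟨g, hg⟩ := QuasiSober.sober (hSi T hT) (hSc T hT)
    refine Set.mem_biUnion hT ?_
    suffices g = η by exact this ▸ hg
    by_contra hne
    have h3 := S8909.succ_le (hg.specializes hηT) hne
    have hgF : g ∈ (fibreIdeal X.hom).support := by
      rw [← SetLike.mem_coe, hSe]
      exact Set.mem_sUnion_of_mem hg.mem hT
    rw [hη.2] at h3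
    exact absurd (h3.trans' (add_le_add (Order.one_le_iff_pos.2 (pos_iff_ne_zero.2
      (S8909.coheight_ne_zero h.isEffCartier_fibre hgF))) le_rfl)) (by decide)
  let e := hF.toFinset.equivFin.symm
  let ξ : Fin hF.toFinset.card → X.left := fun i => (e i).1
  have hξ : ∀ i, ξ i ∈ F := fun i => hF.mem_toFinset.1 (e i).2
  have hexp : ∀ i, ∃ m, IntMult.stalkIdeal (fibreIdeal X.hom) (ξ i) = maximalIdeal (X.left.presheaf.stalk (ξ i)) ^ m :=
    fun i => by
      haveI : IsDiscreteValuationRing (X.left.presheaf.stalk (ξ i)) :=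
        CDivLib.isDVR_stalk (fun x => by haveI := h.reg x; exact PurityLib.isIntegrallyClosed_of_regular _) (hξ i).2
      obtain ⟨ϖ, hϖ⟩ := IsDiscreteValuationRing.exists_irreducible (X.left.presheaf.stalk (ξ i))
      obtain ⟨f, hf, hfI⟩ := exists_gen h.isEffCartier_fibre (ξ i)
      refine S8909.exists_eq_pow hϖ.maximalIdeal_eq fun hbot => nonZeroDivisors.ne_zero hf ?_
      exact Ideal.span_singleton_eq_bot.1 (hfI.symm.trans hbot)
  choose a ha using hexp
  refine ⟨_, ξ, a, fun i => (hξ i).2, fun i j hij => e.injective (Subtype.ext hij), fun i => (hξ i).1,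
    fun η h1 h2 => ⟨e.symm ⟨η, hF.mem_toFinset.2 ⟨h1, h2⟩⟩, by simp [ξ]⟩, fun i => ?_, ?_⟩
  · refine Nat.pos_of_ne_zero fun h0 => (IsLocalRing.maximalIdeal.isMaximal (X.left.presheaf.stalk (ξ i))).ne_top ?_
    have := IdealStalkLib.stalkIdeal_le_maximal (fibreIdeal X.hom) (FibreGood.mem_fibre.2 (hξ i).1)
    rw [ha, h0, pow_zero, Ideal.one_eq_top, top_le_iff] at this
    exact this
  · refine eq_prod_cl h.reg ξ (fun i => (hξ i).2) (fun i j hij => e.injective (Subtype.ext hij)) _ a rfl _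
      h.isEffCartier_fibre (fun η hη h1 => ⟨e.symm ⟨η, hF.mem_toFinset.2 ⟨FibreGood.mem_fibre.1 hη, h1⟩⟩, ?_⟩) ha
    simp [ξ]

end Groth.Agent.CastLib
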