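import Groth.Agent.CastLib.InterFibre
import Groth.Agent.CurveLib.DegTensor
import Groth.Agent.CurveLib.Deg
import Groth.Agent.IntLib.Cls
import Groth.Agent.IntLib.Divisor
import Groth.Agent.IntLib.Push
import Groth.Agent.JacLib.Deg
import Groth.Agent.JacLib.IdealPull
import Groth.Agent.ModelDual.Pairing

/-!
# Intersection numbers with vertical curves
-/

set_option autoImplicit false
set_option backward.isDefEq.respectTransparency false
set_option linter.style.haveILetI false
set_option maxHeartbeats 1000000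

universe u

open CategoryTheory CategoryTheory.Limits AlgebraicGeometry TopologicalSpace IsLocalRing IntMult

noncomputable section

namespace Groth.Agent.CastLib

open Groth.Agent.SurfPtBlow Groth.Agent.DivisorialLib

section Curve

variable {k : Type u} [Field k] {X : Scheme.{u}} [X.Over (Spec (CommRingCat.of k))]
  [IsProper (X ↘ Spec (CommRingCat.of k))]

theorem eulerCharLE_eq_euler (hdim : topologicalKrullDim X ≤ 1) (G : X.Modules) :
    FGA.eulerCharLE k X G 1 = Curv2.euler k X G := by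
  rw [CurveLib.euler_eq_sub (k := k) hdim]
  simp [FGA.eulerCharLE, Finset.sum_range_succ]
  ring

theorem curveDeg_eq_deg (hdim : topologicalKrullDim X ≤ 1) (L : X.Modules) :
    ArSurf.curveDeg k X L = Curv2.deg k X L 1 := by
  rw [ArSurf.curveDeg, eulerCharLE_eq_euler hdim, eulerCharLE_eq_euler hdim, Curv2.deg]
  simp

theorem curveDeg_iso {L M : X.Modules} (hdim : topologicalKrullDim X ≤ 1) (e : L ≅ M) :
    ArSurf.curveDeg k X L = ArSurf.curveDeg k X M := by
  rw [curveDeg_eq_deg hdim, curveDeg_eq_deg hdim, CurveLib.deg_iso e]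

theorem curveDeg_tensor [IsIntegral X] (hdim : topologicalKrullDim X ≤ 1) {L M : X.Modules} (hL : PicF.IsInvertible L)
    (hM : PicF.IsInvertible M) :
    ArSurf.curveDeg k X (CohB1.tensorMod L M) = ArSurf.curveDeg k X L + ArSurf.curveDeg k X M := by
  rw [curveDeg_eq_deg hdim, curveDeg_eq_deg hdim, curveDeg_eq_deg hdim]
  exact CurveLib.deg_tensor_add hdim hL hM

omit [IsProper (X ↘ Spec (CommRingCat.of k))] in
theorem curveDeg_one : ArSurf.curveDeg k X (Coh.structureModule X) = 0 := sub_self _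

/-- The ideal of a divisor has minus the degree of the divisor. -/
theorem curveDeg_idealMod (hdim : topologicalKrullDim X ≤ 1) [IsIntegral X] {D : X.IdealSheafData}
    (hD : BlowUp.IsEffCartierIdeal D) :
    ArSurf.curveDeg k X (ClSub.idealMod D) = -(Module.finrank k (Coh.HH X (ClSub.quotMod D) 0) : ℤ) := by
  haveI := EulerIneqLib.isNoetherian_proper (X := X) k
  haveI := Groth.Agent.SerreAff.epi_unitToPush D.subschemeι
  haveI : Mono (ClSub.idealModι D) := inferInstanceAs (Mono (kernel.ι _))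
  let S : ShortComplex X.Modules := ShortComplex.mk (ClSub.idealModι D) (ClSub.toSubscheme D) (kernel.condition _)
  have hS : S.ShortExact := ShortComplex.ShortExact.mk'
    (ShortComplex.exact_of_f_is_kernel _ (kernelIsKernel _)) (inferInstanceAs (Mono (ClSub.idealModι D)))
    (inferInstanceAs (Epi (ClSub.toSubscheme D)))
  have h : Curv2.euler k X (Coh.structureModule X) =
      Curv2.euler k X (ClSub.idealMod D) + Curv2.euler k X (ClSub.quotMod D) :=
    CurveLib.euler_shortExact (K := k) hS (CurveLib.isCoh_of_isInvertible ((Groth.Agent.S8914.result D).2 hD))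
      (CurveLib.isCoh_of_isInvertible ParaFLib.isInvertible_structureModule) (IntLib.isCoh_quotMod D)
  have hd : topologicalKrullDim (D.support : Set X) ≤ 0 := IntLib.dim_support_le hD (e := 0) (by simpa using hdim)
  rw [CurveLib.euler_of_dim_le_zero (k := k) D.support.isClosed (IntLib.support_quotMod_subset D) hd] at h
  rw [ArSurf.curveDeg, eulerCharLE_eq_euler hdim, eulerCharLE_eq_euler hdim]
  omega

theorem finrank_quotMod_eq_zero_iff {D : X.IdealSheafData} :
    Module.finrank k (Coh.HH X (ClSub.quotMod D) 0) = 0 ↔ (D.support : Set X) = ∅ := by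
  haveI := EulerIneqLib.isNoetherian_proper (X := X) k
  haveI := EulerIneqLib.finite_HH (k := k) (IntLib.isCoh_quotMod D) 0
  rw [Module.finrank_eq_zero_iff_of_free]
  have hZ : Subsingleton (Coh.HH X (ClSub.quotMod D) 0) ↔ Subsingleton Γ(D.subscheme, ⊤) :=
    (CurveLib.secOf (ClSub.quotMod D)).toEquiv.subsingleton_congr
  rw [hZ, ← Scheme.IdealSheafData.range_subschemeι, Set.range_eq_empty_iff]
  exact ⟨fun h => not_nonempty_iff.1 fun hne => by
    haveI : Nonempty (⊤ : D.subscheme.Opens).toScheme := ⟨⟨hne.some, trivial⟩⟩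
    exact not_nontrivial_iff_subsingleton.2 h inferInstance,
    fun h => by
      haveI := h
      rw [show (⊤ : D.subscheme.Opens) = ⊥ from Opens.ext (Set.eq_empty_of_isEmpty (α := D.subscheme) _ |>.trans
        (Set.eq_empty_of_isEmpty _).symm)]
      infer_instance⟩

end Curve

/-- Inverse images of Cartier divisors on integral schemes not contained in them. -/
theorem isEffCartier_comap_integral {X Z : Scheme.{u}} [IsIntegral Z] (ι : Z ⟶ X) {D : X.IdealSheafData}
    (hD : BlowUp.IsEffCartierIdeal D) (hgen : ι (genericPoint Z) ∉ D.support) :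
    BlowUp.IsEffCartierIdeal (D.comap ι) := fun z => by
  obtain ⟨U, hzU, g, -, hgU⟩ := hD (ι z)
  obtain ⟨V, hV, hzV, hVU⟩ := exists_isAffineOpen_mem_and_subset (X := Z) (x := z) (U := ι ⁻¹ᵁ U.1) hzU
  haveI : Nonempty V.toScheme := ⟨⟨z, hzV⟩⟩
  have hI : (D.comap ι).ideal ⟨V, hV⟩ = Ideal.span {ι.appLE U.1 V hVU g} :=
    (IdealStalkLib.comap_ideal D ι U.2 hV hVU).trans (by rw [hgU, Ideal.map_span, Set.image_singleton])
  refine ⟨⟨V, hV⟩, hzV, _, mem_nonZeroDivisors_of_ne_zero fun h0 => hgen ?_, hI⟩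
  have hgV : genericPoint Z ∈ V := (genericPoint_specializes z).mem_open V.2 hzV
  have h1 : genericPoint Z ∈ (D.comap ι).support := by
    rw [Scheme.IdealSheafData.mem_support_iff_of_mem (U := ⟨V, hV⟩) hgV, hI, h0, Ideal.span_singleton_zero]
    simp
  rw [← SetLike.mem_coe, Scheme.IdealSheafData.support_comap] at h1
  exact h1

theorem toGlobal_w {A B : Type u} [CommRing A] [CommRing B] {Y Z : Scheme.{u}} {ι : Y ⟶ Z}
    {p : Z ⟶ Spec (CommRingCat.of A)} {t : Y ⟶ Spec (CommRingCat.of B)} {φ : A →+* B}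
    (w : ι ≫ p = t ≫ Spec.map (CommRingCat.ofHom φ)) (r : A) :
    ι.appTop (Coh.toGlobal p r) = Coh.toGlobal t (φ r) := by
  have h : (Scheme.ΓSpecIso (CommRingCat.of A)).inv ≫ p.appTop ≫ ι.appTop =
      CommRingCat.ofHom φ ≫ (Scheme.ΓSpecIso (CommRingCat.of B)).inv ≫ t.appTop := by
    rw [← Scheme.Hom.comp_appTop, w, Scheme.Hom.comp_appTop, Scheme.ΓSpecIso_inv_naturality_assoc]
  exact ConcreteCategory.congr_hom h r

variable {R : Type u} [CommRing R] [IsDomain R] [IsDiscreteValuationRing R]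
variable {X : Over (Spec (CommRingCat.of R))}

theorem isProper_vertComp [IsProper X.hom] (Γ : ArSurf.VertComp R X) :
    IsProper (Γ.curve.left ↘ Spec (CommRingCat.of (ResidueField R))) := by
  show IsProper Γ.curve.hom
  haveI : IsClosedImmersion (Spec.map (CommRingCat.ofHom (IsLocalRing.residue R))) :=
    IsClosedImmersion.spec_of_surjective _ Ideal.Quotient.mk_surjective
  haveI : IsProper (Γ.curve.hom ≫ Spec.map (CommRingCat.ofHom (IsLocalRing.residue R))) := Γ.w ▸ inferInstance
  exact IsProper.of_comp Γ.curve.hom (Spec.map (CommRingCat.ofHom (IsLocalRing.residue R)))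

theorem dim_vertComp (Γ : ArSurf.VertComp R X) : topologicalKrullDim Γ.curve.left ≤ 1 := Γ.dim_eq.le

theorem isInvertible_inverse_ideal {Y : Scheme.{u}} {L M : Y.Modules} (hL : ClSub.IsInverseOf L M) :
    PicF.IsInvertible L := by
  obtain ⟨e⟩ := hL
  exact AmpleLib.isInvertible_of_tensor_iso e

variable [IsProper X.hom]

theorem inter_congr (Γ : ArSurf.VertComp R X) {L M : X.left.Modules} (e : L ≅ M) :
    ArSurf.inter R X L Γ = ArSurf.inter R X M Γ :=
  haveI := isProper_vertComp Γ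
  curveDeg_iso (dim_vertComp Γ) ((Scheme.Modules.pullback Γ.ι).mapIso e)

theorem inter_tensor (Γ : ArSurf.VertComp R X) {L M : X.left.Modules} (hL : PicF.IsInvertible L)
    (hM : PicF.IsInvertible M) :
    ArSurf.inter R X (CohB1.tensorMod L M) Γ = ArSurf.inter R X L Γ + ArSurf.inter R X M Γ := by
  haveI := isProper_vertComp Γ
  show ArSurf.curveDeg _ _ _ = ArSurf.curveDeg _ _ _ + ArSurf.curveDeg _ _ _
  rw [curveDeg_iso (k := ResidueField R) (dim_vertComp Γ) (AmpleLib.pullTensor Γ.ι L M)]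
  exact curveDeg_tensor (dim_vertComp Γ) (AmpleLib.isInvertible_pullback Γ.ι hL) (AmpleLib.isInvertible_pullback Γ.ι hM)

theorem inter_one (Γ : ArSurf.VertComp R X) : ArSurf.inter R X (Coh.structureModule X.left) Γ = 0 :=
  haveI := isProper_vertComp Γ
  (curveDeg_iso (dim_vertComp Γ) (AmpleLib.pullO Γ.ι)).trans curveDeg_one

theorem inter_inverse (Γ : ArSurf.VertComp R X) {L M : X.left.Modules} (hL : ClSub.IsInverseOf L M)
    (hM : PicF.IsInvertible M) : ArSurf.inter R X L Γ = -ArSurf.inter R X M Γ := by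
  have h := inter_tensor Γ (isInvertible_inverse_ideal hL) hM
  obtain ⟨e⟩ := hL
  rw [inter_congr Γ e, inter_one] at h
  omega

/-- **A divisor meets a curve in its intersection subscheme.** -/
theorem inter_eq_finrank (Γ : ArSurf.VertComp R X) {D : X.left.IdealSheafData} (hD : BlowUp.IsEffCartierIdeal D)
    (hΓD : Models.genPtOf R X Γ ∉ D.support) {L : X.left.Modules} (hL : ClSub.IsInverseOf L (ClSub.idealMod D)) :
    ArSurf.inter R X L Γ =
      (Module.finrank (ResidueField R) (Coh.HH Γ.curve.left (ClSub.quotMod (D.comap Γ.ι)) 0) : ℤ) := by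
  haveI := isProper_vertComp Γ
  have hD' := isEffCartier_comap_integral Γ.ι hD hΓD
  obtain ⟨e⟩ := JacLib.nonempty_iso_pullback_idealMod Γ.ι D hD hD'
  rw [inter_inverse Γ hL ((Groth.Agent.S8914.result D).2 hD)]
  show -(ArSurf.curveDeg _ _ _) = _
  rw [curveDeg_iso (k := ResidueField R) (dim_vertComp Γ) e, curveDeg_idealMod (dim_vertComp Γ) hD', neg_neg]

theorem inter_nonneg (Γ : ArSurf.VertComp R X) {D : X.left.IdealSheafData} (hD : BlowUp.IsEffCartierIdeal D)
    (hΓD : Models.genPtOf R X Γ ∉ D.support) {L : X.left.Modules} (hL : ClSub.IsInverseOf L (ClSub.idealMod D)) :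
    0 ≤ ArSurf.inter R X L Γ ∧
      (ArSurf.inter R X L Γ = 0 ↔ Disjoint (Set.range Γ.ι) (D.support : Set X.left)) := by
  haveI := isProper_vertComp Γ
  rw [inter_eq_finrank Γ hD hΓD hL]
  refine ⟨Int.natCast_nonneg _, ?_⟩
  rw [Int.natCast_eq_zero, finrank_quotMod_eq_zero_iff, Scheme.IdealSheafData.support_comap, Set.disjoint_left]
  refine ⟨fun h => ?_, fun h => Set.eq_empty_of_forall_notMem fun c hc => h ⟨c, rfl⟩ hc⟩
  rintro _ ⟨c, rfl⟩ hc
  exact (Set.eq_empty_iff_forall_notMem.1 h) c hc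

/-- Intersections computed on the surface. -/
theorem inter_eq_lengthH (Γ : ArSurf.VertComp R X) {D : X.left.IdealSheafData} (hD : BlowUp.IsEffCartierIdeal D)
    (hΓD : Models.genPtOf R X Γ ∉ D.support) {L : X.left.Modules} (hL : ClSub.IsInverseOf L (ClSub.idealMod D)) :
    ArSurf.inter R X L Γ = (Models.lengthH R X (ClSub.quotMod (D ⊔ Γ.ι.ker)) 0 : ℤ) := by
  haveI := isProper_vertComp Γ
  rw [inter_eq_finrank Γ hD hΓD hL, Nat.cast_inj, Models.lengthH]
  let T := (D.comap Γ.ι).subscheme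
  let jT : T ⟶ Γ.curve.left := (D.comap Γ.ι).subschemeι
  let W := (D ⊔ Γ.ι.ker).subscheme
  let jW : W ⟶ X.left := (D ⊔ Γ.ι.ker).subschemeι
  have h1 : jW.ker ≤ (jT ≫ Γ.ι).ker := by
    rw [Scheme.IdealSheafData.ker_subschemeι, ← Scheme.IdealSheafData.map_ker,
      Scheme.IdealSheafData.ker_subschemeι]
    refine sup_le (Scheme.IdealSheafData.le_map_comap _ _) ?_
    rw [← Scheme.IdealSheafData.map_bot]
    exact Scheme.IdealSheafData.map_mono _ bot_le
  let a : T ⟶ W := IsClosedImmersion.lift jW (jT ≫ Γ.ι) h1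
  have ha : a ≫ jW = jT ≫ Γ.ι := IsClosedImmersion.lift_fac _ _ _
  have h2 : Γ.ι.ker ≤ jW.ker := by rw [Scheme.IdealSheafData.ker_subschemeι]; exact le_sup_right
  let c : W ⟶ Γ.curve.left := IsClosedImmersion.lift Γ.ι jW h2
  have hc : c ≫ Γ.ι = jW := IsClosedImmersion.lift_fac _ _ _
  have h3 : jT.ker ≤ c.ker := by
    rw [Scheme.IdealSheafData.ker_subschemeι, ← Scheme.IdealSheafData.le_map_iff_comap_le,
      Scheme.IdealSheafData.map_ker, hc, Scheme.IdealSheafData.ker_subschemeι]
    exact le_sup_left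
  let b : W ⟶ T := IsClosedImmersion.lift jT c h3
  have hb : b ≫ jT = c := IsClosedImmersion.lift_fac _ _ _
  haveI : IsIso a := ⟨b, by
      rw [← cancel_mono jT, ← cancel_mono Γ.ι, Category.assoc, Category.assoc, reassoc_of% hb, hc, ha,
        Category.id_comp],
    by rw [← cancel_mono jW, Category.assoc, ha, reassoc_of% hb, hc, Category.id_comp]⟩
  let e₁ : Coh.HH X.left (ClSub.quotMod (D ⊔ Γ.ι.ker)) 0 ≃+ Γ(W, ⊤) := CurveLib.secOf (ClSub.quotMod (D ⊔ Γ.ι.ker))
  let e₂ : Coh.HH Γ.curve.left (ClSub.quotMod (D.comap Γ.ι)) 0 ≃+ Γ(T, ⊤) := CurveLib.secOf (ClSub.quotMod (D.comap Γ.ι))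
  let ev : Γ(W, ⊤) ≃+ Γ(T, ⊤) := (asIso a.appTop).commRingCatIsoToRingEquiv.toAddEquiv
  let σ := IsLocalRing.residue R
  letI : Module R (Coh.HH Γ.curve.left (ClSub.quotMod (D.comap Γ.ι)) 0) := Module.compHom _ σ
  haveI : IsScalarTower R (ResidueField R) (Coh.HH Γ.curve.left (ClSub.quotMod (D.comap Γ.ι)) 0) :=
    IsScalarTower.of_algebraMap_smul fun r m => rfl
  have hlen : Module.length R (Coh.HH X.left (ClSub.quotMod (D ⊔ Γ.ι.ker)) 0) =
      Module.length R (Coh.HH Γ.curve.left (ClSub.quotMod (D.comap Γ.ι)) 0) := by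
    refine LinearEquiv.length_eq
      { (e₁.trans (ev.trans e₂.symm)) with map_smul' := fun r m => e₂.injective ?_ }
    show e₂ (e₂.symm (ev (e₁ (r • m)))) = e₂ (σ r • e₂.symm (ev (e₁ m)))
    rw [AddEquiv.apply_symm_apply]
    have h4 : e₁ (r • m) = jW.appTop (Coh.toGlobal X.hom r) * e₁ m :=
      ModelDual.secOf_smulAb (ClSub.quotMod (D ⊔ Γ.ι.ker)) _ m
    have h5 : e₂ (σ r • e₂.symm (ev (e₁ m))) = jT.appTop (Coh.toGlobal Γ.curve.hom (σ r)) * e₂ (e₂.symm (ev (e₁ m))) :=
      ModelDual.secOf_smulAb (ClSub.quotMod (D.comap Γ.ι)) _ _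
    rw [h4, h5, AddEquiv.apply_symm_apply]
    show a.appTop (_ * _) = _ * a.appTop (e₁ m)
    rw [map_mul, ← ConcreteCategory.comp_apply, ← Scheme.Hom.comp_appTop, ha, Scheme.Hom.comp_appTop]
    congr 1
    show jT.appTop (Γ.ι.appTop (Coh.toGlobal X.hom r)) = _
    congr 1
    exact toGlobal_w Γ.w r
  rw [hlen, Module.length_eq_of_surjective (R := ResidueField R) Ideal.Quotient.mk_surjective]
  haveI := EulerIneqLib.isNoetherian_proper (X := Γ.curve.left) (ResidueField R)
  haveI := EulerIneqLib.finite_HH (k := ResidueField R) (IntLib.isCoh_quotMod (D.comap Γ.ι)) 0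
  rw [Module.length_eq_finrank, ENat.toNat_natCast]

end Groth.Agent.CastLib
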