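import Groth.Agent.CastLib.Models
import Groth.Agent.AmpleEmb.Compose
import Groth.Agent.SurfPtBlow.ArSurfFacts

/-!
# Contractions of arithmetic surfaces
-/

set_option autoImplicit false
set_option backward.isDefEq.respectTransparency false
set_option linter.style.haveILetI false
set_option maxHeartbeats 1000000

universe u

open CategoryTheory CategoryTheory.Limits AlgebraicGeometry TopologicalSpace

noncomputable section

namespace Groth.Agent.CastLib

open Groth.Agent.SurfPtBlow

/-- A proper scheme over an affine base with an ample module is projective. -/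
theorem isProjectiveOver_of_isAmple {R : Type u} [CommRing R] (Y : Over (Spec (CommRingCat.of R))) [IsProper Y.hom]
    {M : Y.left.Modules} (hM : CohB1.IsAmple M) : Neron.IsProjectiveOver R Y := by
  obtain ⟨n, i, hi, hiY⟩ := AmpleEmb.exists_immersion_of_isAmple Y.hom hM
  haveI := hi
  haveI : IsProper (CohB1.ProjSpaceOver.toBase n (Spec (CommRingCat.of R))) := BCLib.isProper_toBase _ _
  haveI : IsProper (i ≫ CohB1.ProjSpaceOver.toBase n (Spec (CommRingCat.of R))) := hiY.symm ▸ inferInstance
  haveI : IsProper i := IsProper.of_comp i (CohB1.ProjSpaceOver.toBase n (Spec (CommRingCat.of R)))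
  exact ⟨n, i, IsClosedImmersion.of_isPreimmersion i i.isClosedMap.isClosed_range, hiY⟩

variable {R : Type u} [CommRing R] [IsDomain R] [IsDiscreteValuationRing R]

/-- The generic point of an arithmetic surface is not in the closed fibre. -/
theorem gen_ne_closedPoint {X : Over (Spec (CommRingCat.of R))} (hX : ArSurf.IsArithSurface R X) :
    X.hom (haveI := hX.2.1; genericPoint X.left) ≠ IsLocalRing.closedPoint R := by
  haveI := hX.2.1
  haveI := hX.2.2.2.1
  obtain ⟨z, hz, hzη⟩ := Flat.generalizingMap X.hom (show (⟨⊥, Ideal.isPrime_bot⟩ : PrimeSpectrum R) ⤳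
    X.hom (genericPoint X.left) from (PrimeSpectrum.le_iff_specializes _ _).1 bot_le)
  obtain rfl : z = genericPoint X.left := (hz.antisymm (genericPoint_specializes z)).eq
  rw [hzη]
  exact fun h => IsDiscreteValuationRing.not_a_field R (congrArg PrimeSpectrum.asIdeal h).symm

/-- A scheme over the residue field sits over the closed point. -/
theorem apply_eq_closedPoint {E S : Scheme.{u}} (ι : E ⟶ S) (p : S ⟶ Spec (CommRingCat.of R))
    (t : E ⟶ Spec (CommRingCat.of (IsLocalRing.ResidueField R)))
    (w : ι ≫ p = t ≫ Spec.map (CommRingCat.ofHom (IsLocalRing.residue R))) (c : E) :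
    p (ι c) = IsLocalRing.closedPoint R := by
  rw [← Scheme.Hom.comp_apply, w, Scheme.Hom.comp_apply,
    Subsingleton.elim (α := PrimeSpectrum (IsLocalRing.ResidueField R)) (t c) (IsLocalRing.closedPoint _)]
  exact IsLocalRing.comap_closedPoint (IsLocalRing.residue R)

/-- A vertical prime divisor on an arithmetic surface is an effective Cartier divisor. -/
theorem isEffCartier_vertComp {X : Over (Spec (CommRingCat.of R))} (hX : ArSurf.IsArithSurface R X)
    (E : ArSurf.VertComp R X) : BlowUp.IsEffCartierIdeal E.ι.ker := by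
  haveI := hX.2.1
  haveI := (arSurf_facts hX).2
  let η := E.ι (genericPoint E.curve.left)
  have hrange : Set.range E.ι = closure {η} := by
    have h := (genericPoint_spec E.curve.left).image E.ι.continuous
    rw [Set.image_univ, E.ι.isClosedEmbedding.isClosed_range.closure_eq] at h
    exact h.def.symm
  have hker : E.ι.ker = Scheme.IdealSheafData.vanishingIdeal (⟨closure {η}, isClosed_closure⟩ : Closeds X.left) := by
    have h1 : E.ι.ker = Scheme.IdealSheafData.vanishingIdeal E.ι.ker.support := by
      rw [Scheme.IdealSheafData.vanishingIdeal_support]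
      refine le_antisymm (Scheme.IdealSheafData.le_radical _) fun U a ha ↦ ?_
      rw [Scheme.Hom.ker_apply, RingHom.mem_ker]
      obtain ⟨n, hn⟩ := ha
      rw [Scheme.Hom.ker_apply, RingHom.mem_ker, map_pow] at hn
      exact IsReduced.eq_zero _ ⟨n, hn⟩
    have h2 : E.ι.ker.support = (⟨closure {η}, isClosed_closure⟩ : Closeds X.left) := by
      apply Closeds.ext
      rw [Scheme.Hom.support_ker, hrange, closure_closure]
      rfl
    rw [h1, h2]
  have lt : ∀ {p q : X.left}, p ⤳ q → q ≠ p → q < p := fun {p q} h hne => lt_of_le_not_ge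
    (Scheme.le_iff_specializes.2 h) fun h' => hne ((Scheme.le_iff_specializes.1 h').antisymm h).eq
  have h0 : Order.krullDim X.left ≤ 2 := by rw [← ASp.topologicalKrullDim_eq_krullDim]; exact hX.2.2.1.le
  obtain ⟨x, hxη, hne⟩ : ∃ x, η ⤳ x ∧ x ≠ η := by
    by_contra h
    push Not at h
    have hsub : Set.range E.ι = {η} := hrange.trans (Set.Subset.antisymm
      (fun z hz => h z (specializes_iff_mem_closure.2 hz)) subset_closure)
    haveI : Subsingleton E.curve.left := ⟨fun a b => E.ι.isClosedEmbedding.injective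
      ((hsub.le ⟨a, rfl⟩ : E.ι a = η).trans (hsub.le ⟨b, rfl⟩ : E.ι b = η).symm)⟩
    have hd := topologicalKrullDim_zero_of_discreteTopology E.curve.left
    rw [E.dim_eq] at hd
    exact absurd hd (by decide)
  have hgne : η ≠ genericPoint X.left := fun h =>
    gen_ne_closedPoint hX (h ▸ apply_eq_closedPoint E.ι X.hom E.curve.hom E.w (genericPoint E.curve.left))
  have e1 := Order.coheight_add_one_le (lt (genericPoint_specializes η) hgne)
  have e2 := Order.coheight_add_one_le (lt hxη hne)
  have e3 : Order.coheight x ≤ 2 := WithBot.coe_le_coe.1 (((Order.coheight_le_krullDim x).trans h0).trans_eq rfl)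
  rw [hker]
  refine isEffCartier_closure hX.1 η (le_antisymm ?_ (le_trans (by simp) e1))
  have h := e2.trans e3
  revert h
  cases Order.coheight η with
  | top => intro h; simp at h
  | coe n => intro h; norm_cast at h ⊢; omega

/-- **Contraction of an exceptional curve on an arithmetic surface.** -/
theorem exists_contraction_arith {X : Over (Spec (CommRingCat.of R))} (hX : ArSurf.IsArithSurface R X)
    {E : Scheme.{u}} (ι : E ⟶ X.left) [IsClosedImmersion ι] (hE : Models.IsExcCurve ι) :
    ∃ (Y : Over (Spec (CommRingCat.of R))) (f : X ⟶ Y) (y : Y.left) (hy : IsClosed ({y} : Set Y.left)),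
      ArSurf.IsArithSurface R Y ∧ Models.IsContractionOf ι f.left ∧ Set.range (ι ≫ f.left) = {y} ∧
      (f.left ⁻¹ᵁ (⟨{y}ᶜ, hy.isOpen_compl⟩ : Y.left.Opens) : Set X.left) = (Set.range ι)ᶜ ∧
      IsIso (f.left ∣_ (⟨{y}ᶜ, hy.isOpen_compl⟩ : Y.left.Opens)) := by
  haveI := hX.2.1
  haveI := (arSurf_facts hX).1
  haveI := (arSurf_facts hX).2
  have hgen := gen_ne_closedPoint hX
  obtain ⟨H, hH⟩ := exists_isAmple_local hX.1 hX.2.2.1.le X.hom hgen
  obtain ⟨Y, hYi, hYn, b, hb, p', hp', y, hy, hcomm, hcontr, hreg, hdY, hO, hfib, hiso, M, hM⟩ :=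
    exists_contraction hX.1 hX.2.2.1.le X.hom hH ι hE
  haveI := hYi
  haveI := hYn
  haveI := hb
  haveI := hp'
  haveI : Surjective b := SteinConn.surjective_of_bijApp b hO
  haveI : IsDominant p' := by
    refine ⟨?_⟩
    obtain ⟨z, hz, hzη⟩ : ∃ z : X.left, z ⤳ genericPoint X.left ∧ X.hom z = (⟨⊥, Ideal.isPrime_bot⟩ : PrimeSpectrum R) := by
      haveI := hX.2.2.2.1
      exact Flat.generalizingMap X.hom (show (⟨⊥, Ideal.isPrime_bot⟩ : PrimeSpectrum R) ⤳
        X.hom (genericPoint X.left) from (PrimeSpectrum.le_iff_specializes _ _).1 bot_le)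
    have h1 : p' (b z) = (⟨⊥, Ideal.isPrime_bot⟩ : PrimeSpectrum R) := by
      rw [← Scheme.Hom.comp_apply, hcomm]; exact hzη
    have hbot : Dense ({(⟨⊥, Ideal.isPrime_bot⟩ : PrimeSpectrum R)} : Set (PrimeSpectrum R)) := fun w =>
      specializes_iff_mem_closure.1 ((PrimeSpectrum.le_iff_specializes _ w).1 bot_le)
    exact hbot.mono (Set.singleton_subset_iff.2 ⟨_, h1⟩)
  have hd2 : topologicalKrullDim Y = 2 := by
    refine le_antisymm hdY ?_
    obtain ⟨-, -, y', hy', -, -, hd, -⟩ := hcontr
    rw [← hd, DimFormulaLib.topologicalKrullDim_eq_iSup_stalk]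
    exact le_iSup (fun q => ringKrullDim (Y.presheaf.stalk q)) y'
  haveI : Nonempty E := by
    obtain ⟨-, k, _, e, -⟩ := id hE
    haveI := isIntegral_P1 (k := k)
    exact ⟨e.hom (genericPoint _)⟩
  haveI : IsProper (Over.mk p').hom := hp'
  refine ⟨Over.mk p', Over.homMk b hcomm, y, hy,
    ⟨hreg, hYi, hd2, flat_of_dominant p', isProjectiveOver_of_isAmple (Over.mk p') hM⟩, hcontr, ?_, ?_, hiso⟩
  · show Set.range (ι ≫ b) = {y}
    rw [Scheme.Hom.comp_base, TopCat.coe_comp, Set.range_comp, ← hfib]
    exact Set.image_preimage_eq _ b.surjective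
  · show b ⁻¹' {y}ᶜ = _
    rw [Set.preimage_compl, hfib]

end Groth.Agent.CastLib
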