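import Groth.Agent.CastLib.InterCartier
import Groth.Agent.CastLib.Arith
import Groth.Agent.BlowCompLib.Flat
import Groth.Agent.SurfPtBlow.DvrMeet
import Groth.Agent.CDivLib.Normal

/-!
# The closed fibre of a regular model as a sum of its components
-/

set_option autoImplicit false
set_option backward.isDefEq.respectTransparency false
set_option linter.style.haveILetI false
set_option maxHeartbeats 1000000

universe u

open CategoryTheory CategoryTheory.Limits AlgebraicGeometry TopologicalSpace IsLocalRing IntMult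

noncomputable section

namespace Groth.Agent.CastLib

open Groth.Agent.SurfPtBlow Groth.Agent.DivisorialLib

variable {R : Type u} [CommRing R] [IsDomain R] [IsDiscreteValuationRing R]

/-- A regular integral model over a discrete valuation ring. -/
structure FibreGood (X : Over (Spec (CommRingCat.of R))) : Prop where
  reg : ∀ x : X.left, IsRegularLocalRing (X.left.presheaf.stalk x)
  int : IsIntegral X.left
  noeth : AlgebraicGeometry.IsNoetherian X.left
  flat : Flat X.hom

variable {X : Over (Spec (CommRingCat.of R))}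

theorem length_quot_span_pow {A : Type u} [CommRing A] [IsDomain A] [IsDiscreteValuationRing A] {ϖ : A}
    (hϖ : Irreducible ϖ) (e : ℕ) : Module.length A (A ⧸ Ideal.span {ϖ ^ e}) = e := by
  show Ring.ord A (ϖ ^ e) = e
  rw [Ring.ord_pow (mem_nonZeroDivisors_of_ne_zero hϖ.ne_zero), Ring.ord_of_irreducible hϖ]
  simp

theorem isEffCartier_idealSheaf_span {π : R} (hπ : π ≠ 0) :
    BlowUp.IsEffCartierIdeal (Curv2.idealSheaf R (Ideal.span {π})) := fun x => by
  let e := (Scheme.ΓSpecIso (CommRingCat.of R)).symm.commRingCatIsoToRingEquiv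
  haveI : IsDomain Γ(Spec (CommRingCat.of R), ⊤) := e.symm.toMulEquiv.isDomain _
  refine ⟨⟨⊤, isAffineOpen_top _⟩, trivial, e π, mem_nonZeroDivisors_of_ne_zero
    (fun h => hπ (e.injective (h.trans (map_zero e).symm))), ?_⟩
  rw [Curv2.idealSheaf, Scheme.IdealSheafData.ofIdealTop_ideal, Ideal.map_span, Set.image_singleton, Ideal.map_span,
    Set.image_singleton]
  congr 2

theorem FibreGood.isEffCartier_fibre (h : FibreGood X) : BlowUp.IsEffCartierIdeal (fibreIdeal X.hom) := by
  haveI := h.flat
  obtain ⟨π, hπ⟩ := IsDiscreteValuationRing.exists_irreducible R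
  rw [fibreIdeal, hπ.maximalIdeal_eq]
  exact BlowCompLib.isEffCartier_comap_flat (isEffCartier_idealSheaf_span hπ.ne_zero) X.hom

theorem FibreGood.mem_fibre {x : X.left} : x ∈ (fibreIdeal X.hom).support ↔ X.hom x = closedPoint R := by
  rw [← SetLike.mem_coe, support_fibreIdeal]
  rfl

/-- The maximal points of a Cartier divisor have codimension one. -/
theorem coheight_eq_one_of_maximal {Z : Scheme.{u}} [IsIntegral Z] [AlgebraicGeometry.IsNoetherian Z] {I : Z.IdealSheafData}
    (hI : BlowUp.IsEffCartierIdeal I) {η : Z} (hη : η ∈ I.support) (hmax : ∀ ζ ∈ I.support, ζ ⤳ η → ζ = η) :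
    Order.coheight η = 1 := by
  obtain ⟨U, hxU, g, -, hgU⟩ := hI η
  have hxz : η ∈ Z.zeroLocus (U := U.1) (I.ideal U) := (Scheme.IdealSheafData.mem_support_iff_of_mem hxU).1 hη
  replace hxz : U.2.fromSpec (U.2.primeIdealOf ⟨η, hxU⟩) ∈ Z.zeroLocus (U := U.1) (I.ideal U) := by
    rw [U.2.fromSpec_primeIdealOf]; exact hxz
  have hle0 : Ideal.span {g} ≤ (U.2.primeIdealOf ⟨η, hxU⟩).asIdeal := hgU ▸
    (Set.ext_iff.1 (U.2.fromSpec_preimage_zeroLocus _) _).1 hxz
  obtain ⟨q, hq, hqle⟩ := Ideal.exists_minimalPrimes_le hle0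
  haveI : q.IsPrime := hq.1.1
  let P : PrimeSpectrum Γ(Z, U.1) := ⟨q, inferInstance⟩
  let ζ := U.2.fromSpec P
  have hζI : ζ ∈ I.support := (Scheme.IdealSheafData.mem_support_iff_of_mem (U.2.range_fromSpec.le ⟨P, rfl⟩)).2
    ((Set.ext_iff.1 (U.2.fromSpec_preimage_zeroLocus (I.ideal U : Set Γ(Z, U.1))) P).2 (hgU ▸ hq.1.2))
  have hζη : ζ = η := hmax ζ hζI (by
    have := ((PrimeSpectrum.le_iff_specializes P (U.2.primeIdealOf ⟨η, hxU⟩)).1 hqle).map U.2.fromSpec.continuous
    rwa [U.2.fromSpec_primeIdealOf] at this)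
  haveI : IsNoetherianRing Γ(Z, U.1) := IsLocallyNoetherian.component_noetherian U
  have h2 : Order.coheight ζ = q.height := by
    rw [coheight_eq_of_isOpenImmersion]
    exact (idealHeight_eq_coheight _ P).symm
  rw [← hζη]
  exact le_antisymm (h2.le.trans (Ideal.height_le_one_of_isPrincipal_of_mem_minimalPrimes (Ideal.span {g}) q hq))
    (Order.one_le_iff_pos.2 (pos_iff_ne_zero.2 (S8909.coheight_ne_zero hI hζI)))

theorem range_vertComp (Γ : ArSurf.VertComp R X) : Set.range Γ.ι = closure {Models.genPtOf R X Γ} := by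
  have h := (genericPoint_spec Γ.curve.left).image Γ.ι.continuous
  rw [Set.image_univ, Γ.ι.isClosedEmbedding.isClosed_range.closure_eq] at h
  exact h.def.symm

theorem vertComp_vertical (Γ : ArSurf.VertComp R X) (c : Γ.curve.left) : X.hom (Γ.ι c) = closedPoint R :=
  apply_eq_closedPoint Γ.ι X.hom Γ.curve.hom Γ.w c

theorem ker_vertComp (Γ : ArSurf.VertComp R X) : Γ.ι.ker = cl (Models.genPtOf R X Γ) := by
  have h1 : Γ.ι.ker = Scheme.IdealSheafData.vanishingIdeal Γ.ι.ker.support := by
    rw [Scheme.IdealSheafData.vanishingIdeal_support]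
    refine le_antisymm (Scheme.IdealSheafData.le_radical _) fun U a ha ↦ ?_
    rw [Scheme.Hom.ker_apply, RingHom.mem_ker]
    obtain ⟨n, hn⟩ := ha
    rw [Scheme.Hom.ker_apply, RingHom.mem_ker, map_pow] at hn
    exact IsReduced.eq_zero _ ⟨n, hn⟩
  have h2 : Γ.ι.ker.support = (⟨closure {Models.genPtOf R X Γ}, isClosed_closure⟩ : Closeds X.left) := by
    apply Closeds.ext
    rw [Scheme.Hom.support_ker, range_vertComp, closure_closure]
    rfl
  rw [h1, h2]
  rfl

/-- Members of a component list: their generic points are the codimension one points of the fibre. -/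
theorem FibreGood.componentList (h : FibreGood X) {n : ℕ} {Γ : Fin n → ArSurf.VertComp R X}
    (hΓ : Models.IsComponentList R X Γ) :
    (∀ i, Order.coheight (Models.genPtOf R X (Γ i)) = 1) ∧
      Function.Injective (fun i => Models.genPtOf R X (Γ i)) ∧
      ∀ η, X.hom η = closedPoint R → Order.coheight η = 1 → ∃ i, Models.genPtOf R X (Γ i) = η := by
  haveI := h.int
  haveI := h.noeth
  have hmem : ∀ i, Maximal (fun S : Set X.left => IsIrreducible S ∧ S ⊆ Models.specialFibreSet R X)
      (Set.range (Γ i).ι) := fun i => hΓ.2.le ⟨i, rfl⟩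
  refine ⟨fun i => ?_, fun i j hij => hΓ.1 ?_, fun η hη h1 => ?_⟩
  · refine coheight_eq_one_of_maximal h.isEffCartier_fibre
      (FibreGood.mem_fibre.2 (vertComp_vertical (Γ i) _)) fun ζ hζ hsp => ?_
    have hle : Set.range (Γ i).ι ⊆ closure {ζ} := by
      rw [range_vertComp]
      exact closure_minimal (Set.singleton_subset_iff.2 hsp.mem_closure) isClosed_closure
    have h2 := (hmem i).2 ⟨isIrreducible_singleton.closure, closure_minimal
      (Set.singleton_subset_iff.2 (FibreGood.mem_fibre.1 hζ)) (Models.isClosed_specialFibreSet R X)⟩ hle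
    rw [range_vertComp] at h2
    exact (hsp.antisymm (specializes_iff_mem_closure.2 (h2 (subset_closure rfl)))).eq
  · show Set.range (Γ i).ι = Set.range (Γ j).ι
    rw [range_vertComp, range_vertComp]
    exact congrArg (fun z => closure {z}) hij
  · have hS : Maximal (fun S : Set X.left => IsIrreducible S ∧ S ⊆ Models.specialFibreSet R X) (closure {η}) := by
      refine ⟨⟨isIrreducible_singleton.closure, closure_minimal (Set.singleton_subset_iff.2 hη)
        (Models.isClosed_specialFibreSet R X)⟩, fun S hS hle => ?_⟩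
      obtain ⟨g, hg⟩ := QuasiSober.sober (hS.1.closure) isClosed_closure
      have hgη : g ⤳ η := hg.specializes (subset_closure (hle (subset_closure rfl)))
      have hgF : g ∈ (fibreIdeal X.hom).support := FibreGood.mem_fibre.2
        (closure_minimal hS.2 (Models.isClosed_specialFibreSet R X) hg.mem)
      have hgeq : g = η := by
        by_contra hne
        have h3 := S8909.succ_le hgη hne
        rw [h1] at h3
        have h0 := S8909.coheight_ne_zero h.isEffCartier_fibre hgF
        exact absurd (h3.trans' (add_le_add (Order.one_le_iff_pos.2 (pos_iff_ne_zero.2 h0)) le_rfl)) (by decide)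
      rw [← hgeq, hg.def]
      exact subset_closure
    obtain ⟨i, hi⟩ := hΓ.2.ge hS
    refine ⟨i, ?_⟩
    have h2 : closure {Models.genPtOf R X (Γ i)} = closure {η} := (range_vertComp (Γ i)).symm.trans hi
    exact ((specializes_iff_mem_closure.2 (h2.ge (subset_closure rfl))).antisymm
      (specializes_iff_mem_closure.2 (h2.le (subset_closure rfl)))).eq

/-- **The closed fibre is the sum of its components with multiplicities.** -/
theorem FibreGood.fibre_eq_prod (h : FibreGood X) {n : ℕ} {Γ : Fin n → ArSurf.VertComp R X}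
    (hΓ : Models.IsComponentList R X Γ) :
    (∀ i, BlowUp.IsEffCartierIdeal (Γ i).ι.ker) ∧
      Models.specialFibreIdeal R X = ∏ i, (Γ i).ι.ker ^ Models.mult R X (Γ i) := by
  haveI := h.int
  haveI := h.noeth
  obtain ⟨hco, hinj, hall⟩ := h.componentList hΓ
  have hC : ∀ i, BlowUp.IsEffCartierIdeal (Γ i).ι.ker := fun i => by
    rw [ker_vertComp]; exact isEffCartier_closure h.reg _ (hco i)
  refine ⟨hC, ?_⟩
  simp only [ker_vertComp]
  refine eq_prod_cl h.reg _ hco hinj _ (fun i => Models.mult R X (Γ i)) rfl _ h.isEffCartier_fibre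
    (fun η hη h1 => hall η (FibreGood.mem_fibre.1 hη) h1) fun i => ?_
  obtain ⟨π, hπ⟩ := IsDiscreteValuationRing.exists_irreducible R
  let ξ := Models.genPtOf R X (Γ i)
  haveI : IsDiscreteValuationRing (X.left.presheaf.stalk ξ) :=
    CDivLib.isDVR_stalk (fun x => by haveI := h.reg x; exact PurityLib.isIntegrallyClosed_of_regular _) (hco i)
  have hst : stalkIdeal (Models.specialFibreIdeal R X) ξ =
      Ideal.span {Models.stalkHom R X ξ π} := by
    rw [Models.specialFibreIdeal, hπ.maximalIdeal_eq]
    exact stalkIdeal_comap_principal X.hom π ξ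
  have hmap : (maximalIdeal R).map (Models.stalkHom R X ξ) = Ideal.span {Models.stalkHom R X ξ π} := by
    rw [hπ.maximalIdeal_eq, Ideal.map_span, Set.image_singleton]
  have hne : Models.stalkHom R X ξ π ≠ 0 := fun h0 => by
    obtain ⟨f, hf, hfI⟩ := exists_gen h.isEffCartier_fibre ξ
    have h2 : Ideal.span {f} = ⊥ := by
      rw [← hfI, show stalkIdeal (fibreIdeal X.hom) ξ = _ from hst, h0]
      exact Ideal.span_singleton_eq_bot.2 rfl
    exact nonZeroDivisors.ne_zero hf (Ideal.span_singleton_eq_bot.1 h2)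
  obtain ⟨ϖ, hϖ⟩ := IsDiscreteValuationRing.exists_irreducible (X.left.presheaf.stalk ξ)
  obtain ⟨e, he⟩ := IsDiscreteValuationRing.ideal_eq_span_pow_irreducible (s := Ideal.span {Models.stalkHom R X ξ π})
    (fun h0 => hne (Ideal.span_singleton_eq_bot.1 h0)) hϖ
  have hm : Models.mult R X (Γ i) = e := by
    rw [Models.mult, show Ideal.map (Models.stalkHom R X (Models.genPtOf R X (Γ i))) (maximalIdeal R) =
      Ideal.span {ϖ ^ e} from hmap.trans he]
    rw [length_quot_span_pow hϖ e]
    rfl
  rw [hm]
  exact hst.trans (he.trans (by rw [← Ideal.span_singleton_pow, hϖ.maximalIdeal_eq]))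

end Groth.Agent.CastLib
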