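import Groth.Agent.CastLib.EulerFibre
import Groth.Agent.TwistShriek.SpecIdeal
import Groth.Agent.GenBCLib.Betti
import Groth.Agent.BCLib.Local
import Groth.Agent.BCLib.SteinFlat
import Groth.Agent.FlatStage.Smooth
import Groth.Agent.S1026

/-!
# The genus of a model
-/

set_option autoImplicit false
set_option backward.isDefEq.respectTransparency false
set_option linter.style.haveILetI false
set_option maxHeartbeats 1000000

universe u

open CategoryTheory CategoryTheory.Limits AlgebraicGeometry TopologicalSpace IsLocalRing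

noncomputable section

namespace Groth.Agent.CastLib

/-- Over a field the only fibre is everything. -/
theorem fiberRank_self {K : Type u} [Field K] {Z : Scheme.{u}} (f : Z ⟶ Spec (CommRingCat.of K)) [IsSeparated f]
    [QuasiCompact f] (F : Z.Modules) [Coh.IsQCoh F] (p : ℕ) (t : Spec (CommRingCat.of K)) :
    CohIII.fiberRank f F p t = @Module.finrank K (@Coh.HH Z F p) _ _
      (letI : Z.Over (Spec (CommRingCat.of K)) := ⟨f⟩; inferInstance) := by
  letI : Z.Over (Spec (CommRingCat.of K)) := ⟨f⟩
  letI : (f.fiber t).Over (Spec (CommRingCat.of ((Spec (CommRingCat.of K)).residueField t))) :=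
    ⟨f.fiberToSpecResidueField t⟩
  haveI : IsSeparated (Z ↘ Spec (CommRingCat.of K)) := ‹IsSeparated f›
  haveI : QuasiCompact (Z ↘ Spec (CommRingCat.of K)) := ‹QuasiCompact f›
  refine BCLib.finrank_HH_fieldExt (k := K) (k' := (Spec (CommRingCat.of K)).residueField t)
    (φ := Spec.preimage ((Spec (CommRingCat.of K)).fromSpecResidueField t)) (g' := f.fiberι t) ?_ F p (Iso.refl _)
  rw [Spec.map_preimage]
  exact IsPullback.of_hasPullback f _

/-- The Euler characteristic at the image of a field valued point. -/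
theorem eulerChar_point {S Y : Scheme.{u}} (p : Y ⟶ S) [IsSeparated p] [QuasiCompact p] [IsLocallyNoetherian Y] {K : Type u} [Field K]
    {Z : Scheme.{u}} {f : Z ⟶ Spec (CommRingCat.of K)} {g : Spec (CommRingCat.of K) ⟶ S} {g' : Z ⟶ Y}
    (hc : IsPullback g' f p g) [IsProper f] (t : Spec (CommRingCat.of K)) :
    letI : Z.Over (Spec (CommRingCat.of K)) := ⟨f⟩
    PerfAux.eulerChar p (Coh.structureModule Y) (g t) = Curv2.euler K Z (Coh.structureModule Z) := by
  letI : Z.Over (Spec (CommRingCat.of K)) := ⟨f⟩
  haveI : IsSeparated f := inferInstance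
  haveI : IsLocallyNoetherian Z := LocallyOfFiniteType.isLocallyNoetherian f
  haveI : Coh.IsQCoh (Coh.structureModule Y) := (DevLib.isCoh_structureModule Y).1
  haveI : Coh.IsQCoh ((Scheme.Modules.pullback g').obj (Coh.structureModule Y)) := PullbackMod.isQCoh_pullback _ _
  refine finsum_congr fun i => ?_
  congr 1
  rw [GenBCLib.betti_eq, ← BCLib.fiberRank_baseChange hc (Coh.structureModule Y) i t, fiberRank_self f,
    ShBCLib.finrank_HH_iso (K := K) (AmpleLib.pullO g') i]

variable {R : Type u} [CommRing R] [IsDomain R] [IsDiscreteValuationRing R]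

/-- The closed fibre has dimension at most one. -/
theorem VSurf.dim_fibre {Y : Scheme.{u}} {p : Y ⟶ Spec (CommRingCat.of R)} (h : VSurf (Over.mk p)) {Z : Scheme.{u}}
    (i : Z ⟶ Y) [IsClosedImmersion i] (hi : ∀ z, p (i z) = closedPoint R) : topologicalKrullDim Z ≤ 1 := by
  haveI : IsIntegral Y := h.int
  have hη : ∀ z, i z ≠ genericPoint Y := fun z e => h.genPt_not_fibre (show p _ = _ from e ▸ hi z)
  rw [ASp.topologicalKrullDim_eq_krullDim]
  refine iSup_le fun l => ?_
  have h0 : Order.krullDim Y ≤ 2 := by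
    rw [← ASp.topologicalKrullDim_eq_krullDim]; exact h.dim
  have hmono : StrictMono fun z : Z => i z := fun a b hab => by
    have h1 : b ⤳ a := Scheme.le_iff_specializes.1 hab.le
    refine lt_of_le_not_ge (Scheme.le_iff_specializes.2 (h1.map i.continuous)) fun h2 => hab.not_ge ?_
    exact Scheme.le_iff_specializes.2 ((i.isClosedEmbedding.isInducing.specializes_iff).1 (Scheme.le_iff_specializes.1 h2))
  have hlt : (l.map (fun z : Z => i z) hmono).last < genericPoint Y :=
    lt_of_le_not_ge (Scheme.le_iff_specializes.2 (genericPoint_specializes _)) fun h2 => hη l.last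
      ((Scheme.le_iff_specializes.1 h2).antisymm (genericPoint_specializes _)).eq
  have h3 := (Order.LTSeries.length_le_krullDim ((l.map (fun z : Z => i z) hmono).snoc (genericPoint Y) hlt)).trans h0
  simp only [RelSeries.snoc_length, LTSeries.map_length] at h3
  exact_mod_cast (show l.length ≤ 1 by
    have : ((l.length + 1 : ℕ) : WithBot ℕ∞) ≤ ((2 : ℕ) : WithBot ℕ∞) := h3
    have := Nat.cast_le.1 this
    omega)

/-- **The Euler characteristic of the closed fibre is that of the generic fibre.** -/
theorem chiLen_fibre {C Y : Scheme.{u}} {f : C ⟶ Spec (CommRingCat.of (FractionRing R))}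
    {p : Y ⟶ Spec (CommRingCat.of R)} (hC : Curve.IsSmoothProperCurve (FractionRing R) C f) (hH0 : IsIso f.appTop)
    (hY : Models.IsRegularProperModel R Y p C f) :
    @chiLen R _ Y ⟨p⟩ (ClSub.quotMod (SurfPtBlow.fibreIdeal p)) =
      1 - (Models.curveGenus (FractionRing R) C f : ℤ) := by
  have hV := VSurf.of_model hC hY
  haveI : Flat p := hY.1.1
  haveI : IsProper p := hY.2.1
  haveI : IsLocallyNoetherian Y := LocallyOfFiniteType.isLocallyNoetherian p
  haveI : IsProper f := hC.1
  haveI : IsIntegral C := hC.2.2.1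
  obtain ⟨g, hg⟩ := hY.1.2.2.2
  let s := Spec.map (CommRingCat.ofHom (IsLocalRing.residue R))
  haveI : IsClosedImmersion s := IsClosedImmersion.spec_of_surjective _ IsLocalRing.residue_surjective
  let Z := pullback p s
  let i : Z ⟶ Y := pullback.fst p s
  let z : Z ⟶ Spec (CommRingCat.of (ResidueField R)) := pullback.snd p s
  letI : Z.Over (Spec (CommRingCat.of (ResidueField R))) := ⟨z⟩
  haveI : IsProper z := inferInstanceAs (IsProper (pullback.snd p s))
  haveI : IsProper (Z ↘ Spec (CommRingCat.of (ResidueField R))) := ‹IsProper z›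
  haveI := EulerIneqLib.isNoetherian_proper (X := Z) (ResidueField R)
  letI : C.Over (Spec (CommRingCat.of (FractionRing R))) := ⟨f⟩
  haveI : IsProper (C ↘ Spec (CommRingCat.of (FractionRing R))) := ‹IsProper f›
  haveI := EulerIneqLib.isNoetherian_proper (X := C) (FractionRing R)
  -- the two points
  have hcl : ∀ t, s t = closedPoint R := fun t => PrimeSpectrum.ext (by
    show Ideal.comap (IsLocalRing.residue R) t.asIdeal = maximalIdeal R
    rw [(Ideal.eq_bot_or_top t.asIdeal).resolve_right t.2.ne_top, ← RingHom.ker_eq_comap_bot, IsLocalRing.ker_residue])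
  have hlc := S1026.result p (Coh.structureModule Y) (FlatStage.isFP_structureModule Y)
    (BCLib.isFlatOver_structureModule p)
  have hgl : PerfAux.eulerChar p (Coh.structureModule Y) (Spec.map (CommRingCat.ofHom (algebraMap R (FractionRing R))) default) =
      PerfAux.eulerChar p (Coh.structureModule Y) (s default) := hlc.apply_eq_of_preconnectedSpace _ _
  rw [eulerChar_point p hg default, eulerChar_point p (IsPullback.of_hasPullback p s) default] at hgl
  -- the generic fibre
  have hK : Curv2.euler (FractionRing R) C (Coh.structureModule C) =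
      1 - (Models.curveGenus (FractionRing R) C f : ℤ) := by
    rw [CurveLib.euler_eq_sub (k := FractionRing R) hC.2.2.2.le]
    have hb : Function.Bijective (Coh.toGlobal (C ↘ Spec (CommRingCat.of (FractionRing R)))) := by
      haveI := hH0
      exact (ConcreteCategory.bijective_of_isIso f.appTop).comp
        (ConcreteCategory.bijective_of_isIso (Scheme.ΓSpecIso (CommRingCat.of (FractionRing R))).inv)
    letI : Algebra (FractionRing R) Γ(C, ⊤) := (Coh.toGlobal (C ↘ Spec (CommRingCat.of (FractionRing R)))).toAlgebra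
    let eH : Coh.HH C (Coh.structureModule C) 0 ≃ₗ[FractionRing R] Γ(C, ⊤) :=
      { (CurveLib.secOf (Coh.structureModule C)) with
        map_smul' := fun r c => CurveLib.secOf_smul (k := FractionRing R) _ r c }
    let eK : FractionRing R ≃ₗ[FractionRing R] Γ(C, ⊤) := LinearEquiv.ofBijective (Algebra.linearMap _ _) hb
    rw [eH.finrank_eq, ← eK.finrank_eq, Module.finrank_self]
    rfl
  -- the closed fibre
  have hdim : topologicalKrullDim Z ≤ 1 := hV.dim_fibre i fun w => by
    show (i ≫ p) w = _
    rw [show i ≫ p = z ≫ s from pullback.condition, Scheme.Hom.comp_apply, hcl]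
  have hker : i.ker = SurfPtBlow.fibreIdeal p := by
    rw [SurfPtBlow.fibreIdeal, ← IsLocalRing.ker_residue (R := R), ← TwistShriek.ker_specMap]
    exact Scheme.IdealSheafData.ker_fst_of_isClosedImmersion s p
  haveI : Coh.IsQCoh (Coh.structureModule Z) := (DevLib.isCoh_structureModule Z).1
  letI : Y.Over (Spec (CommRingCat.of R)) := ⟨p⟩
  obtain ⟨q⟩ := TwistShriek.nonempty_quotMod_ker_iso i
  have hl : ∀ n, Module.length R (Coh.HH Y (ClSub.quotMod (SurfPtBlow.fibreIdeal p)) n) =
      (Module.finrank (ResidueField R) (Coh.HH Z (Coh.structureModule Z) n) : ℕ∞) := fun n => by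
    rw [← hker, length_iso R q]
    obtain ⟨e, he⟩ := ProperFin.exists_pushEquiv i (M := Coh.structureModule Z)
      (fun _ hV m => CohBase.affine_vanishing _ (hV.preimage i) m) n
    letI : Module R (Coh.HH Z (Coh.structureModule Z) n) := Module.compHom _ (IsLocalRing.residue R)
    haveI : IsScalarTower R (ResidueField R) (Coh.HH Z (Coh.structureModule Z) n) :=
      IsScalarTower.of_algebraMap_smul fun r m => rfl
    let L : Coh.HH Z (Coh.structureModule Z) n ≃ₗ[R] Coh.HH Y ((Scheme.Modules.pushforward i).obj (Coh.structureModule Z)) n :=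
      { e with
        map_smul' := fun a x => by
          show e (Coh.toGlobal z (IsLocalRing.residue R a) • x) = Coh.toGlobal p a • e x
          rw [← toGlobal_w (show i ≫ p = z ≫ s from pullback.condition) a]
          exact he _ x }
    haveI := EulerIneqLib.finite_HH (k := ResidueField R) (DevLib.isCoh_structureModule Z) n
    rw [← L.length_eq, Module.length_eq_of_surjective (R := ResidueField R) IsLocalRing.residue_surjective,
      Module.length_eq_finrank]
  rw [chiLen, hl, hl, ENat.toNat_natCast, ENat.toNat_natCast, ← hK, hgl,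
    CurveLib.euler_eq_sub (k := ResidueField R) hdim]

end Groth.Agent.CastLib

namespace Groth.Agent.CastLib

variable {R : Type u} [CommRing R] [IsDomain R] [IsDiscreteValuationRing R]
variable {X : Over (Spec (CommRingCat.of R))}

/-- **The Euler characteristic of a combination of components.** -/
theorem chiLen_prod (h : VSurf X) {n : ℕ} {Γ : Fin n → ArSurf.VertComp R X}
    (hinj : Function.Injective fun i => Set.range (Γ i).ι) {L : Fin n → X.left.Modules}
    (hL : ∀ i, ClSub.IsInverseOf (L i) (ClSub.idealMod (Γ i).ι.ker)) (a : Fin n → ℕ) :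
    letI : X.left.Over (Spec (CommRingCat.of R)) := ⟨X.hom⟩
    2 * chiLen R (ClSub.quotMod (∏ j, (Γ j).ι.ker ^ a j)) =
      ∑ j, (a j : ℤ) * (2 * ((Models.wdeg R X (Γ j) : ℤ) - (Models.h1 R X (Γ j) : ℤ)) + ArSurf.inter R X (L j) (Γ j)) -
        ∑ j, (a j : ℤ) * ∑ l, (a l : ℤ) * ArSurf.inter R X (L j) (Γ l) := by
  letI : X.left.Over (Spec (CommRingCat.of R)) := ⟨X.hom⟩
  generalize hm : ∑ j, a j = m
  induction m generalizing a with
  | zero =>
    have ha : ∀ i, a i = 0 := fun i => Finset.sum_eq_zero_iff.1 hm i (Finset.mem_univ i)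
    simp only [ha, pow_zero, Finset.prod_const_one, Nat.cast_zero, zero_mul, Finset.sum_const_zero, sub_zero]
    exact mul_eq_zero_of_right 2 finLen_top.2
  | succ m ih =>
    obtain ⟨i, -, hi⟩ := Finset.exists_ne_zero_of_sum_ne_zero (show ∑ j, a j ≠ 0 by omega)
    let b : Fin n → ℕ := fun j => a j - if j = i then 1 else 0
    have hab : a = fun j => b j + if j = i then 1 else 0 := funext fun j => by
      show a j = (a j - _) + _
      split_ifs with hj
      · subst hj; omega
      · omega
    have hb : ∑ j, b j = m := by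
      have h1 : ∑ j, a j = ∑ j, b j + 1 := by
        conv_lhs => rw [hab]
        simp [Finset.sum_add_distrib]
      omega
    have hs := chiLen_step h hinj hL b i
    have hih := ih b hb
    rw [hab]
    simp only [Nat.cast_add, Nat.cast_ite, Nat.cast_one, Nat.cast_zero, add_mul, mul_add, Finset.sum_add_distrib,
      ite_mul, one_mul, zero_mul, mul_ite, mul_zero, Finset.sum_ite_eq', Finset.mem_univ, if_true] at hs hih ⊢
    have hsym : ∑ j, (b j : ℤ) * ArSurf.inter R X (L j) (Γ i) = ∑ j, (b j : ℤ) * ArSurf.inter R X (L i) (Γ j) :=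
      Finset.sum_congr rfl fun j _ => by rw [h.inter_symm_list hinj hL i j]
    linarith

/-- The genus formula for a model. -/
theorem genus_formula {C Y : Scheme.{u}} {f : C ⟶ Spec (CommRingCat.of (FractionRing R))}
    {p : Y ⟶ Spec (CommRingCat.of R)} (hC : Curve.IsSmoothProperCurve (FractionRing R) C f) (hH0 : IsIso f.appTop)
    (hY : Models.IsRegularProperModel R Y p C f) {n : ℕ} {Γ : Fin n → ArSurf.VertComp R (Over.mk p)}
    (hΓ : Models.IsComponentList R (Over.mk p) Γ) {L : Fin n → Y.Modules}
    (hL : ∀ i, ClSub.IsInverseOf (L i) (ClSub.idealMod (Γ i).ι.ker)) :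
    2 * (Models.curveGenus (FractionRing R) C f : ℤ) = 2 + ∑ i, (Models.mult R (Over.mk p) (Γ i) : ℤ) *
      (2 * ((Models.h1 R (Over.mk p) (Γ i) : ℤ) - (Models.wdeg R (Over.mk p) (Γ i) : ℤ)) -
        ArSurf.inter R (Over.mk p) (L i) (Γ i)) := by
  have hV := VSurf.of_model hC hY
  obtain ⟨hC', hfib⟩ := hV.toFibreGood.fibre_eq_prod hΓ
  have h1 := chiLen_prod hV hΓ.1 hL (fun i => Models.mult R (Over.mk p) (Γ i))
  rw [← hfib] at h1
  have h2 := chiLen_fibre hC hH0 hY
  have h3 : ∀ j, ∑ l, (Models.mult R (Over.mk p) (Γ l) : ℤ) * ArSurf.inter R (Over.mk p) (L j) (Γ l) = 0 := fun j => by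
    rw [Finset.sum_congr rfl fun l _ => by rw [hV.inter_symm_list hΓ.1 hL l j]]
    exact hV.sum_mult_inter hC' _ hfib L hL (Γ j)
  simp only [h3, mul_zero, Finset.sum_const_zero, sub_zero] at h1
  erw [h2] at h1
  have h4 : ∀ i : Fin n, (Models.mult R (Over.mk p) (Γ i) : ℤ) *
      (2 * ((Models.h1 R (Over.mk p) (Γ i) : ℤ) - (Models.wdeg R (Over.mk p) (Γ i) : ℤ)) -
        ArSurf.inter R (Over.mk p) (L i) (Γ i)) = -((Models.mult R (Over.mk p) (Γ i) : ℤ) *
      (2 * ((Models.wdeg R (Over.mk p) (Γ i) : ℤ) - (Models.h1 R (Over.mk p) (Γ i) : ℤ)) +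
        ArSurf.inter R (Over.mk p) (L i) (Γ i))) := fun i => by ring
  rw [Finset.sum_congr rfl fun i _ => h4 i, Finset.sum_neg_distrib, ← h1]
  ring

end Groth.Agent.CastLib
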