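import Groth.Agent.CastLib.EulerFibre
import Groth.Agent.CastLib.EulerFlat
import Groth.Agent.S1528
import Groth.Agent.JacLib.IdealPull
import Groth.Agent.ShStabLib.DimBound

/-!
# The Euler characteristic of a multiple fibre
-/

set_option autoImplicit false
set_option backward.isDefEq.respectTransparency false
set_option backward.isDefEq.respectTransparency.types false
set_option linter.style.haveILetI false
set_option maxHeartbeats 1000000

universe u

open CategoryTheory CategoryTheory.Limits AlgebraicGeometry TopologicalSpace IsLocalRing IntMult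
open Groth.Agent.PullbackMod Groth.Agent.DCohLib Groth.Agent.H1ZeroLib Groth.Agent.TwistShriek

noncomputable section

namespace Groth.Agent.CastLib

section Lengths

variable (R : Type u) [CommRing R] {X : Scheme.{u}} [X.Over (Spec (CommRingCat.of R))]

/-- All cohomology of `M` has finite length, and vanishes from degree `N` on. -/
def FinLenUpTo (N : ℕ) (M : X.Modules) : Prop :=
  (∀ i, Module.length R (Coh.HH X M i) ≠ ⊤) ∧ ∀ i, N ≤ i → Subsingleton (Coh.HH X M i)

/-- The Euler characteristic by lengths, in all degrees below `N`. -/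
def chiUpTo (N : ℕ) (M : X.Modules) : ℤ :=
  ∑ i ∈ Finset.range N, (-1 : ℤ) ^ i * ((Module.length R (Coh.HH X M i)).toNat : ℤ)

/-- **Additivity in all degrees.** -/
theorem chiUpTo_add {S : ShortComplex X.Modules} (hS : S.ShortExact) {N : ℕ} (h1 : FinLenUpTo R N S.X₁)
    (h3 : FinLenUpTo R N S.X₃) :
    FinLenUpTo R N S.X₂ ∧ chiUpTo R N S.X₂ = chiUpTo R N S.X₁ + chiUpTo R N S.X₃ := by
  let F := fun i => CurveLib.hMap (k := R) S.f i
  let G := fun i => CurveLib.hMap (k := R) S.g i
  let D := fun i => CurveLib.hδ (k := R) hS i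
  let rf := fun i => Module.length R (LinearMap.range (F i))
  let rg := fun i => Module.length R (LinearMap.range (G i))
  let rd := fun i => Module.length R (LinearMap.range (D i))
  have ha0 : Module.length R (Coh.HH X S.X₁ 0) = rf 0 := by
    have h := length_ker_range R (F 0)
    rw [show LinearMap.ker (F 0) = ⊥ from LinearMap.ker_eq_bot.2 (CurveLib.hMap_f_zero_injective hS),
      show Module.length R (⊥ : Submodule R (Coh.HH X S.X₁ 0)) = 0 from Module.length_eq_zero, zero_add] at h
    exact h
  have ha : ∀ i, Module.length R (Coh.HH X S.X₁ (i + 1)) = rd i + rf (i + 1) := fun i => by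
    have h := length_ker_range R (F (i + 1))
    rwa [← CurveLib.range_hδ hS i] at h
  have hb : ∀ i, Module.length R (Coh.HH X S.X₂ i) = rf i + rg i := fun i => by
    have h := length_ker_range R (G i)
    rwa [← CurveLib.range_hMap_f hS i] at h
  have hc : ∀ i, Module.length R (Coh.HH X S.X₃ i) = rg i + rd i := fun i => by
    have h := length_ker_range R (D i)
    rwa [← CurveLib.range_hMap_g hS i] at h
  have hrg : ∀ i, rg i ≠ ⊤ := fun i e => h3.1 i (by rw [hc, e, top_add])
  have hrd : ∀ i, rd i ≠ ⊤ := fun i e => h3.1 i (by rw [hc, e, add_top])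
  have hrf : ∀ i, rf i ≠ ⊤ := fun i e => h1.1 i (by
    cases i with
    | zero => rw [ha0, e]
    | succ i => rw [ha, e, add_top])
  have h2 : ∀ i, N ≤ i → Subsingleton (Coh.HH X S.X₂ i) := fun i hi => by
    haveI := h1.2 i hi
    haveI := h3.2 i hi
    exact CurveLib.subsingleton_mid hS i
  refine ⟨⟨fun i => by rw [hb, WithTop.add_ne_top]; exact ⟨hrf i, hrg i⟩, h2⟩, ?_⟩
  let len := fun (M : X.Modules) (i : ℕ) => ((Module.length R (Coh.HH X M i)).toNat : ℤ)
  have key : ∀ n, ∑ i ∈ Finset.range (n + 1), (-1 : ℤ) ^ i * (len S.X₁ i - len S.X₂ i + len S.X₃ i) =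
      (-1) ^ n * ((rd n).toNat : ℤ) := by
    intro n
    induction n with
    | zero =>
      simp only [len, zero_add, Finset.sum_range_one, pow_zero, one_mul]
      rw [ha0, hb, hc, ENat.toNat_add (hrf 0) (hrg 0), ENat.toNat_add (hrg 0) (hrd 0)]
      push_cast
      ring
    | succ n ih =>
      rw [Finset.sum_range_succ, ih]
      simp only [len]
      rw [ha, hb, hc, ENat.toNat_add (hrd n) (hrf _), ENat.toNat_add (hrf _) (hrg _),
        ENat.toNat_add (hrg _) (hrd _), pow_succ]
      push_cast
      ring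
  cases N with
  | zero => simp [chiUpTo]
  | succ n =>
    have hn : rd n = 0 := by
      haveI := h1.2 (n + 1) le_rfl
      haveI : Subsingleton (LinearMap.range (D n)) := ⟨fun a b => Subtype.ext (Subsingleton.elim _ _)⟩
      exact Module.length_eq_zero
    have h := key n
    rw [hn, ENat.toNat_zero, Nat.cast_zero, mul_zero] at h
    simp only [chiUpTo]
    simp only [len, mul_add, mul_sub, Finset.sum_add_distrib, Finset.sum_sub_distrib] at h
    linarith

end Lengths

/-- A periodic function given by a polynomial is constant. -/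
theorem eq_zero_of_periodic {P : MvPolynomial (Fin 1) ℚ} {f : ℕ → ℤ}
    (hP : ∀ n : ℕ, (f n : ℚ) = MvPolynomial.eval (fun _ => (n : ℚ)) P) {m : ℕ} (hm : 1 ≤ m)
    (hper : ∀ t, f (t * m) = f 0) (n : ℕ) : f n = f 0 := by
  have hev : ∀ (p : MvPolynomial (Fin 1) ℚ) (x : ℚ),
      (MvPolynomial.aeval (fun _ => Polynomial.X) p : Polynomial ℚ).eval x = MvPolynomial.eval (fun _ => x) p := by
    intro p x
    induction p using MvPolynomial.induction_on with
    | C a => simp
    | add p q hp hq => simp [hp, hq]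
    | mul_X p i hp => simp [hp]
  let Q : Polynomial ℚ := MvPolynomial.aeval (fun _ => Polynomial.X) P - Polynomial.C (f 0 : ℚ)
  have hQ : ∀ j : ℕ, Q.eval (j : ℚ) = (f j : ℚ) - f 0 := fun j => by
    simp only [Q, Polynomial.eval_sub, Polynomial.eval_C, hP]
    congr 1
    exact hev P _
  have h0 : Q = 0 := Polynomial.eq_zero_of_infinite_isRoot _
    (Set.Infinite.mono (s := Set.range fun t : ℕ => ((t * m : ℕ) : ℚ))
      (by rintro _ ⟨t, rfl⟩; show Q.eval _ = 0; rw [hQ, hper, sub_self])
      (Set.infinite_range_of_injective fun a b h => by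
        simp only [Nat.cast_inj] at h
        exact Nat.eq_of_mul_eq_mul_right (by omega) h))
  have h := hQ n
  rw [h0, Polynomial.eval_zero] at h
  exact_mod_cast (sub_eq_zero.1 h.symm)

variable {R : Type u} [CommRing R] [IsDomain R] [IsDiscreteValuationRing R]

/-- The ideal module of the closed fibre is trivial. -/
theorem nonempty_idealMod_fibre_of_flat {Y : Scheme.{u}} (p : Y ⟶ Spec (CommRingCat.of R)) [Flat p] :
    BlowUp.IsEffCartierIdeal (SurfPtBlow.fibreIdeal p) ∧
      Nonempty (ClSub.idealMod (SurfPtBlow.fibreIdeal p) ≅ Coh.structureModule Y) := by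
  obtain ⟨π, hπ⟩ := IsDiscreteValuationRing.exists_irreducible R
  let J : (Spec (CommRingCat.of R)).IdealSheafData := Curv2.idealSheaf R (Ideal.span {π})
  have hJc : BlowUp.IsEffCartierIdeal J := isEffCartier_idealSheaf_span hπ.ne_zero
  have hcomap : J.comap p = SurfPtBlow.fibreIdeal p := by rw [SurfPtBlow.fibreIdeal, hπ.maximalIdeal_eq]
  have hY := BlowCompLib.isEffCartier_comap_flat hJc p
  let c : Γ(Spec (CommRingCat.of R), ⊤) := Coh.toGlobal (𝟙 (Spec (CommRingCat.of R))) π
  have hc : c ≠ 0 := fun h0 => hπ.ne_zero (by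
    have hinj : Function.Injective (Coh.toGlobal (𝟙 (Spec (CommRingCat.of R)))) :=
      (ConcreteCategory.bijective_of_isIso (Scheme.ΓSpecIso (CommRingCat.of R)).inv).1
    exact hinj (h0.trans (map_zero _).symm))
  have hJ : ∀ z : Spec (CommRingCat.of R), IntMult.stalkIdeal J z =
      Ideal.span {((Spec (CommRingCat.of R)).presheaf.germ ⊤ z trivial).hom c} := fun z => by
    have h := SurfPtBlow.stalkIdeal_comap_principal (𝟙 (Spec (CommRingCat.of R))) π z
    rwa [Scheme.IdealSheafData.comap_id] at h
  obtain ⟨w, hw⟩ := SurfPtBlow.shortExact_smul hc hJ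
  let e₀ : ClSub.idealMod J ≅ Coh.structureModule _ :=
    ((hw.fIsKernel).conePointUniqueUpToIso (kernelIsKernel (ClSub.toSubscheme J))).symm
  obtain ⟨e⟩ := JacLib.nonempty_iso_pullback_idealMod p J hJc hY
  rw [← hcomap]
  exact ⟨hY, ⟨e.symm ≪≫ (Scheme.Modules.pullback p).mapIso e₀ ≪≫ AmpleLib.pullO p⟩⟩

/-- Lengths of cohomology of a module supported on a closed subscheme of the closed fibre. -/
theorem length_push_closed {Y D : Scheme.{u}} (p : Y ⟶ Spec (CommRingCat.of R)) [IsSeparated p] (j : D ⟶ Y) [IsClosedImmersion j]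
    (zD : D ⟶ Spec (CommRingCat.of (ResidueField R))) [IsProper zD]
    (w : j ≫ p = zD ≫ Spec.map (CommRingCat.ofHom (IsLocalRing.residue R))) (M : D.Modules) (hM : Coh.IsCoh M) (n : ℕ) :
    letI : Y.Over (Spec (CommRingCat.of R)) := ⟨p⟩
    letI : D.Over (Spec (CommRingCat.of (ResidueField R))) := ⟨zD⟩
    Module.length R (Coh.HH Y ((Scheme.Modules.pushforward j).obj M) n) =
        (Module.finrank (ResidueField R) (Coh.HH D M n) : ℕ∞) ∧
      (Subsingleton (Coh.HH D M n) → Subsingleton (Coh.HH Y ((Scheme.Modules.pushforward j).obj M) n)) := by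
  letI : Y.Over (Spec (CommRingCat.of R)) := ⟨p⟩
  letI : D.Over (Spec (CommRingCat.of (ResidueField R))) := ⟨zD⟩
  haveI : IsProper (D ↘ Spec (CommRingCat.of (ResidueField R))) := ‹IsProper zD›
  haveI := hM.1
  haveI := EulerIneqLib.isNoetherian_proper (X := D) (ResidueField R)
  obtain ⟨e, he⟩ := ProperFin.exists_pushEquiv j (M := M)
    (fun _ hV m => CohBase.affine_vanishing M (hV.preimage j) m) n
  letI : Module R (Coh.HH D M n) := Module.compHom _ (IsLocalRing.residue R)
  haveI : IsScalarTower R (ResidueField R) (Coh.HH D M n) := IsScalarTower.of_algebraMap_smul fun r m => rfl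
  let L : Coh.HH D M n ≃ₗ[R] Coh.HH Y ((Scheme.Modules.pushforward j).obj M) n :=
    { e with
      map_smul' := fun a x => by
        show e (Coh.toGlobal zD (IsLocalRing.residue R a) • x) = Coh.toGlobal p a • e x
        rw [← toGlobal_w w a]
        exact he _ x }
  haveI := EulerIneqLib.finite_HH (k := ResidueField R) hM n
  refine ⟨?_, fun _ => L.symm.toEquiv.subsingleton⟩
  rw [← L.length_eq, Module.length_eq_of_surjective (R := ResidueField R) IsLocalRing.residue_surjective,
    Module.length_eq_finrank]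

/-- **The multiplicity of a multiple fibre divides the Euler characteristic.** -/
theorem natCast_dvd_euler_of_multiple_fibre {Y C : Scheme.{u}} (p : Y ⟶ Spec (CommRingCat.of R)) [IsProper p] [Flat p]
    [C.Over (Spec (CommRingCat.of (FractionRing R)))]
    (hX : Models.IsModel R Y p C (C ↘ Spec (CommRingCat.of (FractionRing R)))) {m : ℕ} (hm : 1 ≤ m)
    {I : Y.IdealSheafData} (hI : BlowUp.IsEffCartierIdeal I) (hIm : I ^ m = SurfPtBlow.fibreIdeal p) :
    (m : ℤ) ∣ Curv2.euler (FractionRing R) C (Coh.structureModule C) := by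
  classical
  obtain ⟨hF, ⟨eF⟩⟩ := nonempty_idealMod_fibre_of_flat p
  haveI : IsLocallyNoetherian Y := LocallyOfFiniteType.isLocallyNoetherian p
  letI : Y.Over (Spec (CommRingCat.of R)) := ⟨p⟩
  obtain ⟨g, hg⟩ := hX.2.2.2
  let f := C ↘ Spec (CommRingCat.of (FractionRing R))
  haveI : IsProper f := MorphismProperty.of_isPullback (P := @IsProper) hg ‹IsProper p›
  let s := Spec.map (CommRingCat.ofHom (IsLocalRing.residue R))
  haveI : IsClosedImmersion s := IsClosedImmersion.spec_of_surjective _ IsLocalRing.residue_surjective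
  let Z := pullback p s
  let i : Z ⟶ Y := pullback.fst p s
  let z : Z ⟶ Spec (CommRingCat.of (ResidueField R)) := pullback.snd p s
  letI : Z.Over (Spec (CommRingCat.of (ResidueField R))) := ⟨z⟩
  haveI : IsProper z := inferInstanceAs (IsProper (pullback.snd p s))
  haveI : IsProper (Z ↘ Spec (CommRingCat.of (ResidueField R))) := ‹IsProper z›
  haveI := EulerIneqLib.isNoetherian_proper (X := Z) (ResidueField R)
  have hker : i.ker = SurfPtBlow.fibreIdeal p := by
    rw [SurfPtBlow.fibreIdeal, ← IsLocalRing.ker_residue (R := R), ← TwistShriek.ker_specMap]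
    exact Scheme.IdealSheafData.ker_fst_of_isClosedImmersion s p
  let D := I.subscheme
  let ι : D ⟶ Y := I.subschemeι
  have hle : SurfPtBlow.fibreIdeal p ≤ I := by
    rw [← hIm]
    obtain ⟨e, rfl⟩ := Nat.exists_eq_add_of_le hm
    rw [add_comm, pow_succ]
    exact mul_le_right' (I ^ e) I
  let l : D ⟶ Z := IsClosedImmersion.lift i ι (by rw [hker, Scheme.IdealSheafData.ker_subschemeι]; exact hle)
  have hl : l ≫ i = ι := IsClosedImmersion.lift_fac _ _ _
  let zD : D ⟶ Spec (CommRingCat.of (ResidueField R)) := l ≫ z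
  have hw : ι ≫ p = zD ≫ s := by rw [← hl, Category.assoc, Category.assoc, pullback.condition]
  haveI : IsClosedImmersion (l ≫ i) := by rw [hl]; infer_instance
  haveI : IsClosedImmersion l := IsClosedImmersion.of_comp l i
  haveI : IsProper zD := inferInstanceAs (IsProper (l ≫ z))
  letI : D.Over (Spec (CommRingCat.of (ResidueField R))) := ⟨zD⟩
  haveI : IsProper (D ↘ Spec (CommRingCat.of (ResidueField R))) := ‹IsProper zD›
  haveI := EulerIneqLib.isNoetherian_proper (X := D) (ResidueField R)
  obtain ⟨N₁, hN₁⟩ := CurveLib.exists_bound (X := D) (ResidueField R)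
  obtain ⟨N₂, hN₂⟩ := CurveLib.exists_bound (X := Z) (ResidueField R)
  let N := max N₁ N₂
  -- the layers
  have hpow : ∀ j : ℕ, BlowUp.IsEffCartierIdeal (I ^ j) ∧
      IntLib.mk (ClSub.idealMod (I ^ j)) = IntLib.mk (ClSub.idealMod I) ^ j := fun j => by
    induction j with
    | zero =>
      rw [pow_zero, Scheme.IdealSheafData.one_eq_top]
      exact ⟨BlowCompLib.isEffCartier_top, mk_idealMod_top⟩
    | succ j ih =>
      rw [pow_succ, pow_succ]
      exact ⟨BlowCompLib.isEffCartier_mul ih.1 hI, by rw [mk_idealMod_mul ih.1 hI, ih.2]⟩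
  let M : ℕ → D.Modules := fun j => (Scheme.Modules.pullback ι).obj (ClSub.idealMod (I ^ j))
  have hMinv : ∀ j, PicF.IsInvertible (M j) := fun j =>
    AmpleLib.isInvertible_pullback _ (isInvertible_idealMod (hpow j).1)
  have hMc : ∀ j, Coh.IsCoh (M j) := fun j => CurveLib.isCoh_of_isInvertible (hMinv j)
  let χ : ℕ → ℤ := fun j => Curv2.euler (ResidueField R) D (M j)
  -- periodicity
  have hMcls : ∀ j, IntLib.mk (M j) = IntLib.pullCls ι (IntLib.mk (ClSub.idealMod I)) ^ j := fun j => by
    rw [← map_pow, ← (hpow j).2]; rfl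
  have hper : ∀ t, χ (t * m) = χ 0 := fun t => by
    obtain ⟨e⟩ : Nonempty (M (t * m) ≅ M 0) := IntLib.mk_eq_mk.1 (by
      have h1 : IntLib.mk (ClSub.idealMod I) ^ m = 1 := by
        rw [← (hpow m).2, hIm]; exact (IntLib.mk_congr eF).trans IntLib.mk_structureModule
      rw [hMcls, hMcls, pow_zero, mul_comm t m, pow_mul, ← map_pow, h1, map_one, one_pow])
    exact CurveLib.euler_iso e
  obtain ⟨d₀, hd₀⟩ := ShStabLib.exists_dim_bound (X := D) (ResidueField R)
  obtain ⟨P, -, hP⟩ := Groth.Agent.S1528.result (ResidueField R) D (Coh.structureModule D)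
    (DevLib.isCoh_structureModule D) d₀
      (le_trans Topology.IsInducing.subtypeVal.topologicalKrullDim_le hd₀.le)
    1 (fun _ => (Scheme.Modules.pullback ι).obj (ClSub.idealMod I))
    (fun _ => AmpleLib.isInvertible_pullback _ (isInvertible_idealMod hI))
  have hconst : ∀ j, χ j = χ 0 := eq_zero_of_periodic (P := P) (fun j => by
    rw [← hP fun _ => j]
    norm_cast
    obtain ⟨e⟩ : Nonempty (M j ≅ Curv2.tensorPows (Coh.structureModule D) 1
        (fun _ => (Scheme.Modules.pullback ι).obj (ClSub.idealMod I)) (fun _ => j)) := IntLib.mk_eq_mk.1 (by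
      rw [hMcls, IntLib.mk_tensorPows, IntLib.mk_structureModule, one_mul, Fin.prod_univ_one]; rfl)
    exact CurveLib.euler_iso e) hm hper
  -- the filtration
  have hpushlen : ∀ (j n : ℕ), Module.length R (Coh.HH Y ((Scheme.Modules.pushforward ι).obj (M j)) n) =
        (Module.finrank (ResidueField R) (Coh.HH D (M j) n) : ℕ∞) ∧
      (Subsingleton (Coh.HH D (M j) n) → Subsingleton (Coh.HH Y ((Scheme.Modules.pushforward ι).obj (M j)) n)) :=
    fun j n => length_push_closed p ι zD hw (M j) (hMc j) n
  have key : ∀ j, FinLenUpTo R N (ClSub.quotMod (I ^ j)) ∧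
      chiUpTo R N (ClSub.quotMod (I ^ j)) = ∑ l ∈ Finset.range j, χ l := by
    intro j
    induction j with
    | zero =>
      rw [pow_zero, Scheme.IdealSheafData.one_eq_top]
      have hz : IsZero (ClSub.quotMod (⊤ : Y.IdealSheafData)) := DCohLib.isZero_of_stalks fun x => by
        by_contra hns
        simpa using IntLib.support_quotMod_subset (⊤ : Y.IdealSheafData) hns
      have hs : ∀ i, Subsingleton (Coh.HH Y (ClSub.quotMod (⊤ : Y.IdealSheafData)) i) := fun i =>
        CohBase.subsingleton_HH _ _ (subsingleton_of_forall_eq 0 fun z => by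
          have h0 : IsZero (Coh.toAb (ClSub.quotMod (⊤ : Y.IdealSheafData))) :=
            Functor.map_isZero (QCohLib.toAbF Y) hz
          rw [← Abelian.Ext.comp_mk₀_id z, h0.eq_of_src (𝟙 _) 0, Abelian.Ext.mk₀_zero, Abelian.Ext.comp_zero])
      refine ⟨⟨fun i => by haveI := hs i; rw [Module.length_eq_zero]; exact ENat.zero_ne_top, fun i _ => hs i⟩, ?_⟩
      refine Finset.sum_eq_zero fun i _ => ?_
      haveI := hs i
      rw [Module.length_eq_zero, ENat.toNat_zero, Nat.cast_zero, mul_zero]
    | succ j ih =>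
      let O := Coh.structureModule Y
      have hO : PicF.IsInvertible O := ParaFLib.isInvertible_structureModule
      let gq := qmapL (mul_le_right' I (I ^ j)) O
      haveI : Epi gq := (epi_iff_stalk gq).2 fun x z => by
        obtain ⟨e, he⟩ := ParaFLib.exists_stalk_gen hO x
        obtain ⟨r, hr⟩ := tq_surjective he (I ^ j) z
        exact ⟨tq (I * I ^ j) x e r, by rw [stalk_qmapL]; exact hr⟩
      let S := ShortComplex.mk (kernel.ι gq) gq (kernel.condition gq)
      have hS : S.ShortExact := ShortComplex.ShortExact.mk'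
        (ShortComplex.exact_of_f_is_kernel _ (kernelIsKernel gq)) inferInstance inferInstance
      obtain ⟨q⟩ : Nonempty (ClSub.quotMod I ≅ (Scheme.Modules.pushforward ι).obj (Coh.structureModule D)) := by
        obtain ⟨q⟩ := nonempty_quotMod_ker_iso ι
        rw [show ι.ker = I from I.ker_subschemeι] at q
        exact ⟨q⟩
      let e₁ : kernel gq ≅ (Scheme.Modules.pushforward ι).obj (M j) :=
        (peelIso (C := I) (B := I ^ j) hO).symm ≪≫
          ((DCoh.tensorBi (X := Y)).obj (ClSub.quotMod I)).mapIso (AmpleLib.unitR (ClSub.idealMod (I ^ j))) ≪≫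
          ((DCoh.tensorBi (X := Y)).mapIso q).app (ClSub.idealMod (I ^ j)) ≪≫
          projIso ι (Coh.structureModule D) (ClSub.idealMod (I ^ j)) ≪≫
          (Scheme.Modules.pushforward ι).mapIso (CurveLib.tmodUnit (M j))
      let e₃ : S.X₃ ≅ ClSub.quotMod (I ^ j) := AmpleLib.unitR (ClSub.quotMod (I ^ j))
      let e₂ : S.X₂ ≅ ClSub.quotMod (I * I ^ j) := AmpleLib.unitR (ClSub.quotMod (I * I ^ j))
      have hsub : ∀ {A B : Y.Modules} (e : A ≅ B) (i : ℕ), Subsingleton (Coh.HH Y A i) →
          Subsingleton (Coh.HH Y B i) := fun e i h => CurveLib.subsingleton_HH_iso e i h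
      have h1 : FinLenUpTo R N S.X₁ := by
        refine ⟨fun i => ?_, fun i hi => hsub e₁.symm i ((hpushlen j i).2 (hN₁ _ (hMc j).1 i ?_))⟩
        · rw [length_iso R e₁, (hpushlen j i).1]; exact ENat.natCast_ne_top _
        · exact le_trans (le_max_left _ _) hi
      have h3 : FinLenUpTo R N S.X₃ :=
        ⟨fun i => by rw [length_iso R e₃]; exact ih.1.1 i, fun i hi => hsub e₃.symm i (ih.1.2 i hi)⟩
      obtain ⟨h2, hadd⟩ := chiUpTo_add R hS h1 h3
      have hcongr : ∀ {A B : Y.Modules} (e : A ≅ B), chiUpTo R N A = chiUpTo R N B := fun e =>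
        Finset.sum_congr rfl fun i _ => by rw [length_iso R e]
      rw [pow_succ', Finset.sum_range_succ]
      refine ⟨⟨fun i => by rw [← length_iso R e₂]; exact h2.1 i, fun i hi => hsub e₂ i (h2.2 i hi)⟩, ?_⟩
      rw [← hcongr e₂, hadd, hcongr e₁, hcongr e₃, ih.2, add_comm]
      congr 1
      show _ = Curv2.euler (ResidueField R) D (M j)
      rw [CurveLib.euler_eq_sum (K := ResidueField R) (M j) N fun q hq =>
        hN₁ _ (hMc j).1 q (le_trans (le_max_left _ _) hq)]
      exact Finset.sum_congr rfl fun i _ => by rw [(hpushlen j i).1, ENat.toNat_natCast]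
  -- both ends
  have hgl := (S1026.result p (Coh.structureModule Y) (FlatStage.isFP_structureModule Y)
    (BCLib.isFlatOver_structureModule p)).apply_eq_of_preconnectedSpace
      (Spec.map (CommRingCat.ofHom (algebraMap R (FractionRing R))) default) (s default)
  rw [eulerChar_point p hg default, eulerChar_point p (IsPullback.of_hasPullback p s) default] at hgl
  have hZ : chiUpTo R N (ClSub.quotMod (I ^ m)) =
      Curv2.euler (ResidueField R) Z (Coh.structureModule Z) := by
    obtain ⟨q⟩ := nonempty_quotMod_ker_iso i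
    rw [hIm, ← hker, CurveLib.euler_eq_sum (K := ResidueField R) (Coh.structureModule Z) N fun j hj =>
      hN₂ _ (DevLib.isCoh_structureModule Z).1 j (le_trans (le_max_right _ _) hj)]
    refine Finset.sum_congr rfl fun j _ => ?_
    rw [length_iso R q, (length_push_closed p i z pullback.condition _ (DevLib.isCoh_structureModule Z) j).1,
      ENat.toNat_natCast]
  refine ⟨χ 0, ?_⟩
  rw [show Curv2.euler (FractionRing R) C (Coh.structureModule C) = _ from hgl, ← hZ, (key m).2,
    Finset.sum_congr rfl fun l _ => hconst l, Finset.sum_const, Finset.card_range, nsmul_eq_mul]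

end Groth.Agent.CastLib
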