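import Groth.Agent.CastLib.SelfInt
import Groth.Agent.CastLib.InterDeg
import Groth.Agent.CurveP1Lib.H0One
import Groth.Agent.S7639

/-!
# Exceptional curves: genus zero and self-intersection minus the weight
-/

set_option autoImplicit false
set_option backward.isDefEq.respectTransparency false
set_option linter.style.haveILetI false
set_option maxHeartbeats 1000000

universe u

open CategoryTheory CategoryTheory.Limits AlgebraicGeometry TopologicalSpace

noncomputable section

namespace Groth.Agent.CastLib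

open Groth.Agent.SurfPtBlow Groth.Agent.AmpleLib

/-- Degrees over a smaller field. -/
theorem curveDeg_restrict {k k' : Type u} [Field k] [Field k'] [Algebra k k'] (E : Scheme.{u})
    [E.Over (Spec (CommRingCat.of k'))] [inst : E.Over (Spec (CommRingCat.of k))]
    (h : (E ↘ Spec (CommRingCat.of k')) ≫ Spec.map (CommRingCat.ofHom (algebraMap k k')) =
      E ↘ Spec (CommRingCat.of k)) (M : E.Modules) :
    ArSurf.curveDeg k E M = Module.finrank k k' * ArSurf.curveDeg k' E M := by
  simp only [ArSurf.curveDeg, FGA.eulerCharLE, Finset.sum_range_succ, Finset.sum_range_zero, zero_add,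
    pow_zero, pow_one, one_mul, finrank_restrict (k := k) (k' := k') E h]
  push_cast
  ring

/-- Morphisms to the spectrum of a field are determined by the scalars. -/
theorem hom_ext_toGlobal {k : Type u} [Field k] {E : Scheme.{u}} {f g : E ⟶ Spec (CommRingCat.of k)}
    (h : ∀ a : k, Coh.toGlobal f a = Coh.toGlobal g a) : f = g := by
  refine ext_of_isAffine (CommRingCat.hom_ext (RingHom.ext fun x => ?_))
  have hx := h ((Scheme.ΓSpecIso (CommRingCat.of k)).hom x)
  have e := Iso.hom_inv_id_apply (Scheme.ΓSpecIso (CommRingCat.of k)) x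
  exact (congrArg f.appTop.hom e).symm.trans (hx.trans (congrArg g.appTop.hom e))

/-- Scalars of a composite with a map of spectra. -/
theorem toGlobal_comp_specMap {A B : Type u} [CommRing A] [CommRing B] (φ : A →+* B) {E : Scheme.{u}}
    (f : E ⟶ Spec (CommRingCat.of B)) (a : A) :
    Coh.toGlobal (f ≫ Spec.map (CommRingCat.ofHom φ)) a = Coh.toGlobal f (φ a) := by
  simp only [Coh.toGlobal, Scheme.Hom.comp_appTop, RingHom.coe_comp, Function.comp_apply, CommRingCat.hom_comp]
  exact congrArg f.appTop.hom (ConcreteCategory.congr_hom (Scheme.ΓSpecIso_inv_naturality (CommRingCat.ofHom φ)) a).symm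

/-- The cohomology of the structure sheaf of the line. -/
theorem finrank_HH_P1 (k : Type u) [Field k] :
    Module.finrank k (Coh.HH (CohB1.ProjSpace 1 k) (Coh.structureModule _) 0) = 1 ∧
      Module.finrank k (Coh.HH (CohB1.ProjSpace 1 k) (Coh.structureModule _) 1) = 0 := by
  let φ : Coh.structureModule (CohB1.ProjSpace 1 k) ≅ Twist.twistProjSpace 1 k ((0 : ℕ) : ℤ) :=
    @asIso _ _ _ _ (ProjCoh.unitToTwist (CohB1.polyGrading 1 k)) ProjCoh.isIso_unitToTwist
  rw [ShBCLib.finrank_HH_iso (K := k) φ 0, ShBCLib.finrank_HH_iso (K := k) φ 1]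
  haveI : Subsingleton (Coh.HH (CohB1.ProjSpace 1 k) (Twist.twistProjSpace 1 k ((0 : ℕ) : ℤ)) 1) :=
    ProjTwist.subsingleton_HH 1 k _ 1 (by omega) (by omega)
  obtain ⟨e⟩ := ProjTwist.nonempty_H0 1 k 0
  refine ⟨?_, Module.finrank_zero_of_subsingleton⟩
  rw [e.finrank_eq, S4466.finrank_forms k 1 0, Nat.choose_one_right]

/-- Exceptional curves are the curves of genus zero with self-intersection minus the weight. -/
theorem isExcCurve_iff {k : Type u} [Field k] {E X : Scheme.{u}} [E.Over (Spec (CommRingCat.of k))]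
    [IsProper (E ↘ Spec (CommRingCat.of k))] [IsIntegral E] (hdim : topologicalKrullDim E = 1) (ι : E ⟶ X)
    (hC : BlowUp.IsEffCartierIdeal ι.ker) {L : X.Modules} (hL : ClSub.IsInverseOf L (ClSub.idealMod ι.ker)) :
    Models.IsExcCurve ι ↔ Module.finrank k (Coh.HH E (Coh.structureModule E) 1) = 0 ∧
      ArSurf.curveDeg k E ((Scheme.Modules.pullback ι).obj L) =
        -(Module.finrank k (Coh.HH E (Coh.structureModule E) 0) : ℤ) := by
  have hI : PicF.IsInvertible (ClSub.idealMod ι.ker) := (S8914.result ι.ker).2 hC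
  have hLi := isInvertible_inverse_ideal hL
  obtain ⟨eL⟩ := id hL
  constructor
  · rintro ⟨-, k', _, e, ⟨t⟩⟩
    haveI := isProper_P1 (k := k')
    haveI := EulerIneqLib.isNoetherian_proper (X := E) k
    have hb := CurveP1Lib.bijective_toGlobal_of_h0 (k := k') (finrank_HH_P1 k').1
    let ψ : k' ≃+* Γ(CohB1.ProjSpace 1 k', ⊤) := RingEquiv.ofBijective _ hb
    letI : Algebra k k' := (ψ.symm.toRingHom.comp (Coh.toGlobal (e.hom ≫ (E ↘ Spec (CommRingCat.of k))))).toAlgebra
    have he : e.symm.hom ≫ (CohB1.ProjSpace 1 k' ↘ Spec (CommRingCat.of k')) ≫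
        Spec.map (CommRingCat.ofHom (algebraMap k k')) = E ↘ Spec (CommRingCat.of k) := by
      rw [Iso.symm_hom, Iso.inv_comp_eq]
      refine hom_ext_toGlobal fun a => ?_
      rw [toGlobal_comp_specMap]
      exact ψ.apply_symm_apply _
    letI ov : E.Over (Spec (CommRingCat.of k')) := ⟨e.inv ≫ (CohB1.ProjSpace 1 k' ↘ Spec (CommRingCat.of k'))⟩
    have hh : ∀ i : ℕ, Module.finrank k' (Coh.HH E (Coh.structureModule E) i) =
        Module.finrank k' (Coh.HH (CohB1.ProjSpace 1 k') (Coh.structureModule _) i) := fun i => by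
      haveI : Coh.IsQCoh (Coh.structureModule E) :=
        (CurveLib.isCoh_of_isInvertible ParaFLib.isInvertible_structureModule).1
      have hg : e.hom ≫ (E ↘ Spec (CommRingCat.of k')) = CohB1.ProjSpace 1 k' ↘ Spec (CommRingCat.of k') :=
        e.hom_inv_id_assoc _
      rw [← CurveP1Lib.finrank_HH_pullback (k := k') e.hom hg (Coh.structureModule E) i]
      exact ShBCLib.finrank_HH_iso (K := k') (pullO e.hom) i
    have hw : (E ↘ Spec (CommRingCat.of k')) ≫ Spec.map (CommRingCat.ofHom (algebraMap k k')) =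
        E ↘ Spec (CommRingCat.of k) := (Category.assoc _ _ _).trans he
    have h0 := finrank_restrict (k := k) (k' := k') E hw (Coh.structureModule E) 0
    have h1 := finrank_restrict (k := k) (k' := k') E hw (Coh.structureModule E) 1
    rw [hh, (finrank_HH_P1 k').1, mul_one] at h0
    rw [hh, (finrank_HH_P1 k').2, mul_zero] at h1
    refine ⟨h1, ?_⟩
    rw [h0, curveDeg_eq (k := k) e.symm he (isInvertible_pullback ι hLi),
      show degP k' ((Scheme.Modules.pullback e.symm.inv).obj ((Scheme.Modules.pullback ι).obj L)) =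
        degOn (e.hom ≫ ι) L from degP_congr (IntLib.mk_congr ((Scheme.Modules.pullbackComp e.hom ι).app L))]
    have h2 := (degOn_congr (e.hom ≫ ι) eL).trans (degOn_one _)
    rw [degOn_tensor _ hLi hI, show degOn (e.hom ≫ ι) (ClSub.idealMod ι.ker) = 1 from
      (degP_congr (IntLib.mk_congr t)).trans (degP_twist_nat 1)] at h2
    rw [eq_neg_of_add_eq_zero_left h2]
    ring
  · rintro ⟨h1, hself⟩
    haveI : ConnectedSpace E := inferInstance
    obtain ⟨hF, hfin, -⟩ := S7639.result k E
    letI fK : Field Γ(E, ⊤) := hF.toField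
    letI alg : Algebra k Γ(E, ⊤) := (Coh.toGlobal (E ↘ Spec (CommRingCat.of k))).toAlgebra
    haveI : Module.Finite k Γ(E, ⊤) := hfin
    letI ov : E.Over (Spec (CommRingCat.of Γ(E, ⊤))) := ⟨E.toSpecΓ⟩
    have hw : (E ↘ Spec (CommRingCat.of Γ(E, ⊤))) ≫ Spec.map (CommRingCat.ofHom (algebraMap k Γ(E, ⊤))) =
        E ↘ Spec (CommRingCat.of k) := by
      refine hom_ext_toGlobal fun a => ?_
      rw [toGlobal_comp_specMap]
      show E.toSpecΓ.appTop ((Scheme.ΓSpecIso Γ(E, ⊤)).inv (algebraMap k Γ(E, ⊤) a)) = _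
      rw [Scheme.toSpecΓ_appTop, Iso.inv_hom_id_apply]
      rfl
    haveI : IsProper (E ↘ Spec (CommRingCat.of Γ(E, ⊤))) := by
      haveI : IsProper ((E ↘ Spec (CommRingCat.of Γ(E, ⊤))) ≫
          Spec.map (CommRingCat.ofHom (algebraMap k Γ(E, ⊤)))) := hw.symm ▸ inferInstance
      exact IsProper.of_comp _ (Spec.map (CommRingCat.ofHom (algebraMap k Γ(E, ⊤))))
    have hpos : 0 < Module.finrank k Γ(E, ⊤) := Module.finrank_pos
    have hg : Curv2.genus Γ(E, ⊤) E = 0 :=
      (mul_eq_zero.1 ((finrank_restrict (k := k) E hw (Coh.structureModule E) 1).symm.trans h1)).resolve_left hpos.ne'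
    let eH : Coh.HH E (Coh.structureModule E) 0 ≃ₗ[k] Γ(E, ⊤) :=
      { (CurveLib.secOf (Coh.structureModule E)) with map_smul' := fun r c => CurveLib.secOf_smul (k := k) _ r c }
    rw [eH.finrank_eq] at hself
    have hd : ArSurf.curveDeg Γ(E, ⊤) E ((Scheme.Modules.pullback ι).obj L) = -1 := by
      refine mul_left_cancel₀ (show (Module.finrank k Γ(E, ⊤) : ℤ) ≠ 0 by exact_mod_cast hpos.ne') ?_
      rw [← curveDeg_restrict (k := k) E hw, mul_neg_one, hself]
    have hd' : ArSurf.curveDeg Γ(E, ⊤) E ((Scheme.Modules.pullback ι).obj (ClSub.idealMod ι.ker)) = 1 := by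
      have h := curveDeg_tensor (k := Γ(E, ⊤)) hdim.le (isInvertible_pullback ι hLi) (isInvertible_pullback ι hI)
      rw [curveDeg_iso hdim.le ((pullTensor ι _ _).symm ≪≫ (Scheme.Modules.pullback ι).mapIso eL ≪≫ pullO ι),
        curveDeg_one, hd] at h
      omega
    rw [curveDeg_eq_deg hdim.le] at hd'
    obtain ⟨e, he⟩ := CurveP1Lib.exists_iso_P1_of_genus_zero hdim hg (isInvertible_pullback ι hI) hd'
    refine isExcCurve_of_selfInt (k := k) ι hC e ?_ hL hself
    rw [← hw, ← he, Category.assoc]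
    rfl

end Groth.Agent.CastLib

namespace Groth.Agent.CastLib

/-- Being exceptional depends on the closed subscheme only. -/
theorem isExcCurve_of_ker_eq {E E' X : Scheme.{u}} {ι : E ⟶ X} {ι' : E' ⟶ X} [IsClosedImmersion ι]
    [IsClosedImmersion ι'] (hk : ι.ker = ι'.ker) (h : Models.IsExcCurve ι) : Models.IsExcCurve ι' := by
  obtain ⟨hC, k, _, e, ⟨t⟩⟩ := h
  let g : E ⟶ E' := IsClosedImmersion.lift ι' ι hk.ge
  have hg : g ≫ ι' = ι := IsClosedImmersion.lift_fac _ _ _
  let g' : E' ⟶ E := IsClosedImmersion.lift ι ι' hk.le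
  have hg' : g' ≫ ι = ι' := IsClosedImmersion.lift_fac _ _ _
  let φ : E ≅ E' := ⟨g, g', by rw [← cancel_mono ι, Category.assoc, hg', hg, Category.id_comp],
    by rw [← cancel_mono ι', Category.assoc, hg, hg', Category.id_comp]⟩
  refine ⟨hk ▸ hC, k, inferInstance, e ≪≫ φ, ⟨?_⟩⟩
  rw [show (e ≪≫ φ).hom ≫ ι' = e.hom ≫ ι by simp [φ, hg]]
  exact (Scheme.Modules.pullback (e.hom ≫ ι)).mapIso (eqToIso (by rw [hk])) ≪≫ t

end Groth.Agent.CastLib
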