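import Groth.Agent.CastLib.NegDef
import Groth.Agent.RigidLib.Basic
import Groth.Agent.SteinConn.General
import Groth.Agent.SurfPtBlow.Push

/-!
# Uniqueness of contractions of vertical curves
-/

set_option autoImplicit false
set_option backward.isDefEq.respectTransparency false
set_option linter.style.haveILetI false
set_option maxHeartbeats 1000000

universe u

open CategoryTheory CategoryTheory.Limits AlgebraicGeometry TopologicalSpace IsLocalRing

noncomputable section

namespace Groth.Agent.CastLib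

variable {R : Type u} [CommRing R] [IsDomain R] [IsDiscreteValuationRing R]
variable {X Y : Over (Spec (CommRingCat.of R))} {r : ℕ}

/-- The properties of a contraction of the curves `Γ`. -/
def IsContr (Γ : Fin r → ArSurf.VertComp R X) (f : X ⟶ Y) : Prop :=
  IsIntegral Y.left ∧ (∀ q : Y.left, IsIntegrallyClosed (Y.left.presheaf.stalk q)) ∧
    topologicalKrullDim Y.left = 2 ∧ Flat Y.hom ∧ Neron.IsProjectiveOver R Y ∧
    (∀ i, ∃ y : Y.left, Set.range (((Γ i).ι ≫ f.left).base : (Γ i).curve.left → Y.left) = {y}) ∧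
    f.left.base ⁻¹' (f.left.base '' ⋃ i, Set.range (Γ i).ι.base) = ⋃ i, Set.range (Γ i).ι.base ∧
    (∀ V : Y.left.Opens, (V : Set Y.left) ∩ f.left.base '' (⋃ i, Set.range (Γ i).ι.base) = ∅ →
      IsIso (f.left ∣_ V))

theorem isProper_of_projective {Y : Over (Spec (CommRingCat.of R))} (h : Neron.IsProjectiveOver R Y) : IsProper Y.hom := by
  obtain ⟨n, i, hi, hiY⟩ := h
  haveI := hi
  haveI : IsProper (CohB1.ProjSpaceOver.toBase n (Spec (CommRingCat.of R))) := BCLib.isProper_toBase _ _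
  exact hiY ▸ inferInstance

/-- Facts on one contraction. -/
theorem IsContr.facts [IsIntegral X.left] (hX : IsProper X.hom) {Γ : Fin r → ArSurf.VertComp R X} {f : X ⟶ Y}
    (h : IsContr Γ f) : IsProper f.left ∧ Surjective f.left ∧ RigidLib.BijApp f.left := by
  obtain ⟨hint, hn, hdim, hflat, hproj, hpt, -, hiso⟩ := h
  haveI := hint
  haveI := isProper_of_projective hproj
  haveI : IsProper (f.left ≫ Y.hom) := by rw [Over.w f]; exact hX
  haveI hpf : IsProper f.left := IsProper.of_comp f.left Y.hom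
  let E : Set X.left := ⋃ i, Set.range (Γ i).ι
  have hE : IsClosed (f.left '' E) := f.left.isClosedMap _
    (isClosed_iUnion_of_finite fun i => (Γ i).ι.isClosedEmbedding.isClosed_range)
  have hη : genericPoint Y.left ∉ f.left '' E := by
    rintro ⟨x, hx, hxe⟩
    obtain ⟨i, c, rfl⟩ := Set.mem_iUnion.1 hx
    obtain ⟨y, hy⟩ := hpt i
    have h1 : f.left ((Γ i).ι c) = y := hy.le ⟨c, rfl⟩
    rw [hxe] at h1
    have hcl : IsClosed (Set.range ((Γ i).ι ≫ f.left)) := by
      haveI := isProper_vertComp (Γ i)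
      exact ((Γ i).ι ≫ f.left).isClosedMap.isClosed_range
    rw [hy, ← h1] at hcl
    have h2 := (genericPoint_spec Y.left).def
    rw [hcl.closure_eq] at h2
    haveI : Subsingleton Y.left := Set.subsingleton_univ_iff.1 (h2 ▸ Set.subsingleton_singleton)
    have h0 := topologicalKrullDim_zero_of_discreteTopology Y.left
    rw [hdim] at h0
    exact absurd h0 (by decide)
  let V : Y.left.Opens := ⟨(f.left '' E)ᶜ, hE.isOpen_compl⟩
  have hV : IsIso (f.left ∣_ V) := hiso V (Set.compl_inter_self _)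
  have hgen : ∃ x, f.left x = genericPoint Y.left := by
    obtain ⟨w, hw⟩ := (f.left ∣_ V).surjective ⟨_, hη⟩
    exact ⟨(f.left ⁻¹ᵁ V).ι w, by rw [← Scheme.Hom.comp_apply, ← morphismRestrict_ι, Scheme.Hom.comp_apply, hw]; rfl⟩
  obtain ⟨x₀, hx₀⟩ := hgen
  refine ⟨hpf, ⟨fun z => ?_⟩, fun O => SurfPtBlow.bijective_app_of_normal f.left ⟨V, ⟨_, hη⟩, hV⟩ hn O⟩
  obtain ⟨w, -, hw⟩ := (f.left.isClosedMap _ isClosed_univ).stableUnderSpecialization
    (hx₀ ▸ genericPoint_specializes z : f.left x₀ ⤳ z) ⟨_, trivial, rfl⟩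
  exact ⟨w, hw⟩

/-- A contraction factors through any other contraction of the same curves. -/
theorem IsContr.exists_factor [IsIntegral X.left] (hX : IsProper X.hom) {Γ : Fin r → ArSurf.VertComp R X}
    {Y₁ Y₂ : Over (Spec (CommRingCat.of R))} {f₁ : X ⟶ Y₁} {f₂ : X ⟶ Y₂} (h₁ : IsContr Γ f₁) (h₂ : IsContr Γ f₂) :
    ∃ g : Y₁ ⟶ Y₂, f₁ ≫ g = f₂ := by
  obtain ⟨hp, hs, hb⟩ := h₁.facts hX
  obtain ⟨hp₂, -, -⟩ := h₂.facts hX
  obtain ⟨hint, hn, hdim, hflat, hproj, hpt, hsat, hiso⟩ := h₁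
  obtain ⟨hint₂, -, hdim₂, hflat₂, hproj₂, hpt₂, -, -⟩ := h₂
  choose y₂ hy₂ using hpt₂
  haveI := isProper_of_projective hproj
  haveI : GeometricallyConnected f₁.left := SteinConn.geometricallyConnected_of_bijApp f₁.left hb
  let E : Set X.left := ⋃ i, Set.range (Γ i).ι
  have hE : IsClosed (f₁.left '' E) := f₁.left.isClosedMap _
    (isClosed_iUnion_of_finite fun i => (Γ i).ι.isClosedEmbedding.isClosed_range)
  have hcol : ∀ x x', f₁.left x = f₁.left x' → f₂.left x = f₂.left x' := by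
    intro x x' hxx
    by_cases hs' : f₁.left x ∈ f₁.left '' E
    · let S : Set X.left := f₁.left ⁻¹' {f₁.left x}
      have hS : _root_.IsPreconnected S := by
        rw [show S = _ from (f₁.left.range_fiberι (f₁.left x)).symm]
        exact isPreconnected_range (f₁.left.fiberι _).continuous
      have hSE : S ⊆ E := fun z hz => hsat.le (show f₁.left z ∈ f₁.left '' E from (Set.mem_singleton_iff.1 hz) ▸ hs')
      let T : Set Y₂.left := Set.range y₂
      have himg : f₂.left '' S ⊆ T := by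
        rintro _ ⟨z, hz, rfl⟩
        obtain ⟨i, c, rfl⟩ := Set.mem_iUnion.1 (hSE hz)
        exact ⟨i, ((hy₂ i).le ⟨c, rfl⟩ : f₂.left ((Γ i).ι c) = y₂ i).symm⟩
      have hclosed : ∀ t ∈ T, IsClosed ({t} : Set Y₂.left) := by
        rintro _ ⟨i, rfl⟩
        haveI := isProper_vertComp (Γ i)
        haveI := hp₂
        rw [← hy₂ i]
        exact ((Γ i).ι ≫ f₂.left).isClosedMap.isClosed_range
      by_contra hne
      obtain ⟨t, -, ht1, ht2⟩ := isPreconnected_closed_iff.1 (hS.image f₂.left f₂.left.continuous.continuousOn)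
        {f₂.left x} (⋃ t ∈ T \ {f₂.left x}, {t}) (hclosed _ (himg ⟨x, rfl, rfl⟩))
        (((Set.finite_range y₂).subset Set.sdiff_subset).isClosed_biUnion fun t ht => hclosed t ht.1)
        (fun t ht => by
          by_cases htx : t = f₂.left x
          · exact Or.inl htx
          · exact Or.inr (Set.mem_biUnion (show t ∈ T \ {f₂.left x} from ⟨himg ht, htx⟩) rfl))
        ⟨f₂.left x, ⟨x, rfl, rfl⟩, rfl⟩
        ⟨f₂.left x', ⟨x', hxx.symm, rfl⟩, Set.mem_biUnion
          (show f₂.left x' ∈ T \ {f₂.left x} from ⟨himg ⟨x', hxx.symm, rfl⟩, fun h => hne h.symm⟩) rfl⟩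
      rw [Set.mem_singleton_iff.1 ht1] at ht2
      simp at ht2
    · let V : Y₁.left.Opens := ⟨(f₁.left '' E)ᶜ, hE.isOpen_compl⟩
      haveI := hiso V (Set.compl_inter_self _)
      have hx' : x' ∈ f₁.left ⁻¹ᵁ V := show f₁.left x' ∈ V by rw [← hxx]; exact hs'
      have h1 : (⟨x, hs'⟩ : (f₁.left ⁻¹ᵁ V).toScheme) = ⟨x', hx'⟩ :=
        (f₁.left ∣_ V).isOpenEmbedding.injective (by
          apply Subtype.ext
          show (V.ι ((f₁.left ∣_ V) _)) = V.ι ((f₁.left ∣_ V) _)
          rw [← Scheme.Hom.comp_apply, morphismRestrict_ι, ← Scheme.Hom.comp_apply, morphismRestrict_ι]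
          exact hxx)
      rw [show x = x' from congrArg Subtype.val h1]
  haveI := isProper_of_projective hproj₂
  let F : X.left ⟶ pullback Y₂.hom Y₁.hom := pullback.lift f₂.left f₁.left (by rw [Over.w f₂, Over.w f₁])
  obtain ⟨k, -, hk⟩ := RigidLib.exists_section_over (q := pullback.snd Y₂.hom Y₁.hom) (f₁.left.isClosedMap) hs hb F
    (pullback.lift_snd _ _ _) ⊤ (fun s _ => by
      obtain ⟨x, hx⟩ := f₁.left.surjective s
      obtain ⟨W, k, hsW, hk⟩ := RigidLib.exists_factor f₁.left.isClosedMap hb f₂.left (s := s) (y := f₂.left x)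
        fun x' hx' => (hcol x x' (hx.trans hx'.symm)).symm
      refine ⟨F x, fun x' hx' => ?_⟩
      have hlift : ∀ (v : X.left) (hv : f₁.left v = s), ∃ v' : (f₁.left ⁻¹ᵁ W).toScheme, (f₁.left ⁻¹ᵁ W).ι v' = v :=
        fun v hv => ⟨⟨v, show f₁.left v ∈ W by rw [hv]; exact hsW⟩, rfl⟩
      let G : W.toScheme ⟶ pullback Y₂.hom Y₁.hom := pullback.lift k W.ι (by
        refine RigidLib.cancel_left (RigidLib.surjective_restrict hs W) (RigidLib.bijApp_restrict hb W) ?_
        rw [← Category.assoc, hk, Category.assoc, Over.w f₂, morphismRestrict_ι_assoc, Over.w f₁])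
      have hG : (f₁.left ∣_ W) ≫ G = (f₁.left ⁻¹ᵁ W).ι ≫ F := by
        apply pullback.hom_ext
        · simp only [G, F, Category.assoc, pullback.lift_fst, hk]
        · simp only [G, F, Category.assoc, pullback.lift_snd, morphismRestrict_ι]
      obtain ⟨v, rfl⟩ := hlift x hx
      obtain ⟨v', rfl⟩ := hlift x' hx'
      rw [← Scheme.Hom.comp_apply, ← hG, ← Scheme.Hom.comp_apply _ F, ← hG, Scheme.Hom.comp_apply,
        Scheme.Hom.comp_apply]
      refine congrArg G (Subtype.ext ?_)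
      show W.ι ((f₁.left ∣_ W) _) = W.ι ((f₁.left ∣_ W) _)
      rw [← Scheme.Hom.comp_apply, morphismRestrict_ι, ← Scheme.Hom.comp_apply, morphismRestrict_ι]
      exact hx'.trans hx.symm)
  let g : Y₁.left ⟶ Y₂.left := Y₁.left.topIso.inv ≫ k ≫ pullback.fst Y₂.hom Y₁.hom
  have hg : f₁.left ≫ g = f₂.left := by
    have htop : X.left.topIso.inv ≫ (f₁.left ∣_ ⊤) = f₁.left ≫ Y₁.left.topIso.inv := by
      rw [← cancel_mono Y₁.left.topIso.hom, Category.assoc, Category.assoc, Iso.inv_hom_id, Category.comp_id]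
      show X.left.topIso.inv ≫ (f₁.left ∣_ ⊤) ≫ (⊤ : Y₁.left.Opens).ι = f₁.left
      rw [morphismRestrict_ι]
      exact X.left.topIso.inv_hom_id_assoc f₁.left
    show f₁.left ≫ Y₁.left.topIso.inv ≫ k ≫ pullback.fst Y₂.hom Y₁.hom = f₂.left
    rw [← Category.assoc f₁.left, ← htop, Category.assoc, reassoc_of% hk]
    simp only [F, pullback.lift_fst]
    exact X.left.topIso.inv_hom_id_assoc f₂.left
  refine ⟨Over.homMk g (RigidLib.cancel_left hs hb ?_), Over.OverMorphism.ext hg⟩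
  rw [← Category.assoc, hg, Over.w f₂, Over.w f₁]

/-- **Contractions are unique up to a unique isomorphism.** -/
theorem IsContr.unique [IsIntegral X.left] (hX : Neron.IsProjectiveOver R X) {Γ : Fin r → ArSurf.VertComp R X}
    {Y₁ Y₂ : Over (Spec (CommRingCat.of R))} {f₁ : X ⟶ Y₁} {f₂ : X ⟶ Y₂} (h₁ : IsContr Γ f₁) (h₂ : IsContr Γ f₂) :
    (∃! g : Y₁ ⟶ Y₂, f₁ ≫ g = f₂) ∧ ∀ g : Y₁ ⟶ Y₂, f₁ ≫ g = f₂ → IsIso g := by
  have hp := isProper_of_projective hX
  obtain ⟨g, hg⟩ := h₁.exists_factor hp h₂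
  obtain ⟨g', hg'⟩ := h₂.exists_factor hp h₁
  have huniq : ∀ {A B : Over (Spec (CommRingCat.of R))} {f : X ⟶ A} (_ : IsContr Γ f) {a b : A ⟶ B},
      f ≫ a = f ≫ b → a = b := fun {A B f} hf {a b} hab => by
    obtain ⟨-, hs, hb⟩ := hf.facts hp
    exact Over.OverMorphism.ext (RigidLib.cancel_left hs hb (congrArg (fun m => m.left) hab))
  refine ⟨⟨g, hg, fun a ha => huniq h₁ (ha.trans hg.symm)⟩, fun a ha => ⟨g', ?_, ?_⟩⟩
  · exact huniq h₁ (by rw [reassoc_of% ha, hg', Category.comp_id])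
  · exact huniq h₂ (by rw [reassoc_of% hg', ha, Category.comp_id])

end Groth.Agent.CastLib
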