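import Groth.Agent.CastLib.Dedekind

/-!
# Isomorphisms of generic fibres of relatively minimal surfaces extend uniquely
-/

set_option autoImplicit false
set_option backward.isDefEq.respectTransparency false
set_option linter.style.haveILetI false
set_option maxHeartbeats 1000000

universe u

open CategoryTheory CategoryTheory.Limits AlgebraicGeometry TopologicalSpace

noncomputable section

namespace Groth.Agent.CastLib

open Groth.Agent.SurfPtBlow

variable {R : Type u} [CommRing R] [IsDedekindDomain R] {X₁ X₂ : Over (Spec (CommRingCat.of R))}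

/-- The map of local rings at a point with prescribed image. -/
def ptMap {P S : Scheme.{u}} (m : P ⟶ S) (a : P) {y : S} (h : m a = y) : S.presheaf.stalk y ⟶ P.presheaf.stalk a :=
  S.presheaf.stalkSpecializes (specializes_of_eq h) ≫ m.stalkMap a

theorem fromSpecStalk_ptMap {P S : Scheme.{u}} (m : P ⟶ S) (a : P) {y : S} (h : m a = y) :
    Spec.map (ptMap m a h) ≫ S.fromSpecStalk y = P.fromSpecStalk a ≫ m := by
  rw [ptMap, Spec.map_comp, Category.assoc, Scheme.SpecMap_stalkSpecializes_fromSpecStalk,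
    Scheme.SpecMap_stalkMap_fromSpecStalk]

theorem isIso_ptMap {P S : Scheme.{u}} (m : P ⟶ S) (a : P) {y : S} (h : m a = y) [IsIso (m.stalkMap a)] :
    IsIso (ptMap m a h) := by
  haveI : IsIso (S.presheaf.stalkSpecializes (specializes_of_eq h)) :=
    ⟨S.presheaf.stalkSpecializes (specializes_of_eq h.symm), by simp, by simp⟩
  exact IsIso.comp_isIso' inferInstance inferInstance

/-- A point of the generic fibre over the generic point. -/
theorem exists_genPoint (hX : ArSurf.IsArithSurface R X₁) :
    haveI := hX.2.1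
    ∃ a : ((Neron.genericFibre R).obj X₁).left, pullback.fst X₁.hom (Neron.genPt R) a = genericPoint X₁.left := by
  haveI := hX.2.1
  exact (range_fst X₁).ge (genericPoint_mem_genSet hX)

theorem isReduced_generic (hX : ArSurf.IsArithSurface R X₁) :
    IsReduced (pullback X₁.hom (Neron.genPt R) : Scheme) := by
  haveI := hX.2.1
  haveI : ∀ a : (pullback X₁.hom (Neron.genPt R) : Scheme),
      _root_.IsReduced ((pullback X₁.hom (Neron.genPt R) : Scheme).presheaf.stalk a) := fun a => by
    haveI := isIso_stalkMap_fst X₁ a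
    exact isReduced_of_injective (inv ((pullback.fst X₁.hom (Neron.genPt R)).stalkMap a)).hom
      (ConcreteCategory.bijective_of_isIso (inv ((pullback.fst X₁.hom (Neron.genPt R)).stalkMap a))).1
  exact isReduced_of_isReduced_stalk _

/-- Morphisms out of an arithmetic surface are determined by their generic fibres. -/
theorem ext_generic (h₁ : ArSurf.IsArithSurface R X₁) (h₂ : ArSurf.IsArithSurface R X₂) (f f' : X₁ ⟶ X₂)
    (h : (Neron.genericFibre R).map f = (Neron.genericFibre R).map f') : f = f' := by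
  haveI := h₁.2.1
  haveI := (arSurf_facts h₂).1
  obtain ⟨a, ha⟩ := exists_genPoint h₁
  haveI : IsDominant (pullback.fst X₁.hom (Neron.genPt R)) := ⟨by
    exact (dense_iff_closure_eq.2 (genericPoint_spec X₁.left).def).mono (Set.singleton_subset_iff.2 ⟨a, ha⟩)⟩
  refine Over.OverMorphism.ext (ext_of_isDominant_of_isSeparated X₂.hom ((Over.w f).trans (Over.w f').symm)
    (pullback.fst X₁.hom (Neron.genPt R)) ?_)
  rw [← genMap_fst f, h, genMap_fst f']

/-- Isomorphisms of generic fibres extend to morphisms. -/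
theorem exists_extend_generic (h₁ : ArSurf.IsArithSurface R X₁) (h₂ : ArSurf.IsArithSurface R X₂)
    (m₂ : Neron.IsRelMinimalRegularModel R X₂)
    (hH : ¬ IsField R → Nontrivial (Coh.HH ((Neron.genericFibre R).obj X₂).left (Coh.structureModule _) 1))
    (φ : (Neron.genericFibre R).obj X₁ ≅ (Neron.genericFibre R).obj X₂) :
    ∃ f : X₁ ⟶ X₂, (Neron.genericFibre R).map f = φ.hom := by
  let q₁ := pullback.fst X₁.hom (Neron.genPt R)
  let q₂ := pullback.fst X₂.hom (Neron.genPt R)
  let φl : (pullback X₁.hom (Neron.genPt R) : Scheme) ⟶ pullback X₂.hom (Neron.genPt R) := φ.hom.left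
  have hφw : φl ≫ pullback.snd X₂.hom (Neron.genPt R) = pullback.snd X₁.hom (Neron.genPt R) := Over.w φ.hom
  let m : (pullback X₁.hom (Neron.genPt R) : Scheme) ⟶ X₂.left := φl ≫ q₂
  have hm : m ≫ X₂.hom = q₁ ≫ X₁.hom := by
    rw [Category.assoc, pullback.condition, reassoc_of% hφw, pullback.condition]
  suffices H : ∃ b : X₁.left ⟶ X₂.left, b ≫ X₂.hom = X₁.hom ∧ q₁ ≫ b = m by
    obtain ⟨b, hb, hqb⟩ := H
    refine ⟨Over.homMk b hb, Over.OverMorphism.ext (pullback.hom_ext ((genMap_fst _).trans hqb) ?_)⟩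
    exact (Over.w ((Neron.genericFibre R).map (Over.homMk b hb))).trans hφw.symm
  by_cases hR : IsField R
  · haveI : IsIso (Neron.genPt R) := by
      haveI : IsIso (CommRingCat.ofHom (algebraMap R (FractionRing R))) :=
        (ConcreteCategory.isIso_iff_bijective _).2 ⟨IsFractionRing.injective R (FractionRing R), fun x => by
          obtain ⟨a, b, hb, rfl⟩ := IsFractionRing.div_surjective (A := R) x
          obtain ⟨c, hc⟩ := hR.mul_inv_cancel (nonZeroDivisors.ne_zero hb)
          refine ⟨a * c, ?_⟩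
          show algebraMap R (FractionRing R) (a * c) = _
          rw [eq_div_iff fun h => nonZeroDivisors.ne_zero hb ((map_eq_zero_iff _ (IsFractionRing.injective R
            (FractionRing R))).1 h), ← map_mul, mul_assoc, mul_comm c, hc, mul_one]⟩
      infer_instance
    exact ⟨inv q₁ ≫ m, by rw [Category.assoc, hm, IsIso.inv_hom_id_assoc], IsIso.hom_inv_id_assoc q₁ m⟩
  haveI := h₁.2.1
  haveI := h₂.2.1
  haveI := (arSurf_facts h₁).1
  haveI := (arSurf_facts h₁).2
  haveI := (arSurf_facts h₂).1
  haveI := (arSurf_facts h₂).2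
  obtain ⟨a, ha⟩ := exists_genPoint h₁
  obtain ⟨b₀, hb₀⟩ := exists_genPoint h₂
  have hma : m a = genericPoint X₂.left := by
    haveI : IsIso φl := inferInstanceAs (IsIso φ.hom.left)
    obtain ⟨a', ha'⟩ := φl.homeomorph.surjective b₀
    have h1 : a ⤳ a' := q₁.isEmbedding.isInducing.specializes_iff.1 (ha.symm ▸ genericPoint_specializes _)
    have h2 := h1.map m.continuous
    have h3 : m a' = genericPoint X₂.left := by
      show q₂ (φl a') = _
      rw [show φl a' = b₀ from ha', hb₀]
    rw [h3] at h2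
    exact (h2.antisymm (genericPoint_specializes _)).eq
  haveI := isIso_stalkMap_fst X₁ a
  haveI := isIso_ptMap q₁ a ha
  haveI : IsIso (m.stalkMap a) := by
    haveI : IsIso φl := inferInstanceAs (IsIso φ.hom.left)
    haveI := isIso_stalkMap_fst X₂ (φl a)
    rw [Scheme.Hom.stalkMap_comp]
    infer_instance
  haveI := isIso_ptMap m a hma
  let θ : X₂.left.functionField ⟶ X₁.left.functionField := ptMap m a hma ≫ inv (ptMap q₁ a ha)
  have hθ : Spec.map θ ≫ X₂.left.fromSpecStalk (genericPoint X₂.left) =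
      Spec.map (inv (ptMap q₁ a ha)) ≫ (pullback X₁.hom (Neron.genPt R)).fromSpecStalk a ≫ m := by
    rw [Spec.map_comp, Category.assoc]
    exact congrArg (Spec.map (inv (ptMap q₁ a ha)) ≫ ·) (fromSpecStalk_ptMap m a hma)
  have hq₁ : Spec.map (inv (ptMap q₁ a ha)) ≫ (pullback X₁.hom (Neron.genPt R)).fromSpecStalk a ≫ q₁ =
      X₁.left.fromSpecStalk (genericPoint X₁.left) := by
    rw [← fromSpecStalk_ptMap q₁ a ha, ← Spec.map_comp_assoc, IsIso.hom_inv_id, Spec.map_id, Category.id_comp]
  haveI : IsIso θ := IsIso.comp_isIso' inferInstance inferInstance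
  obtain ⟨b, hb, hbK⟩ := exists_extend_global h₂.1 h₂.2.2.1.le (g := X₂.hom)
    (goodTop_of_generic hR h₂ (IsPullback.of_hasPullback X₂.hom (Neron.genPt R)) (hH hR))
    (fun C ι _ => not_isExcCurve_of_relMin hR h₂ m₂ ι) h₁.1 h₁.2.2.1.le X₁.hom θ (by
      rw [← Category.assoc, hθ, Category.assoc, Category.assoc, hm, reassoc_of% hq₁])
  refine ⟨b, hb, ?_⟩
  haveI := isReduced_generic h₁
  haveI : IsDominant ((pullback X₁.hom (Neron.genPt R)).fromSpecStalk a) := ⟨by
    have hd : Dense ({a} : Set (pullback X₁.hom (Neron.genPt R) : Scheme)) := dense_iff_closure_eq.2 ?_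
    · exact hd.mono (Set.singleton_subset_iff.2 ⟨_, Scheme.fromSpecStalk_closedPoint⟩)
    exact Set.eq_univ_of_forall fun z => specializes_iff_mem_closure.1
      (q₁.isEmbedding.isInducing.specializes_iff.1 (ha.symm ▸ genericPoint_specializes _))⟩
  refine ext_of_isDominant_of_isSeparated X₂.hom (by rw [Category.assoc, hb, hm])
    ((pullback X₁.hom (Neron.genPt R)).fromSpecStalk a) ?_
  rw [← reassoc_of% (fromSpecStalk_ptMap q₁ a ha), hbK, hθ, ← Category.assoc (Spec.map (ptMap q₁ a ha)),
    ← Spec.map_comp, IsIso.inv_hom_id, Spec.map_id, Category.id_comp]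

/-- **Uniqueness of relatively minimal models.** -/
theorem existsUnique_extend (h₁ : ArSurf.IsArithSurface R X₁) (h₂ : ArSurf.IsArithSurface R X₂)
    (m₁ : Neron.IsRelMinimalRegularModel R X₁) (m₂ : Neron.IsRelMinimalRegularModel R X₂)
    (hH : Nontrivial (Coh.HH ((Neron.genericFibre R).obj X₁).left (Coh.structureModule _) 1))
    (φ : (Neron.genericFibre R).obj X₁ ≅ (Neron.genericFibre R).obj X₂) :
    ∃! f : X₁ ⟶ X₂, IsIso f ∧ (Neron.genericFibre R).map f = φ.hom := by
  have hH₂ : ¬ IsField R → Nontrivial (Coh.HH ((Neron.genericFibre R).obj X₂).left (Coh.structureModule _) 1) := by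
    intro hR
    by_contra hn
    rw [not_nontrivial_iff_subsingleton] at hn
    have sq : IsPullback φ.hom.left ((Neron.genericFibre R).obj X₁).hom ((Neron.genericFibre R).obj X₂).hom (𝟙 _) :=
      IsPullback.of_horiz_isIso ⟨by rw [Category.comp_id]; exact Over.w φ.hom⟩
    haveI : IsProper ((Neron.genericFibre R).obj X₂).hom := by
      haveI := (arSurf_facts h₂).1
      exact MorphismProperty.pullback_snd X₂.hom (Neron.genPt R) inferInstance
    refine not_subsingleton_iff_nontrivial.2 hH (FibreVanishQC.subsingleton_HH_baseChange sq 1 (fun s => ?_) hn)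
    exact dim_generic_le hR h₂ s
  obtain ⟨f, hf⟩ := exists_extend_generic h₁ h₂ m₂ hH₂ φ
  obtain ⟨f', hf'⟩ := exists_extend_generic h₂ h₁ m₁ (fun _ => hH) φ.symm
  refine ⟨f, ⟨⟨f', ext_generic h₁ h₁ _ _ ?_, ext_generic h₂ h₂ _ _ ?_⟩, hf⟩, fun g hg => ext_generic h₁ h₂ g f
    (hg.2.trans hf.symm)⟩
  · rw [Functor.map_comp, hf, hf', CategoryTheory.Functor.map_id]; exact φ.hom_inv_id
  · rw [Functor.map_comp, hf, hf', CategoryTheory.Functor.map_id]; exact φ.inv_hom_id

end Groth.Agent.CastLib
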