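import Groth.Agent.CastLib.Global
import Groth.Agent.CastLib.Arith
import Groth.Agent.TwistShriek.ZGood
import Groth.Agent.FibreVanishQC.BaseChange
import Groth.Agent.NormalSch.Basic
import Groth.Agent.S17960
import Groth.Prelude.Def_FGA

/-!
# Relatively minimal surfaces over Dedekind rings: uniqueness
-/

set_option autoImplicit false
set_option backward.isDefEq.respectTransparency false
set_option linter.style.haveILetI false
set_option maxHeartbeats 1000000

universe u

open CategoryTheory CategoryTheory.Limits AlgebraicGeometry TopologicalSpace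

noncomputable section

namespace Groth.Agent.CastLib

open Groth.Agent.SurfPtBlow

attribute [local instance 10] specializationOrder

variable {R : Type u} [CommRing R] [IsDedekindDomain R] {X : Over (Spec (CommRingCat.of R))}

omit [IsDedekindDomain R] in
theorem asIdeal_genericPoint [IsDomain R] :
    (genericPoint (Spec (CommRingCat.of R)) : PrimeSpectrum R).asIdeal = ⊥ :=
  le_bot_iff.1 ((PrimeSpectrum.le_iff_specializes _ (⟨⊥, Ideal.isPrime_bot⟩ : PrimeSpectrum R)).2
    (genericPoint_specializes _))

theorem apply_genericPoint (hX : ArSurf.IsArithSurface R X) :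
    haveI := hX.2.1; X.hom (genericPoint X.left) = genericPoint (Spec (CommRingCat.of R)) :=
  genericPoint_mem_genSet hX

theorem exists_isMaximal_ne_genericPoint (hR : ¬ IsField R) :
    ∃ m : Spec (CommRingCat.of R), IsClosed ({m} : Set (Spec (CommRingCat.of R))) ∧
      m ≠ genericPoint (Spec (CommRingCat.of R)) := by
  obtain ⟨M, hM⟩ := Ideal.exists_maximal R
  refine ⟨(⟨M, hM.isPrime⟩ : PrimeSpectrum R), (PrimeSpectrum.isClosed_singleton_iff_isMaximal _).2 hM, fun h => ?_⟩
  exact Ring.ne_bot_of_isMaximal_of_not_isField hM hR ((congrArg PrimeSpectrum.asIdeal h).trans asIdeal_genericPoint)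

/-- Schemes lying in one fibre of an arithmetic surface are at most one dimensional. -/
theorem dim_le_of_fibre (hR : ¬ IsField R) (hX : ArSurf.IsArithSurface R X) {F : Scheme.{u}} (e : F ⟶ X.left)
    [IsPreimmersion e] (y : Spec (CommRingCat.of R)) (he : ∀ z, X.hom (e z) = y) :
    topologicalKrullDim F ≤ ((1 : ℕ) : WithBot ℕ∞) := by
  haveI := hX.2.1
  haveI := (arSurf_facts hX).1
  have hmono : StrictMono e := fun a b h => by
    rw [lt_iff_le_not_ge] at h ⊢
    simp only [Scheme.le_iff_specializes, e.isEmbedding.isInducing.specializes_iff] at h ⊢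
    exact h
  have h2 : Order.krullDim X.left ≤ 2 := by
    rw [← ASp.topologicalKrullDim_eq_krullDim]; exact hX.2.2.1.le
  rw [ASp.topologicalKrullDim_eq_krullDim]
  refine iSup_le fun l => ?_
  obtain ⟨L, hL⟩ : ∃ L : LTSeries X.left, L.length = l.length + 1 := by
    by_cases hs : y = genericPoint (Spec (CommRingCat.of R))
    · obtain ⟨m, -, hm⟩ := exists_isMaximal_ne_genericPoint hR
      let z := (l.map e hmono).head
      obtain ⟨w, hw, hwm⟩ : m ∈ X.hom '' closure {z} := by
        refine (genericPoint_specializes m).mem_closed (X.hom.isClosedMap _ isClosed_closure)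
          ⟨z, subset_closure rfl, ?_⟩
        rw [← hs]
        exact he _
      have hzw : z ⤳ w := specializes_iff_mem_closure.2 hw
      have hlt : w < z := lt_of_le_not_ge (Scheme.le_iff_specializes.2 hzw) fun h => hm (by
        rw [← hwm, ((Scheme.le_iff_specializes.1 h).antisymm hzw).eq, ← hs]
        exact he _)
      exact ⟨(l.map e hmono).cons w hlt, RelSeries.cons_length _ _ _⟩
    · let z := (l.map e hmono).last
      have hlt : z < genericPoint X.left :=
        lt_of_le_not_ge (Scheme.le_iff_specializes.2 (genericPoint_specializes z)) fun h => hs (by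
          rw [← he l.last, ← apply_genericPoint hX]
          exact congrArg X.hom ((Scheme.le_iff_specializes.1 h).antisymm (genericPoint_specializes z)).eq)
      exact ⟨(l.map e hmono).snoc (genericPoint X.left) hlt, RelSeries.snoc_length _ _ _⟩
  have h3 := (Order.LTSeries.length_le_krullDim L).trans h2
  rw [hL] at h3
  have h4 : l.length + 1 ≤ 2 := by exact_mod_cast h3
  exact_mod_cast (show l.length ≤ 1 by omega)

/-- The fibres of an arithmetic surface are at most one dimensional. -/
theorem dim_fibre_le (hR : ¬ IsField R) (hX : ArSurf.IsArithSurface R X) (U : (Spec (CommRingCat.of R)).Opens)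
    (s : U.toScheme) : topologicalKrullDim ↥((X.hom ∣_ U).fiber s) ≤ ((1 : ℕ) : WithBot ℕ∞) := by
  let f := X.hom ∣_ U
  refine dim_le_of_fibre hR hX (f.fiberι s ≫ (X.hom ⁻¹ᵁ U).ι) (U.ι s) fun z => ?_
  have h : f (f.fiberι s z) = s := (Set.ext_iff.1 (f.range_fiberι s) _).1 ⟨z, rfl⟩
  conv_rhs => rw [← h]
  exact congrArg (fun m => m (f.fiberι s z)) (morphismRestrict_ι X.hom U).symm

/-- The generic fibre of an arithmetic surface is at most one dimensional. -/
theorem dim_generic_le (hR : ¬ IsField R) (hX : ArSurf.IsArithSurface R X) (s : Spec (CommRingCat.of (FractionRing R))) :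
    topologicalKrullDim ↥(((Neron.genericFibre R).obj X).hom.fiber s) ≤ ((1 : ℕ) : WithBot ℕ∞) :=
  dim_le_of_fibre hR hX ((pullback.snd X.hom (Neron.genPt R)).fiberι s ≫ pullback.fst X.hom (Neron.genPt R))
    (genericPoint (Spec (CommRingCat.of R))) fun z => (range_fst X).le ⟨_, rfl⟩

/-- Over a base which is not a field a relatively minimal surface has no exceptional curves. -/
theorem not_isExcCurve_of_relMin (hR : ¬ IsField R) (hX : ArSurf.IsArithSurface R X)
    (hmin : Neron.IsRelMinimalRegularModel R X) {C : Scheme.{u}} (ι : C ⟶ X.left) [IsClosedImmersion ι] :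
    ¬ Models.IsExcCurve ι := fun hE => by
  haveI := hX.2.1
  haveI := (arSurf_facts hX).1
  haveI := (arSurf_facts hX).2
  obtain ⟨n, i, hi, -⟩ := hX.2.2.2.2
  haveI := hi
  haveI : IsAffineHom i := inferInstance
  obtain ⟨P, hP⟩ := TwistShriek.exists_isAmple_projSpaceOver n (Spec (CommRingCat.of R))
  obtain ⟨Y, hYi, hYn, g, hg, t, ht, y, hy, hcomm, -, hreg, -, hO, hfib, hiso, M, hM⟩ :=
    exists_contraction hX.1 hX.2.2.1.le X.hom (AmpleLib.isAmple_pullback i hP) ι hE
  haveI := hYi
  haveI := hYn
  haveI := hg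
  haveI := ht
  haveI := hiso
  haveI : IsDominant t := by
    refine ⟨?_⟩
    have h1 : t (g (genericPoint X.left)) = genericPoint (Spec (CommRingCat.of R)) := by
      rw [← Scheme.Hom.comp_apply, hcomm]; exact apply_genericPoint hX
    exact (dense_iff_closure_eq.2 (genericPoint_spec (Spec (CommRingCat.of R))).def).mono
      (Set.singleton_subset_iff.2 ⟨_, h1⟩)
  have hty : t y ≠ genericPoint (Spec (CommRingCat.of R)) := fun h => by
    obtain ⟨m, -, hm⟩ := exists_isMaximal_ne_genericPoint hR
    have hc : IsClosed ({t y} : Set (Spec (CommRingCat.of R))) := by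
      rw [← Set.image_singleton]
      exact t.isClosedMap _ hy
    exact hm ((h ▸ hc).closure_eq.le (by rw [(genericPoint_spec (Spec (CommRingCat.of R))).def]; trivial))
  let U₀ : Y.Opens := ⟨{y}ᶜ, hy.isOpen_compl⟩
  let f : X ⟶ Over.mk t := Over.homMk g hcomm
  have hf : IsIso ((Neron.genericFibre R).map f) := by
    let q := pullback.fst t (Neron.genPt R)
    let l : pullback t (Neron.genPt R) ⟶ U₀.toScheme := IsOpenImmersion.lift U₀.ι q (by
      rw [Scheme.Opens.range_ι]
      rintro _ ⟨a, rfl⟩ (hzy : q a = y)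
      exact hty (hzy ▸ ((range_fst (Over.mk t)).le ⟨a, rfl⟩ : t (q a) = _)))
    let h := ((Neron.genericFibre R).map f).left
    have h1 : IsPullback (pullback.fst X.hom (Neron.genPt R)) h g q :=
      IsPullback.of_bot (h₁₁ := pullback.fst X.hom (Neron.genPt R))
        (by
          have e1 : h ≫ pullback.snd t (Neron.genPt R) = pullback.snd X.hom (Neron.genPt R) :=
            Over.w ((Neron.genericFibre R).map f)
          rw [e1, hcomm]
          exact IsPullback.of_hasPullback X.hom (Neron.genPt R))
        (genMap_fst f).symm (IsPullback.of_hasPullback t (Neron.genPt R))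
    have h2 := IsPullback.of_right' (h₂₁ := l)
      ((IsOpenImmersion.lift_fac U₀.ι q _).symm ▸ h1) (isPullback_morphismRestrict g U₀).flip
    haveI : IsIso h := (MorphismProperty.isomorphisms Scheme).of_isPullback h2 (show IsIso (g ∣_ U₀) from hiso)
    haveI : IsIso ((Over.forget _).map ((Neron.genericFibre R).map f)) := ‹IsIso h›
    exact isIso_of_reflects_iso _ (Over.forget _)
  haveI : IsIso f := hmin.2.2.2 (Over.mk t) hreg (haveI : IsProper (Over.mk t).hom := ht
    isProjectiveOver_of_isAmple (Over.mk t) hM) (flat_of_dominant t) f hf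
  haveI : IsIso g := (inferInstance : IsIso f.left)
  obtain ⟨-, k, _, e, -⟩ := id hE
  haveI : Subsingleton C := ⟨fun a b => ι.isClosedEmbedding.injective (g.homeomorph.injective
    ((hfib.ge ⟨a, rfl⟩ : g (ι a) = y).trans (hfib.ge ⟨b, rfl⟩ : g (ι b) = y).symm))⟩
  haveI : Subsingleton (CohB1.ProjSpace 1 k) := e.hom.homeomorph.injective.subsingleton
  have h0 := topologicalKrullDim_zero_of_discreteTopology (CohB1.ProjSpace 1 k)
  haveI := isIntegral_P1 (k := k)
  rw [dim_P1] at h0
  exact absurd h0 (by decide)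

/-- The global functions form a Dedekind domain and `H¹` has positive rank over them. -/
theorem goodTop_of_generic (hR : ¬ IsField R) (hX : ArSurf.IsArithSurface R X) {P : Scheme.{u}}
    {q : P ⟶ X.left} {π : P ⟶ Spec (CommRingCat.of (FractionRing R))} (sq : IsPullback q π X.hom (Neron.genPt R))
    (hH : Nontrivial (Coh.HH P (Coh.structureModule P) 1)) : GoodTop X.left := by
  haveI := hX.2.1
  haveI := (arSurf_facts hX).1
  haveI := (arSurf_facts hX).2
  haveI : X.left.IsSeparated := ⟨by
    rw [← terminal.comp_from X.hom]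
    infer_instance⟩
  haveI : Nonempty (⊤ : X.left.Opens) := ⟨⟨genericPoint X.left, trivial⟩⟩
  haveI : IsDomain Γ(X.left, ⊤) := inferInstance
  let α : R →+* Γ(X.left, ⊤) := ((Scheme.ΓSpecIso (CommRingCat.of R)).inv ≫ X.hom.appTop).hom
  letI := α.toAlgebra
  haveI : Algebra.IsIntegral R Γ(X.left, ⊤) := ⟨fun v => by
    have hi : α.IsIntegral := RingHom.IsIntegral.trans _ _
      (RingHom.isIntegral_of_surjective _ (ConcreteCategory.bijective_of_isIso (Scheme.ΓSpecIso (CommRingCat.of R)).inv).2)
      (isIntegral_appTop_of_universallyClosed X.hom)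
    exact hi v⟩
  let D : R → (Spec (CommRingCat.of R)).Opens := fun r =>
    (Spec (CommRingCat.of R)).basicOpen ((Scheme.ΓSpecIso (CommRingCat.of R)).inv r)
  have hD : ∀ r, X.hom ⁻¹ᵁ D r = X.left.basicOpen (α r) := fun r => Scheme.preimage_basicOpen X.hom _
  have hgenD : ∀ r, r ≠ 0 → genericPoint (Spec (CommRingCat.of R)) ∈ D r := fun r hr => by
    show _ ∈ (Spec (CommRingCat.of R)).basicOpen _
    rw [basicOpen_eq_of_affine]
    show r ∉ (genericPoint (Spec (CommRingCat.of R)) : PrimeSpectrum R).asIdeal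
    rw [asIdeal_genericPoint]
    exact fun h => hr (Ideal.mem_bot.1 h)
  have hα : Function.Injective α := by
    refine (injective_iff_map_eq_zero α).2 fun r hr => by_contra fun hr0 => ?_
    have h : genericPoint X.left ∈ X.hom ⁻¹ᵁ D r :=
      show X.hom (genericPoint X.left) ∈ D r from (apply_genericPoint hX).symm ▸ hgenD r hr0
    rw [hD, hr, Scheme.basicOpen_zero] at h
    exact h
  refine ⟨?_, fun hF => hR (isField_of_isIntegral_of_isField (R := R) hα hF), ?_⟩
  · haveI := S17960.h9_noeth R X.hom
    haveI := NormalSch.isIntegrallyClosed_section (fun x => by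
      haveI := hX.1 x
      exact PurityLib.isIntegrallyClosed_of_regular _ : Pi1.IsNormalScheme X.left) (⊤ : X.left.Opens)
    haveI : Ring.DimensionLEOne Γ(X.left, ⊤) := ⟨fun {p} hp hpp => @isMaximal_of_ne_bot R _ _ X hX p hpp hp⟩
    exact { }
  intro t ht hsub
  -- a constant divisible by `t`
  obtain ⟨r, hrt, hr⟩ : ∃ r, α r ∈ Ideal.span {t} ∧ r ≠ 0 := by
    by_contra h
    push Not at h
    exact ht (Ideal.span_singleton_eq_bot.1 (Ideal.eq_bot_of_comap_eq_bot (R := R)
      ((Submodule.eq_bot_iff _).2 fun r hr => h r hr)))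
  obtain ⟨c, hc⟩ := Ideal.mem_span_singleton.1 hrt
  obtain ⟨ψ, hψ, -, hker⟩ := HLocLib.exists_locMap t (Coh.structureModule X.left) 1
  obtain ⟨ψ', hψ', hsurj, -⟩ := HLocLib.exists_locMap (α r) (Coh.structureModule X.left) 1
  have hs : Subsingleton (Coh.HHon X.left (Coh.structureModule X.left) (X.left.basicOpen (α r)) 1) := by
    refine subsingleton_of_forall_eq 0 fun y => ?_
    obtain ⟨n, x, hx⟩ := hsurj y
    obtain ⟨m, hm⟩ := hker x (@Subsingleton.elim _ hsub _ _)
    have h1 : ((α r) ^ m : Γ(X.left, ⊤)) • x = 0 := by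
      rw [hc, mul_pow, mul_comm, mul_smul, hm, smul_zero]
    have h2 := congrArg ψ' h1
    rw [hψ', hx, map_zero, smul_smul, ← map_mul, ← pow_add, map_pow] at h2
    exact ((HLocLib.isUnit_resFun (α r)).pow _).smul_eq_zero.1 h2
  rw [← hD] at hs
  have hV : Subsingleton (Coh.HH (X.hom ⁻¹ᵁ D r).toScheme (Coh.structureModule (X.hom ⁻¹ᵁ D r).toScheme) 1) :=
    CurveLib.subsingleton_HH_iso (DCohLib.restrictUnit (X.hom ⁻¹ᵁ D r).ι) 1 hs
  haveI : IsAffine (D r).toScheme := (isAffineOpen_top (Spec (CommRingCat.of R))).basicOpen _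
  let g : Spec (CommRingCat.of (FractionRing R)) ⟶ (D r).toScheme := IsOpenImmersion.lift (D r).ι (Neron.genPt R) (by
    rw [Scheme.Opens.range_ι, range_genPt, Set.singleton_subset_iff]
    exact hgenD r hr)
  have hgfac : g ≫ (D r).ι = Neron.genPt R := IsOpenImmersion.lift_fac _ _ _
  let q' : P ⟶ (X.hom ⁻¹ᵁ D r).toScheme := IsOpenImmersion.lift (X.hom ⁻¹ᵁ D r).ι q (by
    rw [Scheme.Opens.range_ι]
    rintro _ ⟨a, rfl⟩
    show X.hom (q a) ∈ D r
    rw [← Scheme.Hom.comp_apply, sq.w, Scheme.Hom.comp_apply, genPt_apply]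
    exact hgenD r hr)
  have hq'fac : q' ≫ (X.hom ⁻¹ᵁ D r).ι = q := IsOpenImmersion.lift_fac _ _ _
  have sq' : IsPullback q' π (X.hom ∣_ D r) g := by
    refine IsPullback.of_right ?_ ?_ (isPullback_morphismRestrict X.hom (D r)).flip
    · rw [hq'fac, hgfac]; exact sq
    · rw [← cancel_mono (D r).ι, Category.assoc, morphismRestrict_ι, reassoc_of% hq'fac, sq.w, Category.assoc,
        hgfac]
  exact not_subsingleton_iff_nontrivial.2 hH
    (FibreVanishQC.subsingleton_HH_baseChange sq' 1 (fun s => dim_fibre_le hR hX (D r) s) hV)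

end Groth.Agent.CastLib
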