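import Groth.Agent.AmpleEmb.FibreAmple
import Groth.Agent.AVLib.DivSection
import Groth.Agent.AmpleEmb.Inverse
import Groth.Agent.CurveLib.Components
import Groth.Agent.SurfPtBlow.CartierPart
import Groth.Agent.SurfPtBlow.Factor

/-!
# Regular proper surfaces over local rings are projective
-/

set_option autoImplicit false
set_option backward.isDefEq.respectTransparency false
set_option linter.style.haveILetI false
set_option maxHeartbeats 1000000

universe u

open CategoryTheory CategoryTheory.Limits AlgebraicGeometry TopologicalSpace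
open Groth.Agent.AmpleLib Groth.Agent.SurfPtBlow

noncomputable section

namespace Groth.Agent.CastLib

variable {X : Scheme.{u}} [IsIntegral X]

/-- A proper closed subset of a surface has finitely many non closed points. -/
theorem finite_not_closed [AlgebraicGeometry.IsNoetherian X] (hdX : topologicalKrullDim X ≤ 2) {T : Set X}
    (hT : IsClosed T) (hη : genericPoint X ∉ T) : {z | z ∈ T ∧ ¬ IsClosed ({z} : Set X)}.Finite := by
  obtain ⟨S, hS, hSc, hSi, hSe⟩ := NoetherianSpace.exists_finite_set_isClosed_irreducible (α := X) hT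
  refine (hS.biUnion fun C hC => (Set.Subsingleton.finite (s := {ξ | ξ ∈ C ∧ ¬ IsClosed ({ξ} : Set X)}) ?_)).subset
    fun ξ hξ => by
      obtain ⟨C, hC, hξC⟩ := Set.mem_sUnion.1 (hSe ▸ hξ.1)
      exact Set.mem_biUnion hC ⟨hξC, hξ.2⟩
  obtain ⟨g, hg⟩ := QuasiSober.sober (hSi C hC) (hSc C hC)
  rintro a ⟨ha, ha'⟩ b ⟨hb, hb'⟩
  have hη' : genericPoint X ∉ C := fun h => hη (hSe ▸ Set.mem_sUnion_of_mem h hC)
  rw [eq_of_not_closed hdX hg hη' ha ha', eq_of_not_closed hdX hg hη' hb hb']

/-- A divisor through a closed point avoiding given curves. -/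
theorem exists_curve_avoiding [AlgebraicGeometry.IsNoetherian X] (hdX : topologicalKrullDim X ≤ 2)
    {F : Set X} (hF : F.Finite) {z x : X} (hz : z ∈ F) (hFη : genericPoint X ∉ F)
    (hFc : ∀ w ∈ F, ¬ IsClosed ({w} : Set X)) (hzx : z ⤳ x) (hx : IsClosed ({x} : Set X)) :
    ∃ η : X, η ⤳ x ∧ Order.coheight η = 1 ∧ ∀ w ∈ F, ¬ η ⤳ w := by
  classical
  let O := X.presheaf.stalk x
  let φ := X.fromSpecStalk x
  have lt : ∀ {p q : X}, p ⤳ q → q ≠ p → q < p := fun {p q} h hne => lt_of_le_not_ge
    (Scheme.le_iff_specializes.2 h) fun h' => hne ((Scheme.le_iff_specializes.1 h').antisymm h).eq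
  have hzne : z ≠ x := fun h => hFc z hz (h ▸ hx)
  have hzgen : z ≠ genericPoint X := fun h => hFη (h ▸ hz)
  have h0 : Order.krullDim X ≤ 2 := by rw [← ASp.topologicalKrullDim_eq_krullDim]; exact hdX
  have hco : ∀ w : X, Order.coheight w ≤ 2 := fun w =>
    WithBot.coe_le_coe.1 (((Order.coheight_le_krullDim w).trans h0).trans_eq rfl)
  have e1 := Order.coheight_add_one_le (lt (genericPoint_specializes z) hzgen)
  have e2 := Order.coheight_add_one_le (lt hzx hzne.symm)
  have hx2 : (2 : ℕ∞) ≤ Order.coheight x := by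
    calc (2 : ℕ∞) = 0 + 1 + 1 := by norm_num
      _ ≤ Order.coheight (genericPoint X) + 1 + 1 := by gcongr; exact zero_le
      _ ≤ Order.coheight z + 1 := by gcongr
      _ ≤ Order.coheight x := e2
  have hd : (2 : WithBot ℕ∞) ≤ ringKrullDim O := by
    rw [ringKrullDim_stalk_eq_coheight]; exact WithBot.coe_le_coe.2 hx2
  have hinj : Function.Injective φ := φ.isEmbedding.injective
  have hrange : ∀ w : X, w ⤳ x → w ∈ Set.range φ := fun w hw => by rw [Scheme.range_fromSpecStalk]; exact hw
  let G : Finset X := hF.toFinset.filter (· ⤳ x)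
  have hG : ∀ w : X, ∃ q : PrimeSpectrum O, w ∈ G → φ q = w := fun w => by
    by_cases hw : w ∈ G
    · obtain ⟨q, hq⟩ := hrange w (Finset.mem_filter.1 hw).2
      exact ⟨q, fun _ => hq⟩
    · exact ⟨IsLocalRing.closedPoint O, fun h => absurd h hw⟩
  choose q hq using hG
  obtain ⟨f, hfm, hf⟩ : ∃ f ∈ IsLocalRing.maximalIdeal O, ∀ w ∈ G, f ∉ (q w).asIdeal := by
    by_contra h
    push Not at h
    have hsub : (IsLocalRing.maximalIdeal O : Set O) ⊆ ⋃ w ∈ (G : Set X), ((q w).asIdeal : Set O) := fun f hf => by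
      obtain ⟨w, hw, hfw⟩ := h f hf
      exact Set.mem_biUnion hw hfw
    obtain ⟨w, hw, hle⟩ := (Ideal.subset_union_prime z z (fun w _ _ _ => (q w).isPrime)).1 hsub
    have hqm : q w = IsLocalRing.closedPoint O :=
      PrimeSpectrum.ext (le_antisymm (IsLocalRing.le_maximalIdeal (q w).isPrime.ne_top) hle)
    have hwx : w = x := by rw [← hq w hw, hqm]; exact Scheme.fromSpecStalk_closedPoint
    exact hFc w (hF.mem_toFinset.1 (Finset.mem_filter.1 hw).1) (hwx ▸ hx)
  obtain ⟨Q, hQ, -⟩ := Ideal.exists_minimalPrimes_le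
    (show Ideal.span {f} ≤ IsLocalRing.maximalIdeal O from (Ideal.span_singleton_le_iff_mem _).2 hfm)
  have hQp : Q.IsPrime := hQ.1.1
  have hfQ : f ∈ Q := hQ.1.2 (Ideal.mem_span_singleton_self f)
  let η : X := φ ⟨Q, hQp⟩
  have hηx : η ⤳ x := by
    have h : η ∈ Set.range φ := ⟨_, rfl⟩
    rwa [Scheme.range_fromSpecStalk] at h
  have hzG : z ∈ G := Finset.mem_filter.2 ⟨hF.mem_toFinset.2 hz, hzx⟩
  have hηne : η ≠ x := fun h => by
    have hQm : (⟨Q, hQp⟩ : PrimeSpectrum O) = IsLocalRing.closedPoint O :=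
      hinj (h.trans Scheme.fromSpecStalk_closedPoint.symm)
    have hQm' : Q = IsLocalRing.maximalIdeal O := congrArg PrimeSpectrum.asIdeal hQm
    subst hQm'
    have h1 := Ideal.height_le_one_of_isPrincipal_of_mem_minimalPrimes (Ideal.span {f}) _ hQ
    have h2 := IsLocalRing.maximalIdeal_height_eq_ringKrullDim (R := O)
    rw [← h2] at hd
    exact absurd ((WithBot.coe_le_coe.1 hd).trans h1) (by decide)
  have hηgen : η ≠ genericPoint X := fun h => by
    obtain ⟨b, hb⟩ := hrange (genericPoint X) (genericPoint_specializes x)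
    have hbot : φ (⟨⊥, Ideal.isPrime_bot⟩ : PrimeSpectrum O) = genericPoint X := by
      have hs : φ (⟨⊥, Ideal.isPrime_bot⟩ : PrimeSpectrum O) ⤳ φ b :=
        ((PrimeSpectrum.le_iff_specializes _ b).1 bot_le).map φ.continuous
      rw [hb] at hs
      exact (hs.antisymm (genericPoint_specializes _)).eq
    have hQ0 : Q = ⊥ := congrArg PrimeSpectrum.asIdeal (hinj (h.trans hbot.symm))
    have hf0 : f = 0 := by rw [hQ0] at hfQ; exact hfQ
    exact hf z hzG (hf0 ▸ zero_mem _)
  have e3 := Order.coheight_add_one_le (lt (genericPoint_specializes η) hηgen)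
  have e4 := Order.coheight_add_one_le (lt hηx hηne.symm)
  have hη1 : Order.coheight η = 1 := by
    refine le_antisymm ?_ (le_trans (by simp) e3)
    have h := e4.trans (hco x)
    revert h
    cases Order.coheight η with
    | top => intro h; simp at h
    | coe n => intro h; norm_cast at h ⊢; omega
  refine ⟨η, hηx, hη1, fun w hw hηw => ?_⟩
  have hwη : w = η := eq_of_not_closed hdX (C := closure {η}) rfl (fun h => hηgen
    ((specializes_iff_mem_closure.2 h).antisymm (genericPoint_specializes η)).eq)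
    (specializes_iff_mem_closure.1 hηw) (hFc w hw)
  have hwG : η ∈ G := Finset.mem_filter.2 ⟨hF.mem_toFinset.2 (hwη ▸ hw), hηx⟩
  have := hinj (hq η hwG)
  exact hf η hwG (this ▸ hfQ)

/-- **Regular proper surfaces over a local ring are projective.** -/
theorem exists_isAmple_local [AlgebraicGeometry.IsNoetherian X] (hX : ∀ x : X, IsRegularLocalRing (X.presheaf.stalk x))
    (hdX : topologicalKrullDim X ≤ 2) {A : Type u} [CommRing A] [IsNoetherianRing A] [IsLocalRing A]
    (s : X ⟶ Spec (CommRingCat.of A)) [IsProper s] (hgen : s (genericPoint X) ≠ IsLocalRing.closedPoint A) :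
    ∃ L : X.Modules, CohB1.IsAmple L := by
  classical
  let T : Set X := s ⁻¹' {IsLocalRing.closedPoint A}
  have hT : IsClosed T := (IsLocalRing.isClosed_singleton_closedPoint A).preimage s.continuous
  let F := {z | z ∈ T ∧ ¬ IsClosed ({z} : Set X)}
  have hF : F.Finite := finite_not_closed hdX hT hgen
  have hFη : genericPoint X ∉ F := fun h => hgen h.1
  have hpt : ∀ z : X, ∃ x : X, z ⤳ x ∧ IsClosed ({x} : Set X) := fun z => by
    obtain ⟨x, hx, hxc⟩ := (isClosed_closure (s := ({z} : Set X))).exists_closed_singleton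
      (closure_nonempty_iff.2 (Set.singleton_nonempty z))
    exact ⟨x, specializes_iff_mem_closure.2 hx, hxc⟩
  choose x hzx hxc using hpt
  have step : ∀ S : Finset X, (↑S ⊆ F) → ∃ (M : X.Modules) (t : Coh.structureModule X ⟶ M),
      PicF.IsInvertible M ∧ (∀ w ∈ F, w ∈ CohB1.genLocus M t) ∧ ∀ z ∈ S, x z ∉ CohB1.genLocus M t := by
    intro S
    induction S using Finset.induction_on with
    | empty =>
      intro _
      exact ⟨_, 𝟙 _, ParaFLib.isInvertible_structureModule,
        fun w _ => by rw [genLocus_id]; trivial, fun z hz => by simp at hz⟩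
    | @insert z S hzS ih =>
      intro hS
      rw [Finset.coe_insert, Set.insert_subset_iff] at hS
      obtain ⟨M, t, hM, hMF, hMS⟩ := ih hS.2
      obtain ⟨η, hηx, hη1, hηF⟩ :=
        exists_curve_avoiding hdX hF hS.1 hFη (fun w hw => hw.2) (hzx z) (hxc z)
      let C := Scheme.IdealSheafData.vanishingIdeal (⟨closure {η}, isClosed_closure⟩ : Closeds X)
      have hC : BlowUp.IsEffCartierIdeal C := isEffCartier_closure hX η hη1
      obtain ⟨N, hN, ⟨eN⟩⟩ := AmpleEmb.exists_isInverseOf ((S8914.result C).2 hC)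
      obtain ⟨σ, hσ⟩ := AVLib.exists_section_genLocus_compl hC hN ⟨comm N (ClSub.idealMod C) ≪≫ eN⟩
      have hσ' : ∀ w, w ∈ CohB1.genLocus N σ ↔ ¬ η ⤳ w := fun w => by
        rw [hσ]
        show w ∈ ((C.support : Set X))ᶜ ↔ _
        rw [Scheme.IdealSheafData.coe_support_vanishingIdeal, specializes_iff_mem_closure]
        rfl
      refine ⟨_, tensorS t σ, isInvertible_tensor hM hN, fun w hw => ?_, fun w hw => ?_⟩
      · rw [genLocus_tensorS hM hN]
        exact ⟨hMF w hw, (hσ' w).2 (hηF w hw)⟩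
      · rw [genLocus_tensorS hM hN]
        rintro ⟨h1, h2⟩
        rcases Finset.mem_insert.1 hw with rfl | hw
        · exact (hσ' _).1 h2 hηx
        · exact hMS w hw h1
  obtain ⟨M, t, hM, hMF, hMx⟩ := step hF.toFinset (by rw [hF.coe_toFinset])
  -- the closed fibre
  let k := IsLocalRing.ResidueField A
  let ρ : Spec (CommRingCat.of k) ⟶ Spec (CommRingCat.of A) := Spec.map (CommRingCat.ofHom (IsLocalRing.residue A))
  haveI : IsClosedImmersion ρ := IsClosedImmersion.spec_of_surjective _ IsLocalRing.residue_surjective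
  let X₀ := pullback s ρ
  let g : X₀ ⟶ X := pullback.fst s ρ
  letI : X₀.Over (Spec (CommRingCat.of k)) := ⟨pullback.snd s ρ⟩
  haveI : IsProper (X₀ ↘ Spec (CommRingCat.of k)) := inferInstanceAs (IsProper (pullback.snd s ρ))
  haveI : IsClosedImmersion g := inferInstanceAs (IsClosedImmersion (pullback.fst s ρ))
  have hgr : Set.range g = T := by
    rw [Scheme.Pullback.range_fst]
    refine congrArg (s ⁻¹' ·) ?_
    refine Set.eq_singleton_iff_nonempty_unique_mem.2 ⟨⟨_, IsLocalRing.closedPoint k, rfl⟩, ?_⟩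
    rintro _ ⟨a, rfl⟩
    rw [Subsingleton.elim (α := PrimeSpectrum k) a (IsLocalRing.closedPoint k)]
    exact IsLocalRing.comap_closedPoint (IsLocalRing.residue A)
  refine ⟨M, AmpleEmb.isAmple_of_closedFibre s hM g (fun z hz => hgr.ge hz) ?_⟩
  have h0 : Order.krullDim X ≤ 2 := by rw [← ASp.topologicalKrullDim_eq_krullDim]; exact hdX
  have lt : ∀ {p q : X}, p ⤳ q → q ≠ p → q < p := fun {p q} h hne => lt_of_le_not_ge
    (Scheme.le_iff_specializes.2 h) fun h' => hne ((Scheme.le_iff_specializes.1 h').antisymm h).eq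
  have hmono : StrictMono g := fun a b hab => by
    refine lt ((Scheme.le_iff_specializes.1 hab.le).map g.continuous) fun h => hab.ne ?_
    exact g.isClosedEmbedding.injective h
  have hdim : topologicalKrullDim X₀ ≤ 1 := by
    rw [ASp.topologicalKrullDim_eq_krullDim]
    refine iSup_le fun p => ?_
    let p' : LTSeries X := (LTSeries.map p g hmono).snoc (genericPoint X) (by
      refine lt (genericPoint_specializes _) fun h => hgen ?_
      have h1 : (LTSeries.map p g hmono).last ∈ T := hgr ▸ ⟨p.last, rfl⟩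
      rw [h] at h1
      exact h1)
    have h2 := (Order.LTSeries.length_le_krullDim p').trans h0
    simp only [p', RelSeries.snoc_length, LTSeries.map_length] at h2
    norm_cast at h2 ⊢
    omega
  refine CurveLib.isAmple_of_deg_pos k hdim (isInvertible_pullback g hM) fun C hC hirr hdC => ?_
  let J := Scheme.IdealSheafData.vanishingIdeal (⟨C, hC⟩ : Closeds X₀)
  let i : J.subscheme ⟶ X₀ := J.subschemeι
  haveI : IsIntegral J.subscheme := CurveLib.isIntegral_vanishingIdeal hC hirr
  letI : J.subscheme.Over (Spec (CommRingCat.of k)) := ⟨i ≫ (X₀ ↘ Spec (CommRingCat.of k))⟩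
  haveI : IsProper (J.subscheme ↘ Spec (CommRingCat.of k)) :=
    inferInstanceAs (IsProper (i ≫ (X₀ ↘ Spec (CommRingCat.of k))))
  have hir : Set.range i = C := by
    rw [Scheme.IdealSheafData.range_subschemeι, Scheme.IdealSheafData.coe_support_vanishingIdeal]; rfl
  obtain ⟨c, hc⟩ := QuasiSober.sober hirr hC
  have hgc : g c ∈ F := ⟨hgr.le ⟨c, rfl⟩, fun h => by
    have hcc : IsClosed ({c} : Set X₀) := by
      have e : g ⁻¹' {g c} = {c} := Set.eq_singleton_iff_unique_mem.2
        ⟨rfl, fun b hb => g.isClosedEmbedding.injective hb⟩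
      exact e ▸ h.preimage g.continuous
    have hC1 : C = {c} := hc.def.symm.trans hcc.closure_eq
    haveI : Subsingleton C := by rw [hC1]; infer_instance
    have h0' := topologicalKrullDim_zero_of_discreteTopology C
    rw [hdC] at h0'
    exact absurd h0' (by decide)⟩
  obtain ⟨a, ha, hga⟩ : ∃ a ∈ C, g a = x (g c) := by
    have h := specializes_iff_mem_closure.1 (hzx (g c))
    rw [← Set.image_singleton, g.isClosedEmbedding.closure_image_eq, hc.def] at h
    exact h
  let t' := pullS i (pullS g t)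
  have hgl : ∀ w, w ∈ CohB1.genLocus _ t' ↔ g (i w) ∈ CohB1.genLocus M t := fun w => by
    rw [genLocus_pullS i (isInvertible_pullback g hM), genLocus_pullS g hM]
    exact Iff.rfl
  have hinv := isInvertible_pullback i (isInvertible_pullback g hM)
  have ht' : t' ≠ 0 := fun h => by
    obtain ⟨w, hw⟩ := hir.ge hc.mem
    have h1 := (hgl w).2 (hw.symm ▸ hMF _ hgc)
    rw [h, mem_genLocus_iff hinv] at h1
    have h2 := h1.1 (a₁ := 1) (a₂ := 0) (by
      show (1 : _) • _ = (0 : J.subscheme.presheaf.stalk _) • _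
      rw [show sec (0 : Coh.structureModule J.subscheme ⟶ _) = 0 from rfl, map_zero, smul_zero, smul_zero])
    exact one_ne_zero h2
  have hdJ : topologicalKrullDim J.subscheme ≤ 1 := ((CurveLib.dim_vanishingIdeal hC).trans hdC).le
  obtain ⟨hle, heq⟩ := CurveLib.deg_le_of_ne_zero (k := k) hdJ ParaFLib.isInvertible_structureModule hinv ht'
  rw [CurveLib.deg_structureModule] at hle heq
  refine lt_of_le_of_ne hle fun hzero => ?_
  haveI := heq hzero
  obtain ⟨w, hw⟩ := hir.ge ha
  have h1 : w ∈ CohB1.genLocus _ t' := by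
    rw [show t' = 𝟙 _ ≫ (asIso t').hom by simp, genLocus_comp_iso, genLocus_id]
    trivial
  exact hMx (g c) (hF.mem_toFinset.2 hgc) (hga ▸ hw ▸ (hgl w).1 h1)

end Groth.Agent.CastLib
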