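import Groth.Agent.CastLib.PicKernel
import Groth.Agent.JacLib.IdealPull

/-!
# Torsion of the Picard group of a model and of its generic fibre
-/

set_option autoImplicit false
set_option backward.isDefEq.respectTransparency false
set_option linter.style.haveILetI false
set_option maxHeartbeats 1000000
set_option synthInstance.maxHeartbeats 200000

universe u

open CategoryTheory CategoryTheory.Limits AlgebraicGeometry TopologicalSpace IsLocalRing

noncomputable section

namespace Groth.Agent.CastLib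

open Groth.Agent.SurfPtBlow

theorem exists_inverse_of_isInvertible {Y : Scheme.{u}} {M : Y.Modules} (hM : PicF.IsInvertible M) :
    ∃ M' : Y.Modules, PicF.IsInvertible M' ∧ IntLib.mk M * IntLib.mk M' = 1 := by
  obtain ⟨L, hL, hc⟩ := PicLib.exists_cls (PicLib.cls hM)⁻¹
  obtain ⟨e⟩ := (PicLib.cls_eq_one (AmpleLib.isInvertible_tensor hM hL)).1
    (by rw [PicLib.cls_tensor hM hL, hc, mul_inv_cancel])
  exact ⟨L, hL, (IntLib.mk_tensor M L).symm.trans (IntLib.mk_congr e)⟩

/-- The ideal of a divisor missing the image pulls back to the structure sheaf. -/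
theorem pullCls_idealMod_of_disjoint {Y Z : Scheme.{u}} (g : Z ⟶ Y) {D : Y.IdealSheafData}
    (hD : BlowUp.IsEffCartierIdeal D) (hg : ∀ z, g z ∉ D.support) :
    IntLib.pullCls g (IntLib.mk (ClSub.idealMod D)) = 1 := by
  have htop : D.comap g = ⊤ := by
    rw [← Scheme.IdealSheafData.support_eq_bot_iff, Scheme.IdealSheafData.support_comap]
    exact Closeds.ext (Set.eq_empty_iff_forall_notMem.2 hg)
  obtain ⟨e⟩ := JacLib.nonempty_iso_pullback_idealMod g D hD (htop ▸ BlowCompLib.isEffCartier_top)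
  rw [IntLib.pullCls_mk, IntLib.mk_congr e, htop, mk_idealMod_top]

variable {R : Type u} [CommRing R] [IsDomain R] [IsDiscreteValuationRing R]

section Model

variable {C Y : Scheme.{u}} {f : C ⟶ Spec (CommRingCat.of (FractionRing R))} {p : Y ⟶ Spec (CommRingCat.of R)}
variable (hC : Curve.IsSmoothProperCurve (FractionRing R) C f) (hH0 : IsIso f.appTop)
variable (hY : Models.IsRegularProperModel R Y p C f) {n : ℕ} {Γ : Fin n → ArSurf.VertComp R (Over.mk p)}
variable (hΓ : Models.IsComponentList R (Over.mk p) Γ)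

/-- The class of a combination of components. -/
abbrev pcls (L : Fin n → Y.Modules) (a : Fin n → ℕ) : IntLib.MCls Y := ∏ j, IntLib.mk (L j) ^ a j

include hC hY in
omit hH0 in
theorem exists_inverse_list (Γ : Fin n → ArSurf.VertComp R (Over.mk p)) :
    ∃ L : Fin n → Y.Modules, ∀ i, ClSub.IsInverseOf (L i) (ClSub.idealMod (Γ i).ι.ker) := by
  choose L hL using fun i => exists_inverse_idealMod ((VSurf.of_model hC hY).isEffCartier_ker (Γ i))
  exact ⟨L, hL⟩

include hC hH0 hY hΓ in
theorem pcls_eq_iff {L : Fin n → Y.Modules} (hL : ∀ i, ClSub.IsInverseOf (L i) (ClSub.idealMod (Γ i).ι.ker))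
    (a b : Fin n → ℕ) : pcls L a = pcls L b ↔
      ∃ c : ℤ, ∀ i, (a i : ℤ) - (b i : ℤ) = c * (Models.mult R (Over.mk p) (Γ i) : ℤ) := by
  obtain ⟨g, hg⟩ := hY.1.2.2.2
  haveI : Flat p := hY.1.1
  haveI : IsProper p := hY.2.1
  have hs : Function.Surjective (Coh.toGlobal p) := SurfPtBlow.toGlobal_surjective hg hH0
  rw [← (VSurf.of_model hC hY).multiTwist_iso_iff hs hΓ hL a b, ← IntLib.mk_eq_mk]
  exact (by rw [mk_multiTwist, mk_multiTwist])

/-- The ideal modules of the components. -/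
abbrev kerMods (Γ : Fin n → ArSurf.VertComp R (Over.mk p)) : Fin n → Y.Modules := fun i => ClSub.idealMod (Γ i).ι.ker

/-- The structure sheaf has degree zero. -/
theorem inter_O [IsProper (Over.mk p).hom] (Δ : ArSurf.VertComp R (Over.mk p)) :
    ArSurf.inter R (Over.mk p) (Coh.structureModule Y) Δ = 0 := inter_one (X := Over.mk p) Δ

omit hΓ in
theorem pcls_mul_ker {L : Fin n → Y.Modules} (hL : ∀ i, ClSub.IsInverseOf (L i) (ClSub.idealMod (Γ i).ι.ker))
    (a : Fin n → ℕ) : pcls L a * pcls (kerMods Γ) a = 1 := by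
  rw [← Finset.prod_mul_distrib]
  exact Finset.prod_eq_one fun i _ => (mul_pow _ _ _).symm.trans ((congrArg (· ^ a i) (mk_mul_of_isInverseOf (hL i))).trans (one_pow _))

omit hΓ in
include hY in
theorem inter_of_pcls {L : Fin n → Y.Modules} (hL : ∀ i, ClSub.IsInverseOf (L i) (ClSub.idealMod (Γ i).ι.ker))
    {M M' : Y.Modules} (hM : PicF.IsInvertible M) (hM' : PicF.IsInvertible M') (a b : Fin n → ℕ)
    (h : IntLib.mk M * pcls L a = IntLib.mk M' * pcls L b) (Δ : ArSurf.VertComp R (Over.mk p)) :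
    ArSurf.inter R (Over.mk p) M Δ + ∑ j, (a j : ℤ) * ArSurf.inter R (Over.mk p) (L j) Δ =
      ArSurf.inter R (Over.mk p) M' Δ + ∑ j, (b j : ℤ) * ArSurf.inter R (Over.mk p) (L j) Δ := by
  haveI : IsProper (Over.mk p).hom := hY.2.1
  have hLi : ∀ i, PicF.IsInvertible (L i) := fun i => isInvertible_inverse_ideal (hL i)
  obtain ⟨ha, ha'⟩ := inter_multiTwist (X := Over.mk p) L hLi a Δ
  obtain ⟨hb, hb'⟩ := inter_multiTwist (X := Over.mk p) L hLi b Δ
  obtain ⟨e⟩ := IntLib.mk_eq_mk.1 (show IntLib.mk (CohB1.tensorMod M (FGA.multiTwist L a)) =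
    IntLib.mk (CohB1.tensorMod M' (FGA.multiTwist L b)) by
      rw [IntLib.mk_tensor, IntLib.mk_tensor, mk_multiTwist, mk_multiTwist]; exact h)
  have h1 := inter_congr (X := Over.mk p) Δ e
  rw [inter_tensor (X := Over.mk p) Δ hM ha, inter_tensor (X := Over.mk p) Δ hM' hb, ha', hb'] at h1
  exact h1

variable {g : C ⟶ Y} (hg : IsPullback g f p (Spec.map (CommRingCat.ofHom (algebraMap R (FractionRing R)))))

include hC hY hΓ hg in
theorem exists_pcls_of_trivial {L : Fin n → Y.Modules}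
    (hL : ∀ i, ClSub.IsInverseOf (L i) (ClSub.idealMod (Γ i).ι.ker))
    {M : Y.Modules} (hM : PicF.IsInvertible M) (htriv : IntLib.pullCls g (IntLib.mk M) = 1) :
    ∃ a b : Fin n → ℕ, IntLib.mk M * pcls L a = pcls L b := by
  obtain ⟨a, b, ⟨e⟩⟩ := exists_multiTwist_of_trivial hC hY hΓ hg hL hM (IntLib.mk_eq_mk.1 htriv)
  refine ⟨a, b, ?_⟩
  have h := IntLib.mk_congr e
  rwa [IntLib.mk_tensor, mk_multiTwist, mk_multiTwist] at h

include hC hY hg in
theorem pullCls_ker (Δ : ArSurf.VertComp R (Over.mk p)) :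
    IntLib.pullCls g (IntLib.mk (ClSub.idealMod Δ.ι.ker)) = 1 := by
  refine pullCls_idealMod_of_disjoint g ((VSurf.of_model hC hY).isEffCartier_ker Δ) fun z hz => ?_
  rw [← SetLike.mem_coe, support_ker] at hz
  obtain ⟨c, hc⟩ := hz
  have h1 := SurfPtBlow.p_apply_gen hg z
  have h2 : (Over.mk p).hom (g z) = closedPoint R := hc ▸ vertComp_vertical Δ c
  exact h1 h2

include hC hY hg in
theorem pullCls_inverse {L : Fin n → Y.Modules}
    (hL : ∀ i, ClSub.IsInverseOf (L i) (ClSub.idealMod (Γ i).ι.ker)) (i : Fin n) :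
    IntLib.pullCls g (IntLib.mk (L i)) = 1 := by
  have h := congrArg (IntLib.pullCls g) (mk_mul_of_isInverseOf (hL i))
  rwa [map_mul, map_one, pullCls_ker hC hY hg, mul_one] at h

include hC hH0 hY hΓ hg in
/-- **A module of degree zero on all components and trivial on the generic fibre is killed by the gcd of the
multiplicities.** -/
theorem pow_multGcd_eq_one {M : Y.Modules} (hM : PicF.IsInvertible M)
    (htriv : IntLib.pullCls g (IntLib.mk M) = 1) (hdeg : ∀ i, ArSurf.inter R (Over.mk p) M (Γ i) = 0) :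
    IntLib.mk M ^ Models.multGcd R (Over.mk p) Γ = 1 := by
  classical
  have hV := VSurf.of_model hC hY
  haveI : IsProper (Over.mk p).hom := hV.proper
  haveI : IsProper p := hY.2.1
  haveI : Flat p := hY.1.1
  obtain ⟨L, hL⟩ := exists_inverse_list hC hY Γ
  obtain ⟨a, b, hab⟩ := exists_pcls_of_trivial hC hY hΓ hg hL hM htriv
  let m : Fin n → ℕ := fun i => Models.mult R (Over.mk p) (Γ i)
  let A : Fin n → Fin n → ℤ := fun i j => ArSurf.inter R (Over.mk p) (L j) (Γ i)
  let c : Fin n → ℤ := fun j => (b j : ℤ) - (a j : ℤ)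
  have hAc : ∀ i, ∑ j, c j * A i j = 0 := fun i => by
    have h1 := inter_of_pcls hY hL hM ParaFLib.isInvertible_structureModule a b
      (by rw [IntLib.mk_structureModule, one_mul]; exact hab) (Γ i)
    rw [hdeg i, inter_O (Γ i), zero_add, zero_add] at h1
    simp only [c, A, sub_mul, Finset.sum_sub_distrib, h1, sub_self]
  have hconn : _root_.IsPreconnected (Models.specialFibreSet R (Over.mk p)) :=
    SteinConn.isPreconnected_closedFibre p (SurfPtBlow.toGlobal_surjective hg hH0)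
  obtain ⟨q, hq⟩ := proportional_of_form_eq_zero A m
    (fun i j hij => hV.inter_symm (fun e => hij (hΓ.1 e)) (hL i) (hL j))
    (fun i j hij => (hV.inter_nonneg_of_ne (fun e => hij (hΓ.1 e)) (hL j)).1) (hV.mult_pos hΓ)
    (fun i => hV.sum_mult_inter_list hΓ hL (Γ i)) (fun I hI hI' => hV.exists_link hΓ hconn hL I hI hI') c
    (Finset.sum_eq_zero fun i _ => by simp only [mul_assoc, ← Finset.mul_sum, hAc i, mul_zero])
  obtain ⟨x, hx⟩ := Finset.gcd_eq_sum_mul (Finset.univ : Finset (Fin n)) (fun i => (m i : ℤ))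
  have hgcd : ((Models.multGcd R (Over.mk p) Γ : ℕ) : ℤ) = Finset.univ.gcd fun i => (m i : ℤ) := by
    refine Int.eq_of_associated_of_nonneg (associated_of_dvd_dvd (Finset.dvd_gcd fun i _ => ?_) ?_)
      (Int.natCast_nonneg _) ?_
    · exact Int.natCast_dvd_natCast.2 (Finset.gcd_dvd (Finset.mem_univ i))
    · rw [← Int.natAbs_dvd, Int.natCast_dvd_natCast]
      exact Finset.dvd_gcd fun i hi => Int.natCast_dvd_natCast.1 (Int.natAbs_dvd.2 (Finset.gcd_dvd hi))
    · rw [← Finset.normalize_gcd]; exact Int.nonneg_of_normalize_eq_self (normalize_idem _)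
  let v : ℤ := ∑ i, x i * c i
  have hv : ∀ i, (Models.multGcd R (Over.mk p) Γ : ℤ) * c i = v * (m i : ℤ) := fun i => by
    refine Int.cast_injective (α := ℚ) ?_
    rw [hgcd, hx]
    simp only [v]
    push_cast
    simp only [hq, Finset.sum_mul]
    exact Finset.sum_congr rfl fun l _ => by ring
  have hd : pcls L (fun i => Models.multGcd R (Over.mk p) Γ * b i) =
      pcls L fun i => Models.multGcd R (Over.mk p) Γ * a i :=
    (pcls_eq_iff hC hH0 hY hΓ hL _ _).2 ⟨v, fun i => by rw [← hv i]; push_cast; ring⟩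
  have hpow : ∀ a : Fin n → ℕ, pcls L a ^ Models.multGcd R (Over.mk p) Γ =
      pcls L fun i => Models.multGcd R (Over.mk p) Γ * a i := fun a => by
    rw [← Finset.prod_pow]
    exact Finset.prod_congr rfl fun i _ => by rw [← pow_mul, mul_comm]
  have h2 := congrArg (· ^ Models.multGcd R (Over.mk p) Γ) hab
  simp only [mul_pow, hpow, hd] at h2
  have h3 := congrArg (· * pcls (kerMods Γ) fun i => Models.multGcd R (Over.mk p) Γ * a i) h2
  simp only [mul_assoc, pcls_mul_ker hL, mul_one] at h3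
  exact h3

include hC hH0 hY hΓ hg in
/-- **Torsion prime to the gcd of the multiplicities injects into the generic fibre.** -/
theorem eq_one_of_torsion {h : ℕ} (hh : 0 < h) (hcop : Nat.Coprime h (Models.multGcd R (Over.mk p) Γ))
    {M : Y.Modules} (hM : PicF.IsInvertible M) (htors : IntLib.mk M ^ h = 1)
    (htriv : IntLib.pullCls g (IntLib.mk M) = 1) : IntLib.mk M = 1 := by
  haveI : IsProper (Over.mk p).hom := hY.2.1
  have hpow : ∀ k : ℕ, PicF.IsInvertible (CohB1.tensorPow M k) ∧ ∀ i,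
      ArSurf.inter R (Over.mk p) (CohB1.tensorPow M k) (Γ i) = k * ArSurf.inter R (Over.mk p) M (Γ i) := by
    intro k
    induction k with
    | zero => exact ⟨ParaFLib.isInvertible_structureModule, fun i => by
        simpa [CohB1.tensorPow] using inter_O (Γ i)⟩
    | succ k ih =>
      refine ⟨AmpleLib.isInvertible_tensor ih.1 hM, fun i => ?_⟩
      show ArSurf.inter R (Over.mk p) (CohB1.tensorMod (CohB1.tensorPow M k) M) (Γ i) = _
      rw [inter_tensor (X := Over.mk p) (Γ i) ih.1 hM, ih.2 i]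
      push_cast
      ring
  have hdeg : ∀ i, ArSurf.inter R (Over.mk p) M (Γ i) = 0 := fun i => by
    obtain ⟨e⟩ := IntLib.mk_eq_mk.1 (show IntLib.mk (CohB1.tensorPow M h) = IntLib.mk (Coh.structureModule Y) by
      rw [IntLib.mk_tensorPow]; exact htors)
    have h1 := inter_congr (X := Over.mk p) (Γ i) e
    rw [(hpow h).2 i, inter_O (Γ i)] at h1
    exact (mul_eq_zero.1 h1).resolve_left (by exact_mod_cast hh.ne')
  have hd := pow_multGcd_eq_one hC hH0 hY hΓ hg hM htriv hdeg
  have h1 := pow_gcd_eq_one.2 ⟨htors, hd⟩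
  rwa [hcop.gcd_eq_one, pow_one] at h1

/-- A class in the monoid of invertible classes. -/
theorem exists_module_of_pcls {L : Fin n → Y.Modules} (hL : ∀ i, PicF.IsInvertible (L i)) (a : Fin n → ℕ) :
    ∃ N : Y.Modules, PicF.IsInvertible N ∧ IntLib.mk N = pcls L a :=
  Submonoid.prod_mem (IntLib.Inv Y) fun i _ => pow_mem (IntLib.inv' (hL i)).2 _

include hC hY hΓ hg in
/-- **Degree-zero extensions.** -/
theorem degree_zero_iff {L : Fin n → Y.Modules} (hL : ∀ i, ClSub.IsInverseOf (L i) (ClSub.idealMod (Γ i).ι.ker))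
    {M : Y.Modules} (hM : PicF.IsInvertible M) :
    (∃ v : Fin n → ℤ, ∀ i, ArSurf.inter R (Over.mk p) M (Γ i) =
        ∑ j, ArSurf.inter R (Over.mk p) (L j) (Γ i) * v j) ↔
      ∃ M' : Y.Modules, PicF.IsInvertible M' ∧
        IntLib.pullCls g (IntLib.mk M') = IntLib.pullCls g (IntLib.mk M) ∧
        ∀ i, ArSurf.inter R (Over.mk p) M' (Γ i) = 0 := by
  constructor
  · rintro ⟨v, hv⟩
    let w : Fin n → ℕ := fun j => (v j).toNat
    let w' : Fin n → ℕ := fun j => (-(v j)).toNat
    let K : Fin n → Y.Modules := kerMods Γ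
    obtain ⟨A₁, hA₁, hA₁e⟩ := exists_module_of_pcls
      (L := K) (fun i => isInvertible_idealMod ((VSurf.of_model hC hY).isEffCartier_ker (Γ i))) w
    obtain ⟨A₂, hA₂, hA₂e⟩ := exists_module_of_pcls (L := L) (fun i => isInvertible_inverse_ideal (hL i)) w'
    have hM' := AmpleLib.isInvertible_tensor (AmpleLib.isInvertible_tensor hM hA₁) hA₂
    refine ⟨_, hM', ?_, fun i => ?_⟩
    · rw [IntLib.mk_tensor, IntLib.mk_tensor, hA₁e, hA₂e, map_mul, map_mul]
      simp only [pcls, map_prod, map_pow, K, pullCls_ker hC hY hg, pullCls_inverse hC hY hg hL, one_pow,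
        Finset.prod_const_one, mul_one]
    · have h1 := inter_of_pcls hY hL hM' hM w w' (by
        rw [IntLib.mk_tensor, IntLib.mk_tensor, hA₁e, hA₂e, mul_assoc, mul_assoc, mul_comm (pcls L w'),
          ← mul_assoc (pcls K w), mul_comm (pcls K w), pcls_mul_ker hL, one_mul]) (Γ i)
      have h2 : ∑ j, ArSurf.inter R (Over.mk p) (L j) (Γ i) * v j =
          ∑ j, (w j : ℤ) * ArSurf.inter R (Over.mk p) (L j) (Γ i) -
            ∑ j, (w' j : ℤ) * ArSurf.inter R (Over.mk p) (L j) (Γ i) := by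
        rw [← Finset.sum_sub_distrib]
        refine Finset.sum_congr rfl fun j _ => ?_
        rw [← sub_mul, mul_comm, Int.toNat_sub_toNat_neg]
      rw [hv i, h2] at h1
      linarith
  · rintro ⟨M', hM', hpull, hdeg⟩
    obtain ⟨N, hN, hNe⟩ := exists_inverse_of_isInvertible hM'
    obtain ⟨a, b, hab⟩ := exists_pcls_of_trivial hC hY hΓ hg hL (AmpleLib.isInvertible_tensor hM hN)
      (by rw [IntLib.mk_tensor, map_mul, ← hpull, ← map_mul, hNe, map_one])
    refine ⟨fun j => (b j : ℤ) - (a j : ℤ), fun i => ?_⟩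
    have h1 := inter_of_pcls hY hL hM hM' a b (by
      rw [← hab, IntLib.mk_tensor, ← mul_assoc, ← mul_assoc, mul_comm (IntLib.mk M') (IntLib.mk M),
        mul_assoc (IntLib.mk M) (IntLib.mk M'), hNe, mul_one]) (Γ i)
    rw [hdeg i, zero_add] at h1
    have h2 : ∀ e : Fin n → ℕ, ∑ j, ArSurf.inter R (Over.mk p) (L j) (Γ i) * (e j : ℤ) =
        ∑ j, (e j : ℤ) * ArSurf.inter R (Over.mk p) (L j) (Γ i) := fun e => Finset.sum_congr rfl fun j _ => mul_comm _ _
    simp only [mul_sub, Finset.sum_sub_distrib, h2]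
    linarith

include hC hH0 hY hΓ hg in
/-- **Torsion of the generic fibre which lifts with degree zero lifts as torsion.** -/
theorem exists_torsion_lift {L : Fin n → Y.Modules} (hL : ∀ i, ClSub.IsInverseOf (L i) (ClSub.idealMod (Γ i).ι.ker))
    {h : ℕ} (hh : 0 < h) (hcop : Nat.Coprime h (Models.multGcd R (Over.mk p) Γ))
    {M : Y.Modules} (hM : PicF.IsInvertible M) (hN : IntLib.pullCls g (IntLib.mk M) ^ h = 1)
    (hv : ∃ v : Fin n → ℤ, ∀ i, ArSurf.inter R (Over.mk p) M (Γ i) =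
        ∑ j, ArSurf.inter R (Over.mk p) (L j) (Γ i) * v j) :
    ∃ M' : Y.Modules, PicF.IsInvertible M' ∧ IntLib.mk M' ^ h = 1 ∧
      IntLib.pullCls g (IntLib.mk M') = IntLib.pullCls g (IntLib.mk M) := by
  rcases eq_or_ne h 1 with rfl | h1
  · exact ⟨_, ParaFLib.isInvertible_structureModule, by rw [pow_one]; rfl,
      by rw [IntLib.mk_structureModule, map_one]; exact (pow_one (IntLib.pullCls g (IntLib.mk M)) ▸ hN).symm⟩
  haveI : IsProper (Over.mk p).hom := hY.2.1
  obtain ⟨M₀, hM₀, hpull, hdeg⟩ := (degree_zero_iff hC hY hΓ hg hL hM).1 hv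
  let d := Models.multGcd R (Over.mk p) Γ
  have hMh := AmpleLib.isInvertible_tensorPow hM₀ h
  have hdegh : ∀ k : ℕ, ∀ i, ArSurf.inter R (Over.mk p) (CohB1.tensorPow M₀ k) (Γ i) = 0 := by
    intro k
    induction k with
    | zero => exact fun i => inter_O (Γ i)
    | succ k ih =>
      intro i
      show ArSurf.inter R (Over.mk p) (CohB1.tensorMod (CohB1.tensorPow M₀ k) M₀) (Γ i) = _
      rw [inter_tensor (X := Over.mk p) (Γ i) (AmpleLib.isInvertible_tensorPow hM₀ k) hM₀, ih i, hdeg i, add_zero]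
  have hkill : IntLib.mk M₀ ^ (h * d) = 1 := by
    rw [pow_mul, ← IntLib.mk_tensorPow]
    exact pow_multGcd_eq_one hC hH0 hY hΓ hg hMh (by rw [IntLib.mk_tensorPow, map_pow, hpull, hN]) (hdegh h)
  obtain ⟨t, -, ht⟩ := Nat.exists_mul_mod_eq_one_of_coprime (Nat.coprime_comm.1 hcop) (by omega)
  refine ⟨_, AmpleLib.isInvertible_tensorPow hM₀ (d * t), ?_, ?_⟩
  · rw [IntLib.mk_tensorPow, ← pow_mul, show d * t * h = h * d * t by ring, pow_mul, hkill, one_pow]
  · have hq : d * t = h * (d * t / h) + 1 := by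
      have := Nat.div_add_mod (d * t) h
      rw [ht] at this
      exact this.symm
    rw [IntLib.mk_tensorPow, map_pow, hpull, hq, pow_succ, pow_mul, hN, one_pow, one_mul]

include hC hY hΓ in
/-- **The class of the reduced multiple of the fibre is killed by the gcd.** -/
theorem mk_idealMod_pow_gcd :
    IntLib.mk (X := Y) (ClSub.idealMod (∏ i, (Γ i).ι.ker ^
      (Models.mult R (Over.mk p) (Γ i) / Models.multGcd R (Over.mk p) Γ))) ^ Models.multGcd R (Over.mk p) Γ = 1 := by
  have hV := VSurf.of_model hC hY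
  obtain ⟨hK, hfib⟩ := hV.toFibreGood.fibre_eq_prod hΓ
  rw [(mk_idealMod_prod _ hK _ Finset.univ).2, ← Finset.prod_pow]
  obtain ⟨e⟩ := hV.toFibreGood.nonempty_idealMod_fibre
  have h1 := IntLib.mk_congr e
  rw [IntLib.mk_structureModule, show fibreIdeal (Over.mk p).hom = ∏ j, (Γ j).ι.ker ^ Models.mult R (Over.mk p) (Γ j)
    from hfib, (mk_idealMod_prod _ hK _ Finset.univ).2] at h1
  refine Eq.trans (Finset.prod_congr rfl fun i _ => ?_) h1
  rw [← pow_mul, Nat.div_mul_cancel]
  exact Finset.gcd_dvd (Finset.mem_univ i)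

include hC hY hΓ in
theorem hV_pos (i : Fin n) : 0 < Models.mult R (Over.mk p) (Γ i) := (VSurf.of_model hC hY).mult_pos hΓ i

omit hΓ in
theorem pcls_add (L : Fin n → Y.Modules) (a b : Fin n → ℕ) : pcls L a * pcls L b = pcls L (a + b) := by
  rw [← Finset.prod_mul_distrib]
  exact Finset.prod_congr rfl fun i _ => (pow_add _ _ _).symm

omit hΓ in
theorem pcls_pow (L : Fin n → Y.Modules) (a : Fin n → ℕ) (k : ℕ) : pcls L a ^ k = pcls L fun i => k * a i := by
  rw [← Finset.prod_pow]
  exact Finset.prod_congr rfl fun i _ => by rw [← pow_mul, mul_comm]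

include hC hH0 hY hΓ hg in
/-- **The kernel of restriction to the generic fibre on torsion.** -/
theorem torsion_kernel_cyclic (hn : Nonempty (Fin n)) {L : Fin n → Y.Modules}
    (hL : ∀ i, ClSub.IsInverseOf (L i) (ClSub.idealMod (Γ i).ι.ker))
    {h : ℕ} (hh : 0 < h) {M : Y.Modules} (hM : PicF.IsInvertible M) (htors : IntLib.mk M ^ h = 1)
    (htriv : IntLib.pullCls g (IntLib.mk M) = 1) :
    ∃! k : ℕ, k < Nat.gcd h (Models.multGcd R (Over.mk p) Γ) ∧ IntLib.mk M = pcls L fun i =>
      k * (Models.mult R (Over.mk p) (Γ i) / Nat.gcd h (Models.multGcd R (Over.mk p) Γ)) := by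
  classical
  obtain ⟨i₀⟩ := hn
  let d := Models.multGcd R (Over.mk p) Γ
  let m : Fin n → ℕ := fun i => Models.mult R (Over.mk p) (Γ i)
  let e := Nat.gcd h d
  have he : 0 < e := Nat.gcd_pos_of_pos_left _ hh
  let t : Fin n → ℕ := fun i => m i / e
  have hem : ∀ i, e * t i = m i := fun i =>
    Nat.mul_div_cancel' ((Nat.gcd_dvd_right h d).trans (Finset.gcd_dvd (Finset.mem_univ i)))
  obtain ⟨a, b, hab⟩ := exists_pcls_of_trivial hC hY hΓ hg hL hM htriv
  have h1 := congrArg (· ^ h) hab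
  simp only [mul_pow, htors, one_mul, pcls_pow] at h1
  obtain ⟨v, hv⟩ := (pcls_eq_iff hC hH0 hY hΓ hL _ _).1 h1.symm
  have hdvd : ∀ i, (h : ℤ) ∣ v * (m i : ℤ) := fun i => ⟨(b i : ℤ) - a i, by
    rw [← hv i]
    push_cast
    ring⟩
  have hhd : (h : ℤ) ∣ v * (d : ℤ) := by
    rw [← Int.natAbs_dvd_natAbs, Int.natAbs_mul, Int.natAbs_natCast, Int.natAbs_natCast,
      ← normalize_eq v.natAbs]
    show h ∣ normalize v.natAbs * Finset.univ.gcd m
    rw [← Finset.gcd_mul_left]
    exact Finset.dvd_gcd fun i _ => by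
      have := Int.natAbs_dvd_natAbs.2 (hdvd i)
      rwa [Int.natAbs_mul, Int.natAbs_natCast, Int.natAbs_natCast] at this
  have hhe : ((h / e : ℕ) : ℤ) ∣ v := by
    have hco : Nat.Coprime (h / e) (d / e) := Nat.coprime_div_gcd_div_gcd he
    have h2 : ((h / e : ℕ) : ℤ) ∣ v * ((d / e : ℕ) : ℤ) := by
      refine (mul_dvd_mul_iff_left (show (e : ℤ) ≠ 0 by exact_mod_cast he.ne')).1 ?_
      rw [← Nat.cast_mul, Nat.mul_div_cancel' (Nat.gcd_dvd_left h d), mul_left_comm, ← Nat.cast_mul,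
        Nat.mul_div_cancel' (Nat.gcd_dvd_right h d)]
      exact hhd
    exact (Int.isCoprime_iff_gcd_eq_one.2 (by rw [Int.gcd_natCast_natCast]; exact hco)).dvd_of_dvd_mul_right h2
  obtain ⟨k', hk'⟩ := hhe
  have hc : ∀ i, (b i : ℤ) - a i = k' * (t i : ℤ) := fun i => by
    refine mul_left_cancel₀ (show (h : ℤ) ≠ 0 by exact_mod_cast hh.ne') ?_
    have h3 : (h : ℤ) = (e : ℤ) * ((h / e : ℕ) : ℤ) := by
      exact_mod_cast (Nat.mul_div_cancel' (Nat.gcd_dvd_left h d)).symm
    have h4 : (m i : ℤ) = (e : ℤ) * (t i : ℤ) := by exact_mod_cast (hem i).symm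
    calc (h : ℤ) * ((b i : ℤ) - a i) = v * (m i : ℤ) := by rw [← hv i]; push_cast; ring
      _ = _ := by rw [hk', h3, h4]; ring
  have hM' : ∀ k : ℕ, IntLib.mk M = pcls L (fun i => k * t i) ↔ ∃ c : ℤ, k' - k = c * e := by
    intro k
    have h5 : IntLib.mk M = pcls L (fun i => k * t i) ↔ pcls L b = pcls L ((fun i => k * t i) + a) := by
      rw [← hab, ← pcls_add]
      refine ⟨fun h => by rw [h], fun h => ?_⟩
      have h6 := congrArg (· * pcls (kerMods Γ) a) h
      simpa only [mul_assoc, pcls_mul_ker hL, mul_one] using h6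
    rw [h5, pcls_eq_iff hC hH0 hY hΓ hL]
    refine exists_congr fun c => ⟨fun h => ?_, fun h i => ?_⟩
    · have h6 := h i₀
      have h7 : (Models.mult R (Over.mk p) (Γ i₀) : ℤ) = (e : ℤ) * (t i₀ : ℤ) := by exact_mod_cast (hem i₀).symm
      rw [h7, Pi.add_apply] at h6
      push_cast at h6
      refine mul_right_cancel₀ (show (t i₀ : ℤ) ≠ 0 from ?_) (b := (t i₀ : ℤ)) ?_
      · intro h8
        have : 0 < m i₀ := hV_pos hC hY hΓ i₀
        rw [← hem i₀, show t i₀ = 0 by exact_mod_cast h8, mul_zero] at this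
        omega
      · linarith [hc i₀]
    · have h7 : (Models.mult R (Over.mk p) (Γ i) : ℤ) = (e : ℤ) * (t i : ℤ) := by exact_mod_cast (hem i).symm
      rw [h7, Pi.add_apply]
      push_cast
      have := hc i
      linear_combination this + (t i : ℤ) * h
  refine ⟨(k' % e).toNat, ⟨?_, ?_⟩, fun k ⟨hk, hkM⟩ => ?_⟩
  · show _ < e
    have := Int.emod_lt_of_pos k' (show (0 : ℤ) < e by exact_mod_cast he)
    have := Int.emod_nonneg k' (show (e : ℤ) ≠ 0 by exact_mod_cast he.ne')
    omega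
  · refine (hM' _).2 ⟨k' / e, ?_⟩
    rw [Int.toNat_of_nonneg (Int.emod_nonneg k' (show (e : ℤ) ≠ 0 by exact_mod_cast he.ne'))]
    linarith [Int.emod_add_mul_ediv k' e]
  · obtain ⟨c, hc'⟩ := (hM' k).1 hkM
    have : k' % (e : ℤ) = k := by
      rw [show k' = (k : ℤ) + c * e by linarith, Int.add_mul_emod_self_right,
        Int.emod_eq_of_lt (Int.natCast_nonneg _) (by exact_mod_cast hk)]
    omega

include hC hH0 hY hΓ hg in
/-- **Obstruction to lifting torsion.** -/
theorem torsion_lift_iff {L : Fin n → Y.Modules} (hL : ∀ i, ClSub.IsInverseOf (L i) (ClSub.idealMod (Γ i).ι.ker))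
    {h : ℕ} {M : Y.Modules} (hM : PicF.IsInvertible M) (a b : Fin n → ℕ)
    (hab : IntLib.mk M ^ h * pcls L a = pcls L b) :
    (∃ M' : Y.Modules, PicF.IsInvertible M' ∧ IntLib.mk M' ^ h = 1 ∧
        IntLib.pullCls g (IntLib.mk M') = IntLib.pullCls g (IntLib.mk M)) ↔
      ∃ (c : Fin n → ℤ) (e : ℤ), ∀ i, ((b i : ℤ) - (a i : ℤ)) =
        (h : ℤ) * c i + e * (Models.mult R (Over.mk p) (Γ i) : ℤ) := by
  constructor
  · rintro ⟨M', hM', htors, hpull⟩
    obtain ⟨N, hN, hNe⟩ := exists_inverse_of_isInvertible hM'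
    obtain ⟨a', b', hab'⟩ := exists_pcls_of_trivial hC hY hΓ hg hL (AmpleLib.isInvertible_tensor hM hN)
      (by rw [IntLib.mk_tensor, map_mul, ← hpull, ← map_mul, hNe, map_one])
    have hNh : IntLib.mk N ^ h = 1 := by
      have h1 := congrArg (· ^ h) hNe
      simpa only [mul_pow, one_pow, htors, one_mul] using h1
    rw [IntLib.mk_tensor] at hab'
    have h1 := congrArg (· ^ h) hab'
    simp only [mul_pow, hNh, mul_one, pcls_pow] at h1
    have h2 : pcls L ((fun i => h * a' i) + b) = pcls L ((fun i => h * b' i) + a) := by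
      rw [← pcls_add, ← pcls_add, ← hab, ← h1, mul_comm (IntLib.mk M ^ h) (pcls L a),
        mul_comm (IntLib.mk M ^ h) (pcls L fun i => h * a' i), mul_assoc, mul_comm (pcls L a)]
    obtain ⟨e, he⟩ := (pcls_eq_iff hC hH0 hY hΓ hL _ _).1 h2
    refine ⟨fun i => (b' i : ℤ) - a' i, e, fun i => ?_⟩
    have := he i
    simp only [Pi.add_apply] at this
    push_cast at this
    linear_combination this
  · rintro ⟨c, e, hce⟩
    let w : Fin n → ℕ := fun j => (c j).toNat
    let w' : Fin n → ℕ := fun j => (-(c j)).toNat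
    obtain ⟨A₁, hA₁, hA₁e⟩ := exists_module_of_pcls
      (L := kerMods Γ) (fun i => isInvertible_idealMod ((VSurf.of_model hC hY).isEffCartier_ker (Γ i))) w
    obtain ⟨A₂, hA₂, hA₂e⟩ := exists_module_of_pcls (L := L) (fun i => isInvertible_inverse_ideal (hL i)) w'
    refine ⟨_, AmpleLib.isInvertible_tensor (AmpleLib.isInvertible_tensor hM hA₁) hA₂, ?_, ?_⟩
    · rw [IntLib.mk_tensor, IntLib.mk_tensor, hA₁e, hA₂e, mul_pow, mul_pow, pcls_pow, pcls_pow]
      have h2 : pcls L (b + fun i => h * w' i) = pcls L (a + fun i => h * w i) := by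
        refine (pcls_eq_iff hC hH0 hY hΓ hL _ _).2 ⟨e, fun i => ?_⟩
        have h3 := Int.toNat_sub_toNat_neg (c i)
        simp only [Pi.add_apply, w, w']
        push_cast
        linear_combination hce i - (h : ℤ) * h3
      rw [← pcls_add, ← pcls_add, ← hab] at h2
      have h4 := congrArg (· * (pcls (kerMods Γ) a * pcls (kerMods Γ) fun i => h * w i)) h2
      calc _ = IntLib.mk M ^ h * (pcls L a * pcls (kerMods Γ) a) * (pcls L fun i => h * w' i) *
            pcls (kerMods Γ) (fun i => h * w i) := by rw [pcls_mul_ker hL, mul_one, mul_right_comm]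
        _ = (pcls L a * pcls (kerMods Γ) a) * ((pcls L fun i => h * w i) * pcls (kerMods Γ) fun i => h * w i) := by
          rw [← mul_mul_mul_comm, ← h4]; ac_rfl
        _ = 1 := by rw [pcls_mul_ker hL, pcls_mul_ker hL, mul_one]
    · rw [IntLib.mk_tensor, IntLib.mk_tensor, hA₁e, hA₂e, map_mul, map_mul]
      simp only [pcls, map_prod, map_pow, pullCls_ker hC hY hg, pullCls_inverse hC hY hg hL, one_pow,
        Finset.prod_const_one, mul_one]

end Model

end Groth.Agent.CastLib
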