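import Groth.Agent.CastLib.ExcBlowUp
import Groth.Agent.CastLib.PicTors
import Groth.Agent.S0234
import Groth.Agent.S14836
import Groth.Agent.PicProjLib.Affine
import Groth.Agent.RegLocal.UFD
import Groth.Agent.TwistShriek.PicPrime
import Mathlib

/-!
# The Picard group of a blown up point
-/

set_option autoImplicit false
set_option backward.isDefEq.respectTransparency false
set_option backward.isDefEq.respectTransparency.types false
set_option linter.style.haveILetI false
set_option maxHeartbeats 1000000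

universe u

open CategoryTheory CategoryTheory.Limits AlgebraicGeometry TopologicalSpace IsLocalRing
open Groth.Agent.TwistShriek Groth.Agent.TwistShriek.PointBlow Groth.Agent.SurfPtBlow

noncomputable section

namespace Groth.Agent.CastLib.BlowPic

theorem pullCls_comp {A B D : Scheme.{u}} (g : A ⟶ B) (h : B ⟶ D) (c : IntLib.MCls D) :
    IntLib.pullCls g (IntLib.pullCls h c) = IntLib.pullCls (g ≫ h) c := by
  obtain ⟨M⟩ := c
  exact IntLib.mk_congr ((Scheme.Modules.pullbackComp g h).app M)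

theorem pullCls_id {A : Scheme.{u}} (c : IntLib.MCls A) : IntLib.pullCls (𝟙 A) c = c := by
  obtain ⟨M⟩ := c
  exact IntLib.mk_congr ((Scheme.Modules.pullbackId A).app M)

theorem mk_restrict {A : Scheme.{u}} (U : A.Opens) (M : A.Modules) :
    IntLib.mk (M.restrict U.ι) = IntLib.pullCls U.ι (IntLib.mk M) :=
  IntLib.mk_congr ((Scheme.Modules.restrictFunctorIsoPullback U.ι).app M)

theorem mk_eq_one {A : Scheme.{u}} {M : A.Modules} :
    IntLib.mk M = 1 ↔ Nonempty (M ≅ Coh.structureModule A) := by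
  rw [← IntLib.mk_structureModule, IntLib.mk_eq_mk]

/-- Invertible modules on the spectrum of a field are trivial. -/
theorem mk_eq_one_field {F : Type u} [Field F] {M : (Spec (CommRingCat.of F)).Modules} (hM : PicF.IsInvertible M) :
    IntLib.mk M = 1 := by
  haveI : IsDomain (CommRingCat.of F) := inferInstanceAs (IsDomain F)
  haveI : UniqueFactorizationMonoid (CommRingCat.of F) := inferInstanceAs (UniqueFactorizationMonoid F)
  exact mk_eq_one.2 ((PicLib.cls_eq_one hM).1 (PicProjLib.pic_spec_ufd _))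

/-- A module pulled back through a point is trivial on anything. -/
theorem pullCls_eq_one_of_point {A B : Scheme.{u}} {F : Type u} [Field F] (a : A ⟶ Spec (CommRingCat.of F))
    (pt : Spec (CommRingCat.of F) ⟶ B) {M : B.Modules} (hM : PicF.IsInvertible M) :
    IntLib.pullCls (a ≫ pt) (IntLib.mk M) = 1 := by
  rw [← pullCls_comp, IntLib.pullCls_mk pt M, mk_eq_one_field (AmpleLib.isInvertible_pullback pt hM), map_one]

section Isom

variable {A B : Scheme.{u}} (f : A ⟶ B) (U : B.Opens) [IsIso (f ∣_ U)]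

/-- Over an open where `f` is an isomorphism, every invertible module comes from below. -/
theorem exists_restrict_eq {F : A.Modules} (hF : PicF.IsInvertible F) :
    ∃ L₀ : (U : Scheme.{u}).Modules, PicF.IsInvertible L₀ ∧
      IntLib.pullCls (f ∣_ U) (IntLib.mk L₀) = IntLib.pullCls (f ⁻¹ᵁ U).ι (IntLib.mk F) := by
  refine ⟨(Scheme.Modules.pullback (inv (f ∣_ U))).obj ((Scheme.Modules.pullback (f ⁻¹ᵁ U).ι).obj F),
    AmpleLib.isInvertible_pullback _ (AmpleLib.isInvertible_pullback _ hF), ?_⟩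
  rw [← IntLib.pullCls_mk, ← IntLib.pullCls_mk, pullCls_comp, IsIso.hom_inv_id, pullCls_id]

end Isom

variable {R : Type u} [CommRing R] [IsDomain R] [IsDiscreteValuationRing R] {Y : Over (Spec (CommRingCat.of R))}

theorem ker_eq_exc {Y X : Scheme.{u}} [IsLocallyNoetherian Y] {y : Y} {hy : IsClosed ({y} : Set Y)} {f : X ⟶ Y}
    (hf : BlowUp.IsBlowUp f (pointIdeal hy)) (P : PointParams hy) {Z : Scheme.{u}} [IsReduced Z] (j : Z ⟶ X)
    [IsClosedImmersion j] (hE : ∀ x, (∃ c, j c = x) ↔ f x = y) : j.ker = (jE f hy).ker := by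
  haveI := isIntegral_E hf P
  refine ker_eq_of_range_eq j (jE f hy) ?_
  rw [range_jE_eq]
  exact Set.ext fun z => hE z

/-- A closed point under a curve: `Pic Y → Pic X → Pic E` is exact. -/
theorem VSurf.exists_eq_pullback (h : VSurf Y) {y : Y.left} (hy : IsClosed ({y} : Set Y.left))
    (hys : Y.hom y = closedPoint R) {X : Scheme.{u}} (f : X ⟶ Y.left)
    (hf : BlowUp.IsBlowUp f (pointIdeal hy)) (E : ArSurf.VertComp R (Over.mk (f ≫ Y.hom)))
    (hE : ∀ x, (∃ c, E.ι c = x) ↔ f x = y)
    {F : X.Modules} (hF : PicF.IsInvertible F)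
    (hFE : IntLib.pullCls E.ι (IntLib.mk F) = 1) :
    ∃ L : Y.left.Modules, PicF.IsInvertible L ∧ IntLib.pullCls f (IntLib.mk L) = IntLib.mk F := by
  haveI := h.int
  haveI := h.noeth
  let j : E.curve.left ⟶ X := E.ι
  have hsub : ¬ Subsingleton E.curve.left := fun hs => by
    have h1 : (1 : WithBot ℕ∞) ≤ 0 := E.dim_eq.ge.trans (by
      rw [ASp.topologicalKrullDim_eq_krullDim]
      exact Order.krullDim_nonpos_of_subsingleton)
    exact absurd h1 (by decide)
  have hd := h.dim_two hy hys hf j hsub fun c => (hE _).1 ⟨c, rfl⟩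
  obtain ⟨P⟩ := exists_pointParams hy (h.reg y) hd
  haveI := PointBlow.isProper hf
  haveI : IsLocallyNoetherian X := LocallyOfFiniteType.isLocallyNoetherian f
  haveI : CompactSpace X := QuasiCompact.compactSpace_of_compactSpace f
  haveI : AlgebraicGeometry.IsNoetherian X := ⟨⟩
  obtain ⟨hXi, -⟩ := integral_blowUp hf hd
  haveI := hXi
  let I : X.IdealSheafData := BlowUp.exceptional f (pointIdeal hy)
  have hI : BlowUp.IsEffCartierIdeal I := hf.1
  have hIE : IsIntegral I.subscheme := isIntegral_E hf P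
  -- extend from the punctured surface
  let U : Y.left.Opens := ⟨{y}ᶜ, hy.isOpen_compl⟩
  haveI hiso : IsIso (f ∣_ U) := isIso_restrict_compl hf U fun hh => hh rfl
  obtain ⟨L₀, hL₀, hL₀F⟩ := exists_restrict_eq f U hF
  obtain ⟨L, hL, ⟨eL⟩⟩ := S0234.result Y.left U L₀ hL₀ fun z hz => by
    have hzy : z = y := not_not.1 hz
    subst hzy
    haveI := h.reg z
    haveI := RegLocal.isDomain (Y.left.presheaf.stalk z)
    exact RegLocal.ufd _
  obtain ⟨L', hL', hLL'⟩ := exists_inverse_of_isInvertible hL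
  -- the difference is trivial off the exceptional curve
  let M : X.Modules := CohB1.tensorMod F ((Scheme.Modules.pullback f).obj L')
  have hM : PicF.IsInvertible M := AmpleLib.isInvertible_tensor hF (AmpleLib.isInvertible_pullback f hL')
  have hMU : IntLib.pullCls (f ⁻¹ᵁ U).ι (IntLib.mk M) = 1 := by
    have h1 : IntLib.pullCls U.ι (IntLib.mk L) = IntLib.mk L₀ := (mk_restrict U L).symm.trans (IntLib.mk_congr eL)
    have h2 : IntLib.pullCls (f ⁻¹ᵁ U).ι (IntLib.mk M) =
        IntLib.pullCls (f ∣_ U) (IntLib.pullCls U.ι (IntLib.mk L)) * IntLib.pullCls (f ∣_ U) (IntLib.pullCls U.ι (IntLib.mk L')) := by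
      rw [IntLib.mk_tensor, map_mul, ← IntLib.pullCls_mk, pullCls_comp, ← morphismRestrict_ι, ← pullCls_comp, h1, hL₀F]
    rw [h2, ← map_mul, ← map_mul, hLL', map_one, map_one]
  have hopen : f ⁻¹ᵁ U = (I.support.compl : X.Opens) := by
    apply Opens.ext
    show f ⁻¹' ({y}ᶜ : Set Y.left) = (((pointIdeal hy).comap f).support : Set X)ᶜ
    rw [Scheme.IdealSheafData.support_comap, Closeds.coe_preimage, Scheme.IdealSheafData.coe_support_vanishingIdeal]
    rfl
  rw [hopen] at hMU
  obtain ⟨e⟩ := mk_eq_one.1 ((mk_restrict (A := X) I.support.compl M).trans hMU)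
  obtain ⟨a, b, hab⟩ := exists_mk_eq_pow hI hIE hM e
  -- compare on the curve
  obtain ⟨L₁, hL₁⟩ := exists_inverse_idealMod (Y := X) (D := j.ker) (by
    rw [ker_eq_exc hf P j hE, Scheme.IdealSheafData.ker_subschemeι]
    exact hf.1)
  obtain ⟨⟨hC, k, _, e', ⟨τ⟩⟩, ⟨eP, heP⟩, -, -⟩ := h.exc_blowUp hy hys f hf E hE hL₁
  have hker : j.ker = I := by
    rw [ker_eq_exc hf P j hE, Scheme.IdealSheafData.ker_subschemeι]
  have hLE : IntLib.pullCls j (IntLib.pullCls f (IntLib.mk L')) = 1 := by
    have h1 : j ≫ f = eP.inv ≫ CohB1.ProjSpace.toSpec 1 (Y.left.residueField y) ≫ Y.left.fromSpecResidueField y := by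
      rw [← heP, Iso.inv_hom_id_assoc]
    rw [pullCls_comp, h1, ← Category.assoc]
    exact pullCls_eq_one_of_point _ _ hL'
  replace hFE : IntLib.pullCls j (IntLib.mk F) = 1 := hFE
  have hME : IntLib.pullCls j (IntLib.mk M) = 1 := by
    rw [IntLib.mk_tensor, map_mul, ← IntLib.pullCls_mk, hFE, hLE, one_mul]
  have h3 := congrArg (IntLib.pullCls j) hab
  rw [map_mul, hME, one_mul, map_pow, map_pow] at h3
  have h4 := congrArg (IntLib.pullCls e'.hom) h3
  rw [map_pow, map_pow, pullCls_comp] at h4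
  have hdeg : degOn (e'.hom ≫ j) (ClSub.idealMod I) = 1 := by
    rw [← hker]
    exact (degP_congr (IntLib.mk_congr τ)).trans (S6579.deg_twist_one k)
  have hpow : ∀ n : ℕ, IntLib.pullCls (e'.hom ≫ j) (IntLib.mk (ClSub.idealMod I)) ^ n =
      IntLib.mk ((Scheme.Modules.pullback (e'.hom ≫ j)).obj (ClSub.idealMod (I ^ n))) := fun n => by
    rw [← map_pow, ← (mk_idealMod_pow hI n).2, IntLib.pullCls_mk]
  change IntLib.pullCls (e'.hom ≫ j) _ ^ a = IntLib.pullCls (e'.hom ≫ j) _ ^ b at h4
  rw [hpow, hpow] at h4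
  have h5 : degOn (e'.hom ≫ j) (ClSub.idealMod (I ^ a)) = degOn (e'.hom ≫ j) (ClSub.idealMod (I ^ b)) := degP_congr h4
  rw [(degOn_pow _ hI a).2, (degOn_pow _ hI b).2, hdeg, mul_one, mul_one] at h5
  have hab' : a = b := by exact_mod_cast h5
  subst hab'
  obtain ⟨N, hN⟩ := exists_inverse_idealMod hI
  have hunit : IntLib.mk N * IntLib.mk (ClSub.idealMod I) = 1 := mk_mul_of_isInverseOf hN
  have hM1 : IntLib.mk M = 1 := by
    calc IntLib.mk M = IntLib.mk M * (IntLib.mk N * IntLib.mk (ClSub.idealMod I)) ^ a := by rw [hunit, one_pow, mul_one]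
      _ = (IntLib.mk M * IntLib.mk (ClSub.idealMod I) ^ a) * IntLib.mk N ^ a := by rw [mul_pow]; ac_rfl
      _ = 1 := by rw [hab, ← mul_pow, mul_comm (IntLib.mk (ClSub.idealMod I)), hunit, one_pow]
  refine ⟨L, hL, ?_⟩
  calc IntLib.pullCls f (IntLib.mk L) = IntLib.mk M * IntLib.pullCls f (IntLib.mk L) := by rw [hM1, one_mul]
    _ = IntLib.mk F * IntLib.pullCls f (IntLib.mk L * IntLib.mk L') := by
        rw [IntLib.mk_tensor, ← IntLib.pullCls_mk, map_mul]; ac_rfl
    _ = _ := by rw [hLL', map_one, mul_one]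

end Groth.Agent.CastLib.BlowPic
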