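import Groth.Agent.CastLib.Contraction
import Groth.Agent.CastLib.Projective
import Groth.Agent.SurfPtBlow.DvrMinimalModel

/-!
# Contractions of models over discrete valuation rings
-/

set_option autoImplicit false
set_option backward.isDefEq.respectTransparency false
set_option linter.style.haveILetI false
set_option maxHeartbeats 1000000

universe u

open CategoryTheory CategoryTheory.Limits AlgebraicGeometry TopologicalSpace

noncomputable section

namespace Groth.Agent.CastLib

open Groth.Agent.SurfPtBlow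

/-- An injective map from a Dedekind domain to a domain is flat. -/
theorem flat_spec_of_dominant {R : Type u} [CommRing R] [IsDedekindDomain R] {B : CommRingCat.{u}}
    (φ : CommRingCat.of R ⟶ B) [IsIntegral (Spec B)] [IsDominant (Spec.map φ)] : Flat (Spec.map φ) := by
  haveI : IsDomain B := (Scheme.ΓSpecIso B).symm.commRingCatIsoToRingEquiv.toMulEquiv.isDomain _
  rw [HasRingHomProperty.Spec_iff (P := @Flat)]
  letI : Algebra R B := φ.hom.toAlgebra
  have hinj : Function.Injective φ.hom := by
    rw [RingHom.injective_iff_ker_eq_bot, ← le_bot_iff]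
    refine le_trans ((PrimeSpectrum.denseRange_comap_iff_ker_le_nilRadical _).1 ?_)
      (le_of_eq (nilradical_eq_zero _))
    exact (Spec.map φ).denseRange
  refine (show Module.Flat R B from IsDedekindDomain.flat_iff_torsion_eq_bot.2
    ((Submodule.eq_bot_iff _).2 fun x hx => ?_))
  obtain ⟨⟨r, hr⟩, hrx⟩ := (Submodule.mem_torsion_iff x).1 hx
  have h1 : φ.hom r * x = 0 := hrx
  rcases mul_eq_zero.1 h1 with h | h
  · exact absurd (hinj (h.trans (map_zero _).symm)) (nonZeroDivisors.ne_zero hr)
  · exact h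

/-- An integral scheme dominating a Dedekind scheme is flat over it. -/
theorem flat_of_dominant {R : Type u} [CommRing R] [IsDedekindDomain R] {Y : Scheme.{u}} [IsIntegral Y]
    (t : Y ⟶ Spec (CommRingCat.of R)) [IsDominant t] : Flat t := by
  refine IsZariskiLocalAtSource.of_openCover (P := @Flat) Y.affineCover fun i => ?_
  show Flat (Y.affineCover.f i ≫ t)
  by_cases hne : IsEmpty (Y.affineCover.X i)
  · infer_instance
  rw [not_isEmpty_iff] at hne
  haveI := hne
  haveI : IsIntegral (Y.affineCover.X i) := isIntegral_of_isOpenImmersion (Y.affineCover.f i)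
  haveI : IsDominant (Y.affineCover.f i) := ⟨by
    rw [DenseRange]
    exact (Y.affineCover.f i).opensRange.2.dense ⟨_, hne.some, rfl⟩⟩
  obtain ⟨φ, hφ⟩ := Spec.map_surjective (Y.affineCover.f i ≫ t)
  haveI : IsDominant (Spec.map φ) := hφ.symm ▸ inferInstance
  rw [← hφ]
  exact @flat_spec_of_dominant R _ _ _ φ ‹IsIntegral (Y.affineCover.X i)› ‹_›

variable {R : Type u} [CommRing R] [IsDomain R] [IsDiscreteValuationRing R] {C X : Scheme.{u}}
  {f : C ⟶ Spec (CommRingCat.of (FractionRing R))}

/-- The non closed points of the closed fibre. -/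
def fibrePts (p : X ⟶ Spec (CommRingCat.of R)) : Set X :=
  {z | z ∈ p ⁻¹' {IsLocalRing.closedPoint R} ∧ ¬ IsClosed ({z} : Set X)}

/-- **Contracting an exceptional curve of a model gives a model.** -/
theorem exists_contract_step (hC : Curve.IsSmoothProperCurve (FractionRing R) C f)
    (p : X ⟶ Spec (CommRingCat.of R)) (hX : Models.IsRegularProperModel R X p C f) {g : C ⟶ X}
    (hg : IsPullback g f p (Spec.map (CommRingCat.ofHom (algebraMap R (FractionRing R)))))
    {E : Scheme.{u}} (ι : E ⟶ X) [IsClosedImmersion ι] (hE : Models.IsExcCurve ι)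
    (hEv : ∀ c, p (ι c) = IsLocalRing.closedPoint R) :
    ∃ (X' : Scheme.{u}) (p' : X' ⟶ Spec (CommRingCat.of R)) (b : X ⟶ X'),
      Models.IsRegularProperModel R X' p' C f ∧
      IsPullback (g ≫ b) f p' (Spec.map (CommRingCat.ofHom (algebraMap R (FractionRing R)))) ∧
      b ≫ p' = p ∧ Models.IsContractionOf ι b ∧ (∃ M : X'.Modules, CohB1.IsAmple M) ∧
      (fibrePts p').ncard < (fibrePts p).ncard := by
  obtain ⟨hp, hXi, hXn, hXd⟩ := model_facts hC hX hg
  haveI := hp
  haveI := hXi
  haveI := hXn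
  haveI : IsIntegral C := hC.2.2.1
  haveI := isOpenImmersion_gen hg
  have hgenX : p (genericPoint X) ≠ IsLocalRing.closedPoint R := by
    rw [← genericPoint_eq_of_isOpenImmersion g]
    exact p_apply_gen hg _
  obtain ⟨H₀, hH₀⟩ := exists_isAmple_local hX.2.2 hXd p hgenX
  obtain ⟨X', hX'i, hX'n, b, hbp, p', hp', y, hy, hcomm, hcontr, hreg, hd', hO, hfib, hiso, hM⟩ :=
    exists_contraction hX.2.2 hXd p hH₀ ι hE
  haveI := hX'i
  haveI := hX'n
  haveI := hbp
  haveI := hp'
  haveI : Surjective b := SteinConn.surjective_of_bijApp b hO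
  haveI : Nonempty E := by
    obtain ⟨-, k, _, e, -⟩ := id hE
    haveI := isIntegral_P1 (k := k)
    exact ⟨e.hom (genericPoint _)⟩
  have hyv : p' y = IsLocalRing.closedPoint R := by
    obtain ⟨c⟩ := ‹Nonempty E›
    have h1 : b (ι c) = y := hfib.ge ⟨c, rfl⟩
    rw [← h1, ← Scheme.Hom.comp_apply, hcomm]
    exact hEv c
  let U₀ : X'.Opens := ⟨{y}ᶜ, hy.isOpen_compl⟩
  let gK := Spec.map (CommRingCat.ofHom (algebraMap R (FractionRing R)))
  have hsq : IsPullback (g ≫ b) f p' gK := by
    let l : pullback p' gK ⟶ U₀.toScheme := IsOpenImmersion.lift U₀.ι (pullback.fst p' gK) (by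
      rw [Scheme.Opens.range_ι, Scheme.Pullback.range_fst]
      rintro z ⟨a, ha⟩ (hzy : z = y)
      rw [hzy, hyv] at ha
      have h2 : gK a ∈ Set.range gK := ⟨a, rfl⟩
      rw [range_specGen] at h2
      exact IsDiscreteValuationRing.not_a_field R
        (congrArg PrimeSpectrum.asIdeal (ha.symm.trans h2)))
    have hl : l ≫ U₀.ι = pullback.fst p' gK := IsOpenImmersion.lift_fac _ _ _
    let h : C ⟶ pullback p' gK := pullback.lift (g ≫ b) f (by rw [Category.assoc, hcomm, hg.w])
    have h1 : IsPullback g h b (pullback.fst p' gK) :=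
      IsPullback.of_bot (by rw [pullback.lift_snd, hcomm]; exact hg) (pullback.lift_fst _ _ _).symm
        (IsPullback.of_hasPullback p' gK)
    have h2 := IsPullback.of_right' (h₂₁ := l) (hl.symm ▸ h1) (isPullback_morphismRestrict b U₀).flip
    haveI : IsIso (b ∣_ U₀) := hiso
    haveI : IsIso h := (MorphismProperty.isomorphisms Scheme).of_isPullback h2
      (show IsIso (b ∣_ U₀) from hiso)
    exact IsPullback.of_iso_pullback ⟨by rw [Category.assoc, hcomm, hg.w]⟩ (asIso h)
      (pullback.lift_fst _ _ _) (pullback.lift_snd _ _ _)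
  haveI : IsDominant p' := by
    haveI := isOpenImmersion_gen hsq
    refine ⟨?_⟩
    have h1 : p' (genericPoint X') = (⟨⊥, Ideal.isPrime_bot⟩ : PrimeSpectrum R) := by
      rw [← genericPoint_eq_of_isOpenImmersion (g ≫ b), ← Scheme.Hom.comp_apply, hsq.w, Scheme.Hom.comp_apply]
      have h2 : gK (f (genericPoint C)) ∈ Set.range gK := ⟨_, rfl⟩
      rw [range_specGen] at h2
      exact h2
    have hbot : Dense ({(⟨⊥, Ideal.isPrime_bot⟩ : PrimeSpectrum R)} : Set (PrimeSpectrum R)) := fun z =>
      specializes_iff_mem_closure.1 ((PrimeSpectrum.le_iff_specializes _ z).1 bot_le)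
    exact hbot.mono (Set.singleton_subset_iff.2 ⟨_, h1⟩)
  haveI : Flat p' := flat_of_dominant p'
  refine ⟨X', p', b, ⟨⟨inferInstance, inferInstance, inferInstance, _, hsq⟩, hp', hreg⟩, hsq, hcomm, hcontr, hM, ?_⟩
  -- fewer curves in the closed fibre
  obtain ⟨k, _, j, _, hjr, hjC, -⟩ := exists_line ι hE
  haveI := isIntegral_P1 (k := k)
  let η := j (genericPoint (CohB1.ProjSpace 1 k))
  have hηb : b η = y := hfib.ge (hjr ▸ ⟨_, rfl⟩)
  have hηF : η ∈ fibrePts p := by
    refine ⟨?_, fun h => ?_⟩
    · obtain ⟨c, hc⟩ := hjr.le ⟨genericPoint (CohB1.ProjSpace 1 k), rfl⟩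
      show p η = _
      rw [show η = ι c from hc.symm]
      exact hEv c
    · have hc : IsClosed ({genericPoint (CohB1.ProjSpace 1 k)} : Set (CohB1.ProjSpace 1 k)) := by
        have e : j ⁻¹' {η} = {genericPoint (CohB1.ProjSpace 1 k)} := Set.eq_singleton_iff_unique_mem.2
          ⟨rfl, fun w hw => j.isClosedEmbedding.injective hw⟩
        exact e ▸ h.preimage j.continuous
      have hu := (genericPoint_spec (CohB1.ProjSpace 1 k)).def
      rw [hc.closure_eq] at hu
      haveI : Subsingleton (CohB1.ProjSpace 1 k) := Set.subsingleton_univ_iff.1 (hu ▸ Set.subsingleton_singleton)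
      have h0 := topologicalKrullDim_zero_of_discreteTopology (CohB1.ProjSpace 1 k)
      rw [dim_P1] at h0
      exact absurd h0 (by decide)
  have hfin : (fibrePts p).Finite :=
    finite_not_closed hXd ((IsLocalRing.isClosed_singleton_closedPoint R).preimage p.continuous) hgenX
  have hsub : fibrePts p' ⊆ b '' (fibrePts p \ {η}) := fun z hz => by
    obtain ⟨x, rfl⟩ := b.surjective z
    refine ⟨x, ⟨⟨?_, fun hx => hz.2 ?_⟩, fun hxη => hz.2 ?_⟩, rfl⟩
    · show p x = _
      rw [← hcomm, Scheme.Hom.comp_apply]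
      exact hz.1
    · rw [← Set.image_singleton]
      exact b.isClosedMap _ hx
    · rw [show x = η from hxη, hηb]
      exact hy
  calc (fibrePts p').ncard ≤ (b '' (fibrePts p \ {η})).ncard :=
        Set.ncard_le_ncard hsub ((hfin.subset Set.sdiff_subset).image _)
    _ ≤ (fibrePts p \ {η}).ncard := Set.ncard_image_le (hfin.subset Set.sdiff_subset)
    _ < (fibrePts p).ncard := Set.ncard_sdiff_singleton_lt_of_mem hηF hfin

/-- **Every regular proper model contracts onto a minimal one.** -/
theorem exists_minimal_below (hC : Curve.IsSmoothProperCurve (FractionRing R) C f) :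
    ∀ (n : ℕ) {X : Scheme.{u}} (p : X ⟶ Spec (CommRingCat.of R)) (_ : Models.IsRegularProperModel R X p C f)
      (g : C ⟶ X) (_ : IsPullback g f p (Spec.map (CommRingCat.ofHom (algebraMap R (FractionRing R))))),
      (fibrePts p).ncard ≤ n →
      ∃ (X' : Scheme.{u}) (p' : X' ⟶ Spec (CommRingCat.of R)) (b : X ⟶ X'),
        Models.IsMinimalModel R X' p' C f ∧
        IsPullback (g ≫ b) f p' (Spec.map (CommRingCat.ofHom (algebraMap R (FractionRing R)))) ∧
        b ≫ p' = p ∧ Models.IsContractionSeq b := by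
  intro n
  induction n using Nat.strong_induction_on with
  | _ n ih =>
  intro X p hX g hg hn
  by_cases hmin : ∀ Γ : ArSurf.VertComp R (Over.mk p), ¬ Models.IsExcCurve Γ.ι
  · exact ⟨X, p, 𝟙 X, ⟨hX, hmin⟩, by simpa using hg, Category.id_comp p,
      Models.IsContractionSeq.iso (Iso.refl X)⟩
  push Not at hmin
  obtain ⟨Γ, hΓ⟩ := hmin
  have hv : ∀ c, p (Γ.ι c) = IsLocalRing.closedPoint R := fun c => by
    have h := congrArg (fun m => m c) Γ.w
    simp only [Scheme.Hom.comp_apply] at h
    refine h.trans ?_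
    rw [Subsingleton.elim (α := PrimeSpectrum (IsLocalRing.ResidueField R)) (Γ.curve.hom c) (IsLocalRing.closedPoint _)]
    exact IsLocalRing.comap_closedPoint (IsLocalRing.residue R)
  obtain ⟨X₁, p₁, b, hX₁, hg₁, hb, hcontr, -, hlt⟩ := exists_contract_step hC p hX hg Γ.ι hΓ hv
  obtain ⟨X', p', b', hX', hg', hb', hseq⟩ := ih _ (hlt.trans_le hn) p₁ hX₁ _ hg₁ le_rfl
  refine ⟨X', p', b ≫ b', hX', by rwa [← Category.assoc], by rw [Category.assoc, hb', hb], ?_⟩
  exact Models.IsContractionSeq.step Γ.ι b b' inferInstance hΓ hcontr hseq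

end Groth.Agent.CastLib
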