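import Groth.Agent.CastLib.Local
import Groth.Agent.SurfPtBlow.RelMin
import Groth.Agent.AmpleEmb.TwistOne
import Groth.Agent.TwistShriek.CartierSES
import Groth.Agent.IdealStalkLib.Comap
import Groth.Agent.RegIdealLib.Immersion

/-!
# Regularity at the image of the contracted line
-/

set_option autoImplicit false
set_option backward.isDefEq.respectTransparency false
set_option linter.style.haveILetI false
set_option maxHeartbeats 1000000

universe u

open CategoryTheory CategoryTheory.Limits AlgebraicGeometry TopologicalSpace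
open Groth.Agent.PullbackMod Groth.Agent.AmpleLib

noncomputable section

namespace Groth.Agent.CastLib

open Groth.Agent.SurfPtBlow

/-- The stalk of the ideal of a closed immersion. -/
theorem stalkIdeal_kerJ {X Y : Scheme.{u}} (j : Y ⟶ X) [IsClosedImmersion j] (y : Y) :
    IntMult.stalkIdeal j.ker (j y) = RingHom.ker (j.stalkMap y).hom := by
  obtain ⟨_, ⟨W, hW, rfl⟩, hy, -⟩ :=
    X.isBasis_affineOpens.exists_subset_of_mem_open (Set.mem_univ (j y)) isOpen_univ
  rw [RegIdealLib.ker_stalkMap j hW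
      (IsZariskiLocalAtTarget.restrict (P := @IsClosedImmersion) inferInstance _) y hy,
    IdealStalkLib.stalkIdeal_eq j.ker ⟨W, hW⟩ (j y) hy, Scheme.Hom.ker_apply]

/-- An effective Cartier divisor avoids the generic point. -/
theorem genericPoint_notMem_range {X Z : Scheme.{u}} [IsIntegral X] (j : Z ⟶ X) [IsClosedImmersion j]
    (hC : BlowUp.IsEffCartierIdeal j.ker) : genericPoint X ∉ Set.range j := by
  rintro ⟨z, hz⟩
  obtain ⟨U, hxU, c, hc, hU⟩ := hC (j z)
  haveI : Nonempty U.1 := ⟨⟨_, hxU⟩⟩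
  have hc0 : (X.presheaf.germ U.1 (j z) hxU).hom c ≠ 0 := fun h => nonZeroDivisors.ne_zero hc
    (germ_injective_of_isIntegral X (j z) hxU (h.trans (map_zero _).symm))
  have hF : IsField (X.presheaf.stalk (j z)) := by rw [hz]; exact Field.toIsField X.functionField
  obtain ⟨c', hc'⟩ := hF.mul_inv_cancel hc0
  have hm : (X.presheaf.germ U.1 (j z) hxU).hom c ∈ RingHom.ker (j.stalkMap z).hom := by
    rw [← stalkIdeal_kerJ, IdealStalkLib.stalkIdeal_eq _ U _ hxU, hU]
    exact Ideal.mem_map_of_mem _ (Ideal.mem_span_singleton_self c)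
  have h1 := congrArg (j.stalkMap z).hom hc'
  rw [map_mul, RingHom.mem_ker.1 hm, zero_mul, map_one] at h1
  exact zero_ne_one h1

/-- Where a section of an ideal generates, its function generates the ideal. -/
theorem stalkIdeal_eq_span_of_gen {U : Scheme.{u}} {I : U.IdealSheafData} (hI : BlowUp.IsEffCartierIdeal I)
    (τ : Coh.structureModule U ⟶ ClSub.idealMod I) {x : U} (hx : x ∈ CohB1.genLocus _ τ) :
    IntMult.stalkIdeal I x = Ideal.span {(U.presheaf.germ ⊤ x trivial).hom (sec (τ ≫ ClSub.idealModι I))} := by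
  let a : Γ(U, ⊤) := sec (τ ≫ ClSub.idealModι I)
  let g0 := stalkLin τ x (ParaFLib.oneG x)
  have hg0 : Function.Bijective fun r : U.presheaf.stalk x => r • g0 := by
    have h := (mem_genLocus_iff ((S8914.result I).2 hI)).1 hx
    rwa [show g0 = (ClSub.idealMod I).presheaf.germ ⊤ x trivial (sec τ) from stalkLin_germ τ (U := ⊤) x trivial _]
  have hι : stalkLin (ClSub.idealModι I) x g0 = (U.presheaf.germ ⊤ x trivial).hom a • ParaFLib.oneG x := by
    have h := TwistShriek.stalkLin_secHom_one (Y := U) a x trivial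
    rw [show DCohLib.secHom (Coh.structureModule U) a = τ ≫ ClSub.idealModι I from secHom_sec _, stalkLin_comp] at h
    exact h
  refine le_antisymm (fun r hr => ?_) (Ideal.span_le.2 (Set.singleton_subset_iff.2
    ((HilbObsLib.mem_range_idealModι I x _).1 ⟨g0, hι⟩)))
  obtain ⟨n, hn⟩ := (HilbObsLib.mem_range_idealModι I x r).2 hr
  obtain ⟨t, rfl⟩ := hg0.2 n
  rw [map_smul, hι, smul_smul] at hn
  exact Ideal.mem_span_singleton'.2 ⟨t, (ParaFLib.bijective_oneG x).1 hn⟩

theorem mem_stalkIdeal_sec {U : Scheme.{u}} (I : U.IdealSheafData) (τ : Coh.structureModule U ⟶ ClSub.idealMod I)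
    (x : U) : (U.presheaf.germ ⊤ x trivial).hom (sec (τ ≫ ClSub.idealModι I)) ∈ IntMult.stalkIdeal I x := by
  refine (HilbObsLib.mem_range_idealModι I x _).1 ⟨stalkLin τ x (ParaFLib.oneG x), ?_⟩
  have h := TwistShriek.stalkLin_secHom_one (Y := U) (sec (τ ≫ ClSub.idealModι I)) x trivial
  rw [secHom_sec, stalkLin_comp] at h
  exact h

variable {X Y : Scheme.{u}} [AlgebraicGeometry.IsNoetherian X] [IsLocallyNoetherian Y]

/-- The functions on the preimage of an open set, seen on the open subscheme. -/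
def toOpen (W : X.Opens) (a : Γ(X, W)) : Γ(W.toScheme, ⊤) := W.topIso.inv a

omit [AlgebraicGeometry.IsNoetherian X] in
theorem germ_toOpen (W : X.Opens) (a : Γ(X, W)) (x : W.toScheme) :
    (W.ι.stalkMap x).hom ((X.presheaf.germ W (W.ι x) x.2).hom a) =
      (W.toScheme.presheaf.germ ⊤ x trivial).hom (toOpen W a) := by
  rw [Scheme.Hom.germ_stalkMap_apply]
  have h : W.ι.app W ≫ W.toScheme.presheaf.germ (W.ι ⁻¹ᵁ W) x x.2 =
      W.topIso.inv ≫ W.toScheme.presheaf.germ ⊤ x trivial := by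
    have e : (⊤ : W.toScheme.Opens) ≤ W.ι ⁻¹ᵁ W := fun z _ => z.2
    rw [show W.topIso.inv = W.ι.app W ≫ W.toScheme.presheaf.map (homOfLE e).op by
      simp [Scheme.Opens.topIso, Scheme.Opens.ι_app, ← Functor.map_comp]; rfl, Category.assoc,
      TopCat.Presheaf.germ_res]
  exact ConcreteCategory.congr_hom h a

omit [AlgebraicGeometry.IsNoetherian X] in
/-- A generating pair of an ideal on an open subscheme generates it on the open set. -/
theorem stalkIdeal_of_comap {W : X.Opens} (I : X.IdealSheafData) (a b : Γ(X, W)) (x : W.toScheme) :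
    IntMult.stalkIdeal I (W.ι x) =
        Ideal.span {(X.presheaf.germ W (W.ι x) x.2).hom a, (X.presheaf.germ W (W.ι x) x.2).hom b} ↔
      IntMult.stalkIdeal (I.comap W.ι) x = Ideal.span
        {(W.toScheme.presheaf.germ ⊤ x trivial).hom (toOpen W a), (W.toScheme.presheaf.germ ⊤ x trivial).hom (toOpen W b)} := by
  have hb : Function.Bijective (W.ι.stalkMap x).hom := ConcreteCategory.bijective_of_isIso (W.ι.stalkMap x)
  rw [IdealStalkLib.stalkIdeal_comap, ← germ_toOpen, ← germ_toOpen,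
    ← Set.image_pair _ (_ : X.presheaf.stalk (W.ι x)), ← Ideal.map_span]
  refine ⟨fun h => by rw [h], fun h => ?_⟩
  rw [← Ideal.comap_map_of_bijective _ hb (I := IntMult.stalkIdeal I (W.ι x)), h,
    Ideal.comap_map_of_bijective _ hb]

/-- **Two equations of the contracted line.** -/
theorem exists_equations (g : X ⟶ Y) [IsProper g] {k : Type u} [Field k]
    (j : CohB1.ProjSpace 1 k ⟶ X) [IsClosedImmersion j] (hC : BlowUp.IsEffCartierIdeal j.ker)
    (e : (Scheme.Modules.pullback j).obj (ClSub.idealMod j.ker) ≅ Twist.twistProjSpace 1 k 1)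
    {V : Y.Opens} (hV : IsAffineOpen V) {y : Y} (hyV : y ∈ V) (hfib : g ⁻¹' {y} = Set.range j)
    {H L : X.Modules} (hH : CohB1.IsAmple H) (hL : PicF.IsInvertible L) {r : ℕ} (hr : 0 < r)
    (hIL : Nonempty (CohB1.tensorMod (CohB1.tensorPow (ClSub.idealMod j.ker) r) L ≅ H))
    {τ : Coh.structureModule X ⟶ L} (hτ : g ⁻¹ᵁ V ≤ CohB1.genLocus L τ) :
    ∃ V' : Y.Opens, IsAffineOpen V' ∧ y ∈ V' ∧ V' ≤ V ∧ ∃ a b : Γ(X, g ⁻¹ᵁ V'), ∀ (x : X) (hx : x ∈ g ⁻¹ᵁ V'),
      IntMult.stalkIdeal j.ker x =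
        Ideal.span {(X.presheaf.germ _ x hx).hom a, (X.presheaf.germ _ x hx).hom b} := by
  classical
  have hjV : Set.range j ⊆ g ⁻¹ᵁ V := fun x hx => by
    have h : g x = y := hfib.ge hx
    show g x ∈ V
    rw [h]; exact hyV
  obtain ⟨j', hj', hci, hC', hker, ⟨e'⟩, hA⟩ := exists_local g j hC e hjV hH hL hr hIL hτ
  haveI := hci
  haveI : IsAffine V.toScheme := hV
  haveI : IsNoetherianRing Γ(Y, V) := IsLocallyNoetherian.component_noetherian ⟨V, hV⟩
  haveI : IsLocallyNoetherian (g ⁻¹ᵁ V).toScheme := inferInstance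
  obtain ⟨hall, -⟩ := vanish_of_isAmple (B := Γ(Y, V)) ((g ∣_ V) ≫ hV.isoSpec.hom) j' hC' e' hA
  let I := j'.ker
  have h1 : Subsingleton (Coh.HH _ (CohB1.tensorMod (ClSub.idealMod I) (ClSub.idealMod I)) 1) :=
    CurveLib.subsingleton_HH_iso (tIso (unitL (ClSub.idealMod I)) (Iso.refl _)) 1 (hall 2)
  have hlift := fun i : Fin (1 + 1) => exists_lift_gen j' ((S8914.result I).2 hC') h1
    (AmpleEmb.coordSec 1 k i ≫ e'.inv)
  choose σ hσ using hlift
  -- the locus where neither generates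
  let W₀ : (g ⁻¹ᵁ V).toScheme.Opens := CohB1.genLocus _ (σ 0) ⊔ CohB1.genLocus _ (σ 1)
  have hW₀ : Set.range j' ⊆ W₀ := by
    rintro _ ⟨z, rfl⟩
    obtain ⟨i, hi⟩ := Opens.mem_iSup.1 ((AmpleEmb.iSup_stdOpen 1 k).ge (Opens.mem_top z))
    have hz : j' z ∈ CohB1.genLocus _ (σ i) := hσ i (by
      rw [show e'.inv = e'.symm.hom from rfl, genLocus_comp_iso, AmpleEmb.genLocus_coordSec]
      exact hi)
    fin_cases i
    · exact Or.inl hz
    · exact Or.inr hz
  let T := (g ∣_ V) '' (W₀ : Set (g ⁻¹ᵁ V).toScheme)ᶜ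
  have hT : IsClosed T := (g ∣_ V).isClosedMap _ W₀.2.isClosed_compl
  let W : Y.Opens := V.ι ''ᵁ ⟨Tᶜ, hT.isOpen_compl⟩
  have hyW : y ∈ W := by
    refine ⟨⟨y, hyV⟩, ?_, rfl⟩
    rintro ⟨w, hw, hwy⟩
    have hgw : g ((g ⁻¹ᵁ V).ι w) = y := by
      have h := congrArg V.ι hwy
      rw [← Scheme.Hom.comp_apply, morphismRestrict_ι, Scheme.Hom.comp_apply] at h
      exact h
    obtain ⟨z, hz⟩ := hfib.le hgw
    refine hw (hW₀ ⟨z, (g ⁻¹ᵁ V).ι.isOpenEmbedding.injective ?_⟩)
    rw [← Scheme.Hom.comp_apply, hj']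
    exact hz
  obtain ⟨_, ⟨V', hV', rfl⟩, hyV', hV'W⟩ :=
    Y.isBasis_affineOpens.exists_subset_of_mem_open hyW W.2
  have hle : V' ≤ V := fun v hv => by
    obtain ⟨w, -, rfl⟩ := hV'W hv
    exact w.2
  let f : Fin (1 + 1) → Γ(X, g ⁻¹ᵁ V) := fun i => (g ⁻¹ᵁ V).topIso.hom (sec (σ i ≫ ClSub.idealModι I))
  have hle' : g ⁻¹ᵁ V' ≤ g ⁻¹ᵁ V := fun z hz => hle hz
  refine ⟨V', hV', hyV', hle, X.presheaf.map (homOfLE hle').op (f 0),
    X.presheaf.map (homOfLE hle').op (f 1), fun x hx => ?_⟩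
  rw [TopCat.Presheaf.germ_res_apply, TopCat.Presheaf.germ_res_apply]
  obtain ⟨w, rfl⟩ : ∃ w : (g ⁻¹ᵁ V).toScheme, (g ⁻¹ᵁ V).ι w = x := ⟨⟨x, hle' hx⟩, rfl⟩
  refine (stalkIdeal_of_comap j.ker (f 0) (f 1) w).2 ?_
  rw [hker]
  have hf : ∀ i, toOpen (g ⁻¹ᵁ V) (f i) = sec (σ i ≫ ClSub.idealModι I) := fun i =>
    ConcreteCategory.congr_hom (g ⁻¹ᵁ V).topIso.hom_inv_id _
  rw [hf, hf]
  have hw : w ∈ W₀ := by
    by_contra hw
    obtain ⟨v, hv, hve⟩ := hV'W hx
    refine hv ⟨w, hw, V.ι.isOpenEmbedding.injective ?_⟩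
    rw [← Scheme.Hom.comp_apply, morphismRestrict_ι, Scheme.Hom.comp_apply]
    exact hve.symm
  rcases hw with hw | hw
  · refine le_antisymm ((stalkIdeal_eq_span_of_gen hC' (σ 0) hw).le.trans
      (Ideal.span_mono (Set.singleton_subset_iff.2 (Set.mem_insert _ _)))) (Ideal.span_le.2 ?_)
    rintro _ (rfl | rfl) <;> exact mem_stalkIdeal_sec _ _ _
  · refine le_antisymm ((stalkIdeal_eq_span_of_gen hC' (σ 1) hw).le.trans
      (Ideal.span_mono (Set.singleton_subset_iff.2 (Set.mem_insert_of_mem _ rfl)))) (Ideal.span_le.2 ?_)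
    rintro _ (rfl | rfl) <;> exact mem_stalkIdeal_sec _ _ _

omit [AlgebraicGeometry.IsNoetherian X] [IsLocallyNoetherian Y] in
/-- A function on the target vanishing at the point vanishes on the contracted line. -/
theorem mem_stalkIdeal_of_vanish (g : X ⟶ Y) {k : Type u} [Field k] (j : CohB1.ProjSpace 1 k ⟶ X)
    [IsClosedImmersion j] {V : Y.Opens} {y : Y} (hyV : y ∈ V) (hfib : g ⁻¹' {y} = Set.range j) (c : Γ(Y, V))
    (hc : y ∉ Y.basicOpen c) (x : X) (hx : x ∈ g ⁻¹ᵁ V) :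
    (X.presheaf.germ _ x hx).hom (g.app V c) ∈ IntMult.stalkIdeal j.ker x := by
  by_cases hxj : x ∈ Set.range j
  · obtain ⟨z, rfl⟩ := hxj
    rw [stalkIdeal_kerJ, RingHom.mem_ker, Scheme.Hom.germ_stalkMap_apply]
    have htop : (⊤ : (CohB1.ProjSpace 1 k).Opens) ≤ j ⁻¹ᵁ g ⁻¹ᵁ V := fun w _ => by
      show g (j w) ∈ V
      rw [show g (j w) = y from hfib.ge ⟨w, rfl⟩]; exact hyV
    let d : Γ(CohB1.ProjSpace 1 k, ⊤) :=
      (CohB1.ProjSpace 1 k).presheaf.map (homOfLE htop).op (j.app (g ⁻¹ᵁ V) (g.app V c))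
    suffices hd : d = 0 by
      have h := congrArg ((CohB1.ProjSpace 1 k).presheaf.germ ⊤ z trivial).hom hd
      rw [map_zero] at h
      simp only [d] at h
      rw [TopCat.Presheaf.germ_res_apply] at h
      exact h
    let e : k ≃+* Γ(CohB1.ProjSpace 1 k, ⊤) := RingEquiv.ofBijective _ (ProjTwist.projφ_bijective (n := 1) (R := k))
    have hF : IsField Γ(CohB1.ProjSpace 1 k, ⊤) := e.symm.toMulEquiv.isField (Field.toIsField k)
    by_contra hd
    obtain ⟨d', hd'⟩ := hF.mul_inv_cancel hd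
    have hz : z ∈ (CohB1.ProjSpace 1 k).basicOpen d := by
      rw [Scheme.basicOpen_of_isUnit _ (IsUnit.of_mul_eq_one d' hd')]; trivial
    rw [show d = _ from rfl, Scheme.basicOpen_res, ← Scheme.preimage_basicOpen, ← Scheme.preimage_basicOpen] at hz
    exact hc ((show g (j z) = y from hfib.ge ⟨z, rfl⟩) ▸ hz.2)
  · have hs : x ∉ j.ker.support := fun h => hxj (by
      have h' : x ∈ closure (Set.range j) := by rw [← Scheme.Hom.support_ker]; exact h
      rwa [j.isClosedEmbedding.isClosed_range.closure_eq] at h')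
    obtain ⟨W, hxW, hW⟩ := IdealStalkLib.exists_unit_nhd j.ker hs
    rw [IdealStalkLib.stalkIdeal_eq _ W x hxW, hW, Ideal.map_top]
    trivial

variable [IsIntegral X] [IsIntegral Y]

omit [AlgebraicGeometry.IsNoetherian X] [IsLocallyNoetherian Y] in
/-- The target of a proper map with only pulled back functions is normal. -/
theorem isNormalScheme_of_bijApp (g : X ⟶ Y) [Surjective g] (hX : Pi1.IsNormalScheme X) (hO : RigidLib.BijApp g) :
    Pi1.IsNormalScheme Y := by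
  refine NormalSch.isNormalScheme_of_affine fun U _ _ => ?_
  obtain ⟨v⟩ := ‹Nonempty ↥U›
  obtain ⟨x, hx⟩ := g.surjective v.1
  haveI : Nonempty (g ⁻¹ᵁ U).toScheme := ⟨⟨x, show g x ∈ U from hx.symm ▸ v.2⟩⟩
  haveI := NormalSch.isIntegrallyClosed_section hX (g ⁻¹ᵁ U)
  exact IsIntegrallyClosed.of_equiv (RingEquiv.ofBijective _ (hO U)).symm

/-- **Castelnuovo: the image point is regular of dimension two.** -/
theorem regular_at_point (g : X ⟶ Y) [IsProper g] [Surjective g] (hX : Pi1.IsNormalScheme X)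
    (hO : RigidLib.BijApp g) {k : Type u} [Field k]
    (j : CohB1.ProjSpace 1 k ⟶ X) [IsClosedImmersion j] (hC : BlowUp.IsEffCartierIdeal j.ker)
    (e : (Scheme.Modules.pullback j).obj (ClSub.idealMod j.ker) ≅ Twist.twistProjSpace 1 k 1)
    {V : Y.Opens} (hV : IsAffineOpen V) {y : Y} (hyV : y ∈ V) (hy : IsClosed ({y} : Set Y))
    (hfib : g ⁻¹' {y} = Set.range j) (hiso : IsIso (g ∣_ (⟨{y}ᶜ, hy.isOpen_compl⟩ : Y.Opens)))
    {H L : X.Modules} (hH : CohB1.IsAmple H) (hL : PicF.IsInvertible L) {r : ℕ} (hr : 0 < r)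
    (hIL : Nonempty (CohB1.tensorMod (CohB1.tensorPow (ClSub.idealMod j.ker) r) L ≅ H))
    {τ : Coh.structureModule X ⟶ L} (hτ : g ⁻¹ᵁ V ≤ CohB1.genLocus L τ) :
    IsRegularLocalRing (Y.presheaf.stalk y) ∧ ringKrullDim (Y.presheaf.stalk y) = 2 := by
  classical
  obtain ⟨V', hV', hyV', hle, a, b, hab⟩ := exists_equations g j hC e hV hyV hfib hH hL hr hIL hτ
  have hjV : Set.range j ⊆ g ⁻¹ᵁ V' := fun x hx => by
    have h : g x = y := hfib.ge hx
    show g x ∈ V'
    rw [h]; exact hyV'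
  obtain ⟨j', hj', hci, hC', hker, ⟨e'⟩, hA⟩ :=
    exists_local g j hC e hjV hH hL hr hIL (τ := τ) (le_trans (show g ⁻¹ᵁ V' ≤ g ⁻¹ᵁ V from fun z hz => hle hz) hτ)
  haveI := hci
  haveI : IsAffine V'.toScheme := hV'
  haveI : IsNoetherianRing Γ(Y, V') := IsLocallyNoetherian.component_noetherian ⟨V', hV'⟩
  obtain ⟨-, hN⟩ := vanish_of_isAmple (B := Γ(Y, V')) ((g ∣_ V') ≫ hV'.isoSpec.hom) j' hC' e' hA
  obtain ⟨N, hNi, ⟨eN⟩⟩ := AmpleEmb.exists_isInverseOf ((S8914.result j'.ker).2 hC')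
  haveI : Nonempty (g ⁻¹ᵁ V').toScheme := ⟨⟨j (genericPoint _), hjV ⟨_, rfl⟩⟩⟩
  haveI : IsIntegral (g ⁻¹ᵁ V').toScheme := inferInstance
  obtain ⟨α, hα⟩ := (hO V').2 a
  obtain ⟨β, hβ⟩ := (hO V').2 b
  -- the maximal ideal has two generators
  letI : Algebra Γ(Y, V') (Y.presheaf.stalk y) := TopCat.Presheaf.algebra_section_stalk Y.presheaf ⟨y, hyV'⟩
  haveI := hV'.isLocalization_stalk ⟨y, hyV'⟩
  let P := (hV'.primeIdealOf ⟨y, hyV'⟩).asIdeal
  have hvan : ∀ c : Γ(Y, V'), c ∈ P → c ∈ Ideal.span {α, β} := fun c hc => by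
    have hcy : y ∉ Y.basicOpen c := fun h => by
      rw [Y.mem_basicOpen c y hyV'] at h
      exact (IsLocalization.AtPrime.isUnit_to_map_iff (Y.presheaf.stalk y) P c).1 h hc
    have key := mem_span_pair j'.ker hC' hNi eN (hN N hNi ⟨eN⟩)
      (a := toOpen _ a) (b := toOpen _ b) (c := toOpen _ (g.app V' c))
      (fun w => hker ▸ (stalkIdeal_of_comap j.ker a b w).1 (hab _ w.2))
      (fun w => by
        have h := Ideal.mem_map_of_mem ((g ⁻¹ᵁ V').ι.stalkMap w).hom
          (mem_stalkIdeal_of_vanish g j hyV' hfib c hcy _ w.2)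
        erw [← IdealStalkLib.stalkIdeal_comap, germ_toOpen] at h
        rw [hker] at h
        exact h)
    obtain ⟨p, q, hpq⟩ := Ideal.mem_span_pair.1 key
    obtain ⟨p', hp'⟩ := (hO V').2 ((g ⁻¹ᵁ V').topIso.hom p)
    obtain ⟨q', hq'⟩ := (hO V').2 ((g ⁻¹ᵁ V').topIso.hom q)
    refine Ideal.mem_span_pair.2 ⟨p', q', (hO V').1 ?_⟩
    have h := congrArg (g ⁻¹ᵁ V').topIso.hom hpq
    simp only [map_add, map_mul, toOpen, Iso.inv_hom_id_apply] at h
    rw [map_add, map_mul, map_mul, hp', hq', hα, hβ]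
    exact h
  let S : Set (Y.presheaf.stalk y) := {algebraMap Γ(Y, V') _ α, algebraMap Γ(Y, V') _ β}
  have hm : IsLocalRing.maximalIdeal (Y.presheaf.stalk y) ≤ Ideal.span S := by
    rw [← IsLocalization.AtPrime.map_eq_maximalIdeal P (Y.presheaf.stalk y), Ideal.map_le_iff_le_comap]
    intro c hc
    rw [Ideal.mem_comap, show S = algebraMap Γ(Y, V') (Y.presheaf.stalk y) '' {α, β} from (Set.image_pair _ _ _).symm,
      ← Ideal.map_span]
    exact Ideal.mem_map_of_mem _ (hvan c hc)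
  -- dimension
  have hYn := isNormalScheme_of_bijApp g hX hO
  have hxne := genericPoint_notMem_range j hC
  let U₀ : Y.Opens := ⟨{y}ᶜ, hy.isOpen_compl⟩
  have hbir : ∃ W : Y.Opens, (W : Set Y).Nonempty ∧ IsIso (g ∣_ W) :=
    ⟨U₀, ⟨g (genericPoint X), fun h => hxne (hfib.le h)⟩, hiso⟩
  obtain ⟨W, hW, hWi⟩ := hbir
  obtain ⟨hgen, hst⟩ := BirQFLib.birational_of_isIso_restrict g W hW hWi
  have h2 : (2 : WithBot ℕ∞) ≤ ringKrullDim (Y.presheaf.stalk y) := by
    by_contra h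
    obtain ⟨W', hyW', hW'⟩ :=
      BirQFLib.exists_nhd_isIso_of_dim_le_one hYn g hgen hst y (SurfPtBlow.le_one_of_lt_two (not_le.1 h))
    haveI := hW'
    haveI : Subsingleton (CohB1.ProjSpace 1 k) := ⟨fun p q => j.isClosedEmbedding.injective (by
      have hp : g (j p) = y := hfib.ge ⟨p, rfl⟩
      have hq : g (j q) = y := hfib.ge ⟨q, rfl⟩
      exact congrArg Subtype.val ((g ∣_ W').homeomorph.injective (a₁ := ⟨j p, show g (j p) ∈ W' from hp.symm ▸ hyW'⟩)
        (a₂ := ⟨j q, show g (j q) ∈ W' from hq.symm ▸ hyW'⟩) (Subtype.ext (by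
          rw [Scheme.Hom.homeomorph_apply, Scheme.Hom.homeomorph_apply, morphismRestrict_base]
          exact hp.trans hq.symm))))⟩
    have := dim_P1 (k := k)
    have h0 := topologicalKrullDim_zero_of_discreteTopology (CohB1.ProjSpace 1 k)
    rw [this] at h0
    exact absurd h0 (by decide)
  haveI : IsNoetherianRing (Y.presheaf.stalk y) := inferInstance
  have hspan : Ideal.span S = IsLocalRing.maximalIdeal (Y.presheaf.stalk y) := by
    refine le_antisymm (Ideal.span_le.2 ?_) hm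
    have hmem : ∀ (c : Γ(Y, V')), (∀ (x : X) (hx : x ∈ g ⁻¹ᵁ V'),
        (X.presheaf.germ _ x hx).hom (g.app V' c) ∈ IntMult.stalkIdeal j.ker x) →
        algebraMap Γ(Y, V') (Y.presheaf.stalk y) c ∈ IsLocalRing.maximalIdeal (Y.presheaf.stalk y) := fun c hc => by
      rw [IsLocalRing.mem_maximalIdeal, mem_nonunits_iff]
      intro hu
      let x := j (genericPoint (CohB1.ProjSpace 1 k))
      have hgx : g x = y := hfib.ge ⟨_, rfl⟩
      have hx : x ∈ g ⁻¹ᵁ V' := hjV ⟨_, rfl⟩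
      have hb : g x ∈ Y.basicOpen c := hgx.symm ▸ (Y.mem_basicOpen c y hyV').2 hu
      change x ∈ g ⁻¹ᵁ Y.basicOpen c at hb
      rw [Scheme.preimage_basicOpen, X.mem_basicOpen _ x hx] at hb
      have hsupp : x ∈ j.ker.support := by
        show x ∈ (j.ker.support : Set X)
        rw [Scheme.Hom.support_ker]
        exact subset_closure ⟨_, rfl⟩
      exact (IsLocalRing.mem_maximalIdeal _).1 (IdealStalkLib.stalkIdeal_le_maximal _ hsupp (hc x hx)) hb
    rintro _ (rfl | rfl)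
    · refine hmem α fun x hx => ?_
      rw [hab x hx]
      exact Ideal.subset_span (Or.inl (congrArg _ hα))
    · refine hmem β fun x hx => ?_
      rw [hab x hx]
      exact Ideal.subset_span (Or.inr (congrArg _ hβ))
  have hn : (Submodule.spanFinrank (IsLocalRing.maximalIdeal (Y.presheaf.stalk y)) : WithBot ℕ∞) ≤ 2 := by
    rw [← hspan]
    exact_mod_cast (Submodule.spanFinrank_span_le_ncard_of_finite (Set.toFinite S)).trans ((Set.ncard_insert_le _ _).trans (by rw [Set.ncard_singleton]))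
  refine ⟨IsRegularLocalRing.of_spanFinrank_maximalIdeal_le _ (hn.trans h2), le_antisymm ?_ h2⟩
  exact (ringKrullDim_le_spanFinrank_maximalIdeal (Y.presheaf.stalk y)).trans hn

end Groth.Agent.CastLib
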