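import Groth.Agent.CastLib.Contract
import Groth.Agent.CastLib.BlowPic
import Groth.Agent.CastLib.Models
import Groth.Agent.CastLib.Arith
import Groth.Agent.CastLib.ContractUnique
import Groth.Agent.CastLib.Regular
import Groth.Agent.SteinConn.General
import Groth.Agent.SurfPtBlow.Factor
import Groth.Agent.AmpleLib.FinProd
import Groth.Agent.FinDiscScheme

/-!
# Contractions given by generated modules
-/

set_option autoImplicit false
set_option backward.isDefEq.respectTransparency false
set_option linter.style.haveILetI false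
set_option maxHeartbeats 2000000

universe u

open CategoryTheory CategoryTheory.Limits AlgebraicGeometry TopologicalSpace
open Groth.Agent.AmpleLib Groth.Agent.ParaFLib
open Groth.Agent.IntLib (mk pullCls)

noncomputable section

namespace Groth.Agent.CastLib.GGContract

/-- A scheme whose global functions form a field has one point image in an affine scheme. -/
theorem apply_eq_of_isField {E V : Scheme.{u}} [IsAffine V] (h : IsField Γ(E, ⊤)) (l : E ⟶ V) (a b : E) :
    l a = l b := by
  letI := h.toField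
  have hl : E.toSpecΓ ≫ Spec.map l.appTop ≫ V.isoSpec.inv = l := by
    rw [← Scheme.toSpecΓ_naturality_assoc, Scheme.isoSpec, asIso_inv, IsIso.hom_inv_id, Category.comp_id]
  have hp : ∀ p q : ↥(Spec Γ(E, ⊤)), p = q := fun p q => Subsingleton.elim (α := PrimeSpectrum Γ(E, ⊤)) p q
  rw [← hl]
  simp only [Scheme.Hom.comp_apply]
  rw [hp (E.toSpecΓ a) (E.toSpecΓ b)]

/-- A trivial module restricted to a scheme whose functions form a field has sections with trivial or empty loci. -/
theorem genLocus_top_or_bot {E : Scheme.{u}} (h : IsField Γ(E, ⊤)) (σ : Coh.structureModule E ⟶ Coh.structureModule E) :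
    CohB1.genLocus _ σ = ⊤ ∨ CohB1.genLocus _ σ = ⊥ := by
  let one : Γ(Coh.structureModule E, ⊤) := (1 : Γ(E, ⊤))
  have he : Gen (L := Coh.structureModule E) ⊤ one := fun O hO => by
    show Function.Bijective fun r : Γ(E, O) => r * E.presheaf.map (homOfLE hO).op (1 : Γ(E, ⊤))
    simp only [map_one, mul_one]
    exact Function.bijective_id
  have ha : (show Γ(E, ⊤) from sec σ) • one = resT (sec σ) ⊤ := by
    show (show Γ(E, ⊤) from sec σ) * (1 : Γ(E, ⊤)) = _
    rw [mul_one]
    exact (ParaFLib.res_self le_rfl (sec σ)).symm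
  have h1 := genLocus_inf_eq_basicOpen σ he ha
  rw [inf_top_eq] at h1
  rcases eq_or_ne (show Γ(E, ⊤) from sec σ) 0 with h0 | h0
  · right
    rw [h1, h0, Scheme.basicOpen_zero]
  · left
    letI := h.toField
    rw [h1]
    exact E.basicOpen_of_isUnit (isUnit_iff_ne_zero.2 h0)

variable {X : Scheme.{u}}

/-- A curve on which the module is trivial is collapsed by the morphism of the sections. -/
theorem apply_eq_of_trivial {Y : Scheme.{u}} {A : Type u} [CommRing A] {n : ℕ} (g : X ⟶ Y)
    (π : Y ⟶ CohB1.ProjSpace n A) [IsAffineHom π] {L : X.Modules} (hL : PicF.IsInvertible L)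
    (s : Fin (n + 1) → (Coh.structureModule X ⟶ L)) (hcov : ∀ x, ∃ i, x ∈ CohB1.genLocus L (s i))
    (hpre : ∀ i, (g ≫ π) ⁻¹ᵁ AmpleEmb.stdOpen n A i = CohB1.genLocus L (s i))
    {E : Scheme.{u}} (ι : E ⟶ X) (hE : IsField Γ(E, ⊤)) (hLE : pullCls ι (mk L) = 1) (a b : E) :
    g (ι a) = g (ι b) := by
  rw [IntLib.pullCls_mk] at hLE
  obtain ⟨e⟩ := BlowPic.mk_eq_one.1 hLE
  obtain ⟨i, hi⟩ := hcov (ι a)
  have hloc : CohB1.genLocus _ (pullS ι (s i) ≫ e.hom) = ι ⁻¹ᵁ CohB1.genLocus L (s i) :=
    (genLocus_comp_iso _ _).trans (genLocus_pullS ι hL (s i))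
  have htop : ι ⁻¹ᵁ CohB1.genLocus L (s i) = ⊤ := by
    rcases genLocus_top_or_bot hE (pullS ι (s i) ≫ e.hom) with h | h
    · exact hloc.symm.trans h
    · exact absurd (show a ∈ ι ⁻¹ᵁ CohB1.genLocus L (s i) from hi) (by rw [← hloc, h]; exact id)
  let V : Y.Opens := π ⁻¹ᵁ AmpleEmb.stdOpen n A i
  haveI : IsAffine V.toScheme := (AmpleEmb.isAffineOpen_stdOpen n A i).preimage π
  let l : E ⟶ V.toScheme := IsOpenImmersion.lift V.ι (ι ≫ g) (by
    rw [Scheme.Opens.range_ι]
    rintro _ ⟨z, rfl⟩
    have hz : ι z ∈ CohB1.genLocus L (s i) := show z ∈ ι ⁻¹ᵁ CohB1.genLocus L (s i) by rw [htop]; trivial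
    rw [← hpre] at hz
    exact hz)
  have hl : l ≫ V.ι = ι ≫ g := IsOpenImmersion.lift_fac _ _ _
  have h2 := congrArg V.ι (apply_eq_of_isField hE l a b)
  rwa [← Scheme.Hom.comp_apply, ← Scheme.Hom.comp_apply, hl] at h2

/-- A module from below is trivial on what is collapsed. -/
theorem pullCls_eq_one_of_collapsed {Y Z : Scheme.{u}} (g : X ⟶ Y) {M : Y.Modules} (hM : PicF.IsInvertible M)
    (c : Z ⟶ X) (y : Y) (hc : ∀ z, g (c z) = y) : pullCls c (pullCls g (mk M)) = 1 := by
  obtain ⟨V, hyV, ⟨t⟩⟩ := hM y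
  let l := IsOpenImmersion.lift V.ι (c ≫ g) (by
    rw [Scheme.Opens.range_ι]
    rintro _ ⟨z, rfl⟩
    show g (c z) ∈ V
    rw [hc]; exact hyV)
  have h1 : pullCls V.ι (mk M) = 1 := (BlowPic.mk_restrict V M).symm.trans
    ((IntLib.mk_congr t).trans IntLib.mk_structureModule)
  rw [BlowPic.pullCls_comp, ← (show l ≫ V.ι = c ≫ g from IsOpenImmersion.lift_fac _ _ _), ← BlowPic.pullCls_comp,
    h1, map_one]

theorem lt_of_spec {W : Scheme.{u}} {a b : W} (h : a ⤳ b) (hne : b ≠ a) : b < a :=
  lt_of_le_not_ge (Scheme.le_iff_specializes.2 h) fun h' => hne ((Scheme.le_iff_specializes.1 h').antisymm h).eq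

theorem no_four_chain {W : Scheme.{u}} (hdim : topologicalKrullDim W ≤ 2) {a b c d : W} (hab : a < b) (hbc : b < c)
    (hcd : c < d) : False := by
  rw [ASp.topologicalKrullDim_eq_krullDim] at hdim
  have h := (Order.LTSeries.length_le_krullDim ((((RelSeries.singleton _ a).snoc b hab).snoc c (by simpa using hbc)).snoc d
    (by simpa using hcd))).trans hdim
  norm_num at h

variable {R : Type u} [CommRing R] [IsDomain R] [IsDiscreteValuationRing R]

/-- A module positive on the generic fibre and generated by its sections gives a contraction. -/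
theorem exists_contraction_of_gg {X : Over (Spec (CommRingCat.of R))} [IsIntegral X.left]
    (hnor : ∀ x : X.left, IsIntegrallyClosed (X.left.presheaf.stalk x))
    (hdim : topologicalKrullDim X.left = 2) [Flat X.hom] (hproj : Neron.IsProjectiveOver R X)
    {r : ℕ} (Γ : Fin r → ArSurf.VertComp R X)
    (L : X.left.Modules) (hL : PicF.IsInvertible L) (hgg : Curv2.IsGloballyGenerated L)
    (hnt : ¬ Nonempty ((Scheme.Modules.pullback (pullback.fst X.hom (Neron.genPt R))).obj L ≅
      Coh.structureModule (pullback X.hom (Neron.genPt R))))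
    (htriv : ∀ E : ArSurf.VertComp R X,
      Nonempty ((Scheme.Modules.pullback E.ι).obj L ≅ Coh.structureModule E.curve.left) ↔
        ∃ i, Set.range (E.ι.base : E.curve.left → X.left) = Set.range (Γ i).ι.base) :
    ∃ (Y : Over (Spec (CommRingCat.of R))) (f : X ⟶ Y),
      IsIntegral Y.left ∧ (∀ q : Y.left, IsIntegrallyClosed (Y.left.presheaf.stalk q)) ∧
      topologicalKrullDim Y.left = 2 ∧ Flat Y.hom ∧ Neron.IsProjectiveOver R Y ∧
      (∀ i, ∃ y : Y.left, Set.range (((Γ i).ι ≫ f.left).base : (Γ i).curve.left → Y.left) = {y}) ∧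
      f.left.base ⁻¹' (f.left.base '' ⋃ i, Set.range (Γ i).ι.base) = ⋃ i, Set.range (Γ i).ι.base ∧
      ∀ V : Y.left.Opens, (V : Set Y.left) ∩ f.left.base '' (⋃ i, Set.range (Γ i).ι.base) = ∅ →
        IsIso (f.left ∣_ V) := by
  classical
  haveI : IsProper X.hom := isProper_of_projective hproj
  haveI : IsLocallyNoetherian X.left := LocallyOfFiniteType.isLocallyNoetherian X.hom
  haveI : CompactSpace X.left := QuasiCompact.compactSpace_of_compactSpace X.hom
  haveI : AlgebraicGeometry.IsNoetherian X.left := { }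
  haveI hRsub : Subsingleton (PrimeSpectrum (IsLocalRing.ResidueField R)) := inferInstance
  -- the sections
  choose u hu using fun x => exists_genLocus_of_isGloballyGenerated hL hgg x
  obtain ⟨T, hT⟩ := isCompact_univ.elim_finite_subcover (fun x : X.left => (CohB1.genLocus L (u x) : Set X.left))
    (fun x => (CohB1.genLocus L (u x)).2) (fun x _ => Set.mem_iUnion.2 ⟨x, hu x⟩)
  obtain ⟨eT⟩ : Nonempty (Fin (Fintype.card T) ≃ T) := ⟨(Fintype.equivFin T).symm⟩
  let sf : Fin (Fintype.card T + 1) → (Coh.structureModule X.left ⟶ L) :=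
    Fin.cons (u (genericPoint X.left)) fun i => u (eT i)
  have hcov : ∀ x, ∃ i, x ∈ CohB1.genLocus L (sf i) := fun x => by
    obtain ⟨z, hz, hxz⟩ := Set.mem_iUnion₂.1 (hT (Set.mem_univ x))
    exact ⟨(eT.symm ⟨z, hz⟩).succ, by simpa [sf] using hxz⟩
  obtain ⟨F, hFU, hFg, hFt⟩ := GenMorph.exists_ratioFamily hL sf hcov
  let φ : R →+* Γ(X.left, ⊤) := ((Scheme.ΓSpecIso (CommRingCat.of R)).inv ≫ X.hom.appTop).hom
  let g₀ : X.left ⟶ CohB1.ProjSpace (Fintype.card T) R := GenMorph.toProj φ F
  have hg₀s : g₀ ≫ CohB1.ProjSpace.toSpec _ R = X.hom := GenMorph.toProj_toSpec φ F X.hom rfl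
  haveI : IsProper g₀ := by
    haveI : IsProper (g₀ ≫ CohB1.ProjSpace.toSpec (Fintype.card T) R) := by rw [hg₀s]; infer_instance
    exact IsProper.of_comp g₀ (CohB1.ProjSpace.toSpec (Fintype.card T) R)
  haveI : IsProper (CohB1.ProjSpace.toSpec (Fintype.card T) R) := inferInstance
  haveI : IsLocallyNoetherian (CohB1.ProjSpace (Fintype.card T) R) :=
    LocallyOfFiniteType.isLocallyNoetherian (CohB1.ProjSpace.toSpec (Fintype.card T) R)
  let g := g₀.toNormalization
  let π := g₀.fromNormalization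
  have hgπ : g ≫ π = g₀ := g₀.toNormalization_fromNormalization
  haveI : IsFinite π := S1297.result g₀
  haveI := SteinConn.isLocallyNoetherian_normalization g₀
  haveI : CompactSpace g₀.normalization := QuasiCompact.compactSpace_of_compactSpace (π ≫ CohB1.ProjSpace.toSpec _ R)
  haveI : IsNoetherian g₀.normalization := { }
  have hO : RigidLib.BijApp g := SteinConn.bijApp_toNormalization g₀
  haveI : Surjective g := SteinConn.surjective_of_bijApp g hO
  haveI : GeometricallyConnected g := SteinConn.geometricallyConnected_of_bijApp g hO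
  let t : g₀.normalization ⟶ Spec (CommRingCat.of R) := π ≫ CohB1.ProjSpace.toSpec _ R
  have hgt : g ≫ t = X.hom := by rw [← Category.assoc, hgπ, hg₀s]
  haveI : IsProper t := inferInstance
  have hgt' : ∀ x, t (g x) = X.hom x := fun x => by rw [← hgt]; rfl
  have hpre : ∀ i, (g ≫ π) ⁻¹ᵁ AmpleEmb.stdOpen _ R i = CohB1.genLocus L (sf i) := fun i => by
    rw [hgπ, ← hFU]
    exact GenMorph.preimage_basicOpen φ F i
  let M := (Scheme.Modules.pullback π).obj (Twist.twistProjSpace (Fintype.card T) R 1)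
  have hM : PicF.IsInvertible M := isInvertible_pullback π (AmpleEmb.isInvertible_twistOne _ R)
  have hLM : pullCls g (mk M) = mk L := by
    obtain ⟨θ⟩ := GenMorph.nonempty_iso_pullback_twistOne φ F sf hFg hFt
    rw [← IntLib.pullCls_mk π, BlowPic.pullCls_comp, hgπ, IntLib.pullCls_mk]
    exact (IntLib.mk_congr θ).symm
  have hcollapsed : ∀ {Z : Scheme.{u}} (c : Z ⟶ X.left) (y : g₀.normalization), (∀ z, g (c z) = y) →
      pullCls c (mk L) = 1 := fun c y hc => by
    rw [← hLM]; exact pullCls_eq_one_of_collapsed g hM c y hc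
  -- points of the generic fibre
  have hclosedPt : ∀ x : X.left, IsClosed ({x} : Set X.left) → X.hom x = IsLocalRing.closedPoint R := fun x hx => by
    have h := X.hom.isClosedMap _ hx
    rw [Set.image_singleton] at h
    have h2 := ((IsLocalRing.specializes_closedPoint (X.hom x)) : X.hom x ⤳ IsLocalRing.closedPoint R).mem_closed h rfl
    exact (Set.mem_singleton_iff.1 h2).symm
  have hbelow : ∀ x : X.left, ∃ x₀ : X.left, x ⤳ x₀ ∧ IsClosed ({x₀} : Set X.left) := fun x => by
    obtain ⟨x₀, hx₀, hc⟩ := (isClosed_closure (s := ({x} : Set X.left))).exists_closed_singleton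
      ⟨x, subset_closure rfl⟩
    exact ⟨x₀, specializes_iff_mem_closure.2 hx₀, hc⟩
  have hηp : X.hom (genericPoint X.left) ≠ IsLocalRing.closedPoint R := by
    obtain ⟨z, hz, hzη⟩ := Flat.generalizingMap X.hom (show (⟨⊥, Ideal.isPrime_bot⟩ : PrimeSpectrum R) ⤳
      X.hom (genericPoint X.left) from (PrimeSpectrum.le_iff_specializes _ _).1 bot_le)
    obtain rfl : z = genericPoint X.left := (hz.antisymm (genericPoint_specializes z)).eq
    rw [hzη]
    exact fun h => IsDiscreteValuationRing.not_a_field R (congrArg PrimeSpectrum.asIdeal h).symm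
  have hgenX : ∀ x : X.left, X.hom x ≠ IsLocalRing.closedPoint R → ∀ x' : X.left, x ⤳ x' → x' ≠ x →
      X.hom x' ≠ IsLocalRing.closedPoint R → x = genericPoint X.left := fun x hx x' hs hne hx' => by
    by_contra hxη
    obtain ⟨x₀, hs₀, hx₀⟩ := hbelow x'
    exact no_four_chain hdim.le (lt_of_spec hs₀ fun h => hx' (h ▸ hclosedPt x₀ hx₀)) (lt_of_spec hs hne)
      (lt_of_spec (genericPoint_specializes x) hxη)
  have hnotall : ¬ ∀ x : X.left, X.hom x ≠ IsLocalRing.closedPoint R → g x = g (genericPoint X.left) := fun hall => by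
    have h1 : pullCls (pullback.fst X.hom (Neron.genPt R)) (mk L) = 1 :=
      hcollapsed _ (g (genericPoint X.left)) fun z => hall _ fun h => by
        have h2 : Neron.genPt R (pullback.snd X.hom (Neron.genPt R) z) = IsLocalRing.closedPoint R := by
          rw [← Scheme.Hom.comp_apply, ← pullback.condition, Scheme.Hom.comp_apply]; exact h
        refine IsDiscreteValuationRing.not_a_field R (le_bot_iff.1 ((congrArg PrimeSpectrum.asIdeal h2).symm.le.trans ?_))
        intro a ha
        have h3 : algebraMap R (FractionRing R) a ∈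
            (pullback.snd X.hom (Neron.genPt R) z : PrimeSpectrum (FractionRing R)).asIdeal := ha
        rw [(Ideal.eq_bot_or_top _).resolve_right
          (pullback.snd X.hom (Neron.genPt R) z : PrimeSpectrum (FractionRing R)).isPrime.ne_top, Ideal.mem_bot] at h3
        exact (map_eq_zero_iff _ (IsFractionRing.injective R (FractionRing R))).1 h3
    rw [IntLib.pullCls_mk] at h1
    exact hnt (BlowPic.mk_eq_one.1 h1)
  have hgenY : ∀ x : X.left, X.hom x ≠ IsLocalRing.closedPoint R → x ≠ genericPoint X.left →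
      g x ≠ g (genericPoint X.left) := fun x hx hxη hgx => hnotall fun x' hx' => by
    have hclo : IsClosed (g '' closure {x}) := g.isClosedMap _ isClosed_closure
    have h2 : g x' ∈ g '' closure {x} :=
      ((genericPoint_specializes x').map g.continuous).mem_closed hclo ⟨x, subset_closure rfl, hgx⟩
    obtain ⟨w, hw, hwx'⟩ := h2
    have hwp : X.hom w ≠ IsLocalRing.closedPoint R := by rw [← hgt', hwx', hgt']; exact hx'
    obtain rfl : w = x := by_contra fun hne => hxη (hgenX x hx w (specializes_iff_mem_closure.2 hw) hne hwp)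
    rw [← hwx', hgx]
  -- contracted curves
  let E : Set X.left := ⋃ i, Set.range (Γ i).ι
  have hEclosed : IsClosed E := isClosed_iUnion_of_finite fun i => (Γ i).ι.isClosedEmbedding.isClosed_range
  have hfield : ∀ G : ArSurf.VertComp R X, IsField Γ(G.curve.left, ⊤) := fun G => by
    haveI : IsProper G.curve.hom := isProper_vertComp G
    exact isField_of_universallyClosed (IsLocalRing.ResidueField R) G.curve.hom
  have hpt : ∀ i, ∃ y, Set.range (((Γ i).ι ≫ g).base : (Γ i).curve.left → g₀.normalization) = {y} := fun i => by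
    obtain ⟨e⟩ := (htriv (Γ i)).2 ⟨i, rfl⟩
    have hLE : pullCls (Γ i).ι (mk L) = 1 := by rw [IntLib.pullCls_mk]; exact BlowPic.mk_eq_one.2 ⟨e⟩
    refine ⟨g ((Γ i).ι (genericPoint (Γ i).curve.left)), Set.eq_singleton_iff_unique_mem.2 ⟨⟨_, rfl⟩, ?_⟩⟩
    rintro _ ⟨c, rfl⟩
    exact apply_eq_of_trivial g π hL sf hcov hpre (Γ i).ι (hfield _) hLE c _
  have hkey : ∀ ζ x : X.left, ζ ⤳ x → x ≠ ζ → g x = g ζ → ζ ∈ E ∧ x ∈ E := fun ζ x hs hne hg => by
    have hpx : X.hom x = X.hom ζ := by rw [← hgt', hg, hgt']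
    by_cases hζp : X.hom ζ = IsLocalRing.closedPoint R
    swap
    · obtain rfl := hgenX ζ hζp x hs hne (hpx ▸ hζp)
      exact absurd hg (hgenY x (hpx ▸ hζp) hne)
    have hζη : ζ ≠ genericPoint X.left := fun h => hηp (h ▸ hζp)
    have htop : ∀ z : X.left, ζ ⤳ z → z ≠ ζ → IsClosed ({z} : Set X.left) := fun z hz hzne => by
      obtain ⟨z₀, hz₀, hc⟩ := hbelow z
      by_cases h : z₀ = z
      · exact h ▸ hc
      · exact (no_four_chain hdim.le (lt_of_spec hz₀ h) (lt_of_spec hz hzne)
          (lt_of_spec (genericPoint_specializes ζ) hζη)).elim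
    have hgy : IsClosed ({g ζ} : Set g₀.normalization) := by
      rw [← hg, ← Set.image_singleton]
      exact g.isClosedMap _ (htop x hs hne)
    have hconst : ∀ z : X.left, ζ ⤳ z → g z = g ζ := fun z hz =>
      Set.mem_singleton_iff.1 ((hz.map g.continuous).mem_closed hgy rfl)
    -- the curve
    let Cl : Closeds X.left := ⟨closure {ζ}, isClosed_closure⟩
    let W := (Scheme.IdealSheafData.vanishingIdeal Cl).subscheme
    let iW : W ⟶ X.left := (Scheme.IdealSheafData.vanishingIdeal Cl).subschemeι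
    haveI : IsReduced W := DVRCrit.isReduced_vanishingIdeal _
    have hrange : Set.range iW = closure {ζ} := by
      rw [Scheme.IdealSheafData.range_subschemeι, Scheme.IdealSheafData.coe_support_vanishingIdeal]
      rfl
    haveI : IrreducibleSpace W := by
      obtain ⟨w₀, hw₀⟩ : ζ ∈ Set.range iW := hrange.ge (subset_closure rfl)
      have hcl : closure ({w₀} : Set W) = Set.univ := Set.eq_univ_of_forall fun w =>
        specializes_iff_mem_closure.1 (iW.isClosedEmbedding.isInducing.specializes_iff.1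
          (show iW w₀ ⤳ iW w from hw₀ ▸ specializes_iff_mem_closure.2 (hrange.le ⟨w, rfl⟩)))
      have h1 : IsIrreducible (Set.univ : Set W) := hcl ▸ isIrreducible_singleton.closure
      haveI : PreirreducibleSpace W := ⟨h1.2⟩
      exact { toNonempty := ⟨w₀⟩ }
    haveI : IsIntegral W := isIntegral_of_irreducibleSpace_of_isReduced W
    have hW : ∀ w, ζ ⤳ iW w := fun w => specializes_iff_mem_closure.2 (hrange.le ⟨w, rfl⟩)
    have hWp : ∀ w, X.hom (iW w) = IsLocalRing.closedPoint R := fun w => by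
      have h := ((hW w).map X.hom.continuous)
      rw [show X.hom.base ζ = IsLocalRing.closedPoint R from hζp] at h
      exact Set.mem_singleton_iff.1 (h.mem_closed (IsLocalRing.isClosed_singleton_closedPoint R) rfl)
    let res := Spec.map (CommRingCat.ofHom (IsLocalRing.residue R))
    haveI : IsClosedImmersion res := IsClosedImmersion.spec_of_surjective _ IsLocalRing.residue_surjective
    obtain ⟨τ, hτ⟩ := DVRCrit.exists_factor_closed res (iW ≫ X.hom) (by
      rintro _ ⟨w, rfl⟩
      exact ⟨IsLocalRing.closedPoint _, (IsLocalRing.comap_closedPoint (IsLocalRing.residue R)).trans (hWp w).symm⟩)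
    obtain ⟨wζ, hwζ⟩ : ζ ∈ Set.range iW := hrange.ge (subset_closure rfl)
    obtain ⟨wx, hwx⟩ : x ∈ Set.range iW := hrange.ge (specializes_iff_mem_closure.1 hs)
    have hdimW : topologicalKrullDim W = 1 := by
      rw [ASp.topologicalKrullDim_eq_krullDim]
      refine le_antisymm (iSup_le fun l => ?_) ?_
      · by_contra hl
        have h2 : 2 ≤ l.length := by
          by_contra h
          exact hl (by exact_mod_cast (show l.length ≤ 1 by omega))
        have hm : ∀ p q : W, p < q → iW p < iW q := fun p q hpq => by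
          have h1 : q ⤳ p := Scheme.le_iff_specializes.1 hpq.le
          refine lt_of_spec (h1.map iW.continuous) fun h => hpq.ne ?_
          exact iW.isClosedEmbedding.injective h
        have hlast : ∀ p : W, iW p < genericPoint X.left := fun p =>
          lt_of_spec (genericPoint_specializes _) fun h => hηp (h ▸ hWp p)
        exact no_four_chain hdim.le (hm _ _ (l.strictMono (show (⟨0, by omega⟩ : Fin (l.length + 1)) < ⟨1, by omega⟩ from Fin.mk_lt_mk.2 (by omega))))
          (hm _ _ (l.strictMono (show (⟨1, by omega⟩ : Fin (l.length + 1)) < ⟨2, by omega⟩ from Fin.mk_lt_mk.2 (by omega))))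
          (hlast _)
      · have hlt : wx < wζ := lt_of_spec (iW.isClosedEmbedding.isInducing.specializes_iff.1
          (show iW wζ ⤳ iW wx by rw [hwζ, hwx]; exact hs)) fun h => hne (by rw [← hwx, ← hwζ, h])
        exact le_trans (by simp) (Order.LTSeries.length_le_krullDim ((RelSeries.singleton _ wx).snoc wζ hlt))
    let G : ArSurf.VertComp R X := ⟨Over.mk τ, iW, inferInstance, ‹IsIntegral W›, hdimW, hτ.symm⟩
    have hLG : pullCls iW (mk L) = 1 := hcollapsed iW (g ζ) fun w => hconst _ (hW w)
    rw [IntLib.pullCls_mk] at hLG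
    obtain ⟨i, hi⟩ := (htriv G).1 (BlowPic.mk_eq_one.1 hLG)
    have hsub : ∀ z, z ∈ closure ({ζ} : Set X.left) → z ∈ E := fun z hz =>
      Set.mem_iUnion.2 ⟨i, hi.le (hrange.ge hz)⟩
    exact ⟨hsub _ (subset_closure rfl), hsub _ (specializes_iff_mem_closure.1 hs)⟩
  -- fibres
  have hT1 : ∀ (y : g₀.normalization) (U : (g.fiber y).Opens), (∀ a ∈ U, g.fiberι y a ∉ E) →
      (U : Set (g.fiber y)).Finite ∧ ∀ a ∈ U, IsClosed ({a} : Set (g.fiber y)) := fun y U hU => by
    have hy : ∀ a : g.fiber y, g (g.fiberι y a) = y := fun a =>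
      (g.range_fiberι y).le ⟨a, rfl⟩
    have hcl : ∀ a ∈ U, IsClosed ({a} : Set (g.fiber y)) := fun a ha => by
      refine closure_subset_iff_isClosed.1 fun b hb => ?_
      have hs : g.fiberι y a ⤳ g.fiberι y b := (specializes_iff_mem_closure.2 hb).map (g.fiberι y).continuous
      by_contra hne
      exact hU a ha (hkey _ _ hs (fun h => hne ((g.fiberι y).isEmbedding.injective h)) ((hy b).trans (hy a).symm)).1
    refine ⟨?_, hcl⟩
    haveI : NoetherianSpace (g.fiber y) := (g.fiberι y).isEmbedding.isInducing.noetherianSpace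
    haveI : NoetherianSpace U.toScheme := U.ι.isOpenEmbedding.isInducing.noetherianSpace
    haveI : T1Space U.toScheme := ⟨fun a => by
      rw [show ({a} : Set U.toScheme) = U.ι ⁻¹' {U.ι a} from Set.ext fun c =>
        ⟨fun h => congrArg U.ι h, fun h => U.ι.isOpenEmbedding.injective h⟩]
      exact (hcl _ a.2).preimage U.ι.continuous⟩
    haveI := FinDiscScheme.finite_of_t1 U.toScheme
    rw [← U.range_ι]
    exact Set.finite_range _
  have hfinite : ∀ y, y ∉ g '' E → (g ⁻¹' {y}).Finite := fun y hy => by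
    have h := (hT1 y ⊤ fun a _ ha => hy ⟨_, ha, (g.range_fiberι y).le ⟨a, rfl⟩⟩).1
    rw [← g.range_fiberι, ← Set.image_univ]
    exact (h.subset (fun a _ => trivial)).image _
  have hsat : g ⁻¹' (g '' E) = E := by
    refine Set.Subset.antisymm ?_ (Set.subset_preimage_image _ _)
    rintro x ⟨e, he, hex⟩
    let y := g x
    obtain ⟨a, ha⟩ : x ∈ Set.range (g.fiberι y) := (g.range_fiberι y).ge rfl
    obtain ⟨e', he'⟩ : e ∈ Set.range (g.fiberι y) := (g.range_fiberι y).ge hex
    let U : (g.fiber y).Opens := ⟨(g.fiberι y ⁻¹' E)ᶜ, (hEclosed.preimage (g.fiberι y).continuous).isOpen_compl⟩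
    obtain ⟨hUfin, hUcl⟩ := hT1 y U fun a ha => ha
    have hUclosed : IsClosed (U : Set (g.fiber y)) := by
      rw [← Set.biUnion_of_singleton (U : Set (g.fiber y))]
      exact hUfin.isClosed_biUnion hUcl
    haveI := SteinConn.connectedSpace_fiber g hO y
    rcases isClopen_iff.1 ⟨hUclosed, U.2⟩ with h | h
    · by_contra hx
      exact h.le (show a ∈ (U : Set (g.fiber y)) from fun h' => hx (ha ▸ h'))
    · exact absurd (show g.fiberι y e' ∈ E from he' ▸ he) (h.ge (Set.mem_univ e'))
  -- assemble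
  let Y : Over (Spec (CommRingCat.of R)) := Over.mk t
  haveI : IsIntegral g₀.normalization := inferInstance
  have hdimY : topologicalKrullDim g₀.normalization = 2 := by
    refine le_antisymm ((SurfPtBlow.topologicalKrullDim_le_of_isClosedMap g.continuous g.isClosedMap g.surjective).trans
      hdim.le) ?_
    obtain ⟨x, hx, hgx⟩ : ∃ x : X.left, X.hom x ≠ IsLocalRing.closedPoint R ∧ g x ≠ g (genericPoint X.left) := by
      by_contra h
      push Not at h
      exact hnotall h
    obtain ⟨x₀, hs₀, hc₀⟩ := hbelow x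
    have h1 : g x₀ < g x := lt_of_spec (hs₀.map g.continuous) fun h => hx (by
      rw [← hgt', ← h, hgt']; exact hclosedPt x₀ hc₀)
    have h2 : g x < g (genericPoint X.left) := lt_of_spec ((genericPoint_specializes x).map g.continuous) hgx
    rw [ASp.topologicalKrullDim_eq_krullDim]
    refine le_trans ?_ (Order.LTSeries.length_le_krullDim
      (((RelSeries.singleton _ (g x₀)).snoc (g x) h1).snoc (g (genericPoint X.left)) (by simpa using h2)))
    norm_num
  have hflat : Flat t := by
    haveI : IsDominant t := ⟨by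
      have hr : (⟨⊥, Ideal.isPrime_bot⟩ : PrimeSpectrum R) ∈ Set.range t := ⟨g (genericPoint X.left), by
        rw [hgt']
        rcases (IsDiscreteValuationRing.iff_pid_with_one_nonzero_prime R).1 inferInstance with ⟨-, hu⟩
        refine PrimeSpectrum.ext (by_contra fun hne => hηp (PrimeSpectrum.ext ?_))
        exact hu.unique ⟨hne, (X.hom (genericPoint X.left)).isPrime⟩
          ⟨IsDiscreteValuationRing.not_a_field R, inferInstance⟩⟩
      intro z
      exact closure_mono (Set.singleton_subset_iff.2 hr)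
        (specializes_iff_mem_closure.1 ((PrimeSpectrum.le_iff_specializes _ z).1 bot_le))⟩
    exact flat_of_dominant t
  refine ⟨Y, Over.homMk g hgt, ‹IsIntegral g₀.normalization›, ?_, hdimY, hflat, ?_, hpt,
    hsat, fun V hV => ?_⟩
  · exact fun q => (isNormalScheme_of_bijApp g (fun x => ⟨inferInstance, hnor x⟩) hO q).2
  · haveI : IsProper Y.hom := ‹IsProper t›
    exact isProjectiveOver_of_isAmple Y
      (isAmple_pullback π (AmpleEmb.isAmple_twistOne (Fintype.card T) R))
  show IsIso (g ∣_ V)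
  have key : ∀ y ∈ V, ∃ V' : g₀.normalization.Opens, y ∈ V' ∧ V' ≤ V ∧ IsIso (g ∣_ V') := fun y hy => by
    obtain ⟨W, hyW, hWf⟩ := exists_isFinite_morphismRestrict_of_finite_preimage_singleton g y
      (hfinite y fun h => (Set.eq_empty_iff_forall_notMem.1 hV) y ⟨hy, h⟩)
    obtain ⟨_, ⟨V', hV', rfl⟩, hyV', hV'le⟩ :=
      g₀.normalization.isBasis_affineOpens.exists_subset_of_mem_open (show y ∈ V ⊓ W from ⟨hy, hyW⟩) (V ⊓ W).2
    refine ⟨V', hyV', fun z hz => (hV'le hz).1, isIso_restrict_of_affine g V' hV' ?_ (hO V')⟩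
    haveI := hWf
    have h1 : IsAffineOpen (W.ι ⁻¹ᵁ V') := hV'.preimage_of_isOpenImmersion W.ι
      (by rw [Scheme.Opens.opensRange_ι]; exact fun z hz => (hV'le hz).2)
    have h2 := (h1.preimage (g ∣_ W)).image_of_isOpenImmersion (g ⁻¹ᵁ W).ι
    rwa [image_morphismRestrict_preimage, Scheme.Hom.image_preimage_eq_opensRange_inf, Scheme.Opens.opensRange_ι,
      inf_eq_right.2 (fun z hz => (hV'le hz).2)] at h2
  choose V' hyV' hV'le hV'iso using key
  refine (IsZariskiLocalAtTarget.iff_of_iSup_eq_top (P := MorphismProperty.isomorphisms Scheme)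
    (fun y : V => V.ι ⁻¹ᵁ V' y.1 y.2) (top_le_iff.1 fun z _ => Opens.mem_iSup.2 ⟨⟨z.1, z.2⟩, hyV' z.1 z.2⟩)).2 fun y => ?_
  show IsIso ((g ∣_ V) ∣_ (V.ι ⁻¹ᵁ V' y.1 y.2))
  haveI : IsIso (g ∣_ (V.ι ''ᵁ (V.ι ⁻¹ᵁ V' y.1 y.2))) := by
    rw [Scheme.Hom.image_preimage_eq_opensRange_inf, Scheme.Opens.opensRange_ι, inf_eq_right.2 (hV'le _ _)]
    exact hV'iso _ _
  exact (MorphismProperty.arrow_mk_iso_iff (MorphismProperty.isomorphisms _)
    (morphismRestrictRestrict g V (V.ι ⁻¹ᵁ V' y.1 y.2))).2 ‹_›

/-- Positive degree excludes triviality. -/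
theorem not_trivial_of_deg_pos {X : Over (Spec (CommRingCat.of R))} {L : X.left.Modules}
    (hdeg : 0 < ArSurf.curveDeg (FractionRing R) ((Neron.genericFibre R).obj X).left
      ((Scheme.Modules.pullback (pullback.fst X.hom (Neron.genPt R))).obj L)) :
    ¬ Nonempty ((Scheme.Modules.pullback (pullback.fst X.hom (Neron.genPt R))).obj L ≅
      Coh.structureModule (pullback X.hom (Neron.genPt R))) := by
  rintro ⟨e⟩
  refine hdeg.ne' ?_
  unfold ArSurf.curveDeg FGA.eulerCharLE
  rw [sub_eq_zero]
  letI : (pullback X.hom (Neron.genPt R)).Over (Spec (CommRingCat.of (FractionRing R))) :=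
    ⟨pullback.snd X.hom (Neron.genPt R)⟩
  refine Finset.sum_congr rfl fun i _ => ?_
  exact congrArg (fun m : ℕ => (-1 : ℤ) ^ i * (m : ℤ)) (ShBCLib.finrank_HH_iso (K := FractionRing R) e i)

end Groth.Agent.CastLib.GGContract
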