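import Groth.Agent.CastLib.Regular
import Groth.Agent.Hensel.FinitePart
import Groth.Agent.S7890
import Groth.Agent.S1570
import Groth.Agent.CastLib.GGContract

/-!
# Horizontal divisors through a closed point over a Henselian base
-/

set_option autoImplicit false
set_option backward.isDefEq.respectTransparency false
set_option linter.style.haveILetI false
set_option maxHeartbeats 2000000

universe u

open CategoryTheory CategoryTheory.Limits AlgebraicGeometry TopologicalSpace

noncomputable section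

namespace Groth.Agent.CastLib.HorizDiv

theorem no_four_chain' {α : Type*} [Preorder α] (hdim : Order.krullDim α ≤ 2) {a b c d : α} (hab : a < b)
    (hbc : b < c) (hcd : c < d) : False := by
  have h := (Order.LTSeries.length_le_krullDim ((((RelSeries.singleton _ a).snoc b hab).snoc c (by simpa using hbc)).snoc d
    (by simpa using hcd))).trans hdim
  norm_num at h

theorem no_chain_of_height_le_one {A : Type u} [CommRing A] {T P : Ideal A} [T.IsPrime] [P.IsPrime]
    {B : Ideal A} [B.IsPrime] (hBT : B < T) (hTP : T < P) (h : P.height ≤ 1) : False := by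
  haveI : T.FiniteHeight := ⟨Or.inr (ne_top_of_le_ne_top ENat.one_ne_top ((Ideal.height_mono hTP.le).trans h))⟩
  haveI : B.FiniteHeight :=
    ⟨Or.inr (ne_top_of_le_ne_top ENat.one_ne_top ((Ideal.height_mono (hBT.le.trans hTP.le)).trans h))⟩
  have l1 := Ideal.height_strict_mono_of_isPrime hTP
  have l2 := Ideal.height_strict_mono_of_isPrime hBT
  have h0 : T.height < 1 := lt_of_lt_of_le l1 h
  rw [ENat.lt_one_iff_eq_zero] at h0
  rw [h0] at l2
  exact not_lt_zero l2

/-- An element of the maximal ideal whose zeros avoid the minimal primes over a given element. -/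
theorem exists_cut {A : Type u} [CommRing A] [IsLocalRing A] [IsNoetherianRing A] [IsDomain A]
    (hdim : ringKrullDim A ≤ 2) (π : A) (hπ0 : π ≠ 0) (hπm : π ∈ IsLocalRing.maximalIdeal A) {P₁ : Ideal A} [P₁.IsPrime] (h₁ : P₁ ≠ ⊥)
    (h₁m : P₁ < IsLocalRing.maximalIdeal A) :
    ∃ a ∈ IsLocalRing.maximalIdeal A, a ≠ 0 ∧
      (∀ P : Ideal A, P.IsPrime → a ∈ P → π ∈ P → P = IsLocalRing.maximalIdeal A) ∧
      ∀ P : Ideal A, P ∈ (Ideal.span {a}).minimalPrimes → π ∉ P := by
  classical
  have hm : IsLocalRing.maximalIdeal A ∉ (Ideal.span {π}).minimalPrimes := fun h =>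
    no_chain_of_height_le_one (bot_lt_iff_ne_bot.2 h₁) h₁m (Ideal.height_le_one_of_isPrincipal_of_mem_minimalPrimes _ _ h)
  have hfin := Ideal.finite_minimalPrimes_of_isNoetherianRing A (Ideal.span {π})
  have hne : ¬ ((IsLocalRing.maximalIdeal A : Set A) ⊆
      ⋃ T ∈ (hfin.toFinset : Set (Ideal A)), (T : Set A)) := by
    rw [Ideal.subset_union_prime ⊥ ⊥ fun T hT _ _ => ((hfin.mem_toFinset.1 hT).1.1)]
    rintro ⟨T, hT, hle⟩
    have hT' := hfin.mem_toFinset.1 hT
    exact hm ((IsLocalRing.maximalIdeal.isMaximal A).eq_of_le hT'.1.1.ne_top hle ▸ hT')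
  obtain ⟨a, ham, ha⟩ := Set.not_subset.1 hne
  simp only [Set.mem_iUnion, not_exists, Finset.mem_coe, Set.Finite.mem_toFinset, SetLike.mem_coe] at ha
  have hmin : ∀ P : Ideal A, P.IsPrime → π ∈ P → ∃ T ∈ (Ideal.span {π}).minimalPrimes, T ≤ P := fun P hP h =>
    Ideal.exists_minimalPrimes_le ((Ideal.span_singleton_le_iff_mem _).2 h)
  have hTbot : ∀ T ∈ (Ideal.span {π}).minimalPrimes, ⊥ < T := fun T hT => bot_lt_iff_ne_bot.2 fun h =>
    hπ0 (Ideal.mem_bot.1 (h ▸ hT.1.2 (Ideal.mem_span_singleton_self π)))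
  have ha0 : a ≠ 0 := fun h => by
    obtain ⟨T, hT, -⟩ := hmin (IsLocalRing.maximalIdeal A) inferInstance hπm
    exact ha T hT (h ▸ zero_mem _)
  refine ⟨a, ham, ha0, fun P hP haP hπP => ?_, fun P hP hπP => ?_⟩
  · obtain ⟨T, hT, hTP⟩ := hmin P hP hπP
    haveI := hT.1.1
    by_contra hne
    have h1 : T < P := lt_of_le_of_ne hTP fun e => ha T hT (e ▸ haP)
    exact no_four_chain' (α := PrimeSpectrum A) hdim
      (show (⟨⊥, Ideal.isPrime_bot⟩ : PrimeSpectrum A) < ⟨T, hT.1.1⟩ from hTbot T hT)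
      (show (⟨T, hT.1.1⟩ : PrimeSpectrum A) < ⟨P, hP⟩ from h1)
      (show (⟨P, hP⟩ : PrimeSpectrum A) < ⟨IsLocalRing.maximalIdeal A, inferInstance⟩ from
        (lt_of_le_of_ne (IsLocalRing.le_maximalIdeal hP.ne_top) hne : P < IsLocalRing.maximalIdeal A))
  · haveI := hP.1.1
    obtain ⟨T, hT, hTP⟩ := hmin P inferInstance hπP
    haveI := hT.1.1
    exact no_chain_of_height_le_one (hTbot T hT)
      (lt_of_le_of_ne hTP fun e => ha T hT (e ▸ hP.1.2 (Ideal.mem_span_singleton_self a)))
      (Ideal.height_le_one_of_isPrincipal_of_mem_minimalPrimes _ _ hP)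

variable {R : Type u} [CommRing R] [IsDomain R] [IsDiscreteValuationRing R]

/-- **A horizontal effective Cartier divisor through a closed point.** -/
theorem exists_horizontal [HenselianLocalRing R] {X : Over (Spec (CommRingCat.of R))} [IsIntegral X.left]
    (hdim : topologicalKrullDim X.left = 2) [Flat X.hom] (hproj : Neron.IsProjectiveOver R X)
    (x : X.left) (hx : IsClosed ({x} : Set X.left)) :
    ∃ (D : Scheme.{u}) (d : D ⟶ X.left), IsClosedImmersion d ∧ BlowUp.IsEffCartierIdeal d.ker ∧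
      (∀ p : D, ∃ q : D, q ⤳ p ∧ ((d ≫ X.hom).base q).asIdeal = ⊥) ∧
      Set.range d.base ∩ Models.specialFibreSet R X = {x} ∧ ∀ p : D, d p ⤳ x := by
  classical
  haveI : IsProper X.hom := isProper_of_projective hproj
  haveI : IsLocallyNoetherian X.left := LocallyOfFiniteType.isLocallyNoetherian X.hom
  haveI : CompactSpace X.left := QuasiCompact.compactSpace_of_compactSpace X.hom
  have hclosedPt : ∀ y : X.left, IsClosed ({y} : Set X.left) → X.hom y = IsLocalRing.closedPoint R := fun y hy => by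
    have h := X.hom.isClosedMap _ hy
    rw [Set.image_singleton] at h
    have h2 := ((IsLocalRing.specializes_closedPoint (X.hom y)) : X.hom y ⤳ IsLocalRing.closedPoint R).mem_closed h rfl
    exact (Set.mem_singleton_iff.1 h2).symm
  have hbot : ∀ z : PrimeSpectrum R, z ≠ IsLocalRing.closedPoint R → z.asIdeal = ⊥ := fun z hz => by
    rcases (IsDiscreteValuationRing.iff_pid_with_one_nonzero_prime R).1 inferInstance with ⟨-, hu⟩
    by_contra hne
    exact hz (PrimeSpectrum.ext (hu.unique ⟨hne, z.isPrime⟩ ⟨IsDiscreteValuationRing.not_a_field R, inferInstance⟩))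
  have hgen : (X.hom (genericPoint X.left)).asIdeal = ⊥ := by
    obtain ⟨z, hz, hzη⟩ := Flat.generalizingMap X.hom (show (⟨⊥, Ideal.isPrime_bot⟩ : PrimeSpectrum R) ⤳
      X.hom (genericPoint X.left) from (PrimeSpectrum.le_iff_specializes _ _).1 bot_le)
    obtain rfl : z = genericPoint X.left := (hz.antisymm (genericPoint_specializes z)).eq
    rw [hzη]
  have hdense : DenseRange X.hom.base := fun z => by
    refine closure_mono (Set.singleton_subset_iff.2 (Set.mem_range_self (genericPoint X.left))) ?_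
    exact specializes_iff_mem_closure.1 ((PrimeSpectrum.le_iff_specializes _ z).1 (hgen.le.trans bot_le))
  have hdle : Order.krullDim X.left ≤ 2 := by rw [← ASp.topologicalKrullDim_eq_krullDim]; exact hdim.le
  obtain ⟨π, hπ⟩ := IsDiscreteValuationRing.exists_irreducible R
  have hπmem : ∀ z : PrimeSpectrum R, π ∈ z.asIdeal ↔ z = IsLocalRing.closedPoint R := fun z => by
    refine ⟨fun h => by_contra fun hne => hπ.ne_zero (Ideal.mem_bot.1 (hbot z hne ▸ h)), ?_⟩
    rintro rfl
    exact (IsLocalRing.mem_maximalIdeal _).2 hπ.not_isUnit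
  -- primes of the local ring at a closed point
  let ψ : ∀ y : X.left, R →+* X.left.presheaf.stalk y := fun y =>
    (Spec.preimage (X.left.fromSpecStalk y ≫ X.hom)).hom
  have hψ : ∀ (y : X.left) (P : PrimeSpectrum (X.left.presheaf.stalk y)),
      (X.hom (X.left.fromSpecStalk y P)).asIdeal = P.asIdeal.comap (ψ y) := fun y P => by
    have e := congrArg (fun g : Spec (X.left.presheaf.stalk y) ⟶ Spec (CommRingCat.of R) => g P)
      (Spec.map_preimage (X.left.fromSpecStalk y ≫ X.hom))
    exact congrArg PrimeSpectrum.asIdeal e.symm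
  have hspec : ∀ (y : X.left) (P : PrimeSpectrum (X.left.presheaf.stalk y)),
      ψ y π ∈ P.asIdeal ↔ X.hom (X.left.fromSpecStalk y P) = IsLocalRing.closedPoint R := fun y P => by
    rw [← hπmem, hψ]; rfl
  have hcl : ∀ y : X.left, X.left.fromSpecStalk y (IsLocalRing.closedPoint _) = y := fun y =>
    Scheme.fromSpecStalk_closedPoint
  obtain ⟨P₁, h₁, h₁m⟩ : ∃ P₁ : PrimeSpectrum (X.left.presheaf.stalk x), P₁.asIdeal ≠ ⊥ ∧
      P₁.asIdeal < IsLocalRing.maximalIdeal (X.left.presheaf.stalk x) := by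
    haveI : (X.hom x).asIdeal.IsMaximal := by rw [hclosedPt x hx]; exact IsLocalRing.maximalIdeal.isMaximal R
    obtain ⟨w, hw0, hwc, hwx⟩ := Groth.Agent.S7890.result X.hom hdense x hx inferInstance
    have hwη : w ≠ genericPoint X.left := by
      rintro rfl
      have hall : ∀ y : X.left, y ≠ genericPoint X.left → X.hom y = IsLocalRing.closedPoint R := fun y hy =>
        by_contra fun h => hy (hwc y (hbot _ h) (genericPoint_specializes y))
      obtain ⟨l, hl⟩ : ∃ l : LTSeries X.left, l.length = 2 := by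
        refine Order.le_krullDim_iff.1 ?_
        rw [← ASp.topologicalKrullDim_eq_krullDim]
        exact_mod_cast hdim.ge
      let a := l ⟨0, by omega⟩
      let b := l ⟨1, by omega⟩
      let c := l ⟨2, by omega⟩
      have hab : a < b := l.strictMono (Fin.mk_lt_mk.2 (by omega))
      have hbc : b < c := l.strictMono (Fin.mk_lt_mk.2 (by omega))
      obtain ⟨y, hya, hy⟩ : ∃ y, a ⤳ y ∧ IsClosed ({y} : Set X.left) := by
        obtain ⟨y, hy, hc⟩ := (isClosed_closure (s := ({a} : Set X.left))).exists_closed_singleton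
          ⟨a, subset_closure rfl⟩
        exact ⟨y, specializes_iff_mem_closure.2 hy, hc⟩
      have hby : b ⤳ y := (Scheme.le_iff_specializes.1 hab.le).trans hya
      have hbη : b ≠ genericPoint X.left := fun h =>
        hbc.not_ge (h ▸ Scheme.le_iff_specializes.2 (genericPoint_specializes c))
      obtain ⟨P, hP⟩ := (Scheme.range_fromSpecStalk (x := y)).ge hby
      have hπy : ψ y π ∉ (⊥ : Ideal (X.left.presheaf.stalk y)) := fun h => by
        obtain ⟨Q, hQ⟩ := (Scheme.range_fromSpecStalk (x := y)).ge (genericPoint_specializes y)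
        have h2 := (hspec y Q).1 ((bot_le : (⊥ : Ideal (X.left.presheaf.stalk y)) ≤ Q.asIdeal) h)
        rw [hQ] at h2
        exact IsDiscreteValuationRing.not_a_field R ((congrArg PrimeSpectrum.asIdeal h2).symm.trans hgen)
      have hmax : ∀ T : Ideal (X.left.presheaf.stalk y), T.IsPrime → ⊥ < T → ψ y π ∈ T := fun T hT hlt => by
        refine (hspec y ⟨T, hT⟩).2 (hall _ fun he => ?_)
        obtain ⟨Q, hQ⟩ := (Scheme.range_fromSpecStalk (x := y)).ge (genericPoint_specializes y)
        have hs : X.left.fromSpecStalk y ⟨T, hT⟩ ⤳ X.left.fromSpecStalk y ⟨⊥, Ideal.isPrime_bot⟩ := by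
          rw [he]; exact genericPoint_specializes _
        exact hlt.not_ge ((PrimeSpectrum.le_iff_specializes _ _).2
          ((X.left.fromSpecStalk y).isEmbedding.isInducing.specializes_iff.1 hs))
      have hPm := Groth.Agent.S7890.h9_eq_max (ψ y π) (⊥ : Ideal (X.left.presheaf.stalk y)) hπy hmax P.asIdeal
        bot_le ((hspec y P).2 (hP ▸ hall b hbη))
      have hby' : b = y := by
        rw [← hP, show P = IsLocalRing.closedPoint (X.left.presheaf.stalk y) from PrimeSpectrum.ext hPm, hcl]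
      exact hab.not_ge (hby' ▸ Scheme.le_iff_specializes.2 hya)
    obtain ⟨P₁, hP₁⟩ := (Scheme.range_fromSpecStalk (x := x)).ge hwx
    refine ⟨P₁, fun h => hwη ?_, lt_of_le_of_ne (IsLocalRing.le_maximalIdeal P₁.isPrime.ne_top) fun h => ?_⟩
    · obtain ⟨Q, hQ⟩ := (Scheme.range_fromSpecStalk (x := x)).ge (genericPoint_specializes x)
      have : X.left.fromSpecStalk x P₁ ⤳ X.left.fromSpecStalk x Q :=
        ((PrimeSpectrum.le_iff_specializes P₁ Q).1 (show P₁.asIdeal ≤ Q.asIdeal from h.le.trans bot_le)).map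
          (X.left.fromSpecStalk x).continuous
      rw [hQ, hP₁] at this
      exact (this.antisymm (genericPoint_specializes w)).eq
    · have h2 : w = x := by
        rw [← hP₁, show P₁ = IsLocalRing.closedPoint (X.left.presheaf.stalk x) from PrimeSpectrum.ext h, hcl]
      rw [h2, hclosedPt x hx] at hw0
      exact IsDiscreteValuationRing.not_a_field R hw0
  have hdimA : ringKrullDim (X.left.presheaf.stalk x) ≤ 2 := by
    rw [ringKrullDim_stalk_eq_coheight]
    exact (Order.coheight_le_krullDim x).trans hdle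
  have hπ0 : ψ x π ≠ 0 := fun h => by
    obtain ⟨Q, hQ⟩ := (Scheme.range_fromSpecStalk (x := x)).ge (genericPoint_specializes x)
    have h2 := (hspec x Q).1 (h ▸ zero_mem _)
    rw [hQ] at h2
    exact IsDiscreteValuationRing.not_a_field R ((congrArg PrimeSpectrum.asIdeal h2).symm.trans hgen)
  obtain ⟨a₀, ha₀m, ha₀, hafib, hahor⟩ := exists_cut hdimA (ψ x π) hπ0
    ((hspec x (IsLocalRing.closedPoint _)).2 (by rw [hcl, hclosedPt x hx])) h₁ h₁m
  -- spread out
  obtain ⟨_, ⟨U : X.left.Opens, hU, rfl⟩, hxU, -⟩ :=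
    X.left.isBasis_affineOpens.exists_subset_of_mem_open (Set.mem_univ x) isOpen_univ
  obtain ⟨a, hspan⟩ : ∃ a : Γ(X.left, U),
      Ideal.span {X.left.presheaf.germ U x hxU a} = Ideal.span {a₀} := by
    letI : Algebra Γ(X.left, U) (X.left.presheaf.stalk x) :=
      TopCat.Presheaf.algebra_section_stalk X.left.presheaf ⟨x, hxU⟩
    haveI := hU.isLocalization_stalk ⟨x, hxU⟩
    obtain ⟨⟨b, s⟩, hbs⟩ := IsLocalization.surj (hU.primeIdealOf ⟨x, hxU⟩).asIdeal.primeCompl a₀
    refine ⟨b, ?_⟩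
    show Ideal.span {algebraMap Γ(X.left, U) (X.left.presheaf.stalk x) b} = _
    rw [← hbs]
    exact Ideal.span_singleton_mul_right_unit (IsLocalization.map_units _ s) _
  set ax := X.left.presheaf.germ U x hxU a with hax
  have hmem : ∀ (P : PrimeSpectrum (X.left.presheaf.stalk x)),
      X.left.fromSpecStalk x P ∈ X.left.basicOpen a ↔ ax ∉ P.asIdeal := fun P => by
    rw [← hU.fromSpecStalk_eq_fromSpecStalk hxU]
    show ((Spec.map (X.left.presheaf.germ U x hxU)) P) ∈ hU.fromSpec ⁻¹ᵁ X.left.basicOpen a ↔ _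
    rw [hU.fromSpec_preimage_basicOpen]
    rfl
  have hUof : ∀ w : X.left, w ⤳ x → w ∈ U := fun w hw => hw.mem_open U.2 hxU
  -- the zero scheme in the chart
  let J : U.toScheme.IdealSheafData := Scheme.IdealSheafData.ofIdealTop (Ideal.span {U.topIso.inv a})
  let q := J.subschemeι
  haveI : IsAffine U.toScheme := hU
  have hJ : ∀ u : U.toScheme, IntMult.stalkIdeal J u =
      Ideal.span {U.toScheme.presheaf.germ ⊤ u trivial (U.topIso.inv a)} := fun u => by
    rw [IdealStalkLib.stalkIdeal_eq J ⟨⊤, isAffineOpen_top _⟩ u trivial, Scheme.IdealSheafData.ofIdealTop_ideal,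
      Ideal.map_map, Ideal.map_span, Set.image_singleton]
    refine congrArg (fun t => Ideal.span {t}) ?_
    exact TopCat.Presheaf.germ_res_apply U.toScheme.presheaf (homOfLE (le_top : (⊤ : U.toScheme.Opens) ≤ ⊤)) u (Opens.mem_top u) _
  have hbasic : ∀ u : U.toScheme, IsUnit (U.toScheme.presheaf.germ ⊤ u trivial (U.topIso.inv a)) ↔
      U.ι u ∈ X.left.basicOpen a := fun u => by
    rw [← U.toScheme.mem_basicOpen (U := ⊤) _ u (Opens.mem_top u), ← Scheme.Opens.ι_image_basicOpen_topIso_inv (U := U) a]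
    exact ⟨fun h => ⟨u, h, rfl⟩, fun ⟨v, hv, hvu⟩ => U.ι.isOpenEmbedding.injective hvu ▸ hv⟩
  have hrange : Set.range (q ≫ U.ι) = {w | w ∈ U ∧ w ∉ X.left.basicOpen a} := by
    ext w
    constructor
    · rintro ⟨z, rfl⟩
      refine ⟨(q z).2, fun h => ?_⟩
      have h1 : q z ∈ J.support := J.range_subschemeι.le ⟨z, rfl⟩
      rw [Scheme.IdealSheafData.mem_support_iff_of_mem (U := ⟨⊤, isAffineOpen_top _⟩) trivial,
        Scheme.IdealSheafData.ofIdealTop_ideal] at h1
      refine (Scheme.mem_zeroLocus_iff _ _ _).1 h1 _ (Ideal.mem_map_of_mem _ (Ideal.mem_span_singleton_self _)) ?_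
      rw [Scheme.basicOpen_res]
      exact ⟨trivial, (U.toScheme.mem_basicOpen (U := ⊤) _ (q z) (Opens.mem_top _)).2 ((hbasic _).2 h)⟩
    · rintro ⟨hwU, hw⟩
      have h1 : (⟨w, hwU⟩ : U.toScheme) ∈ J.support := by
        by_contra h
        have h2 : IntMult.stalkIdeal J (⟨w, hwU⟩ : U.toScheme) = ⊤ := IdealMulLib.stalkIdeal_eq_top J h
        rw [hJ, Ideal.span_singleton_eq_top, hbasic] at h2
        exact hw h2
      obtain ⟨z, hz⟩ := J.range_subschemeι.ge h1
      exact ⟨z, congrArg U.ι hz⟩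
  let g := q ≫ U.ι ≫ X.hom
  haveI : LocallyOfFiniteType g := inferInstance
  haveI : IsSeparated g := inferInstance
  have hfibre : ∀ w : X.left, w ⤳ x → w ∉ X.left.basicOpen a → X.hom w = IsLocalRing.closedPoint R → w = x := by
    intro w hw hwa hwc
    obtain ⟨P, rfl⟩ := (Scheme.range_fromSpecStalk (x := x)).ge hw
    have haP : a₀ ∈ P.asIdeal := by
      have h1 : ax ∈ P.asIdeal := not_not.1 fun h => hwa ((hmem P).2 h)
      exact (Ideal.span_singleton_le_iff_mem _).1 (hspan ▸ (Ideal.span_singleton_le_iff_mem _).2 h1)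
    rw [show P = IsLocalRing.closedPoint (X.left.presheaf.stalk x) from
      PrimeSpectrum.ext (hafib P.asIdeal P.isPrime haP ((hspec x P).2 hwc)), hcl]
  have hxa : x ∉ X.left.basicOpen a := fun h => by
    rw [← hcl x, hmem] at h
    refine h ?_
    exact ((Ideal.span_singleton_le_iff_mem _).1 (hspan.le.trans ((Ideal.span_singleton_le_iff_mem _).2 ha₀m)))
  obtain ⟨z, hz⟩ : x ∈ Set.range (q ≫ U.ι) := hrange.ge ⟨hxU, hxa⟩
  have hinj : Function.Injective (q ≫ U.ι) := (q ≫ U.ι).isEmbedding.injective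
  have hgz : g.QuasiFiniteAt z := by
    rw [Scheme.Hom.quasiFiniteAt_iff_isOpen_singleton_asFiber]
    haveI : LocallyOfFiniteType (g.fiberToSpecResidueField (g z)) :=
      MorphismProperty.of_isPullback (P := @LocallyOfFiniteType) (IsPullback.of_hasPullback g _) inferInstance
    haveI : IsLocallyNoetherian (g.fiber (g z)) :=
      LocallyOfFiniteType.isLocallyNoetherian (g.fiberToSpecResidueField (g z))
    have hι : Topology.IsEmbedding (g.fiberι (g z)) := (g.fiberι (g z)).isEmbedding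
    refine Groth.Agent.S7890.h9_isOpen_singleton _ ?_ fun w hw => hι.injective (hinj ?_)
    · have h := hx.preimage ((g.fiberι (g z) ≫ q ≫ U.ι).continuous)
      convert h
      ext b
      simp only [Set.mem_singleton_iff, Set.mem_preimage, Scheme.Hom.comp_apply]
      constructor
      · rintro rfl
        rw [g.fiberι_asFiber, ← Scheme.Hom.comp_apply, hz]
      · intro h
        exact hι.injective ((hinj (h.trans hz.symm)).trans (g.fiberι_asFiber z).symm)
    · rw [g.fiberι_asFiber, hz]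
      have hs : (q ≫ U.ι) (g.fiberι (g z) w) ⤳ x := by
        have h1 := (hw.map (g.fiberι (g z)).continuous).map (q ≫ U.ι).continuous
        rw [g.fiberι_asFiber, hz] at h1
        exact h1
      refine hfibre _ hs (hrange.le ⟨_, rfl⟩).2 ?_
      have h1 : g.fiberι (g z) w ∈ Set.range (g.fiberι (g z)) := ⟨w, rfl⟩
      rw [Scheme.Hom.range_fiberι] at h1
      calc X.hom ((q ≫ U.ι) (g.fiberι (g z) w)) = g z := h1
        _ = X.hom ((q ≫ U.ι) z) := rfl
        _ = _ := by rw [hz, hclosedPt x hx]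
  -- quasi-finite part
  let Z' : J.subscheme.Opens := ⟨{w | g.QuasiFiniteAt w}, g.isOpen_quasiFiniteAt⟩
  let g' := Z'.ι ≫ g
  haveI : LocallyQuasiFinite g' := by
    refine locallyQuasiFinite_iff_isDiscrete_preimage_singleton.2 fun b => ?_
    haveI : DiscreteTopology (g'.fiber b) := discreteTopology_iff_isOpen_singleton.2 fun w => by
      obtain ⟨⟨y, hy⟩, rfl⟩ := (g'.fiberHomeo b).symm.surjective w
      obtain rfl : g' y = b := hy
      exact Scheme.Hom.quasiFiniteAt_iff_isOpen_singleton_asFiber.1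
        ((Scheme.Hom.quasiFiniteAt_comp_iff_of_isOpenImmersion (f := Z'.ι) (g := g)).2 y.2)
    exact ⟨(g'.fiberHomeo b).symm.isEmbedding.discreteTopology⟩
  haveI : CompactSpace Z'.toScheme := by
    haveI : IsLocallyNoetherian J.subscheme := LocallyOfFiniteType.isLocallyNoetherian g
    haveI : CompactSpace J.subscheme := QuasiCompact.compactSpace_of_compactSpace q
    haveI : AlgebraicGeometry.IsNoetherian J.subscheme := { }
    exact isCompact_iff_compactSpace.1 (NoetherianSpace.isCompact _)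
  haveI : QuasiCompact g' := inferInstance
  haveI : IsSeparated g' := inferInstance
  -- keep one closed point over the closed point
  have hfin : (g' ⁻¹' {IsLocalRing.closedPoint R}).Finite := g'.finite_preimage_singleton _
  let z' : Z'.toScheme := ⟨z, hgz⟩
  have hgz' : g' z' = IsLocalRing.closedPoint R := by
    show X.hom ((q ≫ U.ι) z) = _
    rw [hz, hclosedPt x hx]
  have hclosed : ∀ w : Z'.toScheme, g' w = IsLocalRing.closedPoint R → IsClosed ({w} : Set Z'.toScheme) := fun w hw => by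
    have hd : _root_.IsDiscrete (g' ⁻¹' {IsLocalRing.closedPoint R}) := g'.isDiscrete_preimage_singleton _
    have hc : IsClosed (g' ⁻¹' {IsLocalRing.closedPoint R}) :=
      (IsLocalRing.isClosed_singleton_closedPoint R).preimage g'.continuous
    refine closure_subset_iff_isClosed.1 fun v hv => ?_
    have hvs : w ⤳ v := specializes_iff_mem_closure.2 hv
    have hvm : v ∈ g' ⁻¹' {IsLocalRing.closedPoint R} := hvs.mem_closed hc hw
    haveI := hd.to_subtype
    have h2 : (⟨w, hw⟩ : g' ⁻¹' {IsLocalRing.closedPoint R}) ⤳ ⟨v, hvm⟩ :=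
      Topology.IsInducing.subtypeVal.specializes_iff.1 hvs
    exact (Subtype.ext_iff.1 h2.eq).symm
  have hOpen : IsClosed (g' ⁻¹' {IsLocalRing.closedPoint R} \ {z'}) := by
    rw [← Set.biUnion_of_singleton (g' ⁻¹' {IsLocalRing.closedPoint R} \ {z'})]
    exact hfin.diff.isClosed_biUnion fun w hw => hclosed w hw.1
  let V : Z'.toScheme.Opens := ⟨_, hOpen.isOpen_compl⟩
  obtain ⟨W, hzW, -, hWfin⟩ := Groth.Agent.Hensel.exists_clopen_finite_nhd (V.ι ≫ g')
    (⟨z', fun h => h.2 rfl⟩ : V.toScheme) hgz'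
  haveI := hWfin
  let d : W.toScheme ⟶ X.left := (W.ι ≫ V.ι ≫ Z'.ι) ≫ q ≫ U.ι
  have hdX : d ≫ X.hom = W.ι ≫ V.ι ≫ g' := by simp only [d, g', g, Category.assoc]
  haveI : IsProper d := by
    haveI : IsProper (d ≫ X.hom) := by rw [hdX]; infer_instance
    exact IsProper.of_comp d X.hom
  haveI : IsClosedImmersion d := IsClosedImmersion.of_isPreimmersion d d.isClosedMap.isClosed_range
  have hdx : ∀ w : W.toScheme, X.hom (d w) = IsLocalRing.closedPoint R → w = ⟨_, hzW⟩ := fun w hw => by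
    have h1 : V.ι (W.ι w) ∈ g' ⁻¹' {IsLocalRing.closedPoint R} := by
      show g' (V.ι (W.ι w)) = _
      rw [← hw, ← Scheme.Hom.comp_apply d X.hom, hdX]
      rfl
    refine Subtype.ext (Subtype.ext ?_)
    exact not_not.1 fun hne => (W.ι w).2 ⟨h1, hne⟩
  have hdz : d ⟨_, hzW⟩ = x := hz
  have hsp : ∀ w : W.toScheme, d w ⤳ x := fun w => by
    obtain ⟨v, hv, hvc⟩ := (isClosed_closure (s := ({d w} : Set X.left))).exists_closed_singleton
      ⟨_, subset_closure rfl⟩
    obtain ⟨v', rfl⟩ : v ∈ Set.range d :=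
      (specializes_iff_mem_closure.2 hv).mem_closed d.isClosedEmbedding.isClosed_range ⟨w, rfl⟩
    rw [hdx v' (hclosedPt _ hvc), hdz] at hv
    exact specializes_iff_mem_closure.2 hv
  have hstalk : ∀ w : W.toScheme, IntMult.stalkIdeal d.ker (d w) =
      Ideal.span {X.left.presheaf.germ U (d w) (hUof _ (hsp w)) a} := fun w => by
    let o : J.subscheme := (W.ι ≫ V.ι ≫ Z'.ι) w
    haveI : IsIso ((W.ι ≫ V.ι ≫ Z'.ι).stalkMap w) := inferInstance
    rw [stalkIdeal_kerJ d w]
    ext c
    show (d.stalkMap w).hom c = 0 ↔ _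
    rw [show d.stalkMap w = (q ≫ U.ι).stalkMap o ≫ (W.ι ≫ V.ι ≫ Z'.ι).stalkMap w from Scheme.Hom.stalkMap_comp _ _ _,
      Scheme.Hom.stalkMap_comp]
    show (W.ι ≫ V.ι ≫ Z'.ι).stalkMap w (q.stalkMap o (U.ι.stalkMap (q o) c)) = 0 ↔ _
    rw [map_eq_zero_iff _ (ConcreteCategory.bijective_of_isIso ((W.ι ≫ V.ι ≫ Z'.ι).stalkMap w)).1,
      ← RingHom.mem_ker, ← stalkIdeal_kerJ q o, Scheme.IdealSheafData.ker_subschemeι, hJ]
    have hb := ConcreteCategory.bijective_of_isIso (U.ι.stalkMap (q o))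
    have hg : U.ι.stalkMap (q o) (X.left.presheaf.germ U (U.ι (q o)) (q o).2 a) =
        U.toScheme.presheaf.germ ⊤ (q o) trivial (U.topIso.inv a) := by
      rw [Scheme.Hom.germ_stalkMap_apply]
      refine Eq.trans ?_ (TopCat.Presheaf.germ_res_apply U.toScheme.presheaf
        (homOfLE (le_top : U.ι ⁻¹ᵁ U ≤ ⊤)) (q o) (q o).2 _)
      refine congrArg _ ?_
      simp only [Scheme.Opens.topIso, Scheme.Opens.ι_app]
      show _ = X.left.presheaf.map _ (X.left.presheaf.map _ a)
      rw [← CommRingCat.comp_apply, ← Functor.map_comp]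
      rfl
    rw [← hg, Ideal.mem_span_singleton, Ideal.mem_span_singleton]
    exact map_dvd_iff (RingEquiv.ofBijective (U.ι.stalkMap (q o)).hom hb)
  have hane : ∀ w : W.toScheme, X.left.presheaf.germ U (d w) (hUof _ (hsp w)) a ≠ 0 := fun w h => by
    haveI : Nonempty U := ⟨⟨x, hxU⟩⟩
    have h1 : a = 0 := germ_injective_of_isIntegral X.left (d w) (hUof _ (hsp w)) (h.trans (map_zero _).symm)
    refine ha₀ (Ideal.span_singleton_eq_bot.1 ?_)
    rw [← hspan, hax, h1, map_zero, Ideal.span_singleton_eq_bot]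
  refine ⟨W.toScheme, d, inferInstance, Groth.Agent.S1570.result X.left d.ker fun y hy O hyO => ?_, fun p => ?_, ?_, hsp⟩
  · obtain ⟨w, rfl⟩ : y ∈ Set.range d := by
      have : y ∈ (d.ker.support : Set X.left) := hy
      rwa [Scheme.Hom.support_ker, IsClosed.closure_eq d.isClosedEmbedding.isClosed_range] at this
    exact ⟨_, mem_nonZeroDivisors_of_ne_zero (hane w), (IdealStalkLib.stalkIdeal_eq d.ker O (d w) hyO).symm.trans (hstalk w)⟩
  · obtain ⟨P, hP⟩ := (Scheme.range_fromSpecStalk (x := x)).ge (hsp p)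
    have haP : ax ∈ P.asIdeal := by
      refine not_not.1 fun h => ?_
      have h1 := (hmem P).2 h
      rw [hP] at h1
      exact (hrange.le ⟨(W.ι ≫ V.ι ≫ Z'.ι) p, rfl⟩).2 h1
    have haP₀ : Ideal.span {a₀} ≤ P.asIdeal := hspan ▸ (Ideal.span_singleton_le_iff_mem _).2 haP
    obtain ⟨T, hT, hTP⟩ := Ideal.exists_minimalPrimes_le haP₀
    haveI := hT.1.1
    let v := X.left.fromSpecStalk x ⟨T, hT.1.1⟩
    have hvp : v ⤳ d p := hP ▸ ((PrimeSpectrum.le_iff_specializes _ _).1
      (show (⟨T, hT.1.1⟩ : PrimeSpectrum (X.left.presheaf.stalk x)) ≤ P from hTP)).map (X.left.fromSpecStalk x).continuous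
    obtain ⟨vU, hvU⟩ : v ∈ Set.range (q ≫ U.ι) := hrange.ge ⟨hUof _ ((Scheme.range_fromSpecStalk (x := x)).le ⟨_, rfl⟩),
      fun h => (hmem _).1 h ((Ideal.span_singleton_le_iff_mem _).1 ((hspan.symm ▸ hT.1.2 : Ideal.span {ax} ≤ T)))⟩
    have hvs : vU ⤳ (W.ι ≫ V.ι ≫ Z'.ι) p := by
      refine (q ≫ U.ι).isEmbedding.isInducing.specializes_iff.1 ?_
      rw [hvU]
      exact hvp
    obtain ⟨w, hw⟩ := hvs.mem_open (W.ι ≫ V.ι ≫ Z'.ι).isOpenEmbedding.isOpen_range ⟨p, rfl⟩
    have hdw : d w = v := by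
      show (q ≫ U.ι) ((W.ι ≫ V.ι ≫ Z'.ι) w) = v
      rw [hw, hvU]
    refine ⟨w, d.isClosedEmbedding.isInducing.specializes_iff.1 (hdw.symm ▸ hvp), hbot _ fun hc => ?_⟩
    refine hahor T hT ((hspec x ⟨T, hT.1.1⟩).2 ?_)
    rw [← hc, Scheme.Hom.comp_apply, hdw]
  · refine Set.eq_singleton_iff_unique_mem.2 ⟨⟨⟨_, hdz⟩, hclosedPt x hx⟩, ?_⟩
    rintro _ ⟨⟨w, rfl⟩, hw⟩
    rw [hdx w hw]
    exact hdz

end Groth.Agent.CastLib.HorizDiv
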