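import Groth.Agent.H1ZeroLib.RegSec
import Groth.Agent.H1ZeroLib.Koszul
import Groth.Agent.ClSubLib.Annihilator
import Groth.Agent.ProperFin.Main
import Groth.Agent.AmpleLib.Product
import Groth.Agent.FormalAmpleLib.Generated

/-!
# Powers of an invertible module with a regular section vanishing only above one point
-/

set_option autoImplicit false
set_option backward.isDefEq.respectTransparency false
set_option backward.isDefEq.respectTransparency.types false
set_option linter.style.haveILetI false
set_option maxHeartbeats 1000000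

universe u

open CategoryTheory CategoryTheory.Limits AlgebraicGeometry TopologicalSpace Opposite
open Groth.Agent.PullbackMod Groth.Agent.DCohLib Groth.Agent.AmpleLib Groth.Agent.CurveLib
open Groth.Agent.H1ZeroLib (stalk_pairRight)
open scoped TensorProduct

noncomputable section

namespace Groth.Agent.CastLib.RegPow

variable {X : Scheme.{u}}

/-- The global section of a class in degree zero. -/
def gsec (N : X.Modules) : Coh.HH X N 0 ≃+ Γ(N, ⊤) :=
  (CohBase.HHEquiv N 0).trans (CohBase.H0Equiv (⊤ : X.Opens) (Coh.toAb N))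

/-- Every closed subscheme inside the set is affine. -/
def AffineOn (C : Set X) : Prop :=
  ∀ ⦃Z : Scheme.{u}⦄ (i : Z ⟶ X), IsClosedImmersion i → (∀ z, i z ∈ C) → IsAffine Z

/-- A closed subscheme all whose points specialise to one point is affine. -/
theorem isAffine_of_specializes {Z : Scheme.{u}} (i : Z ⟶ X) [IsClosedImmersion i] {x : X}
    (h : ∀ z, i z ⤳ x) : IsAffine Z := by
  obtain ⟨_, ⟨W : X.Opens, hW, rfl⟩, hxW, -⟩ :=
    X.isBasis_affineOpens.exists_subset_of_mem_open (Set.mem_univ x) isOpen_univ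
  have hi : Set.range i ⊆ Set.range W.ι := by
    rw [Scheme.Opens.range_ι]
    rintro _ ⟨z, rfl⟩
    exact (h z).mem_open W.2 hxW
  haveI : IsAffine W.toScheme := hW
  let l := IsOpenImmersion.lift W.ι i hi
  haveI : IsClosedImmersion (l ≫ W.ι) := by rw [IsOpenImmersion.lift_fac]; infer_instance
  haveI : IsClosedImmersion l := IsClosedImmersion.of_comp l W.ι
  exact isAffine_of_isAffineHom l

/-- A coherent module concentrated on a set with affine closed subschemes has no first cohomology and generated stalks. -/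
theorem above_affine [IsLocallyNoetherian X] {M : X.Modules} (hM : Coh.IsCoh M) {C : Set X}
    (hC : AffineOn C)
    (hsupp : CohB1.support M ⊆ C) :
    Subsingleton (Coh.HH X M 1) ∧
      ∀ y, Submodule.span (X.presheaf.stalk y)
        (Set.range fun t : Γ(M, ⊤) => M.presheaf.germ ⊤ y trivial t) = ⊤ := by
  haveI : Coh.IsQCoh M := hM.1
  let i := (ClSubLib.annIdeal M hM.2).subschemeι
  obtain ⟨e⟩ := ClSubLib.exists_iso_push_of_killed i M (ClSubLib.killed_annIdeal M hM.2)
  haveI : IsAffine (ClSubLib.annIdeal M hM.2).subscheme := hC i inferInstance fun z =>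
    hsupp ((ClSubLib.range_annIdeal M hM.2).le ⟨z, rfl⟩)
  let N := (Scheme.Modules.pullback i).obj M
  haveI : Coh.IsQCoh N := inferInstance
  constructor
  · obtain ⟨q, -⟩ := ProperFin.exists_pushEquiv i (M := N)
      (fun _ hV m => CohBase.affine_vanishing N (hV.preimage _) m) 1
    haveI : Subsingleton (Coh.HH (ClSubLib.annIdeal M hM.2).subscheme N 1) :=
      CohBase.subsingleton_HH _ _ (CohBase.affine_vanishing N (isAffineOpen_top _) 0)
    haveI : Subsingleton (Coh.HH X ((Scheme.Modules.pushforward i).obj N) 1) := q.symm.toEquiv.subsingleton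
    exact ProjCoh.subsingleton_of_iso e 1
  · intro y
    refine eq_top_iff.2 fun z _ => ?_
    obtain ⟨w, rfl⟩ := ((isIso_iff_stalk e.hom).1 inferInstance y).2 z
    let P := (Scheme.Modules.pushforward i).obj N
    suffices h : w ∈ Submodule.span (X.presheaf.stalk y)
        (Set.range fun t : Γ(P, ⊤) => P.presheaf.germ ⊤ y trivial t) by
      refine Submodule.span_le.2 ?_ (Submodule.mem_map_of_mem (f := stalkLin e.hom y) h |> fun h' =>
        (Submodule.map_span (stalkLin e.hom y) _).le h')
      rintro _ ⟨_, ⟨t, rfl⟩, rfl⟩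
      exact Submodule.subset_span ⟨e.hom.app ⊤ t, (stalkLin_germ e.hom (U := ⊤) y trivial t).symm⟩
    by_cases hy : y ∈ Set.range i
    swap
    · haveI := DCohLib.subsingleton_stalk_pushforward i N y hy
      rw [Subsingleton.elim w 0]
      exact Submodule.zero_mem _
    obtain ⟨y', rfl⟩ := hy
    have hgen := ProjBundleLib.span_germ_of_isGloballyGenerated
      (AmpleLib.isGloballyGenerated_of_isQuasiAffine N) y'
    have key : ∀ v ∈ Submodule.span ((ClSubLib.annIdeal M hM.2).subscheme.presheaf.stalk y')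
        (Set.range fun σ : Γ(N, ⊤) => N.presheaf.germ ⊤ y' (Opens.mem_top y') σ),
        ∀ w : P.presheaf.stalk (i y'), pushStalk i N y' w = v → w ∈ Submodule.span (X.presheaf.stalk (i y'))
          (Set.range fun t : Γ(P, ⊤) => P.presheaf.germ ⊤ (i y') trivial t) := by
      intro v hv
      induction hv using Submodule.span_induction with
      | mem v hv =>
        obtain ⟨σ, rfl⟩ := hv
        intro w hw
        exact Submodule.subset_span ⟨σ, (bijective_pushStalk i N y').1
          ((pushStalk_germ i N y' (W := ⊤) trivial σ).trans hw.symm)⟩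
      | zero =>
        intro w hw
        rw [(bijective_pushStalk i N y').1 (hw.trans (map_zero _).symm)]
        exact Submodule.zero_mem _
      | add v v' _ _ hv hv' =>
        intro w hw
        obtain ⟨a, ha⟩ := (bijective_pushStalk i N y').2 v
        obtain ⟨b, hb⟩ := (bijective_pushStalk i N y').2 v'
        rw [(bijective_pushStalk i N y').1 (hw.trans ((congrArg₂ (· + ·) ha hb).symm.trans (map_add _ a b).symm))]
        exact Submodule.add_mem _ (hv a ha) (hv' b hb)
      | smul c v _ hv =>
        intro w hw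
        obtain ⟨a, ha⟩ := (bijective_pushStalk i N y').2 v
        obtain ⟨c, rfl⟩ := i.stalkMap_surjective y' c
        rw [(bijective_pushStalk i N y').1
          (hw.trans ((congrArg (i.stalkMap y' c • ·) ha.symm).trans (pushStalk_smul i N y' c a).symm))]
        exact Submodule.smul_mem _ c (hv a ha)
    exact key _ (hgen ▸ Submodule.mem_top) w rfl

variable {A : Type u} [CommRing A] [IsNoetherianRing A] [X.Over (Spec (CommRingCat.of A))]
  [IsProper (X ↘ Spec (CommRingCat.of A))] {L : X.Modules} (hL : PicF.IsInvertible L)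
  (s : Coh.structureModule X ⟶ L) [Mono s]

include hL in
omit [IsNoetherianRing A] [X.Over (Spec (CommRingCat.of A))] [IsProper (X ↘ Spec (CommRingCat.of A))] in
theorem mono_pairRight {N : X.Modules} (hN : PicF.IsInvertible N) : Mono (pairRight N L (sec s)) := by
  refine (mono_iff_stalk _).2 fun y => (injective_iff_map_eq_zero _).2 fun v hv => ?_
  obtain ⟨e', he'⟩ := ParaFLib.exists_stalk_gen hL y
  obtain ⟨g', hg'⟩ := ParaFLib.exists_stalk_gen hN y
  obtain ⟨a', ha'⟩ := he'.2 (L.presheaf.germ ⊤ y trivial (sec s))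
  obtain ⟨c', rfl⟩ := hg'.2 v
  dsimp only at ha'
  dsimp only at hv ⊢
  rw [stalk_pairRight, ← ha', TensorProduct.tmul_smul, ← TensorProduct.smul_tmul', map_smul, map_smul,
    smul_smul] at hv
  have h0 : a' * c' = 0 := (AmpleLib.bijective_stalkTensor (x := y) hg' he').1 (hv.trans (zero_smul _ _).symm)
  have h2 : stalkLin s y (c' • ParaFLib.oneG y) = 0 := by
    rw [map_smul, show stalkLin s y (ParaFLib.oneG y) = a' • e' from
      (stalkLin_germ s (U := ⊤) y trivial _).trans ha'.symm, smul_smul, mul_comm, h0, zero_smul]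
  have h3 : c' • ParaFLib.oneG y = (0 : X.presheaf.stalk y) • ParaFLib.oneG y := by
    rw [zero_smul]
    exact (mono_iff_stalk s).1 inferInstance y (h2.trans (map_zero _).symm)
  rw [(ParaFLib.bijective_oneG y).1 h3, zero_smul]

variable (hx : AffineOn ((CohB1.genLocus L s : Set X)ᶜ))

include hL hx in
theorem coker_pairRight [IsLocallyNoetherian X] {N : X.Modules} (hN : PicF.IsInvertible N) :
    Subsingleton (Coh.HH X (cokernel (pairRight N L (sec s))) 1) ∧
      ∀ y, Submodule.span (X.presheaf.stalk y) (Set.range fun t : Γ(cokernel (pairRight N L (sec s)), ⊤) =>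
        (cokernel (pairRight N L (sec s))).presheaf.germ ⊤ y trivial t) = ⊤ := by
  haveI := mono_pairRight hL s hN
  refine above_affine (C := (CohB1.genLocus L s : Set X)ᶜ) (QCohLib.isCoh_kernel_cokernel _ (CurveLib.isCoh_of_isInvertible hN)
    (CurveLib.isCoh_of_isInvertible (AmpleLib.isInvertible_tensor hN hL))).2 hx fun y hy hy' => hy ?_
  refine DevLib.subsingleton_coker _ fun z => ?_
  have hg := (AmpleLib.mem_genLocus_iff hL).1 hy'
  obtain ⟨z, rfl⟩ := (stalkTensor y N L).surjective z
  induction z with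
  | zero => exact ⟨0, by rw [map_zero, map_zero]⟩
  | add p q hp hq =>
    obtain ⟨a, ha⟩ := hp
    obtain ⟨b, hb⟩ := hq
    exact ⟨a + b, by rw [map_add, map_add, ha, hb]⟩
  | tmul w v =>
    obtain ⟨c, rfl⟩ := hg.2 v
    exact ⟨c • w, (stalk_pairRight N L (sec s) y (c • w)).trans (congrArg _ (TensorProduct.smul_tmul c w _))⟩

include hL hx in
/-- When no class dies, generating sections appear where the section vanishes. -/
theorem exists_section_of_injective [IsLocallyNoetherian X] {N : X.Modules} (hN : PicF.IsInvertible N)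
    (hinj : Function.Injective (hMap (k := A) (pairRight N L (sec s)) 1)) {y : X} (hy : y ∉ CohB1.genLocus L s) :
    ∃ τ : Coh.structureModule X ⟶ tmod N L, y ∈ CohB1.genLocus (tmod N L) τ := by
  haveI := mono_pairRight hL s hN
  let f := pairRight N L (sec s)
  have hS := DevLib.cokerSeq_shortExact f
  have hsurj : ∀ q : Γ(cokernel f, ⊤), ∃ t : Γ(tmod N L, ⊤), (cokernel.π f).app ⊤ t = q := fun q => by
    let c := (gsec (cokernel f)).symm q
    have h1 : hδ (k := A) hS 0 c ∈ LinearMap.range (hδ (k := A) hS 0) := ⟨c, rfl⟩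
    rw [range_hδ hS 0, LinearMap.mem_ker] at h1
    have h2 : c ∈ LinearMap.ker (hδ (k := A) hS 0) := LinearMap.mem_ker.2 (hinj (h1.trans (map_zero _).symm))
    rw [← range_hMap_g hS 0] at h2
    obtain ⟨d, hd⟩ := h2
    refine ⟨gsec _ d, ?_⟩
    have h3 : gsec (cokernel f) (Sheaf.H.map ((QCohLib.toAbF X).map (cokernel.π f)) 0 d) =
        (cokernel.π f).app ⊤ (gsec (tmod N L) d) := by
      show CohBase.H0Equiv (⊤ : X.Opens) _ (CohBase.HEquiv _ 0 (Sheaf.H.map _ 0 d)) = _
      rw [CohBase.HEquiv_map, CohBase.H0Equiv_hmap]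
      rfl
    exact h3.symm.trans ((congrArg (gsec (cokernel f)) hd).trans (AddEquiv.apply_symm_apply _ _))
  obtain ⟨g, hg⟩ := ParaFLib.exists_stalk_gen hN y
  obtain ⟨e, he⟩ := ParaFLib.exists_stalk_gen hL y
  have hbij := AmpleLib.bijective_stalkTensor (x := y) hg he
  obtain ⟨a, ha⟩ := he.2 (L.presheaf.germ ⊤ y trivial (sec s))
  dsimp only at ha
  have ha' : ¬ IsUnit a := fun hu => hy (by
    rw [AmpleLib.mem_genLocus_iff hL, ← ha]
    exact (AmpleLib.bijective_smul_iff he a).2 hu)
  let gen := stalkTensor y N L (g ⊗ₜ[X.presheaf.stalk y] e)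
  by_contra hno
  push Not at hno
  let 𝔪 := IsLocalRing.maximalIdeal (X.presheaf.stalk y)
  have hrange : ∀ w, ∃ c ∈ 𝔪, stalkLin f y w = c • gen := fun w => by
    obtain ⟨b, rfl⟩ := hg.2 w
    refine ⟨a * b, Ideal.mul_mem_right _ _ ha', ?_⟩
    show stalkLin f y (b • g) = _
    rw [stalk_pairRight, ← ha, TensorProduct.tmul_smul, ← TensorProduct.smul_tmul', map_smul, map_smul, smul_smul]
  have hsec : ∀ t : Γ(tmod N L, ⊤), ∃ c ∈ 𝔪, (tmod N L).presheaf.germ ⊤ y trivial t = c • gen := fun t => by
    obtain ⟨c, hc⟩ := hbij.2 ((tmod N L).presheaf.germ ⊤ y trivial t)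
    refine ⟨c, ?_, hc.symm⟩
    by_contra hu
    refine hno (DCohLib.secHom _ t) ((AmpleLib.mem_genLocus_iff (AmpleLib.isInvertible_tensor hN hL)).2 ?_)
    rw [show sec (L := tmod N L) (DCohLib.secHom _ t) = t from AmpleLib.sec_secHom (L := tmod N L) t]
    show Function.Bijective fun r : X.presheaf.stalk y => r • (tmod N L).presheaf.germ ⊤ y trivial t
    rw [← hc]
    exact (AmpleLib.bijective_smul_iff hbij c).2 (not_not.1 fun hn => hu ((IsLocalRing.mem_maximalIdeal _).2 hn))
  let π := cokernel.π f
  have hz : stalkLin π y gen ∈ Submodule.span (X.presheaf.stalk y)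
      (Set.range fun t : Γ(cokernel f, ⊤) => (cokernel f).presheaf.germ ⊤ y trivial t) :=
    (coker_pairRight hL s hx hN).2 y ▸ Submodule.mem_top
  have hle : Submodule.span (X.presheaf.stalk y)
      (Set.range fun t : Γ(cokernel f, ⊤) => (cokernel f).presheaf.germ ⊤ y trivial t) ≤
        (Submodule.map (LinearMap.toSpanSingleton (X.presheaf.stalk y) _ gen) 𝔪).map (stalkLin π y) := by
    refine Submodule.span_le.2 ?_
    rintro _ ⟨q, rfl⟩
    obtain ⟨t, rfl⟩ := hsurj q
    obtain ⟨c, hc, htc⟩ := hsec t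
    refine ⟨c • gen, ⟨c, hc, rfl⟩, ?_⟩
    rw [← htc]
    exact stalkLin_germ π (U := ⊤) y trivial t
  obtain ⟨_, ⟨c, hc, rfl⟩, hcz⟩ := hle hz
  obtain ⟨w, hw⟩ := (DevLib.coker_exact f y (gen - LinearMap.toSpanSingleton (X.presheaf.stalk y) _ gen c)).1
    (by rw [map_sub, hcz, sub_self])
  obtain ⟨d, hd, hwd⟩ := hrange w
  rw [hwd, LinearMap.toSpanSingleton_apply, eq_sub_iff_add_eq, ← add_smul] at hw
  have h1 : d + c = 1 := hbij.1 (hw.trans (one_smul _ gen).symm)
  exact (IsLocalRing.maximalIdeal.isMaximal _).ne_top ((Ideal.eq_top_iff_one _).2 (h1 ▸ add_mem hd hc))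

include A hL hx in
/-- Some power is globally generated. -/
theorem exists_gg_pow : ∃ n₀ : ℕ, ∀ n, n₀ ≤ n → Curv2.IsGloballyGenerated (CohB1.tensorPow L (n + 1)) := by
  let p := X ↘ Spec (CommRingCat.of A)
  haveI : IsLocallyNoetherian X := LocallyOfFiniteType.isLocallyNoetherian p
  haveI : CompactSpace X := QuasiCompact.compactSpace_of_compactSpace p
  haveI : IsNoetherian X := { }
  let m : ℕ → X.Modules := fun n => CohB1.tensorPow L n
  have hm : ∀ n, PicF.IsInvertible (m n) := fun n => AmpleLib.isInvertible_tensorPow hL n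
  let φ : ∀ n, Coh.HH X (m n) 1 →ₗ[A] Coh.HH X (m (n + 1)) 1 := fun n => hMap (pairRight (m n) L (sec s)) 1
  have hφ : ∀ n, Function.Surjective (φ n) := fun n z => by
    haveI := mono_pairRight hL s (hm n)
    have hS := DevLib.cokerSeq_shortExact (pairRight (m n) L (sec s))
    have h0 : hMap (k := A) (DevLib.cokerSeq (pairRight (m n) L (sec s))).g 1 z = 0 :=
      @Subsingleton.elim _ (coker_pairRight hL s hx (hm n)).1 _ _
    have h1 : z ∈ LinearMap.range (hMap (k := A) (DevLib.cokerSeq (pairRight (m n) L (sec s))).f 1) := by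
      rw [range_hMap_f hS 1]; exact h0
    exact h1
  let K : ∀ n, Coh.HH X (m 0) 1 →ₗ[A] Coh.HH X (m n) 1 := fun n => Nat.rec LinearMap.id (fun k g => φ k ∘ₗ g) n
  have hK : ∀ n, Function.Surjective (K n) := fun n => by
    induction n with
    | zero => exact fun z => ⟨z, rfl⟩
    | succ k ih => exact (hφ k).comp ih
  have hmono : Monotone fun n => LinearMap.ker (K n) := monotone_nat_of_le_succ fun n z hz => by
    rw [LinearMap.mem_ker] at hz ⊢
    show φ n (K n z) = 0
    rw [hz, map_zero]
  haveI : Module.Finite A (Coh.HH X (m 0) 1) :=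
    ProperFin.allFin_of_isCoh (A := A) p (m 0) (CurveLib.isCoh_of_isInvertible (hm 0)) 1
  obtain ⟨N, hN⟩ := monotone_stabilizes_iff_noetherian.2
    (isNoetherian_of_isNoetherianRing_of_finite A (Coh.HH X (m 0) 1)) ⟨_, hmono⟩
  refine ⟨N, fun n hn => ?_⟩
  have hinj : Function.Injective (φ n) := (injective_iff_map_eq_zero _).2 fun z hz => by
    obtain ⟨w, rfl⟩ := hK n z
    have hw : w ∈ LinearMap.ker (K (n + 1)) := LinearMap.mem_ker.2 hz
    have h := hN (n + 1) (hn.trans (Nat.le_succ n))
    have h' := hN n hn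
    simp only [OrderHom.coe_mk] at h h'
    rw [← h, h'] at hw
    exact LinearMap.mem_ker.1 hw
  have hI := hm (n + 1)
  refine AmpleEmb.isGloballyGenerated_of_genLocus hI (ι := Coh.structureModule X ⟶ CohB1.tensorPow L (n + 1))
    id fun y => ?_
  by_cases hy : y ∈ CohB1.genLocus L s
  · obtain ⟨U, hyU, hU⟩ := AmpleLib.mem_genLocus_iff'.1 hy
    refine ⟨DCohLib.secHom _ (AmpleLib.powLoc (sec s) (n + 1)), ?_⟩
    refine AmpleLib.mem_genLocus_iff'.2 ⟨U, hyU, ?_⟩
    rw [id_eq, AmpleLib.sec_secHom]
    have key : ∀ k, resT (AmpleLib.powLoc (sec s) k) U = AmpleLib.powLoc (resT (sec s) U) k := fun k => by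
      induction k with
      | zero => exact map_one (X.presheaf.map (homOfLE (le_top : U ≤ ⊤)).op).hom
      | succ k ih =>
        show resT (pairS (CohB1.tensorPow L k) L (AmpleLib.powLoc (sec s) k) (sec s)) U = _
        rw [resT, res_pairS]
        exact congrArg (fun v => pairS (CohB1.tensorPow L k) L v (resT (sec s) U)) ih
    rw [key]
    exact AmpleLib.gen_powLoc hU (n + 1)
  · exact exists_section_of_injective hL s hx (hm n) hinj hy

end Groth.Agent.CastLib.RegPow
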