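import Groth.Agent.CastLib.GGContract
import Groth.Agent.CastLib.HorizDiv
import Groth.Agent.CastLib.RegPow
import Groth.Agent.CastLib.InterFibreClass
import Groth.Agent.AVLib.DivSection
import Groth.Agent.AmpleEmb.GenFinite

/-!
# Contraction over a Henselian base
-/

set_option autoImplicit false
set_option backward.isDefEq.respectTransparency false
set_option linter.style.haveILetI false
set_option maxHeartbeats 1000000

universe u

open CategoryTheory CategoryTheory.Limits AlgebraicGeometry TopologicalSpace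
open Groth.Agent.AmpleLib
open Groth.Agent.IntLib (mk pullCls)

noncomputable section

namespace Groth.Agent.CastLib.HensContract

/-- A product of two globally generated invertible modules is globally generated. -/
theorem isGloballyGenerated_tensor {X : Scheme.{u}} {L M : X.Modules} (hL : PicF.IsInvertible L)
    (hM : PicF.IsInvertible M) (gL : Curv2.IsGloballyGenerated L) (gM : Curv2.IsGloballyGenerated M) :
    Curv2.IsGloballyGenerated (CohB1.tensorMod L M) := by
  refine AmpleEmb.isGloballyGenerated_of_genLocus (isInvertible_tensor hL hM)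
    (ι := (Coh.structureModule X ⟶ L) × (Coh.structureModule X ⟶ M)) (fun p => tensorS p.1 p.2) fun x => ?_
  obtain ⟨s, hs⟩ := exists_genLocus_of_isGloballyGenerated hL gL x
  obtain ⟨t, ht⟩ := exists_genLocus_of_isGloballyGenerated hM gM x
  exact ⟨(s, t), by rw [genLocus_tensorS hL hM]; exact ⟨hs, ht⟩⟩

/-- A module with a section generating along a closed subscheme is trivial on it. -/
theorem pullCls_eq_one_of_gen {X E : Scheme.{u}} (ι : E ⟶ X) {L : X.Modules} (hL : PicF.IsInvertible L)
    (s : Coh.structureModule X ⟶ L) (h : ∀ a, ι a ∈ CohB1.genLocus L s) : pullCls ι (mk L) = 1 := by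
  have htop : CohB1.genLocus _ (pullS ι s) = ⊤ := (genLocus_pullS ι hL s).trans (top_le_iff.1 fun a _ => h a)
  haveI := GenMorph.isIso_of_genLocus_eq_top (isInvertible_pullback ι hL) htop
  rw [IntLib.pullCls_mk]
  exact BlowPic.mk_eq_one.2 ⟨(asIso (pullS ι s)).symm⟩

/-- A section with some but not all zeros on a scheme whose functions form a field prevents triviality. -/
theorem not_trivial_of_section {X E : Scheme.{u}} (ι : E ⟶ X) (hE : IsField Γ(E, ⊤)) {L : X.Modules}
    (hL : PicF.IsInvertible L) (s : Coh.structureModule X ⟶ L) {a b : E} (ha : ι a ∉ CohB1.genLocus L s)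
    (hb : ι b ∈ CohB1.genLocus L s) : ¬ Nonempty ((Scheme.Modules.pullback ι).obj L ≅ Coh.structureModule E) := by
  rintro ⟨e⟩
  have hloc : CohB1.genLocus _ (pullS ι s ≫ e.hom) = ι ⁻¹ᵁ CohB1.genLocus L s :=
    (genLocus_comp_iso _ _).trans (genLocus_pullS ι hL s)
  rcases GGContract.genLocus_top_or_bot hE (pullS ι s ≫ e.hom) with h | h
  · exact ha ((hloc.symm.trans h).ge (Opens.mem_top a))
  · exact absurd (show b ∈ ι ⁻¹ᵁ CohB1.genLocus L s from hb) (by rw [← hloc, h]; exact id)

variable {R : Type u} [CommRing R] [IsDomain R] [IsDiscreteValuationRing R]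

theorem isOpenImmersion_genPt : IsOpenImmersion (Neron.genPt R) := by
  obtain ⟨π, hπ⟩ := IsDiscreteValuationRing.exists_irreducible R
  haveI : IsLocalization.Away π (FractionRing R) := by
    refine ⟨?_, fun z => ?_, fun {a b} h => ⟨1, by rw [IsFractionRing.injective R (FractionRing R) h]⟩⟩
    · rintro ⟨_, n, rfl⟩
      exact isUnit_iff_ne_zero.2 fun h => pow_ne_zero n hπ.ne_zero
        (IsFractionRing.injective R (FractionRing R) (h.trans (map_zero _).symm))
    · obtain ⟨a, b, hb, rfl⟩ := IsFractionRing.div_surjective (A := R) z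
      obtain ⟨n, v, rfl⟩ := IsDiscreteValuationRing.eq_unit_mul_pow_irreducible (nonZeroDivisors.ne_zero hb) hπ
      refine ⟨(a * ↑v⁻¹, ⟨π ^ n, n, rfl⟩), ?_⟩
      show algebraMap R (FractionRing R) a / algebraMap R (FractionRing R) (↑v * π ^ n) *
        algebraMap R (FractionRing R) (π ^ n) = algebraMap R (FractionRing R) (a * ↑v⁻¹)
      have hπn : algebraMap R (FractionRing R) (π ^ n) ≠ 0 := fun h => pow_ne_zero n hπ.ne_zero
        (IsFractionRing.injective R (FractionRing R) (h.trans (map_zero _).symm))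
      have hv : algebraMap R (FractionRing R) (↑v⁻¹ : R) * algebraMap R (FractionRing R) (v : R) = 1 := by
        rw [← map_mul, Units.inv_mul, map_one]
      have hv0 : algebraMap R (FractionRing R) (v : R) ≠ 0 := fun h => by
        rw [h, mul_zero] at hv; exact zero_ne_one hv
      rw [map_mul, map_mul, div_mul_eq_mul_div, mul_div_mul_right _ _ hπn, div_eq_iff hv0, mul_assoc, hv, mul_one]
  exact IsOpenImmersion.of_isLocalization π

/-- **Contraction of some components of the closed fibre over a Henselian base.** -/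
theorem exists_contraction_of_henselian [HenselianLocalRing R] {X : Over (Spec (CommRingCat.of R))}
    [IsIntegral X.left] (hnor : ∀ x : X.left, IsIntegrallyClosed (X.left.presheaf.stalk x))
    (hdim : topologicalKrullDim X.left = 2) [Flat X.hom] (hproj : Neron.IsProjectiveOver R X)
    {r : ℕ} (Γ : Fin r → ArSurf.VertComp R X) (Γ' : ArSurf.VertComp R X)
    (hΓ' : ∀ i, Set.range (Γ'.ι.base : Γ'.curve.left → X.left) ≠ Set.range (Γ i).ι.base) :
    ∃ (Y : Over (Spec (CommRingCat.of R))) (f : X ⟶ Y),
      IsIntegral Y.left ∧ (∀ q : Y.left, IsIntegrallyClosed (Y.left.presheaf.stalk q)) ∧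
      topologicalKrullDim Y.left = 2 ∧ Flat Y.hom ∧ Neron.IsProjectiveOver R Y ∧
      (∀ i, ∃ y : Y.left, Set.range (((Γ i).ι ≫ f.left).base : (Γ i).curve.left → Y.left) = {y}) ∧
      f.left.base ⁻¹' (f.left.base '' ⋃ i, Set.range (Γ i).ι.base) = ⋃ i, Set.range (Γ i).ι.base ∧
      ∀ V : Y.left.Opens, (V : Set Y.left) ∩ f.left.base '' (⋃ i, Set.range (Γ i).ι.base) = ∅ →
        IsIso (f.left ∣_ V) := by
  classical
  haveI : IsProper X.hom := isProper_of_projective hproj
  haveI : IsLocallyNoetherian X.left := LocallyOfFiniteType.isLocallyNoetherian X.hom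
  haveI : CompactSpace X.left := QuasiCompact.compactSpace_of_compactSpace X.hom
  haveI : AlgebraicGeometry.IsNoetherian X.left := { }
  letI : X.left.Over (Spec (CommRingCat.of R)) := ⟨X.hom⟩
  haveI : IsProper (X.left ↘ Spec (CommRingCat.of R)) := ‹IsProper X.hom›
  haveI : IsNoetherianRing R := inferInstance
  let S := Models.specialFibreSet R X
  have hSc : IsClosed S := Models.isClosed_specialFibreSet R X
  have hηS : genericPoint X.left ∉ S := fun h => by
    obtain ⟨z, hz, hzη⟩ := Flat.generalizingMap X.hom (show (⟨⊥, Ideal.isPrime_bot⟩ : PrimeSpectrum R) ⤳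
      X.hom (genericPoint X.left) from (PrimeSpectrum.le_iff_specializes _ _).1 bot_le)
    obtain rfl : z = genericPoint X.left := (hz.antisymm (genericPoint_specializes z)).eq
    exact IsDiscreteValuationRing.not_a_field R
      ((congrArg PrimeSpectrum.asIdeal h).symm.trans (congrArg PrimeSpectrum.asIdeal hzη))
  have hdle : topologicalKrullDim X.left ≤ 2 := hdim.le
  -- components
  let U : Set X.left := ⋃ i, Set.range (Γ i).ι
  have hUc : IsClosed U := isClosed_iUnion_of_finite fun i => (Γ i).ι.isClosedEmbedding.isClosed_range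
  have hvert : ∀ (E : ArSurf.VertComp R X) (a : E.curve.left), E.ι a ∈ S := fun E a =>
    apply_eq_closedPoint E.ι X.hom E.curve.hom E.w a
  have hgenE : ∀ E : ArSurf.VertComp R X, Set.range E.ι = closure {E.ι (genericPoint E.curve.left)} := fun E => by
    have h := (genericPoint_spec E.curve.left).image E.ι.continuous
    rw [Set.image_univ, E.ι.isClosedEmbedding.isClosed_range.closure_eq] at h
    exact h.def.symm
  have hnc : ∀ E : ArSurf.VertComp R X, ¬ IsClosed ({E.ι (genericPoint E.curve.left)} : Set X.left) := fun E hc => by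
    have hsub : Set.range E.ι = {E.ι (genericPoint E.curve.left)} := by rw [hgenE, hc.closure_eq]
    haveI : Subsingleton E.curve.left := ⟨fun a b => E.ι.isClosedEmbedding.injective
      ((hsub.le ⟨a, rfl⟩).trans (hsub.le ⟨b, rfl⟩).symm)⟩
    have hd := topologicalKrullDim_zero_of_discreteTopology E.curve.left
    rw [E.dim_eq] at hd
    exact absurd hd (by decide)
  have hmax : ∀ (E : ArSurf.VertComp R X) (c : X.left), c ∈ S → c ⤳ E.ι (genericPoint E.curve.left) →
      c = E.ι (genericPoint E.curve.left) := fun E c hc hs => by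
    by_contra hne
    obtain ⟨v, hv, hvc⟩ := (isClosed_closure (s := ({E.ι (genericPoint E.curve.left)} : Set X.left))).exists_closed_singleton
      ⟨_, subset_closure rfl⟩
    exact GGContract.no_four_chain hdle
      (GGContract.lt_of_spec (specializes_iff_mem_closure.2 hv) fun h => hnc E (h ▸ hvc))
      (GGContract.lt_of_spec hs fun h => hne h.symm)
      (GGContract.lt_of_spec (genericPoint_specializes c) fun h => hηS (h ▸ hc))
  have hfinS : {Z | ∃ E : ArSurf.VertComp R X, Set.range E.ι = Z}.Finite := by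
    haveI : NoetherianSpace S := Topology.IsInducing.subtypeVal.noetherianSpace
    haveI : QuasiSober S := hSc.isClosedEmbedding_subtypeVal.quasiSober
    refine ((NoetherianSpace.finite_irreducibleComponents (α := S)).image
      fun C : Set S => Subtype.val '' C).subset ?_
    rintro _ ⟨E, rfl⟩
    let ξ : S := ⟨E.ι (genericPoint E.curve.left), hvert E _⟩
    obtain ⟨C, hC, hξC⟩ := exists_mem_irreducibleComponents_subset_of_isIrreducible (closure {ξ})
      isIrreducible_singleton.closure
    obtain ⟨c, hc⟩ := QuasiSober.sober hC.1 (isClosed_of_mem_irreducibleComponents C hC) (α := S)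
    have h1 : c.1 ⤳ ξ.1 := (hc.specializes (hξC (subset_closure rfl))).map continuous_subtype_val
    have h2 : c = ξ := Subtype.ext (hmax E c.1 c.2 h1)
    refine ⟨C, hC, ?_⟩
    show Subtype.val '' C = Set.range E.ι
    rw [← hc.def, h2, ← hSc.isClosedEmbedding_subtypeVal.isClosedMap.closure_image_eq_of_continuous continuous_subtype_val,
      Set.image_singleton, hgenE]
  haveI : ∀ E : ArSurf.VertComp R X, LocallyOfFiniteType E.curve.hom := fun E => by
    haveI : IsProper E.curve.hom := isProper_vertComp E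
    infer_instance
  have hpt : ∀ E : ArSurf.VertComp R X, (∀ i, Set.range E.ι ≠ Set.range (Γ i).ι) →
      ∃ x, x ∈ Set.range E.ι ∧ IsClosed ({x} : Set X.left) ∧ x ∉ U := fun E hE => by
    have hξ : E.ι (genericPoint E.curve.left) ∉ U := fun h => by
      obtain ⟨i, hi⟩ := Set.mem_iUnion.1 h
      rw [hgenE] at hi
      have := hmax E _ (hvert (Γ i) _) (specializes_iff_mem_closure.2 hi)
      exact hE i (by rw [hgenE E, hgenE (Γ i), this])
    haveI : JacobsonSpace E.curve.left := LocallyOfFiniteType.jacobsonSpace E.curve.hom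
    have hd : (((E.ι ⁻¹' U)ᶜ) ∩ closedPoints E.curve.left).Nonempty :=
      nonempty_inter_closedPoints ⟨genericPoint E.curve.left, hξ⟩ (hUc.preimage E.ι.continuous).isOpen_compl.isLocallyClosed
    obtain ⟨a, haU, ha⟩ := hd
    refine ⟨E.ι a, ⟨a, rfl⟩, ?_, haU⟩
    rw [← Set.image_singleton]
    exact E.ι.isClosedEmbedding.isClosedMap _ ha
  let T : Set (Set X.left) := {Z | ∃ E : ArSurf.VertComp R X, Set.range E.ι = Z ∧ ∀ i, Z ≠ Set.range (Γ i).ι}
  have hTfin : T.Finite := hfinS.subset fun Z ⟨E, hE, _⟩ => ⟨E, hE⟩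
  have hTpt : ∀ Z ∈ T, ∃ x, x ∈ Z ∧ IsClosed ({x} : Set X.left) ∧ x ∉ U := by
    rintro _ ⟨E, rfl, hE⟩
    exact hpt E hE
  choose! pt hptZ hptc hptU using hTpt
  -- the modules
  let P : Finset X.left → Prop := fun F => ∃ (L : X.left.Modules) (σ : Coh.structureModule X.left ⟶ L),
    PicF.IsInvertible L ∧ Curv2.IsGloballyGenerated L ∧
    (∀ y, y ∉ CohB1.genLocus L σ → y ∈ S → y ∈ F) ∧ (∀ x ∈ F, x ∉ CohB1.genLocus L σ) ∧
    (∀ y, y ∉ CohB1.genLocus L σ → ∃ q, q ∉ CohB1.genLocus L σ ∧ q ∉ S) ∧ genericPoint X.left ∈ CohB1.genLocus L σ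
  have hP : ∀ F : Finset X.left, (∀ x ∈ F, IsClosed ({x} : Set X.left) ∧ x ∉ U) → P F := by
    intro F
    induction F using Finset.induction with
    | empty =>
      intro _
      have hO := ParaFLib.isInvertible_structureModule (X := X.left)
      refine ⟨Coh.structureModule X.left, 𝟙 _, hO, ?_, ?_, by simp,
        ?_, by rw [genLocus_id]; trivial⟩
      · exact AmpleEmb.isGloballyGenerated_of_genLocus hO (ι := PUnit) (fun _ => 𝟙 _)
          fun x => ⟨PUnit.unit, by rw [genLocus_id]; trivial⟩
      · intro y hy; exact absurd (by rw [genLocus_id]; trivial) hy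
      · intro y hy; exact absurd (by rw [genLocus_id]; trivial) hy
    | insert x F hxF ih =>
      intro hF
      obtain ⟨L, σ, hL, hgg, hloc, hin, hhor, hη⟩ := ih fun y hy => hF y (Finset.mem_insert_of_mem hy)
      obtain ⟨hxc, hxU⟩ := hF x (Finset.mem_insert_self x F)
      obtain ⟨D, d, hd, hC, hvertD, hDS, hsp⟩ := HorizDiv.exists_horizontal hdim hproj x hxc
      haveI := hd
      obtain ⟨M, hM⟩ := exists_inverse_idealMod hC
      have hMi : PicF.IsInvertible M := isInvertible_inverse_ideal hM
      obtain ⟨t, ht⟩ := AVLib.exists_section_genLocus_compl hC hMi hM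
      have htmem : ∀ y, y ∈ CohB1.genLocus M t ↔ y ∉ Set.range d := fun y => by
        rw [ht]
        show y ∉ (d.ker.support : Set X.left) ↔ _
        rw [Scheme.Hom.support_ker, IsClosed.closure_eq d.isClosedEmbedding.isClosed_range]
      have hηt : genericPoint X.left ∈ CohB1.genLocus M t := (htmem _).2 (genericPoint_notMem_range d hC)
      haveI : Mono t := by
        refine CurveLib.mono_of_ne_zero ParaFLib.isInvertible_structureModule hMi fun h0 => ?_
        have h1 := (mem_genLocus_iff hMi).1 hηt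
        rw [h0] at h1
        refine one_ne_zero (h1.1 (a₁ := 1) (a₂ := 0) ?_)
        show (1 : X.left.presheaf.stalk _) • _ = (0 : X.left.presheaf.stalk _) • _
        rw [show sec (0 : Coh.structureModule X.left ⟶ M) = 0 from rfl, map_zero, smul_zero, smul_zero]
      obtain ⟨n, hn'⟩ := RegPow.exists_gg_pow (A := R) hMi t fun Z i hci hi => by
        haveI := hci
        exact RegPow.isAffine_of_specializes i (x := x) fun z => by
          obtain ⟨p, hp⟩ : i z ∈ Set.range d := not_not.1 fun h => hi z ((htmem _).2 h)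
          exact hp ▸ hsp p
      have hn := hn' n le_rfl
      have hMn : PicF.IsInvertible (CohB1.tensorPow M (n + 1)) := isInvertible_tensorPow hMi _
      have hl : CohB1.genLocus _ (powS t (n + 1)) = CohB1.genLocus M t := genLocus_powS hMi t n
      have hlS : CohB1.genLocus _ (tensorS σ (powS t (n + 1))) = CohB1.genLocus L σ ⊓ CohB1.genLocus M t := by
        rw [genLocus_tensorS hL hMn, hl]
      refine ⟨CohB1.tensorMod L (CohB1.tensorPow M (n + 1)), tensorS σ (powS t (n + 1)), isInvertible_tensor hL hMn,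
        isGloballyGenerated_tensor hL hMn hgg hn, fun y hy hyS => ?_, fun y hy => ?_, fun y hy => ?_,
        by rw [hlS]; exact ⟨hη, hηt⟩⟩
      · rw [hlS] at hy
        by_cases h : y ∈ CohB1.genLocus L σ
        · have h2 : y ∈ Set.range d := not_not.1 fun h2 => hy ⟨h, (htmem y).2 h2⟩
          exact Finset.mem_insert.2 (Or.inl (hDS.le ⟨h2, hyS⟩))
        · exact Finset.mem_insert_of_mem (hloc y h hyS)
      · rw [hlS]
        rcases Finset.mem_insert.1 hy with rfl | hy'
        · exact fun h => (htmem y).1 h.2 (hDS.ge rfl).1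
        · exact fun h => hin y hy' h.1
      · obtain ⟨p, hp⟩ : x ∈ Set.range d := (hDS.ge rfl).1
        obtain ⟨q, -, hq⟩ := hvertD p
        refine ⟨d q, ?_, fun h => IsDiscreteValuationRing.not_a_field R ((congrArg PrimeSpectrum.asIdeal h).symm.trans hq)⟩
        rw [hlS]
        exact fun h => (htmem _).1 h.2 ⟨q, rfl⟩
  let F := hTfin.toFinset.image pt
  obtain ⟨L, σ, hL, hgg, hloc, hin, hhor, hη⟩ := hP F fun x hx => by
    obtain ⟨Z, hZ, rfl⟩ := Finset.mem_image.1 hx
    exact ⟨hptc Z (hTfin.mem_toFinset.1 hZ), hptU Z (hTfin.mem_toFinset.1 hZ)⟩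
  refine GGContract.exists_contraction_of_gg hnor hdim hproj Γ L hL hgg ?_ fun E => ⟨fun h => ?_, ?_⟩
  · -- generic fibre
    haveI := isOpenImmersion_genPt (R := R)
    haveI : IsOpenImmersion (pullback.fst X.hom (Neron.genPt R)) := inferInstance
    have hran : Set.range (pullback.fst X.hom (Neron.genPt R)) = Sᶜ := by
      rw [Scheme.Pullback.range_fst]
      ext y
      simp only [Set.mem_preimage, Set.mem_range, Set.mem_compl_iff]
      constructor
      · rintro ⟨z, hz⟩ (hy : X.hom y = IsLocalRing.closedPoint R)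
        refine IsDiscreteValuationRing.not_a_field R (le_bot_iff.1 ((congrArg PrimeSpectrum.asIdeal (hz.trans hy)).symm.le.trans ?_))
        intro a ha
        have h3 : algebraMap R (FractionRing R) a ∈ (z : PrimeSpectrum (FractionRing R)).asIdeal := ha
        rw [(Ideal.eq_bot_or_top _).resolve_right (z : PrimeSpectrum (FractionRing R)).isPrime.ne_top, Ideal.mem_bot] at h3
        exact (map_eq_zero_iff _ (IsFractionRing.injective R (FractionRing R))).1 h3
      · intro hy
        rcases (IsDiscreteValuationRing.iff_pid_with_one_nonzero_prime R).1 inferInstance with ⟨-, hu⟩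
        obtain ⟨z₀⟩ : Nonempty (PrimeSpectrum (FractionRing R)) := inferInstance
        refine ⟨z₀, PrimeSpectrum.ext ?_⟩
        have hy0 : (X.hom y).asIdeal = ⊥ := by_contra fun hne => hy (PrimeSpectrum.ext
          (hu.unique ⟨hne, (X.hom y).isPrime⟩ ⟨IsDiscreteValuationRing.not_a_field R, inferInstance⟩))
        rw [hy0, eq_bot_iff]
        intro a ha
        have h3 : algebraMap R (FractionRing R) a ∈ z₀.asIdeal := ha
        rw [(Ideal.eq_bot_or_top _).resolve_right z₀.isPrime.ne_top, Ideal.mem_bot] at h3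
        exact (map_eq_zero_iff _ (IsFractionRing.injective R (FractionRing R))).1 h3
    obtain ⟨a, ha⟩ := hran.ge hηS
    haveI : Nonempty ↥(pullback X.hom (Neron.genPt R)) := ⟨a⟩
    haveI : IsIntegral (pullback X.hom (Neron.genPt R)) := isIntegral_of_isOpenImmersion (pullback.fst X.hom (Neron.genPt R))
    have hF : IsField Γ(pullback X.hom (Neron.genPt R), ⊤) :=
      isField_of_universallyClosed (FractionRing R) (pullback.snd X.hom (Neron.genPt R))
    obtain ⟨x, hx⟩ : ∃ x, x ∈ F := ⟨pt (Set.range Γ'.ι), Finset.mem_image.2 ⟨_, hTfin.mem_toFinset.2 ⟨Γ', rfl, hΓ'⟩, rfl⟩⟩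
    obtain ⟨q, hq, hqS⟩ := hhor x (hin x hx)
    obtain ⟨b, hb⟩ := hran.ge hqS
    exact not_trivial_of_section _ hF hL σ (a := b) (b := a) (hb ▸ hq) (ha ▸ hη)
  · by_contra hno
    push Not at hno
    have hZ : Set.range E.ι ∈ T := ⟨E, rfl, hno⟩
    obtain ⟨a, ha⟩ := hptZ _ hZ
    haveI : IsProper E.curve.hom := isProper_vertComp E
    refine not_trivial_of_section E.ι (isField_of_universallyClosed (IsLocalRing.ResidueField R) E.curve.hom) hL σ
      (a := a) (b := genericPoint E.curve.left)
      (ha ▸ hin _ (Finset.mem_image.2 ⟨_, hTfin.mem_toFinset.2 hZ, rfl⟩)) ?_ h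
    by_contra hg
    obtain ⟨Z, hZ', hZe⟩ := Finset.mem_image.1 (hloc _ hg (hvert E _))
    exact hnc E (hZe ▸ hptc Z (hTfin.mem_toFinset.1 hZ'))
  · rintro ⟨i, hi⟩
    have h1 : pullCls E.ι (mk L) = 1 := pullCls_eq_one_of_gen E.ι hL σ fun a => by
      by_contra ha
      obtain ⟨Z, hZ, hZe⟩ := Finset.mem_image.1 (hloc _ ha (hvert E a))
      exact hptU Z (hTfin.mem_toFinset.1 hZ) (hZe ▸ Set.mem_iUnion.2 ⟨i, hi.le ⟨a, rfl⟩⟩)
    rw [IntLib.pullCls_mk] at h1
    exact BlowPic.mk_eq_one.1 h1

end Groth.Agent.CastLib.HensContract
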