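import Groth.Agent.CastLib.InterDeg

/-!
# Symmetry and linear algebra of vertical intersection numbers
-/

set_option autoImplicit false
set_option backward.isDefEq.respectTransparency false
set_option linter.style.haveILetI false
set_option maxHeartbeats 1000000

universe u

open CategoryTheory CategoryTheory.Limits AlgebraicGeometry TopologicalSpace IsLocalRing IntMult

noncomputable section

namespace Groth.Agent.CastLib

open Groth.Agent.SurfPtBlow Groth.Agent.DivisorialLib

variable {R : Type u} [CommRing R] [IsDomain R] [IsDiscreteValuationRing R]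
variable {X : Over (Spec (CommRingCat.of R))}

/-- A regular proper integral surface over a discrete valuation ring. -/
structure VSurf (X : Over (Spec (CommRingCat.of R))) : Prop extends FibreGood X where
  proper : IsProper X.hom
  dim : topologicalKrullDim X.left ≤ 2

theorem VSurf.of_arith (hX : ArSurf.IsArithSurface R X) : VSurf X :=
  ⟨⟨hX.1, hX.2.1, (arSurf_facts hX).2, hX.2.2.2.1⟩, (arSurf_facts hX).1, hX.2.2.1.le⟩

theorem VSurf.of_model {C Y : Scheme.{u}} {f : C ⟶ Spec (CommRingCat.of (FractionRing R))}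
    {p : Y ⟶ Spec (CommRingCat.of R)} (hC : Curve.IsSmoothProperCurve (FractionRing R) C f)
    (hY : Models.IsRegularProperModel R Y p C f) : VSurf (Over.mk p) := by
  obtain ⟨g, hg⟩ := hY.1.2.2.2
  obtain ⟨hp, hi, hn, hd⟩ := model_facts hC hY hg
  exact ⟨⟨hY.2.2, hi, hn, hY.1.1⟩, hp, hd⟩

theorem VSurf.genPt_not_fibre (h : VSurf X) :
    X.hom (haveI := h.int; genericPoint X.left) ≠ closedPoint R := by
  haveI := h.int
  haveI := h.flat
  obtain ⟨z, hz, hzη⟩ := Flat.generalizingMap X.hom (show (⟨⊥, Ideal.isPrime_bot⟩ : PrimeSpectrum R) ⤳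
    X.hom (genericPoint X.left) from (PrimeSpectrum.le_iff_specializes _ _).1 bot_le)
  obtain rfl : z = genericPoint X.left := (hz.antisymm (genericPoint_specializes z)).eq
  rw [hzη]
  exact fun h => IsDiscreteValuationRing.not_a_field R (congrArg PrimeSpectrum.asIdeal h).symm

/-- Vertical curves have codimension one. -/
theorem VSurf.coheight_genPtOf (h : VSurf X) (Γ : ArSurf.VertComp R X) :
    Order.coheight (Models.genPtOf R X Γ) = 1 := by
  haveI := h.int
  haveI := h.noeth
  have h1 : Order.krullDim Γ.curve.left = 1 := by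
    rw [← ASp.topologicalKrullDim_eq_krullDim]; exact Γ.dim_eq
  obtain ⟨l, hl⟩ := Order.le_krullDim_iff.1 (show ((1 : ℕ) : WithBot ℕ∞) ≤ Order.krullDim Γ.curve.left from h1.ge)
  let η := genericPoint X.left
  let ξ := Models.genPtOf R X Γ
  have lt : ∀ {p q : X.left}, p ⤳ q → q ≠ p → q < p := fun {p q} h hne => lt_of_le_not_ge
    (Scheme.le_iff_specializes.2 h) fun h' => hne ((Scheme.le_iff_specializes.1 h').antisymm h).eq
  have hηξ : ξ ≠ η := fun e => h.genPt_not_fibre (show X.hom η = _ from e ▸ vertComp_vertical Γ _)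
  have e1 := Order.coheight_add_one_le (lt (genericPoint_specializes ξ) hηξ)
  have hne : Γ.ι l.head ≠ ξ := fun e => by
    have hh : l.head < l.last := LTSeries.strictMono l (show (0 : Fin (l.length + 1)) < Fin.last _ from Fin.pos_iff_ne_zero.2 fun e => by simp [Fin.ext_iff] at e; omega)
    have hgen : l.head = genericPoint Γ.curve.left := Γ.ι.isClosedEmbedding.injective e
    rw [hgen] at hh
    exact hh.not_ge (Scheme.le_iff_specializes.2 (genericPoint_specializes _))
  have e2 := Order.coheight_add_one_le (lt ((genericPoint_specializes l.head).map Γ.ι.continuous) hne)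
  have h0 : Order.krullDim X.left ≤ 2 := by rw [← ASp.topologicalKrullDim_eq_krullDim]; exact h.dim
  have e3 : Order.coheight (Γ.ι l.head) ≤ 2 := WithBot.coe_le_coe.1 (((Order.coheight_le_krullDim _).trans h0).trans_eq rfl)
  refine le_antisymm ?_ (le_trans (by simp) e1)
  have h' := e2.trans e3
  change Order.coheight ξ + 1 ≤ 2 at h'
  show Order.coheight ξ ≤ 1
  revert h'
  cases Order.coheight ξ with
  | top => intro h; simp at h
  | coe n => intro h; norm_cast at h ⊢; omega

theorem VSurf.isEffCartier_ker (h : VSurf X) (Γ : ArSurf.VertComp R X) : BlowUp.IsEffCartierIdeal Γ.ι.ker := by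
  haveI := h.noeth
  rw [ker_vertComp]
  exact isEffCartier_closure h.reg _ (h.coheight_genPtOf Γ)

theorem support_ker (Γ : ArSurf.VertComp R X) : (Γ.ι.ker.support : Set X.left) = Set.range Γ.ι := by
  rw [Scheme.Hom.support_ker]
  exact Γ.ι.isClosedEmbedding.isClosed_range.closure_eq

theorem VSurf.genPt_notMem (h : VSurf X) {Γ₁ Γ₂ : ArSurf.VertComp R X} (hne : Set.range Γ₁.ι ≠ Set.range Γ₂.ι) :
    Models.genPtOf R X Γ₁ ∉ Γ₂.ι.ker.support := fun hmem => hne (by
  haveI := h.int
  rw [ker_vertComp, mem_support_cl] at hmem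
  have he : Models.genPtOf R X Γ₂ = Models.genPtOf R X Γ₁ := by
    by_contra hne'
    have h3 := S8909.succ_le hmem hne'
    rw [h.coheight_genPtOf, h.coheight_genPtOf] at h3
    exact absurd h3 (by decide)
  rw [range_vertComp, range_vertComp, he])

theorem VSurf.inter_symm (h : VSurf X) {Γ₁ Γ₂ : ArSurf.VertComp R X} (hne : Set.range Γ₁.ι ≠ Set.range Γ₂.ι)
    {L₁ L₂ : X.left.Modules} (h₁ : ClSub.IsInverseOf L₁ (ClSub.idealMod Γ₁.ι.ker))
    (h₂ : ClSub.IsInverseOf L₂ (ClSub.idealMod Γ₂.ι.ker)) :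
    ArSurf.inter R X L₂ Γ₁ = ArSurf.inter R X L₁ Γ₂ := by
  haveI := h.proper
  rw [inter_eq_lengthH Γ₁ (h.isEffCartier_ker Γ₂) (h.genPt_notMem hne) h₂,
    inter_eq_lengthH Γ₂ (h.isEffCartier_ker Γ₁) (h.genPt_notMem (Ne.symm hne)) h₁, sup_comm]

theorem VSurf.inter_nonneg_of_ne (h : VSurf X) {Γ₁ Γ₂ : ArSurf.VertComp R X} (hne : Set.range Γ₁.ι ≠ Set.range Γ₂.ι)
    {L₂ : X.left.Modules} (h₂ : ClSub.IsInverseOf L₂ (ClSub.idealMod Γ₂.ι.ker)) :
    0 ≤ ArSurf.inter R X L₂ Γ₁ ∧ (ArSurf.inter R X L₂ Γ₁ = 0 ↔ Disjoint (Set.range Γ₁.ι) (Set.range Γ₂.ι)) := by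
  haveI := h.proper
  obtain ⟨h0, h0'⟩ := inter_nonneg Γ₁ (h.isEffCartier_ker Γ₂) (h.genPt_notMem hne) h₂
  rw [support_ker] at h0'
  exact ⟨h0, h0'⟩

/-- Twists by multiples of the curves. -/
theorem inter_multiTwist [IsProper X.hom] {n : ℕ} (L : Fin n → X.left.Modules) (hL : ∀ i, PicF.IsInvertible (L i))
    (a : Fin n → ℕ) (Γ : ArSurf.VertComp R X) :
    PicF.IsInvertible (FGA.multiTwist L a) ∧
      ArSurf.inter R X (FGA.multiTwist L a) Γ = ∑ i, (a i : ℤ) * ArSurf.inter R X (L i) Γ := by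
  have hpow : ∀ {M : X.left.Modules}, PicF.IsInvertible M → ∀ m : ℕ, PicF.IsInvertible (CohB1.tensorPow M m) ∧
      ArSurf.inter R X (CohB1.tensorPow M m) Γ = m * ArSurf.inter R X M Γ := by
    intro M hM m
    induction m with
    | zero => exact ⟨ParaFLib.isInvertible_structureModule, by simpa [CohB1.tensorPow] using inter_one Γ⟩
    | succ m ih =>
      refine ⟨AmpleLib.isInvertible_tensor ih.1 hM, ?_⟩
      show ArSurf.inter R X (CohB1.tensorMod (CohB1.tensorPow M m) M) Γ = _
      rw [inter_tensor Γ ih.1 hM, ih.2]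
      push_cast
      ring
  have hlist : ∀ l : List (Fin n), PicF.IsInvertible (FGA.tensorList (l.map fun i => CohB1.tensorPow (L i) (a i))) ∧
      ArSurf.inter R X (FGA.tensorList (l.map fun i => CohB1.tensorPow (L i) (a i))) Γ =
        (l.map fun i => (a i : ℤ) * ArSurf.inter R X (L i) Γ).sum := by
    intro l
    induction l with
    | nil => exact ⟨ParaFLib.isInvertible_structureModule, inter_one Γ⟩
    | cons i l ih =>
      refine ⟨AmpleLib.isInvertible_tensor (hpow (hL i) (a i)).1 ih.1, ?_⟩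
      show ArSurf.inter R X (CohB1.tensorMod (CohB1.tensorPow (L i) (a i))
        (FGA.tensorList (l.map fun i => CohB1.tensorPow (L i) (a i)))) Γ = _
      rw [inter_tensor Γ (hpow (hL i) (a i)).1 ih.1, (hpow (hL i) (a i)).2, ih.2, List.map_cons, List.sum_cons]
  refine ⟨(hlist _).1, (hlist _).2.trans ?_⟩
  rw [Fin.sum_univ_def]

end Groth.Agent.CastLib
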