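import Groth.Agent.CastLib.ArtinSec
import Groth.Agent.CastLib.HensContract
import Groth.Agent.CastLib.InterSymm
import Groth.Agent.CastLib.InterFibre
import Groth.Agent.CastLib.Projective
import Groth.Agent.CurveLib.Ample
import Groth.Agent.TwistShriek.NumForm
import Groth.Agent.PurityLib.Normal
import Groth.Agent.AmpleEmb.Serre
import Groth.Agent.IdealMulLib.Basic

/-!
# Contraction of a negative definite configuration with trivial `Pic⁰`
-/

set_option autoImplicit false
set_option backward.isDefEq.respectTransparency false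
set_option linter.style.haveILetI false
set_option maxHeartbeats 1000000

universe u

open CategoryTheory CategoryTheory.Limits AlgebraicGeometry TopologicalSpace
open Groth.Agent.AmpleLib
open Groth.Agent.IntLib (mk pullCls)

noncomputable section

namespace Groth.Agent.CastLib.ArtinContract

/-- Positive solutions of the equations of a negative definite configuration. -/
theorem exists_solution {r : ℕ} (G : Fin r → Fin r → ℤ) (hoff : ∀ i j, i ≠ j → 0 ≤ G i j)
    (hneg : ∀ a : Fin r → ℤ, a ≠ 0 → ∑ i, ∑ j, a i * a j * G i j < 0) (h : Fin r → ℤ) (hh : ∀ j, 0 < h j) :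
    ∃ (d : ℕ) (a : Fin r → ℕ), 0 < d ∧ (∀ i, 0 < a i) ∧ ∀ j, ∑ i, (a i : ℤ) * G i j = -((d : ℤ) * h j) := by
  classical
  let M : Matrix (Fin r) (Fin r) ℤ := Matrix.of G
  have hdet : M.det ≠ 0 := fun h0 => by
    obtain ⟨v, hv, hvM⟩ := Matrix.exists_vecMul_eq_zero_iff.2 h0
    refine (hneg v hv).ne ?_
    rw [Finset.sum_comm]
    refine Finset.sum_eq_zero fun j _ => ?_
    have hj : ∑ i, v i * G i j = 0 := congrFun hvM j
    calc ∑ i, v i * v j * G i j = v j * ∑ i, v i * G i j := by
          rw [Finset.mul_sum]; exact Finset.sum_congr rfl fun i _ => by ring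
      _ = 0 := by rw [hj, mul_zero]
  let s : Fin r → ℤ := (-M.det) • Matrix.vecMul h M.adjugate
  have hs : ∀ j, ∑ i, s i * G i j = -((M.det * M.det) * h j) := fun j => by
    have h1 : Matrix.vecMul s M = -((M.det * M.det) • h) := by
      show Matrix.vecMul ((-M.det) • Matrix.vecMul h M.adjugate) M = _
      rw [Matrix.smul_vecMul, Matrix.vecMul_vecMul, Matrix.adjugate_mul, Matrix.vecMul_smul, Matrix.vecMul_one,
        smul_smul, neg_mul, neg_smul]
    exact congrFun h1 j
  have hd : (0 : ℤ) < M.det * M.det := mul_self_pos.2 hdet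
  have hnn : ∀ i, 0 ≤ s i := TwistShriek.NumForm.nonneg_of_negDef hoff hneg fun j => by
    rw [hs]; have := mul_pos hd (hh j); linarith
  have hpos : ∀ i, 0 < s i := fun i => by
    refine (hnn i).lt_of_ne fun h0 => ?_
    have h1 : 0 ≤ ∑ k, s k * G k i := Finset.sum_nonneg fun k _ => by
      by_cases hk : k = i
      · subst hk; rw [← h0, zero_mul]
      · exact mul_nonneg (hnn k) (hoff k i hk)
    rw [hs] at h1
    have := mul_pos hd (hh i)
    linarith
  refine ⟨(M.det * M.det).toNat, fun i => (s i).toNat, Int.lt_toNat.2 (by exact_mod_cast hd),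
    fun i => Int.lt_toNat.2 (by exact_mod_cast hpos i), fun j => ?_⟩
  rw [Int.toNat_of_nonneg hd.le, ← hs]
  exact Finset.sum_congr rfl fun i _ => by rw [Int.toNat_of_nonneg (hnn i)]

variable {R : Type u} [CommRing R] [IsDomain R] [IsDiscreteValuationRing R]

theorem range_fst {X : Over (Spec (CommRingCat.of R))} :
    Set.range (pullback.fst X.hom (Neron.genPt R)) = (Models.specialFibreSet R X)ᶜ := by
  rw [Scheme.Pullback.range_fst]
  ext y
  simp only [Set.mem_preimage, Set.mem_range, Set.mem_compl_iff]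
  constructor
  · rintro ⟨z, hz⟩ (hy : X.hom y = IsLocalRing.closedPoint R)
    refine IsDiscreteValuationRing.not_a_field R (le_bot_iff.1 ((congrArg PrimeSpectrum.asIdeal (hz.trans hy)).symm.le.trans ?_))
    intro a ha
    have h3 : algebraMap R (FractionRing R) a ∈ (z : PrimeSpectrum (FractionRing R)).asIdeal := ha
    rw [(Ideal.eq_bot_or_top _).resolve_right (z : PrimeSpectrum (FractionRing R)).isPrime.ne_top, Ideal.mem_bot] at h3
    exact (map_eq_zero_iff _ (IsFractionRing.injective R (FractionRing R))).1 h3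
  · intro hy
    rcases (IsDiscreteValuationRing.iff_pid_with_one_nonzero_prime R).1 inferInstance with ⟨-, hu⟩
    obtain ⟨z₀⟩ : Nonempty (PrimeSpectrum (FractionRing R)) := inferInstance
    refine ⟨z₀, PrimeSpectrum.ext ?_⟩
    have hy0 : (X.hom y).asIdeal = ⊥ := by_contra fun hne => hy (PrimeSpectrum.ext
      (hu.unique ⟨hne, (X.hom y).isPrime⟩ ⟨IsDiscreteValuationRing.not_a_field R, inferInstance⟩))
    rw [hy0, eq_bot_iff]
    intro a ha
    have h3 : algebraMap R (FractionRing R) a ∈ z₀.asIdeal := ha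
    rw [(Ideal.eq_bot_or_top _).resolve_right z₀.isPrime.ne_top, Ideal.mem_bot] at h3
    exact (map_eq_zero_iff _ (IsFractionRing.injective R (FractionRing R))).1 h3

theorem inter_pow {X : Over (Spec (CommRingCat.of R))} [IsProper X.hom] {H : X.left.Modules}
    (hH : PicF.IsInvertible H) (k : ℕ) (E : ArSurf.VertComp R X) :
    ArSurf.inter R X (CohB1.tensorPow H k) E = k * ArSurf.inter R X H E := by
  induction k with
  | zero => simp only [Nat.cast_zero, zero_mul]; exact inter_one E
  | succ k ih =>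
    show ArSurf.inter R X (CohB1.tensorMod (CohB1.tensorPow H k) H) E = _
    rw [inter_tensor E (isInvertible_tensorPow hH k) hH, ih]
    push_cast; ring

/-- The divisors on the configuration twisting an ample module to degree zero. -/
theorem exists_divisor {X : Over (Spec (CommRingCat.of R))} (hX : ArSurf.IsArithSurface R X)
    {r : ℕ} (Γ : Fin r → ArSurf.VertComp R X)
    (hΓ : Function.Injective fun i => Set.range ((Γ i).ι.base : (Γ i).curve.left → X.left))
    (L : Fin r → X.left.Modules) (hL : ∀ j, ClSub.IsInverseOf (L j) (ClSub.idealMod (Γ j).ι.ker))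
    (hneg : ∀ a : Fin r → ℤ, a ≠ 0 →
      (Finset.univ : Finset (Fin r × Fin r)).sum (fun p => a p.1 * a p.2 * ArSurf.inter R X (L p.2) (Γ p.1)) < 0)
    (hpic : ∀ (Z : Scheme.{u}) (z : Z ⟶ X.left) [IsClosedImmersion z], BlowUp.IsEffCartierIdeal z.ker →
      Nonempty Z → Set.range z.base ⊆ (⋃ i, Set.range (Γ i).ι.base) →
      ∀ N : Z.Modules, PicF.IsInvertible N →
        (∀ (i : Fin r) (g : (Γ i).curve.left ⟶ Z), g ≫ z = (Γ i).ι →
          ArSurf.curveDeg (IsLocalRing.ResidueField R) (Γ i).curve.left ((Scheme.Modules.pullback g).obj N) = 0) →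
        Nonempty (N ≅ Coh.structureModule Z)) :
    ∃ (H : X.left.Modules) (d : ℕ), CohB1.IsAmple H ∧ 0 < d ∧ ∀ t : ℕ, 0 < t →
      ∃ (D : X.left.IdealSheafData) (Lz : X.left.Modules) (σ : Coh.structureModule X.left ⟶ Lz),
        PicF.IsInvertible Lz ∧ mk Lz * mk (ClSub.idealMod D) = 1 ∧
        CohB1.genLocus Lz σ = D.support.compl ∧ (∀ i, D ≤ (Γ i).ι.ker) ∧
        (∀ y, y ∈ D.support ↔ ∃ i, y ∈ Set.range (Γ i).ι) ∧
        (∀ i, ArSurf.inter R X Lz (Γ i) = -(((d * t : ℕ) : ℤ) * ArSurf.inter R X H (Γ i))) ∧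
        (r ≠ 0 → ∀ N : X.left.Modules, PicF.IsInvertible N → (∀ i, ArSurf.inter R X N (Γ i) = 0) →
          Nonempty ((Scheme.Modules.pullback D.subschemeι).obj N ≅ Coh.structureModule D.subscheme)) := by
  classical
  haveI := hX.2.1
  haveI := hX.2.2.2.1
  haveI : IsProper X.hom := (SurfPtBlow.arSurf_facts hX).1
  haveI := (SurfPtBlow.arSurf_facts hX).2
  have hdim : topologicalKrullDim X.left = 2 := hX.2.2.1
  have hηS : genericPoint X.left ∉ Models.specialFibreSet R X := gen_ne_closedPoint hX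
  have hnor : ∀ x : X.left, IsIntegrallyClosed (X.left.presheaf.stalk x) := fun x => by
    haveI := hX.1 x
    exact (PurityLib.isIntegrallyClosed_of_regular (X.left.presheaf.stalk x)).2
  -- the curves
  have hvert : ∀ (E : ArSurf.VertComp R X) (a : E.curve.left), E.ι a ∈ Models.specialFibreSet R X := fun E a =>
    apply_eq_closedPoint E.ι X.hom E.curve.hom E.w a
  have hgenE : ∀ E : ArSurf.VertComp R X, Set.range E.ι = closure {E.ι (genericPoint E.curve.left)} := fun E => by
    have h := (genericPoint_spec E.curve.left).image E.ι.continuous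
    rw [Set.image_univ, E.ι.isClosedEmbedding.isClosed_range.closure_eq] at h
    exact h.def.symm
  have htwo : ∀ E : ArSurf.VertComp R X, ∃ b, b ≠ genericPoint E.curve.left := fun E => by
    by_contra h
    push Not at h
    haveI : Subsingleton E.curve.left := ⟨fun a b => (h a).trans (h b).symm⟩
    have hd := topologicalKrullDim_zero_of_discreteTopology E.curve.left
    rw [E.dim_eq] at hd
    exact absurd hd (by decide)
  have hmax : ∀ (E : ArSurf.VertComp R X) (c : X.left), c ∈ Models.specialFibreSet R X →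
      c ⤳ E.ι (genericPoint E.curve.left) → c = E.ι (genericPoint E.curve.left) := fun E c hc hs => by
    by_contra hne
    obtain ⟨b, hb⟩ := htwo E
    exact GGContract.no_four_chain hdim.le
      (GGContract.lt_of_spec ((genericPoint_specializes b).map E.ι.continuous)
        fun h => hb (E.ι.isClosedEmbedding.injective h))
      (GGContract.lt_of_spec hs fun h => hne h.symm)
      (GGContract.lt_of_spec (genericPoint_specializes c) fun h => hηS (h ▸ hc))
  have hmem : ∀ (E : ArSurf.VertComp R X) (j : Fin r), E.ι (genericPoint E.curve.left) ∈ Set.range (Γ j).ι →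
      Set.range E.ι = Set.range (Γ j).ι := fun E j h => by
    rw [hgenE (Γ j)] at h
    have h1 := hmax E _ (hvert (Γ j) _) (specializes_iff_mem_closure.2 h)
    rw [hgenE E, hgenE (Γ j), h1]
  have hcart : ∀ j, BlowUp.IsEffCartierIdeal (Γ j).ι.ker := fun j => isEffCartier_vertComp hX (Γ j)
  have hLi : ∀ j, PicF.IsInvertible (L j) := fun j => isInvertible_inverse_ideal (hL j)
  -- an ample module and the multiplicities
  obtain ⟨H, hH⟩ := exists_isAmple_local hX.1 hdim.le X.hom hηS
  have hamp : ∀ E : ArSurf.VertComp R X, 0 < ArSurf.inter R X H E := fun E => by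
    haveI := isProper_vertComp E
    show 0 < ArSurf.curveDeg _ _ _
    rw [curveDeg_eq_deg (k := IsLocalRing.ResidueField R) (dim_vertComp E)]
    exact (CurveLib.isAmple_iff_deg_pos E.dim_eq (isInvertible_pullback E.ι hH.1)).1 (isAmple_pullback E.ι hH)
  obtain ⟨d, a₀, hd0, ha₀, hsol⟩ := exists_solution (fun i j => ArSurf.inter R X (L i) (Γ j))
    (fun i j hij => by
      refine (inter_nonneg (Γ j) (hcart i) (fun h => hij (hΓ ?_)) (hL i)).1
      rw [← SetLike.mem_coe, Scheme.Hom.support_ker, IsClosed.closure_eq (Γ i).ι.isClosedEmbedding.isClosed_range] at h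
      exact (hmem (Γ j) i h).symm)
    (fun a ha => by
      refine lt_of_eq_of_lt ?_ (hneg a ha)
      rw [Fintype.sum_prod_type, Finset.sum_comm]
      exact Finset.sum_congr rfl fun i _ => Finset.sum_congr rfl fun j _ => by ring)
    (fun j => ArSurf.inter R X H (Γ j)) fun j => hamp (Γ j)
  refine ⟨H, d, hH, hd0, fun t ht => ?_⟩
  let a : Fin r → ℕ := fun i => t * a₀ i
  -- the divisor
  let D : X.left.IdealSheafData := ∏ i, (Γ i).ι.ker ^ a i
  obtain ⟨hD, hDmk⟩ := mk_idealMod_prod (fun i => (Γ i).ι.ker) hcart a Finset.univ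
  let Lz := FGA.multiTwist L a
  have hLzi : PicF.IsInvertible Lz ∧ ∀ E, ArSurf.inter R X Lz E = ∑ i, (a i : ℤ) * ArSurf.inter R X (L i) E :=
    ⟨isInvertible_inverse_ideal (M := ClSub.idealMod (∏ i, (Γ i).ι.ker ^ a i)) (by
      refine IntLib.mk_eq_mk.1 ?_
      rw [IntLib.mk_tensor, IntLib.mk_structureModule, mk_multiTwist, hDmk, ← Finset.prod_mul_distrib]
      refine Finset.prod_eq_one fun i _ => ?_
      obtain ⟨e⟩ := hL i
      rw [← mul_pow, ← IntLib.mk_tensor, IntLib.mk_congr e, IntLib.mk_structureModule, one_pow]),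
    fun E => (inter_multiTwist L hLi a E).2⟩
  have hLzD : mk Lz * mk (ClSub.idealMod D) = 1 := by
    rw [mk_multiTwist, hDmk, ← Finset.prod_mul_distrib]
    refine Finset.prod_eq_one fun i _ => ?_
    obtain ⟨e⟩ := hL i
    rw [← mul_pow, ← IntLib.mk_tensor, IntLib.mk_congr e, IntLib.mk_structureModule, one_pow]
  have hLzI : ClSub.IsInverseOf Lz (ClSub.idealMod D) := by
    rw [← IntLib.mk_tensor, ← IntLib.mk_structureModule (X := X.left)] at hLzD
    exact IntLib.mk_eq_mk.1 hLzD
  obtain ⟨σ, hσ⟩ := AVLib.exists_section_genLocus_compl hD hLzi.1 hLzI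
  have hDle : ∀ i, D ≤ (Γ i).ι.ker := fun i => by
    show (∏ j, (Γ j).ι.ker ^ a j) ≤ _
    rw [← Finset.mul_prod_erase _ _ (Finset.mem_univ i),
      show a i = (a i - 1) + 1 from (Nat.sub_add_cancel (Nat.mul_pos ht (ha₀ i))).symm, pow_succ',
      mul_assoc]
    intro U
    rw [Scheme.IdealSheafData.ideal_mul]
    simp only [Pi.mul_apply]
    exact Ideal.mul_le_left
  have hsupp : ∀ y, y ∈ D.support ↔ ∃ i, y ∈ Set.range (Γ i).ι := fun y => by
    constructor
    · intro hy
      by_contra hno
      push Not at hno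
      have h1 : IntMult.stalkIdeal D y = ⊤ := by
        rw [stalkIdeal_prod', ← Ideal.one_eq_top]
        refine Finset.prod_eq_one fun j _ => ?_
        rw [IdealMulLib.stalkIdeal_eq_top _ (fun h => ?_), ← Ideal.one_eq_top, one_pow]
        rw [← SetLike.mem_coe, Scheme.Hom.support_ker, IsClosed.closure_eq (Γ j).ι.isClosedEmbedding.isClosed_range] at h
        exact hno j h
      exact (IsLocalRing.maximalIdeal.isMaximal _).ne_top (top_le_iff.1 (h1 ▸ IdealStalkLib.stalkIdeal_le_maximal D hy))
    · rintro ⟨i, hi⟩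
      have h1 : y ∈ ((Γ i).ι.ker.support : Set X.left) := by
        rw [Scheme.Hom.support_ker]; exact subset_closure hi
      exact Scheme.IdealSheafData.support_antitone (hDle i) h1
  refine ⟨D, Lz, σ, hLzi.1, hLzD, hσ, hDle, hsupp, fun i => ?_, fun hr N hN hN0 => ?_⟩
  · rw [hLzi.2]
    have h2 : ∑ j, (a j : ℤ) * ArSurf.inter R X (L j) (Γ i) = (t : ℤ) * -((d : ℤ) * ArSurf.inter R X H (Γ i)) := by
      rw [← hsol i, Finset.mul_sum]
      exact Finset.sum_congr rfl fun j _ => by simp only [a]; push_cast; ring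
    rw [h2]; push_cast; ring
  refine hpic D.subscheme D.subschemeι (by rw [Scheme.IdealSheafData.ker_subschemeι]; exact hD) ?_ ?_ _
    (isInvertible_pullback _ hN) fun i g hg => ?_
  · let i₀ : Fin r := ⟨0, Nat.pos_of_ne_zero hr⟩
    obtain ⟨w, -⟩ := D.range_subschemeι.ge ((hsupp _).2 ⟨i₀, genericPoint (Γ i₀).curve.left, rfl⟩)
    exact ⟨w⟩
  · rintro _ ⟨w, rfl⟩
    exact Set.mem_iUnion.2 ((hsupp _).1 (D.range_subschemeι.le ⟨w, rfl⟩))
  · haveI := isProper_vertComp (Γ i)
    refine (curveDeg_iso (k := IsLocalRing.ResidueField R) (dim_vertComp (Γ i)) ?_).trans (hN0 i)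
    exact (Scheme.Modules.pullbackComp g D.subschemeι).app N ≪≫ (Scheme.Modules.pullbackCongr hg).app N

/-- **Artin's contraction criterion.** -/
theorem exists_contraction_artin {X : Over (Spec (CommRingCat.of R))} (hX : ArSurf.IsArithSurface R X)
    {r : ℕ} (Γ : Fin r → ArSurf.VertComp R X)
    (hΓ : Function.Injective fun i => Set.range ((Γ i).ι.base : (Γ i).curve.left → X.left))
    (L : Fin r → X.left.Modules) (hL : ∀ j, ClSub.IsInverseOf (L j) (ClSub.idealMod (Γ j).ι.ker))
    (hneg : ∀ a : Fin r → ℤ, a ≠ 0 →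
      (Finset.univ : Finset (Fin r × Fin r)).sum (fun p => a p.1 * a p.2 * ArSurf.inter R X (L p.2) (Γ p.1)) < 0)
    (hpic : ∀ (Z : Scheme.{u}) (z : Z ⟶ X.left) [IsClosedImmersion z], BlowUp.IsEffCartierIdeal z.ker →
      Nonempty Z → Set.range z.base ⊆ (⋃ i, Set.range (Γ i).ι.base) →
      ∀ N : Z.Modules, PicF.IsInvertible N →
        (∀ (i : Fin r) (g : (Γ i).curve.left ⟶ Z), g ≫ z = (Γ i).ι →
          ArSurf.curveDeg (IsLocalRing.ResidueField R) (Γ i).curve.left ((Scheme.Modules.pullback g).obj N) = 0) →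
        Nonempty (N ≅ Coh.structureModule Z)) :
    ∃ (Y : Over (Spec (CommRingCat.of R))) (f : X ⟶ Y),
      IsIntegral Y.left ∧ (∀ q : Y.left, IsIntegrallyClosed (Y.left.presheaf.stalk q)) ∧
      topologicalKrullDim Y.left = 2 ∧ Flat Y.hom ∧ Neron.IsProjectiveOver R Y ∧
      (∀ i, ∃ y : Y.left, Set.range (((Γ i).ι ≫ f.left).base : (Γ i).curve.left → Y.left) = {y}) ∧
      f.left.base ⁻¹' (f.left.base '' ⋃ i, Set.range (Γ i).ι.base) = ⋃ i, Set.range (Γ i).ι.base ∧
      ∀ V : Y.left.Opens, (V : Set Y.left) ∩ f.left.base '' (⋃ i, Set.range (Γ i).ι.base) = ∅ →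
        IsIso (f.left ∣_ V) := by
  classical
  haveI := hX.2.1
  haveI := hX.2.2.2.1
  haveI : IsProper X.hom := (SurfPtBlow.arSurf_facts hX).1
  haveI := (SurfPtBlow.arSurf_facts hX).2
  have hdim : topologicalKrullDim X.left = 2 := hX.2.2.1
  have hηS : genericPoint X.left ∉ Models.specialFibreSet R X := gen_ne_closedPoint hX
  have hnor : ∀ x : X.left, IsIntegrallyClosed (X.left.presheaf.stalk x) := fun x => by
    haveI := hX.1 x
    exact (PurityLib.isIntegrallyClosed_of_regular (X.left.presheaf.stalk x)).2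
  -- the curves
  have hvert : ∀ (E : ArSurf.VertComp R X) (a : E.curve.left), E.ι a ∈ Models.specialFibreSet R X := fun E a =>
    apply_eq_closedPoint E.ι X.hom E.curve.hom E.w a
  have hgenE : ∀ E : ArSurf.VertComp R X, Set.range E.ι = closure {E.ι (genericPoint E.curve.left)} := fun E => by
    have h := (genericPoint_spec E.curve.left).image E.ι.continuous
    rw [Set.image_univ, E.ι.isClosedEmbedding.isClosed_range.closure_eq] at h
    exact h.def.symm
  have htwo : ∀ E : ArSurf.VertComp R X, ∃ b, b ≠ genericPoint E.curve.left := fun E => by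
    by_contra h
    push Not at h
    haveI : Subsingleton E.curve.left := ⟨fun a b => (h a).trans (h b).symm⟩
    have hd := topologicalKrullDim_zero_of_discreteTopology E.curve.left
    rw [E.dim_eq] at hd
    exact absurd hd (by decide)
  have hmax : ∀ (E : ArSurf.VertComp R X) (c : X.left), c ∈ Models.specialFibreSet R X →
      c ⤳ E.ι (genericPoint E.curve.left) → c = E.ι (genericPoint E.curve.left) := fun E c hc hs => by
    by_contra hne
    obtain ⟨b, hb⟩ := htwo E
    exact GGContract.no_four_chain hdim.le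
      (GGContract.lt_of_spec ((genericPoint_specializes b).map E.ι.continuous)
        fun h => hb (E.ι.isClosedEmbedding.injective h))
      (GGContract.lt_of_spec hs fun h => hne h.symm)
      (GGContract.lt_of_spec (genericPoint_specializes c) fun h => hηS (h ▸ hc))
  have hmem : ∀ (E : ArSurf.VertComp R X) (j : Fin r), E.ι (genericPoint E.curve.left) ∈ Set.range (Γ j).ι →
      Set.range E.ι = Set.range (Γ j).ι := fun E j h => by
    rw [hgenE (Γ j)] at h
    have h1 := hmax E _ (hvert (Γ j) _) (specializes_iff_mem_closure.2 h)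
    rw [hgenE E, hgenE (Γ j), h1]
  have hcart : ∀ j, BlowUp.IsEffCartierIdeal (Γ j).ι.ker := fun j => isEffCartier_vertComp hX (Γ j)
  have hLi : ∀ j, PicF.IsInvertible (L j) := fun j => isInvertible_inverse_ideal (hL j)
  obtain ⟨H, d, hH, hd0, hdiv⟩ := exists_divisor hX Γ hΓ L hL hneg hpic
  have hpow := inter_pow hH.1
  obtain ⟨n₀, hn₀⟩ := AmpleEmb.serre_vanishing X.hom hH (DevLib.isCoh_structureModule X.left)
  obtain ⟨N₀, hN₀⟩ := AmpleEmb.eventually_isGloballyGenerated hH (DevLib.isCoh_structureModule X.left)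
  let t := n₀ + N₀ + 1
  let k := d * t
  have hkn : n₀ ≤ k := le_trans (by omega) (Nat.le_mul_of_pos_left t hd0)
  have hkN : N₀ ≤ k := le_trans (by omega) (Nat.le_mul_of_pos_left t hd0)
  have hk : 0 < k := Nat.mul_pos hd0 (Nat.succ_pos _)
  let H₁ := CohB1.tensorPow H k
  have hH₁ : PicF.IsInvertible H₁ := isInvertible_tensorPow hH.1 k
  have hH₁A : CohB1.IsAmple H₁ := (isAmple_pow_iff hH.1 hk).2 hH
  have hH₁1 : Subsingleton (Coh.HH X.left H₁ 1) :=
    CurveLib.subsingleton_HH_iso (unitL _) 1 (hn₀ k hkn 1 one_pos)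
  have hH₁g : Curv2.IsGloballyGenerated H₁ := isGloballyGenerated_of_iso (unitL _) (hN₀ k hkN)
  obtain ⟨D, Lz, σ, hLzi, hLzD, hσ, hDle, hsupp, hLzinter, hDtriv⟩ := hdiv t (Nat.succ_pos _)
  -- the module
  let L' := CohB1.tensorMod H₁ Lz
  have hL' : PicF.IsInvertible L' := isInvertible_tensor hH₁ hLzi
  have hzero : ∀ i, ArSurf.inter R X L' (Γ i) = 0 := fun i => by
    rw [inter_tensor _ hH₁ hLzi, hpow, hLzinter]
    ring
  have hH1D : Subsingleton (Coh.HH X.left (CohB1.tensorMod (ClSub.idealMod D) L') 1) := by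
    obtain ⟨e⟩ := IntLib.mk_eq_mk.1 (show mk (CohB1.tensorMod (ClSub.idealMod D) L') = mk H₁ by
      rw [IntLib.mk_tensor, IntLib.mk_tensor, mul_left_comm, mul_comm (mk (ClSub.idealMod D)), hLzD, mul_one])
    exact CurveLib.subsingleton_HH_iso e.symm 1 hH₁1
  have htrivD := fun hr => hDtriv hr L' hL' hzero
  have hgg : Curv2.IsGloballyGenerated L' := by
    refine AmpleEmb.isGloballyGenerated_of_genLocus hL' (ι := Coh.structureModule X.left ⟶ L') id fun y => ?_
    by_cases hy : y ∈ D.support
    · have hr : r ≠ 0 := by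
        rintro rfl
        obtain ⟨i, -⟩ := (hsupp y).1 hy
        exact i.elim0
      obtain ⟨e⟩ := htrivD hr
      obtain ⟨τ, hτ⟩ := ArtinSec.exists_lift_generating D hL' hH1D e
      exact ⟨τ, hτ y hy⟩
    · obtain ⟨s, hs⟩ := exists_genLocus_of_isGloballyGenerated hH₁ hH₁g y
      exact ⟨tensorS s σ, by rw [id_eq, genLocus_tensorS hH₁ hLzi, hσ]; exact ⟨hs, hy⟩⟩
  -- an ample module is not trivial along a curve
  have hamp' : ∀ {Z : Scheme.{u}} (c : Z ⟶ X.left) [IsAffineHom c], IsField Γ(Z, ⊤) → ∀ (p q : Z), p ≠ q →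
      c q ∉ D.support → ¬ Nonempty ((Scheme.Modules.pullback c).obj L' ≅ Coh.structureModule Z) := by
    intro Z c _ hF p q hpq hq hne
    haveI : CompactSpace Z := QuasiCompact.compactSpace_of_compactSpace c
    obtain ⟨s, hs⟩ := exists_genLocus_of_isGloballyGenerated hH₁ hH₁g (c q)
    have hall : ∀ z, c z ∈ CohB1.genLocus L' (tensorS s σ) := fun z => by
      by_contra hz
      refine HensContract.not_trivial_of_section c hF hL' (tensorS s σ) hz (b := q) ?_ hne
      rw [genLocus_tensorS hH₁ hLzi, hσ]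
      exact ⟨hs, hq⟩
    have hH₁c : pullCls c (mk H₁) = 1 := HensContract.pullCls_eq_one_of_gen c hH₁ s fun z => by
      have h := hall z
      rw [genLocus_tensorS hH₁ hLzi] at h
      exact h.1
    rw [IntLib.pullCls_mk] at hH₁c
    obtain ⟨e⟩ := BlowPic.mk_eq_one.1 hH₁c
    exact ArtinSec.not_isAmple_structureModule hF hpq (isAmple_of_iso e (isAmple_pullback c hH₁A))
  refine GGContract.exists_contraction_of_gg hnor hdim hX.2.2.2.2 Γ L' hL' hgg ?_ fun E => ⟨fun h => ?_, ?_⟩
  · haveI := HensContract.isOpenImmersion_genPt (R := R)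
    haveI : IsAffineHom (Neron.genPt R) := isAffineHom_of_isAffine _
    haveI : IsAffineHom (pullback.fst X.hom (Neron.genPt R)) := MorphismProperty.pullback_fst _ _ inferInstance
    obtain ⟨p, hp⟩ := (range_fst (X := X)).ge hηS
    obtain ⟨w, hwη, hw⟩ := ArtinSec.exists_generic_ne hdim (X := X)
    obtain ⟨q, hq⟩ := (range_fst (X := X)).ge hw
    haveI : Nonempty ↥(pullback X.hom (Neron.genPt R)) := ⟨p⟩
    haveI : IsIntegral (pullback X.hom (Neron.genPt R)) := isIntegral_of_isOpenImmersion (pullback.fst X.hom (Neron.genPt R))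
    have hF : IsField Γ(pullback X.hom (Neron.genPt R), ⊤) :=
      isField_of_universallyClosed (FractionRing R) (pullback.snd X.hom (Neron.genPt R))
    refine hamp' _ hF q p (fun h => hwη (by rw [← hq, h, hp])) fun h => ?_
    obtain ⟨i, a', ha'⟩ := (hsupp _).1 h
    exact hηS (hp ▸ ha' ▸ hvert (Γ i) a')
  · by_contra hno
    push Not at hno
    haveI : IsProper E.curve.hom := isProper_vertComp E
    obtain ⟨b, hb⟩ := htwo E
    refine hamp' E.ι (isField_of_universallyClosed (IsLocalRing.ResidueField R) E.curve.hom) b _ hb (fun hq => ?_) h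
    obtain ⟨j, hj⟩ := (hsupp _).1 hq
    exact hno j (hmem E j hj)
  · rintro ⟨i, hi⟩
    have hr : r ≠ 0 := fun h => (h ▸ i).elim0
    obtain ⟨e⟩ := htrivD hr
    have hker : D ≤ E.ι.ker := by
      refine (hDle i).trans (le_of_eq ?_)
      rw [ker_vertComp, ker_vertComp, show Models.genPtOf R X E = Models.genPtOf R X (Γ i) from
        (hmax E _ (hvert (Γ i) _) (specializes_iff_mem_closure.2
          (hgenE (Γ i) ▸ hi.le ⟨_, rfl⟩))).symm]
    let g : E.curve.left ⟶ D.subscheme := E.ι.toImage ≫ Scheme.IdealSheafData.inclusion hker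
    have hg : g ≫ D.subschemeι = E.ι := by
      rw [Category.assoc, Scheme.IdealSheafData.inclusion_subschemeι]
      exact E.ι.toImage_imageι
    refine BlowPic.mk_eq_one.1 ?_
    rw [← IntLib.pullCls_mk, ← hg, ← BlowPic.pullCls_comp, IntLib.pullCls_mk D.subschemeι,
      BlowPic.mk_eq_one.2 ⟨e⟩, map_one]

end Groth.Agent.CastLib.ArtinContract
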