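import Groth.Agent.CastLib.EulerFlat
import Groth.Agent.SteinConn.Conn
import Groth.Agent.S7639

/-!
# The numerical type of a regular model
-/

set_option autoImplicit false
set_option backward.isDefEq.respectTransparency false
set_option linter.style.haveILetI false
set_option maxHeartbeats 1000000

universe u

open CategoryTheory CategoryTheory.Limits AlgebraicGeometry TopologicalSpace IsLocalRing

noncomputable section

namespace Groth.Agent.CastLib

/-- All cohomological dimensions are multiples of the degree of the constants. -/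
theorem dvd_finrank_HH (k : Type u) [Field k] (Z : Scheme.{u}) [Z.Over (Spec (CommRingCat.of k))]
    (hF : IsField Γ(Z, ⊤)) (M : Z.Modules) (i : ℕ) :
    letI : Algebra k Γ(Z, ⊤) := (Coh.toGlobal (Z ↘ Spec (CommRingCat.of k))).toAlgebra
    Module.finrank k Γ(Z, ⊤) ∣ Module.finrank k (Coh.HH Z M i) := by
  classical
  letI : Algebra k Γ(Z, ⊤) := (Coh.toGlobal (Z ↘ Spec (CommRingCat.of k))).toAlgebra
  letI := hF.toField
  letI : Module Γ(Z, ⊤) (Coh.HH Z M i) := (Coh.moduleΓtop M i : Module (Coh.Γtop Z) (Coh.HH Z M i))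
  haveI : IsScalarTower k Γ(Z, ⊤) (Coh.HH Z M i) := IsScalarTower.of_algebraMap_smul fun _ _ => rfl
  exact ⟨_, (Module.finrank_mul_finrank k Γ(Z, ⊤) (Coh.HH Z M i)).symm⟩

variable {R : Type u} [CommRing R] [IsDomain R] [IsDiscreteValuationRing R]
variable {X : Over (Spec (CommRingCat.of R))}

/-- The weight is positive and divides the genus and all intersection numbers. -/
theorem wdeg_dvd [IsProper X.hom] (Γ : ArSurf.VertComp R X) :
    0 < Models.wdeg R X Γ ∧ Models.wdeg R X Γ ∣ Models.h1 R X Γ ∧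
      ∀ L : X.left.Modules, PicF.IsInvertible L → (Models.wdeg R X Γ : ℤ) ∣ ArSurf.inter R X L Γ := by
  haveI := isProper_vertComp Γ
  haveI := EulerIneqLib.isNoetherian_proper (X := Γ.curve.left) (ResidueField R)
  obtain ⟨hF, hfin, hdvd, -⟩ := S7639.result (ResidueField R) Γ.curve.left
  letI : Algebra (ResidueField R) Γ(Γ.curve.left, ⊤) :=
    (Coh.toGlobal (Γ.curve.left ↘ Spec (CommRingCat.of (ResidueField R)))).toAlgebra
  let eH : Coh.HH Γ.curve.left (Coh.structureModule Γ.curve.left) 0 ≃ₗ[ResidueField R] Γ(Γ.curve.left, ⊤) :=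
    { (CurveLib.secOf (Coh.structureModule Γ.curve.left)) with
      map_smul' := fun r c => CurveLib.secOf_smul (k := ResidueField R) _ r c }
  have hw : Models.wdeg R X Γ = Module.finrank (ResidueField R) Γ(Γ.curve.left, ⊤) := eH.finrank_eq
  haveI : Module.Finite (ResidueField R) Γ(Γ.curve.left, ⊤) := hfin
  haveI : Nontrivial Γ(Γ.curve.left, ⊤) := hF.nontrivial
  refine ⟨hw ▸ Module.finrank_pos, ?_, fun L hL => ?_⟩
  · rw [hw]
    exact dvd_finrank_HH (ResidueField R) Γ.curve.left hF _ 1
  · have hL' := AmpleLib.isInvertible_pullback Γ.ι hL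
    show _ ∣ ArSurf.curveDeg _ _ _
    rw [hw, curveDeg_eq_deg (dim_vertComp Γ)]
    exact hdvd 1 _ (CurveLib.isFinLocFreeOfRank_one hL')

/-- **The numerical type of a regular model.** -/
theorem exists_numericalType {C Y : Scheme.{u}} {f : C ⟶ Spec (CommRingCat.of (FractionRing R))}
    {p : Y ⟶ Spec (CommRingCat.of R)} (hC : Curve.IsSmoothProperCurve (FractionRing R) C f) (hH0 : IsIso f.appTop)
    (hY : Models.IsRegularProperModel R Y p C f) {n : ℕ} {Γ : Fin n → ArSurf.VertComp R (Over.mk p)}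
    (hΓ : Models.IsComponentList R (Over.mk p) Γ) {L : Fin n → Y.Modules}
    (hL : ∀ i, ClSub.IsInverseOf (L i) (ClSub.idealMod (Γ i).ι.ker)) :
    ∃ T : Models.NumericalType n,
      (∀ i, T.m i = (Models.mult R (Over.mk p) (Γ i) : ℤ)) ∧
      (∀ i j, T.a i j = ArSurf.inter R (Over.mk p) (L j) (Γ i)) ∧
      (∀ i, T.w i = (Models.wdeg R (Over.mk p) (Γ i) : ℤ)) ∧
      (∀ i, T.w i * T.g i = (Models.h1 R (Over.mk p) (Γ i) : ℤ)) ∧
      T.genus = (Models.curveGenus (FractionRing R) C f : ℤ) := by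
  classical
  have hV := VSurf.of_model hC hY
  haveI := hV.proper
  haveI : IsIntegral Y := hV.int
  haveI : Flat p := hY.1.1
  haveI : IsProper p := hY.2.1
  obtain ⟨hC', hfib⟩ := hV.toFibreGood.fibre_eq_prod hΓ
  have hn : 0 < n := by
    by_contra h0
    obtain rfl : n = 0 := by omega
    rw [Fin.prod_univ_zero] at hfib
    obtain ⟨x, hx⟩ : ∃ x, p x = closedPoint R := by
      have hne := hV.genPt_not_fibre
      have hc := p.isClosedMap _ (isClosed_univ (X := Y))
      have hsp : p (genericPoint Y) ⤳ closedPoint R := IsLocalRing.specializes_closedPoint _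
      obtain ⟨x, -, hx⟩ := hc.stableUnderSpecialization hsp ⟨_, trivial, rfl⟩
      exact ⟨x, hx⟩
    have h := (FibreGood.mem_fibre (X := Over.mk p)).2 hx
    rw [show SurfPtBlow.fibreIdeal (Over.mk p).hom = 1 from hfib] at h
    simp at h; exact h.elim
  have hw := fun i => wdeg_dvd (Γ i)
  refine ⟨{ m := fun i => Models.mult R (Over.mk p) (Γ i)
            a := Matrix.of fun i j => ArSurf.inter R (Over.mk p) (L j) (Γ i)
            w := fun i => Models.wdeg R (Over.mk p) (Γ i)
            g := fun i => (Models.h1 R (Over.mk p) (Γ i) / Models.wdeg R (Over.mk p) (Γ i) : ℕ)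
            pos := hn
            m_pos := fun i => Int.natCast_pos.2 (hV.mult_pos hΓ i)
            w_pos := fun i => Int.natCast_pos.2 (hw i).1
            g_nonneg := fun i => Int.natCast_nonneg _
            symm := Matrix.IsSymm.ext fun i j => hV.inter_symm_list hΓ.1 hL j i
            offDiag_nonneg := fun i j hij => (hV.inter_nonneg_of_ne (fun e => hij (hΓ.1 e)) (hL j)).1
            connected := fun I hI hI' => hV.exists_link hΓ ?_ hL I hI hI'
            mulVec_m := ?_
            w_dvd := fun i j => (hw i).2.2 _ (isInvertible_inverse_ideal (hL j)) },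
    fun i => rfl, fun i j => rfl, fun i => rfl, fun i => ?_, ?_⟩
  · obtain ⟨g, hg⟩ := hY.1.2.2.2
    exact SteinConn.isPreconnected_closedFibre p (SurfPtBlow.toGlobal_surjective hg hH0)
  · funext i
    simp only [Matrix.mulVec, dotProduct, Matrix.of_apply, Pi.zero_apply]
    rw [Finset.sum_congr rfl fun j _ => mul_comm _ _]
    exact hV.sum_mult_inter hC' _ hfib L hL (Γ i)
  · show (Models.wdeg R (Over.mk p) (Γ i) : ℤ) * ((Models.h1 R (Over.mk p) (Γ i) / Models.wdeg R (Over.mk p) (Γ i) : ℕ) : ℤ) = _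
    rw [← Nat.cast_mul, Nat.mul_div_cancel' (hw i).2.1]
  · have h := genus_formula hC hH0 hY hΓ hL
    simp only [Models.NumericalType.genus, Matrix.of_apply]
    have h' : ∀ i, (Models.mult R (Over.mk p) (Γ i) : ℤ) * Models.wdeg R (Over.mk p) (Γ i) *
        (((Models.h1 R (Over.mk p) (Γ i) / Models.wdeg R (Over.mk p) (Γ i) : ℕ) : ℤ) - 1) =
        Models.mult R (Over.mk p) (Γ i) * ((Models.h1 R (Over.mk p) (Γ i) : ℤ) - Models.wdeg R (Over.mk p) (Γ i)) := fun i => by
      have e : (Models.wdeg R (Over.mk p) (Γ i) : ℤ) * ((Models.h1 R (Over.mk p) (Γ i) / Models.wdeg R (Over.mk p) (Γ i) : ℕ) : ℤ) =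
          Models.h1 R (Over.mk p) (Γ i) := by
        rw [← Nat.cast_mul, Nat.mul_div_cancel' (hw i).2.1]
      rw [mul_assoc, mul_sub, e, mul_one]
    rw [Finset.sum_congr rfl fun i _ => h' i]
    simp only [mul_sub, Finset.sum_sub_distrib, mul_left_comm _ (2 : ℤ), ← Finset.mul_sum] at h ⊢
    omega

end Groth.Agent.CastLib
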