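import Groth.Agent.CastLib.DedekindExt

/-!
# Generic fibres of non-positive Euler characteristic have non-zero `H¹`
-/

set_option autoImplicit false
set_option backward.isDefEq.respectTransparency false
set_option linter.style.haveILetI false
set_option maxHeartbeats 1000000

universe u

open CategoryTheory CategoryTheory.Limits AlgebraicGeometry TopologicalSpace

noncomputable section

namespace Groth.Agent.CastLib

open Groth.Agent.SurfPtBlow

theorem nontrivial_H1_of_euler {R : Type u} [CommRing R] [IsDedekindDomain R] {X : Over (Spec (CommRingCat.of R))}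
    (hX : ArSurf.IsArithSurface R X)
    (hg : FGA.eulerCharLE (FractionRing R) ((Neron.genericFibre R).obj X).left (Coh.structureModule _) 1 ≤ 0) :
    Nontrivial (Coh.HH ((Neron.genericFibre R).obj X).left (Coh.structureModule _) 1) := by
  haveI := hX.2.1
  haveI := (arSurf_facts hX).1
  let P := ((Neron.genericFibre R).obj X).left
  haveI : IsProper (P ↘ Spec (CommRingCat.of (FractionRing R))) :=
    MorphismProperty.pullback_snd X.hom (Neron.genPt R) inferInstance
  haveI : IsLocallyNoetherian P := LocallyOfFiniteType.isLocallyNoetherian (P ↘ Spec (CommRingCat.of (FractionRing R)))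
  haveI : CompactSpace P := QuasiCompact.compactSpace_of_compactSpace (P ↘ Spec (CommRingCat.of (FractionRing R)))
  haveI : AlgebraicGeometry.IsNoetherian P := { }
  haveI : Nonempty P := by
    obtain ⟨a, -⟩ := exists_genPoint hX
    exact ⟨a⟩
  haveI : Nonempty (⊤ : P.Opens) := ⟨⟨Classical.arbitrary P, trivial⟩⟩
  by_contra h
  rw [not_nontrivial_iff_subsingleton] at h
  haveI : Module.Finite (FractionRing R) (Coh.HH P (Coh.structureModule P) 0) :=
    ProperFin.allFin_of_isCoh (A := FractionRing R) (P ↘ Spec (CommRingCat.of (FractionRing R))) _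
      (DevLib.isCoh_structureModule P) 0
  haveI : Nontrivial Γ(Coh.structureModule P, ⊤) := inferInstanceAs (Nontrivial Γ(P, ⊤))
  haveI : Nontrivial (Coh.HH P (Coh.structureModule P) 0) :=
    (CurveLib.secOf (Coh.structureModule P)).toEquiv.nontrivial
  have h0 : 0 < Module.finrank (FractionRing R) (Coh.HH P (Coh.structureModule P) 0) := Module.finrank_pos
  have h1 : Module.finrank (FractionRing R) (Coh.HH P (Coh.structureModule P) 1) = 0 :=
    Module.finrank_zero_of_subsingleton
  simp only [FGA.eulerCharLE, Finset.sum_range_succ, Finset.range_zero, Finset.sum_empty] at hg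
  norm_num at hg
  exact absurd (h0.trans_le (hg.trans h1.le)) (lt_irrefl 0)

end Groth.Agent.CastLib
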