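import Groth.Agent.CastLib.EulerFlat
import Groth.Agent.PicTrivLib.Const
import Groth.Agent.AVLib.GeomInt
import Groth.Agent.SteinConn.General
import Groth.Agent.SurfPtBlow.ArSurfFacts
import Groth.Agent.CastLib.DedekindExt

/-!
# Global functions of models with geometrically connected generic fibre
-/

set_option autoImplicit false
set_option backward.isDefEq.respectTransparency false
set_option linter.style.haveILetI false
set_option maxHeartbeats 1000000

universe u

open CategoryTheory CategoryTheory.Limits AlgebraicGeometry TopologicalSpace IsLocalRing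

noncomputable section

namespace Groth.Agent.CastLib

/-- A smooth proper geometrically connected scheme over a field has only constant functions. -/
theorem isIso_appTop_of_smooth {k : Type u} [Field k] {C : Scheme.{u}} (f : C ⟶ Spec (CommRingCat.of k))
    [IsProper f] [Smooth f] [GeometricallyConnected f] : IsIso f.appTop := by
  haveI := AVLib.geometricallyReduced_of_smooth f
  have h := PicTrivLib.bijective_appTop_of_geom f
  rw [CommRingCat.hom_comp, RingHom.coe_comp] at h
  exact (ConcreteCategory.isIso_iff_bijective _).2
    ((Function.Bijective.of_comp_iff _ (ConcreteCategory.bijective_of_isIso _)).1 h)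

/-- Proper maps to an affine scheme with only constant functions have geometrically connected fibres. -/
theorem geometricallyConnected_of_appTop {X S : Scheme.{u}} [IsAffine S] (p : X ⟶ S) [IsProper p]
    (h : Function.Bijective p.appTop) : GeometricallyConnected p := by
  haveI := SteinConn.isIso_fromNormalization_of_bijective p h
  have h1 : GeometricallyConnected p.toNormalization := SteinConn.geometricallyConnected_toNormalization' p
  have h2 := (MorphismProperty.cancel_right_of_respectsIso @GeometricallyConnected p.toNormalization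
    p.fromNormalization).2 h1
  rwa [p.toNormalization_fromNormalization] at h2

theorem geometricallyConnected_model {R : Type u} [CommRing R] [IsDomain R] [IsDiscreteValuationRing R]
    {C X : Scheme.{u}} {f : C ⟶ Spec (CommRingCat.of (FractionRing R))} {p : X ⟶ Spec (CommRingCat.of R)}
    (hC : Curve.IsSmoothProperCurve (FractionRing R) C f) [GeometricallyConnected f]
    (hX : Models.IsRegularProperModel R X p C f) : GeometricallyConnected p := by
  haveI : IsProper f := hC.1
  haveI : Smooth f := hC.2.1
  haveI : IsProper p := hX.2.1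
  haveI : Flat p := hX.1.1
  obtain ⟨g, hg⟩ := hX.1.2.2.2
  haveI := isIso_appTop_of_smooth f
  have hs := SurfPtBlow.toGlobal_surjective hg ‹IsIso f.appTop›
  have hinj : Function.Injective (Coh.toGlobal p) := fun a b hab => by
    refine IsFractionRing.injective R (FractionRing R)
      ((ConcreteCategory.bijective_of_isIso
        ((Scheme.ΓSpecIso (CommRingCat.of (FractionRing R))).inv ≫ f.appTop)).1 ?_)
    have h1 : ∀ r, ((Scheme.ΓSpecIso (CommRingCat.of (FractionRing R))).inv ≫ f.appTop)
        (algebraMap R (FractionRing R) r) = g.appTop (Coh.toGlobal p r) := fun r => by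
      show _ = ((Scheme.ΓSpecIso (CommRingCat.of R)).inv ≫ p.appTop ≫ g.appTop) r
      rw [← Scheme.Hom.comp_appTop, hg.w, Scheme.Hom.comp_appTop, ← Scheme.ΓSpecIso_inv_naturality_assoc]
      rfl
    rw [h1, h1, hab]
  refine geometricallyConnected_of_appTop p ?_
  have h2 : Function.Bijective (⇑p.appTop ∘ ⇑(Scheme.ΓSpecIso (CommRingCat.of R)).inv) := ⟨hinj, hs⟩
  exact (Function.Bijective.of_comp_iff _ (ConcreteCategory.bijective_of_isIso _)).1 h2

/-- Over a Dedekind domain: a geometrically integral generic fibre gives only constant functions. -/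
theorem bijective_toGlobal_of_geomIntegral {R : Type u} [CommRing R] [IsDedekindDomain R]
    (X : Over (Spec (CommRingCat.of R))) [IsIntegral X.left] [Flat X.hom] (hproj : Neron.IsProjectiveOver R X)
    [GeometricallyIrreducible ((Neron.genericFibre R).obj X).hom]
    [GeometricallyReduced ((Neron.genericFibre R).obj X).hom] :
    Function.Bijective (Coh.toGlobal X.hom) := by
  obtain ⟨n, i, hi, hiX⟩ := hproj
  haveI := hi
  haveI : IsProper (CohB1.ProjSpaceOver.toBase n (Spec (CommRingCat.of R))) := BCLib.isProper_toBase _ _
  haveI : IsProper X.hom := hiX ▸ inferInstance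
  let j := Neron.genPt R
  let P := pullback X.hom j
  let q : P ⟶ X.left := pullback.fst X.hom j
  let t : P ⟶ Spec (CommRingCat.of (FractionRing R)) := pullback.snd X.hom j
  haveI : GeometricallyIrreducible t := inferInstanceAs (GeometricallyIrreducible ((Neron.genericFibre R).obj X).hom)
  haveI : GeometricallyReduced t := inferInstanceAs (GeometricallyReduced ((Neron.genericFibre R).obj X).hom)
  haveI : IsProper t := inferInstanceAs (IsProper (pullback.snd X.hom j))
  haveI : GeometricallyConnected t := by
    refine ⟨fun K _ y P' a b H => ?_⟩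
    haveI := GeometricallyIrreducible.geometrically_irreducibleSpace (f := t) y a b H
    infer_instance
  have hb := PicTrivLib.bijective_appTop_of_geom t
  let Φ : Γ(X.left, ⊤) →+* FractionRing R :=
    ((RingEquiv.ofBijective _ hb).symm.toRingHom).comp q.appTop.hom
  have hΦ : ∀ r, Φ (Coh.toGlobal X.hom r) = algebraMap R (FractionRing R) r := fun r => by
    refine (RingEquiv.ofBijective _ hb).injective ?_
    refine ((RingEquiv.ofBijective _ hb).apply_symm_apply _).trans ?_
    show ((Scheme.ΓSpecIso (CommRingCat.of R)).inv ≫ X.hom.appTop ≫ q.appTop) r = _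
    rw [← Scheme.Hom.comp_appTop, pullback.condition, Scheme.Hom.comp_appTop, ← Scheme.ΓSpecIso_inv_naturality_assoc]
    rfl
  have hinj : Function.Injective q.appTop := by
    haveI : Flat j := Flat.SpecMap_iff.2
      (RingHom.flat_algebraMap_iff.2 (IsLocalization.flat (FractionRing R) (nonZeroDivisors R)))
    let η := genericPoint X.left
    obtain ⟨η', hη', hη''⟩ := Flat.generalizingMap X.hom
      (show (⟨⊥, Ideal.isPrime_bot⟩ : PrimeSpectrum R) ⤳ X.hom η from (PrimeSpectrum.le_iff_specializes _ _).1 bot_le)
    obtain rfl : η' = η := (hη'.antisymm (genericPoint_specializes η')).eq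
    obtain ⟨a, ha, -⟩ := Scheme.Pullback.exists_preimage_pullback (f := X.hom) (g := j) η
      (⟨⊥, Ideal.isPrime_bot⟩ : PrimeSpectrum (FractionRing R))
      (hη''.trans (PrimeSpectrum.ext (by
        show ⊥ = Ideal.comap (algebraMap R (FractionRing R)) ⊥
        rw [← RingHom.ker_eq_comap_bot, (RingHom.injective_iff_ker_eq_bot _).1 (IsFractionRing.injective R _)])))
    intro x y hxy
    haveI : Nonempty X.left := ⟨η⟩
    refine AlgebraicGeometry.germ_injective_of_isIntegral X.left (q a) (U := ⊤) trivial ?_
    let φ := (q.stalkMap a).hom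
    letI : Algebra (X.left.presheaf.stalk (q a)) (P.presheaf.stalk a) := φ.toAlgebra
    haveI : IsLocalHom (algebraMap (X.left.presheaf.stalk (q a)) (P.presheaf.stalk a)) :=
      inferInstanceAs (IsLocalHom (q.stalkMap a).hom)
    haveI : Module.Flat (X.left.presheaf.stalk (q a)) (P.presheaf.stalk a) := Flat.stalkMap q a
    haveI : Module.FaithfullyFlat (X.left.presheaf.stalk (q a)) (P.presheaf.stalk a) :=
      Module.FaithfullyFlat.of_flat_of_isLocalHom
    refine FaithfulSMul.algebraMap_injective (X.left.presheaf.stalk (q a)) (P.presheaf.stalk a) ?_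
    show (q.stalkMap a) _ = (q.stalkMap a) _
    rw [Scheme.Hom.germ_stalkMap_apply, Scheme.Hom.germ_stalkMap_apply]
    exact congrArg _ hxy
  refine ⟨fun r r' h => IsFractionRing.injective R (FractionRing R) (by rw [← hΦ, ← hΦ, h]), fun a => ?_⟩
  have hint : _root_.IsIntegral R (Φ a) := by
    obtain ⟨Q, hQ, hQa⟩ := (RingHom.IsIntegral.trans _ _
      (RingHom.isIntegral_of_surjective _ (ConcreteCategory.bijective_of_isIso (Scheme.ΓSpecIso (CommRingCat.of R)).inv).2)
      (isIntegral_appTop_of_universallyClosed X.hom) :
        (X.hom.appTop.hom.comp (Scheme.ΓSpecIso (CommRingCat.of R)).inv.hom).IsIntegral) a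
    refine ⟨Q, hQ, ?_⟩
    have h := congrArg Φ hQa
    rw [map_zero, Polynomial.hom_eval₂] at h
    rw [show algebraMap R (FractionRing R) = Φ.comp (Coh.toGlobal X.hom) from RingHom.ext fun r => (hΦ r).symm]
    exact h
  obtain ⟨r, hr⟩ := IsIntegrallyClosed.isIntegral_iff.1 hint
  refine ⟨r, hinj ((RingEquiv.ofBijective _ hb).symm.injective ?_)⟩
  show Φ (Coh.toGlobal X.hom r) = Φ a
  rw [hΦ, hr]

end Groth.Agent.CastLib
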