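import Groth.Agent.CastLib.FieldChain
import Groth.Agent.DVRCrit.Scheme
import Groth.Agent.RegLocal.Basic

/-!
# Sections meet the closed fibre in smooth rational points
-/

set_option autoImplicit false
set_option backward.isDefEq.respectTransparency false
set_option backward.isDefEq.respectTransparency.types false
set_option linter.style.haveILetI false
set_option maxHeartbeats 1000000

universe u

open CategoryTheory CategoryTheory.Limits AlgebraicGeometry TopologicalSpace IsLocalRing IntMult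

noncomputable section

namespace Groth.Agent.CastLib

open Groth.Agent.SurfPtBlow

variable {R : Type u} [CommRing R] [IsDomain R] [IsDiscreteValuationRing R]
variable {X : Over (Spec (CommRingCat.of R))}

/-- The retraction of the local ring at a point of a section. -/
theorem stalkClosedPointTo_stalkHom (σ : Spec (CommRingCat.of R) ⟶ X.left) (hσ : σ ≫ X.hom = 𝟙 _) (r : R) :
    (Scheme.stalkClosedPointTo σ).hom (Models.stalkHom R X (σ (closedPoint R)) r) = r := by
  have h1 := ConcreteCategory.congr_hom (Scheme.germ_stalkClosedPointTo σ ⊤ trivial) (Coh.toGlobal X.hom r)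
  refine h1.trans ?_
  have h2 : σ.appTop (X.hom.appTop ((Scheme.ΓSpecIso (CommRingCat.of R)).inv r)) = (Scheme.ΓSpecIso (CommRingCat.of R)).inv r := by
    rw [← ConcreteCategory.comp_apply, ← Scheme.Hom.comp_appTop, hσ]
    rfl
  show (Scheme.ΓSpecIso (CommRingCat.of R)).hom ((Spec (CommRingCat.of R)).presheaf.map _ (σ.appTop _)) = r
  rw [show (Coh.toGlobal X.hom r : Γ(X.left, ⊤)) = X.hom.appTop ((Scheme.ΓSpecIso (CommRingCat.of R)).inv r) from rfl, h2]
  refine Eq.trans ?_ ((Scheme.ΓSpecIso (CommRingCat.of R)).inv_hom_id_apply r)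
  exact congrArg _ ((ConcreteCategory.congr_hom (congrArg (Spec (CommRingCat.of R)).presheaf.map
    (Subsingleton.elim _ (𝟙 _))) _).trans (ConcreteCategory.congr_hom ((Spec (CommRingCat.of R)).presheaf.map_id _) _))

/-- **A section meets the closed fibre in a smooth rational point, on one component of multiplicity one.** -/
theorem VSurf.section_point (h : VSurf X) {n : ℕ} {Γ : Fin n → ArSurf.VertComp R X}
    (hΓ : Models.IsComponentList R X Γ) (σ : Spec (CommRingCat.of R) ⟶ X.left) (hσ : σ ≫ X.hom = 𝟙 _) :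
    Function.Surjective ((X.left.residue (σ (closedPoint R))).hom.comp (Models.stalkHom R X (σ (closedPoint R)))) ∧
      IsRegularLocalRing (X.left.presheaf.stalk (σ (closedPoint R)) ⧸
        Ideal.map (Models.stalkHom R X (σ (closedPoint R))) (maximalIdeal R)) ∧
      (∃! i : Fin n, σ (closedPoint R) ∈ Set.range (Γ i).ι) ∧
      ∀ i : Fin n, σ (closedPoint R) ∈ Set.range (Γ i).ι → Models.mult R X (Γ i) = 1 := by
  classical
  haveI := h.int
  haveI := h.noeth
  let x := σ (closedPoint R)
  haveI := h.reg x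
  let A := X.left.presheaf.stalk x
  let ε := (Scheme.stalkClosedPointTo σ).hom
  have hε : ∀ r, ε (Models.stalkHom R X x r) = r := stalkClosedPointTo_stalkHom σ hσ
  haveI : IsLocalHom ε := Scheme.isLocalHom_stalkClosedPointTo' σ
  obtain ⟨π, hπ⟩ := IsDiscreteValuationRing.exists_irreducible R
  have hx : X.hom x = closedPoint R := by
    show (σ ≫ X.hom) (closedPoint R) = _
    rw [hσ]; rfl
  have hπmem : Models.stalkHom R X x π ∈ maximalIdeal A :=
    (IsLocalRing.mem_maximalIdeal _).2 fun hu => hπ.not_isUnit (hε π ▸ hu.map ε)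
  have hsq : ∀ a ∈ maximalIdeal A ^ 2, ε a ∈ maximalIdeal R ^ 2 := fun a ha => by
    have h1 := Ideal.mem_map_of_mem ε ha
    rw [Ideal.map_pow] at h1
    exact Ideal.pow_right_mono (IsLocalRing.map_maximalIdeal_le ε) 2 h1
  have hπ2 : Models.stalkHom R X x π ∉ maximalIdeal A ^ 2 := fun hmem => by
    have h1 := hsq _ hmem
    rw [hε, hπ.maximalIdeal_eq, Ideal.span_singleton_pow, Ideal.mem_span_singleton] at h1
    have h2 : π ^ 2 ∣ π ^ 1 := by rwa [pow_one]
    have := (pow_dvd_pow_iff hπ.ne_zero hπ.not_isUnit).1 h2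
    omega
  refine ⟨fun a => ?_, ?_, ?_⟩
  · obtain ⟨z, rfl⟩ := X.left.residue_surjective x a
    refine ⟨ε z, ?_⟩
    show X.left.residue x (Models.stalkHom R X x (ε z)) = X.left.residue x z
    rw [← sub_eq_zero, ← map_sub]
    refine (IsLocalRing.residue_eq_zero_iff _).2 ((IsLocalRing.mem_maximalIdeal _).2 fun hu => ?_)
    have h2 := hu.map ε
    rw [map_sub, hε, sub_self] at h2
    exact not_isUnit_zero h2
  · obtain ⟨d, hd⟩ := RegLocal.exists_nat_ringKrullDim A
    have h1 := (RegLocal.quot_singleton A hd hπmem hπ2).1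
    rwa [hπ.maximalIdeal_eq, Ideal.map_span, Set.image_singleton]
  · obtain ⟨-, hfib⟩ := h.toFibreGood.fibre_eq_prod hΓ
    have hJ : stalkIdeal (fibreIdeal X.hom) x = Ideal.span {Models.stalkHom R X x π} := by
      rw [fibreIdeal, hπ.maximalIdeal_eq]
      exact stalkIdeal_comap_principal X.hom π x
    rw [show fibreIdeal X.hom = ∏ j, (Γ j).ι.ker ^ Models.mult R X (Γ j) from hfib, stalkIdeal_prod'] at hJ
    let T := Finset.univ.filter fun i => x ∈ Set.range (Γ i).ι
    have htop : ∀ i ∉ T, stalkIdeal (Γ i).ι.ker x = ⊤ := fun i hi => by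
      refine IdealMulLib.stalkIdeal_eq_top _ fun hmem => hi (Finset.mem_filter.2 ⟨Finset.mem_univ i, ?_⟩)
      rwa [← SetLike.mem_coe, support_ker] at hmem
    have hle : ∀ i ∈ T, stalkIdeal (Γ i).ι.ker x ≤ maximalIdeal A := fun i hi => by
      refine IdealStalkLib.stalkIdeal_le_maximal _ ?_
      rw [← SetLike.mem_coe, support_ker]
      exact (Finset.mem_filter.1 hi).2
    have hprod : ∏ i, stalkIdeal (Γ i).ι.ker x ^ Models.mult R X (Γ i) ≤ maximalIdeal A ^ ∑ i ∈ T, Models.mult R X (Γ i) := by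
      rw [← Finset.prod_subset (Finset.subset_univ T) fun i _ hi => by
        rw [htop i hi, ← Ideal.one_eq_top, one_pow], ← Finset.prod_pow_eq_pow_sum]
      exact Finset.prod_le_prod' fun i hi => Ideal.pow_right_mono (hle i hi) _
    rw [hJ, Ideal.span_singleton_le_iff_mem] at hprod
    have hsum : ∑ i ∈ T, Models.mult R X (Γ i) ≤ 1 := by
      by_contra hcon
      exact hπ2 (Ideal.pow_le_pow_right (by omega : 2 ≤ ∑ i ∈ T, Models.mult R X (Γ i)) hprod)
    obtain ⟨i, hi⟩ : T.Nonempty := by
      by_contra hne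
      rw [Finset.not_nonempty_iff_eq_empty] at hne
      have h1 : ∏ i, stalkIdeal (Γ i).ι.ker x ^ Models.mult R X (Γ i) = ⊤ := by
        rw [← Ideal.one_eq_top]
        exact Finset.prod_eq_one fun i _ => by
          rw [htop i (by rw [hne]; exact Finset.notMem_empty i), ← Ideal.one_eq_top, one_pow]
      rw [h1, eq_comm, Ideal.span_singleton_eq_top] at hJ
      exact (IsLocalRing.mem_maximalIdeal _).1 hπmem hJ
    have hpos : ∀ i ∈ T, 1 ≤ Models.mult R X (Γ i) := fun j hj => Nat.one_le_iff_ne_zero.2 fun h0 => by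
      exact (h.mult_pos hΓ j).ne' h0
    have hone : ∀ j ∈ T, j = i := fun j hj => by
      by_contra hji
      have h1 : ∑ l ∈ ({i, j} : Finset (Fin n)), Models.mult R X (Γ l) ≤ ∑ l ∈ T, Models.mult R X (Γ l) :=
        Finset.sum_le_sum_of_subset fun l hl => by
          rcases Finset.mem_insert.1 hl with rfl | hl
          · exact hi
          · rwa [Finset.mem_singleton.1 hl]
      rw [Finset.sum_pair (Ne.symm hji)] at h1
      have := hpos i hi
      have := hpos j hj
      omega
    refine ⟨⟨i, (Finset.mem_filter.1 hi).2, fun j hj => hone j (Finset.mem_filter.2 ⟨Finset.mem_univ j, hj⟩)⟩,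
      fun j hj => ?_⟩
    have hjT : j ∈ T := Finset.mem_filter.2 ⟨Finset.mem_univ j, hj⟩
    have := hpos j hjT
    have := Finset.single_le_sum (fun l _ => Nat.zero_le (Models.mult R X (Γ l))) hjT
    omega

/-- A field of functions on a closed subscheme through a rational point consists of scalars. -/
theorem surjective_global_of_rational {Z : Scheme.{u}} (j : Z ⟶ X.left) [IsClosedImmersion j]
    (hF : IsField Γ(Z, ⊤)) (z : Z)
    (hx : Function.Surjective ((X.left.residue (j z)).hom.comp (Models.stalkHom R X (j z)))) :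
    Function.Surjective (j.appTop.hom.comp (Coh.toGlobal X.hom)) := by
  intro a
  let ρ : Γ(Z, ⊤) →+* Z.residueField z := (Z.residue z).hom.comp (Z.presheaf.germ ⊤ z trivial).hom
  obtain ⟨w, hw⟩ := j.stalkMap_surjective z (Z.presheaf.germ ⊤ z trivial a)
  obtain ⟨r, hr⟩ := hx (X.left.residue (j z) w)
  refine ⟨r, ?_⟩
  letI := hF.toField
  refine ρ.injective ?_
  show Z.residue z (Z.presheaf.germ ⊤ z trivial (j.appTop (Coh.toGlobal X.hom r))) = Z.residue z (Z.presheaf.germ ⊤ z trivial a)
  rw [← hw]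
  have h3 : (j.stalkMap z).hom (Models.stalkHom R X (j z) r) =
      Z.presheaf.germ ⊤ z trivial (j.appTop (Coh.toGlobal X.hom r)) :=
    Scheme.Hom.germ_stalkMap_apply j ⊤ z trivial (Coh.toGlobal X.hom r)
  rw [← h3, ← sub_eq_zero, ← map_sub, ← map_sub]
  refine (IsLocalRing.residue_eq_zero_iff _).2 ((IsLocalRing.mem_maximalIdeal _).2 fun hu => ?_)
  have h1 : X.left.residue (j z) (Models.stalkHom R X (j z) r - w) = 0 := by
    rw [map_sub, sub_eq_zero]; exact hr
  exact (IsLocalRing.mem_maximalIdeal _).1 ((IsLocalRing.residue_eq_zero_iff _).1 h1) (hu.of_map _)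

/-- A component through a rational point has weight one. -/
theorem wdeg_eq_one_of_rational [IsProper X.hom] (Γ : ArSurf.VertComp R X) (c : Γ.curve.left)
    (hx : Function.Surjective ((X.left.residue (Γ.ι c)).hom.comp (Models.stalkHom R X (Γ.ι c)))) :
    Models.wdeg R X Γ = 1 := by
  haveI := isProper_vertComp Γ
  haveI : IsProper Γ.curve.hom := isProper_vertComp Γ
  have hF : IsField Γ(Γ.curve.left, ⊤) := isField_of_universallyClosed (K := ResidueField R) Γ.curve.hom
  letI : Algebra (ResidueField R) Γ(Γ.curve.left, ⊤) :=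
    (Coh.toGlobal (Γ.curve.left ↘ Spec (CommRingCat.of (ResidueField R)))).toAlgebra
  let eH : Coh.HH Γ.curve.left (Coh.structureModule Γ.curve.left) 0 ≃ₗ[ResidueField R] Γ(Γ.curve.left, ⊤) :=
    { (CurveLib.secOf (Coh.structureModule Γ.curve.left)) with
      map_smul' := fun r c => CurveLib.secOf_smul (k := ResidueField R) _ r c }
  rw [Models.wdeg, eH.finrank_eq]
  haveI : Nontrivial Γ(Γ.curve.left, ⊤) := hF.nontrivial
  have hs : Function.Surjective (algebraMap (ResidueField R) Γ(Γ.curve.left, ⊤)) := fun a => by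
    obtain ⟨r, hr⟩ := surjective_global_of_rational Γ.ι hF c hx a
    exact ⟨IsLocalRing.residue R r, (toGlobal_w Γ.w r).symm.trans hr⟩
  let eK : ResidueField R ≃ₗ[ResidueField R] Γ(Γ.curve.left, ⊤) :=
    LinearEquiv.ofBijective (Algebra.linearMap _ _) ⟨(algebraMap (ResidueField R) Γ(Γ.curve.left, ⊤)).injective, hs⟩
  rw [← eK.finrank_eq, Module.finrank_self]

/-- The closed fibre of a model with a rational point. -/
theorem rational_point_consequences {C Y : Scheme.{u}} {f : C ⟶ Spec (CommRingCat.of (FractionRing R))}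
    {p : Y ⟶ Spec (CommRingCat.of R)} (hC : Curve.IsSmoothProperCurve (FractionRing R) C f) (hH0 : IsIso f.appTop)
    (hY : Models.IsRegularProperModel R Y p C f) {n : ℕ} {Γ : Fin n → ArSurf.VertComp R (Over.mk p)}
    (hΓ : Models.IsComponentList R (Over.mk p) Γ)
    (s : Spec (CommRingCat.of (FractionRing R)) ⟶ C) (hs : s ≫ f = 𝟙 _) :
    (∃ (i : Fin n) (x : Y), x ∈ Set.range (Γ i).ι ∧ IsClosed ({x} : Set Y) ∧
        Function.Surjective ((Y.residue x).hom.comp (Models.stalkHom R (Over.mk p) x)) ∧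
        IsRegularLocalRing (Y.presheaf.stalk x ⧸ Ideal.map (Models.stalkHom R (Over.mk p) x) (maximalIdeal R)) ∧
        Models.wdeg R (Over.mk p) (Γ i) = 1 ∧ Models.mult R (Over.mk p) (Γ i) = 1) ∧
      Models.lengthH R (Over.mk p) (ClSub.quotMod (Models.specialFibreIdeal R (Over.mk p))) 0 = 1 ∧
      Models.lengthH R (Over.mk p) (ClSub.quotMod (Models.specialFibreIdeal R (Over.mk p))) 1 =
        Models.curveGenus (FractionRing R) C f := by
  have hV := VSurf.of_model hC hY
  haveI : IsProper (Over.mk p).hom := hV.proper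
  haveI : IsProper p := hY.2.1
  obtain ⟨g, hg⟩ := hY.1.2.2.2
  obtain ⟨σ, ⟨hσ, -⟩, -⟩ := DVRCrit.existsUnique_lift p R (s ≫ g) (𝟙 _)
    (by rw [Category.assoc, hg.w, reassoc_of% hs, Category.comp_id])
  obtain ⟨hres, hregq, ⟨i, ⟨c, hci⟩, -⟩, hm⟩ := hV.section_point hΓ (σ : _ ⟶ (Over.mk p).left) hσ
  have hx : IsClosed ({σ (closedPoint R)} : Set Y) := by
    haveI : IsClosedImmersion (σ ≫ p) := by rw [hσ]; infer_instance
    haveI : IsClosedImmersion σ := IsClosedImmersion.of_comp σ p
    have h1 := σ.isClosedEmbedding.isClosedMap _ (IsLocalRing.isClosed_singleton_closedPoint R)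
    rwa [Set.image_singleton] at h1
  have hmi := hm i ⟨c, hci⟩
  refine ⟨⟨i, σ (closedPoint R), ⟨c, hci⟩, hx, hres, hregq, wdeg_eq_one_of_rational (Γ i) c (hci ▸ hres), hmi⟩, ?_⟩
  obtain ⟨N, a, -, hal, -, hF⟩ := exists_field_chain hC hH0 hY hΓ
  have hd : Models.multGcd R (Over.mk p) Γ = 1 :=
    Nat.eq_one_of_dvd_one (hmi ▸ Finset.gcd_dvd (Finset.mem_univ i))
  obtain ⟨-, hfib⟩ := hV.toFibreGood.fibre_eq_prod hΓ
  have hF' : FieldFin (X := Over.mk p) (Models.specialFibreIdeal R (Over.mk p)) := by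
    have h1 := hF (Fin.last N)
    rw [hal] at h1
    simp only [hd, Nat.div_one] at h1
    rw [show Models.specialFibreIdeal R (Over.mk p) = ∏ j, (Γ j).ι.ker ^ Models.mult R (Over.mk p) (Γ j) from hfib]
    exact h1
  let J := Models.specialFibreIdeal R (Over.mk p)
  have hmem : σ (closedPoint R) ∈ Set.range J.subschemeι := by
    rw [Scheme.IdealSheafData.range_subschemeι]
    exact (FibreGood.mem_fibre (X := Over.mk p)).2
      ((show (σ ≫ p) (closedPoint R) = closedPoint R by rw [hσ]; rfl))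
  obtain ⟨z, hz⟩ := hmem
  have hsurj := surjective_global_of_rational (X := Over.mk p) J.subschemeι hF'.1 z (hz ▸ hres)
  have hlen : Module.length R (Coh.HH (Over.mk p).left (ClSub.quotMod J) 0) = 1 := by
    let e := CurveLib.secOf (ClSub.quotMod J)
    letI := hF'.1.toField
    refine Module.length_eq_one_iff.2 ?_
    haveI : Nontrivial (Coh.HH (Over.mk p).left (ClSub.quotMod J) 0) := e.toEquiv.nontrivial (β := Γ(J.subscheme, ⊤))
    refine isSimpleModule_iff_toSpanSingleton_surjective.2 ⟨inferInstance, fun m hm b => ?_⟩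
    have hm0 : e m ≠ (0 : Γ(J.subscheme, ⊤)) := fun h0 => hm (e.map_eq_zero_iff.1 h0)
    obtain ⟨r, hr⟩ := hsurj ((show Γ(J.subscheme, ⊤) from e b) * (show Γ(J.subscheme, ⊤) from e m)⁻¹)
    refine ⟨r, e.injective ?_⟩
    rw [LinearMap.toSpanSingleton_apply]
    refine (ModelDual.secOf_smulAb (ClSub.quotMod J) _ _).trans ?_
    exact (congrArg (· * (show Γ(J.subscheme, ⊤) from e m)) hr).trans (inv_mul_cancel_right₀ hm0 _)
  have h0 : Models.lengthH R (Over.mk p) (ClSub.quotMod J) 0 = 1 := by
    rw [Models.lengthH, hlen]; rfl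
  refine ⟨h0, ?_⟩
  have h2 := chiLen_fibre hC hH0 hY
  have h3 : (Models.lengthH R (Over.mk p) (ClSub.quotMod J) 0 : ℤ) -
      (Models.lengthH R (Over.mk p) (ClSub.quotMod J) 1 : ℤ) = 1 - (Models.curveGenus (FractionRing R) C f : ℤ) := h2
  rw [h0] at h3
  show Models.lengthH R (Over.mk p) (ClSub.quotMod J) 1 = _
  omega

end Groth.Agent.CastLib
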