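import Groth.Agent.H1ZeroLib.Relative
import Groth.Agent.FormalAmpleLib.Generated
import Groth.Agent.AmpleLib.RelLocal
import Groth.Agent.CastLib.HorizDiv

/-!
# Lifting trivializations from a divisor
-/

set_option autoImplicit false
set_option backward.isDefEq.respectTransparency false
set_option backward.isDefEq.respectTransparency.types false
set_option linter.style.haveILetI false
set_option maxHeartbeats 1000000

universe u

open CategoryTheory CategoryTheory.Limits AlgebraicGeometry TopologicalSpace Opposite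
open Groth.Agent.PullbackMod Groth.Agent.DCohLib Groth.Agent.CurveLib
open scoped TensorProduct

noncomputable section

namespace Groth.Agent.CastLib.ArtinSec

open Groth.Agent.H1ZeroLib

variable {X : Scheme.{u}}

/-- A trivialization on a divisor lifts to a section when `H¹` of the twisted down module vanishes. -/
theorem exists_lift_generating [IsLocallyNoetherian X] (J : X.IdealSheafData) {L : X.Modules}
    (hL : PicF.IsInvertible L) (hH1 : Subsingleton (Coh.HH X (tmod (ClSub.idealMod J) L) 1))
    (e : (Scheme.Modules.pullback J.subschemeι).obj L ≅ Coh.structureModule J.subscheme) :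
    ∃ τ : Coh.structureModule X ⟶ L, ∀ y ∈ J.support, y ∈ CohB1.genLocus L τ := by
  let M₀ : X.Modules := tmod (Coh.structureModule X) L
  let q : M₀ ⟶ LJ J L := tmap (ClSub.toSubscheme J) L
  let f : tmod (ClSub.idealMod J) L ⟶ M₀ := tmap (ClSub.idealModι J) L
  have hw : ∀ (x : X) (g : L.presheaf.stalk x) (c : X.presheaf.stalk x),
      stalkLin q x (c • stalkTensor x (Coh.structureModule X) L (ParaFLib.oneG x ⊗ₜ[X.presheaf.stalk x] g)) =
        tq J x g c := fun x g c => by
    rw [← map_smul (stalkTensor x (Coh.structureModule X) L), TensorProduct.smul_tmul', stalkTensor_natural_left,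
      LinearMap.rTensor_tmul]
    rfl
  have hf : ∀ (x : X) (m : (ClSub.idealMod J).presheaf.stalk x) (g : L.presheaf.stalk x),
      stalkLin f x (stalkTensor x (ClSub.idealMod J) L (m ⊗ₜ[X.presheaf.stalk x] g)) =
        stalkTensor x (Coh.structureModule X) L (stalkLin (ClSub.idealModι J) x m ⊗ₜ[X.presheaf.stalk x] g) :=
    fun x m g => by rw [stalkTensor_natural_left, LinearMap.rTensor_tmul]
  have hqs : ∀ x, Function.Surjective (stalkLin q x) := fun x z => by
    obtain ⟨g, hg⟩ := ParaFLib.exists_stalk_gen hL x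
    obtain ⟨c, rfl⟩ := tq_surjective hg J z
    exact ⟨_, hw x g c⟩
  have hgen : ∀ (x : X) (g : L.presheaf.stalk x), (Function.Bijective fun r : X.presheaf.stalk x => r • g) →
      ∀ v, ∃ m, v = stalkTensor x (ClSub.idealMod J) L (m ⊗ₜ[X.presheaf.stalk x] g) := fun x g hg v => by
    obtain ⟨v, rfl⟩ := (stalkTensor x (ClSub.idealMod J) L).surjective v
    induction v with
    | zero => exact ⟨0, by rw [TensorProduct.zero_tmul]⟩
    | tmul m l =>
      obtain ⟨b, rfl⟩ := hg.2 l
      exact ⟨b • m, by rw [TensorProduct.smul_tmul]⟩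
    | add a b ha hb =>
      obtain ⟨a', ha'⟩ := ha
      obtain ⟨b', hb'⟩ := hb
      exact ⟨a' + b', by rw [TensorProduct.add_tmul, map_add, map_add, ← ha', ← hb']⟩
  have hfq : f ≫ q = 0 := by
    refine hom_ext_stalk fun x => LinearMap.ext fun v => ?_
    obtain ⟨g, hg⟩ := ParaFLib.exists_stalk_gen hL x
    obtain ⟨m, rfl⟩ := hgen x g hg v
    rw [DevLib.stalkLin_zero, LinearMap.zero_apply, stalkLin_comp, LinearMap.comp_apply, hf]
    obtain ⟨c, hc⟩ := (ParaFLib.bijective_oneG x).2 (stalkLin (ClSub.idealModι J) x m)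
    rw [← hc, ← TensorProduct.smul_tmul', map_smul, hw, tq_eq_zero_iff hg]
    exact (HilbObsLib.mem_range_idealModι J x c).1 ⟨m, hc.symm⟩
  haveI : IsIso (kernel.lift q f hfq) := by
    refine (isIso_iff_stalk _).2 fun x => ?_
    have hcomp : ∀ v, stalkLin (kernel.ι q) x (stalkLin (kernel.lift q f hfq) x v) = stalkLin f x v := fun v => by
      rw [← LinearMap.comp_apply, ← stalkLin_comp, kernel.lift_ι]
    obtain ⟨g, hg⟩ := ParaFLib.exists_stalk_gen hL x
    have hb := AmpleLib.bijective_stalkTensor (ParaFLib.bijective_oneG x) hg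
    refine ⟨(injective_iff_map_eq_zero _).2 fun v hv => ?_, fun z => ?_⟩
    · obtain ⟨m, rfl⟩ := hgen x g hg v
      have h1 := hcomp (stalkTensor x (ClSub.idealMod J) L (m ⊗ₜ[X.presheaf.stalk x] g))
      rw [hv, map_zero, hf] at h1
      obtain ⟨c, hc⟩ := (ParaFLib.bijective_oneG x).2 (stalkLin (ClSub.idealModι J) x m)
      dsimp only at hc
      rw [← hc, ← TensorProduct.smul_tmul', map_smul] at h1
      have hc0 : c = 0 := hb.1 (h1.symm.trans (zero_smul _ _).symm)
      rw [hc0, zero_smul] at hc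
      have hm : m = 0 := (mono_iff_stalk (ClSub.idealModι J)).1
        (show Mono (kernel.ι (ClSub.toSubscheme J)) by infer_instance) x (hc.symm.trans (map_zero _).symm)
      rw [hm, TensorProduct.zero_tmul, map_zero]
    · obtain ⟨c, hc⟩ := hb.2 (stalkLin (kernel.ι q) x z)
      dsimp only at hc
      have h0 : stalkLin q x (stalkLin (kernel.ι q) x z) = 0 := HilbObsLib.stalk_kernel_ι_comp q x z
      rw [← hc, hw, tq_eq_zero_iff hg] at h0
      obtain ⟨m, hm⟩ := (HilbObsLib.mem_range_idealModι J x c).2 h0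
      refine ⟨stalkTensor x (ClSub.idealMod J) L (m ⊗ₜ[X.presheaf.stalk x] g),
        (mono_iff_stalk (kernel.ι q)).1 inferInstance x ?_⟩
      rw [hcomp, hf, hm, ← TensorProduct.smul_tmul', map_smul, ← hc]
  have hK : Subsingleton (Coh.HH X (kerSeq q).X₁ 1) :=
    CurveLib.subsingleton_HH_iso (asIso (kernel.lift q f hfq)) 1 hH1
  have hsurj := FormalAmple.surjective_g (kerSeq_shortExact q hqs) hK
  let Z := J.subscheme
  let M := (Scheme.Modules.pullback J.subschemeι).obj L
  haveI : Coh.IsQCoh (Coh.structureModule Z) := InvExt.isQCoh_of_isInvertible ParaFLib.isInvertible_structureModule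
  let θ : LJ J L ≅ (Scheme.Modules.pushforward J.subschemeι).obj M :=
    projIso J.subschemeι (Coh.structureModule Z) L ≪≫ (Scheme.Modules.pushforward J.subschemeι).mapIso (tmodUnit M)
  let P := (Scheme.Modules.pushforward J.subschemeι).obj M
  let t : Γ(LJ J L, ⊤) := θ.inv.app ⊤ (show Γ(P, ⊤) from AmpleLib.sec (L := M) e.inv)
  obtain ⟨t', ht'⟩ := hsurj t
  let u := AmpleLib.unitL L
  refine ⟨DCohLib.secHom L (u.hom.app ⊤ t'), fun y hy => (AmpleLib.mem_genLocus_iff hL).2 ?_⟩
  obtain ⟨w, rfl⟩ : ∃ w, J.subschemeι w = y := by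
    rw [← Set.mem_range, Scheme.IdealSheafData.range_subschemeι]; exact hy
  have hwM : w ∈ CohB1.genLocus M e.inv := by
    rw [show e.inv = 𝟙 (Coh.structureModule Z) ≫ e.symm.hom from (Category.id_comp _).symm,
      AmpleLib.genLocus_comp_iso, AmpleLib.genLocus_id]
    trivial
  rw [AmpleLib.mem_genLocus_iff (AmpleLib.isInvertible_pullback _ hL)] at hwM
  rw [AmpleLib.sec_secHom]
  obtain ⟨g, hg⟩ := ParaFLib.exists_stalk_gen hL (J.subschemeι w)
  have hb := AmpleLib.bijective_stalkTensor (ParaFLib.bijective_oneG (J.subschemeι w)) hg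
  obtain ⟨c, hc⟩ := hb.2 (M₀.presheaf.germ ⊤ (J.subschemeι w) trivial t')
  dsimp only at hc
  have hcu : IsUnit c := by
    by_contra hcm
    have hq : stalkLin q _ (M₀.presheaf.germ ⊤ (J.subschemeι w) trivial t') =
        (LJ J L).presheaf.germ ⊤ (J.subschemeι w) trivial t :=
      (stalkLin_germ q (U := ⊤) (J.subschemeι w) trivial t').trans (congrArg _ ht')
    rw [← hc, hw] at hq
    obtain ⟨z, hz⟩ := ((isIso_iff_stalk θ.hom).1 inferInstance (J.subschemeι w)).2
      (stalkLin θ.hom _ (tq J (J.subschemeι w) g 1))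
    have hgen1 : ∀ z : P.presheaf.stalk (J.subschemeι w), ∃ r, z = r • P.presheaf.germ ⊤ (J.subschemeι w) trivial
        (show Γ(P, ⊤) from AmpleLib.sec (L := M) e.inv) := fun z => by
      obtain ⟨r, hr⟩ := hwM.2 (pushStalk J.subschemeι M w z)
      obtain ⟨r, rfl⟩ := J.subschemeι.stalkMap_surjective w r
      refine ⟨r, (bijective_pushStalk J.subschemeι M w).1 ?_⟩
      rw [pushStalk_smul]
      exact hr.symm.trans (congrArg (_ • ·) (pushStalk_germ J.subschemeι M w (W := ⊤) trivial _).symm)
    obtain ⟨r, hr⟩ := hgen1 (stalkLin θ.hom _ (tq J (J.subschemeι w) g 1))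
    have h1 : tq J (J.subschemeι w) g 1 = r • tq J (J.subschemeι w) g c := by
      refine ((isIso_iff_stalk θ.hom).1 inferInstance (J.subschemeι w)).1 ?_
      rw [hr, map_smul, hq]
      refine congrArg (r • ·) ?_
      rw [stalkLin_germ]
      refine congrArg _ ?_
      show _ = θ.hom.app ⊤ (θ.inv.app ⊤ _)
      rw [← ConcreteCategory.comp_apply, ← Scheme.Modules.Hom.comp_app, θ.inv_hom_id]
      rfl
    rw [tq_smul] at h1
    have h2 : tq J (J.subschemeι w) g (1 + -(r * c)) = 0 := by
      rw [tq_add, h1, ← tq_add, add_neg_cancel, tq_eq_zero_iff hg]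
      exact zero_mem _
    rw [tq_eq_zero_iff hg] at h2
    have h3 := IdealStalkLib.stalkIdeal_le_maximal J hy h2
    refine (IsLocalRing.maximalIdeal.isMaximal (X.presheaf.stalk (J.subschemeι w))).ne_top
      ((Ideal.eq_top_iff_one _).2 ?_)
    simpa using add_mem h3 (Ideal.mul_mem_left _ r ((IsLocalRing.mem_maximalIdeal _).2 hcm))
  have hu : stalkLin u.hom (J.subschemeι w) (M₀.presheaf.germ ⊤ (J.subschemeι w) trivial t') =
      L.presheaf.germ ⊤ (J.subschemeι w) trivial (u.hom.app ⊤ t') := stalkLin_germ u.hom (U := ⊤) _ trivial t'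
  rw [← hu, ← hc, map_smul]
  refine (AmpleLib.bijective_smul_iff ?_ c).2 hcu
  have hub := (isIso_iff_stalk u.hom).1 inferInstance (J.subschemeι w)
  have hcomp := hub.comp hb
  convert hcomp using 1
  funext r
  exact (map_smul _ r _).symm

/-- The structure sheaf is not ample when the functions form a field and there are two points. -/
theorem not_isAmple_structureModule {E : Scheme.{u}} [CompactSpace E] (hE : IsField Γ(E, ⊤)) {a b : E}
    (hab : a ≠ b) : ¬ CohB1.IsAmple (Coh.structureModule E) := fun h => by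
  haveI := AmpleLib.isQuasiAffine_iff.2 h
  letI := hE.toField
  exact hab (E.toSpecΓ.isOpenEmbedding.injective (Subsingleton.elim (α := PrimeSpectrum Γ(E, ⊤)) _ _))

variable {R : Type u} [CommRing R] [IsDomain R] [IsDiscreteValuationRing R]

/-- The generic fibre of a fibred surface is not a point. -/
theorem exists_generic_ne {X : Over (Spec (CommRingCat.of R))} [IsIntegral X.left]
    (hdim : topologicalKrullDim X.left = 2) [Flat X.hom] [IsProper X.hom] :
    ∃ w : X.left, w ≠ genericPoint X.left ∧ X.hom w ≠ IsLocalRing.closedPoint R := by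
  by_contra hall
  push Not at hall
  haveI : IsLocallyNoetherian X.left := LocallyOfFiniteType.isLocallyNoetherian X.hom
  haveI : CompactSpace X.left := QuasiCompact.compactSpace_of_compactSpace X.hom
  have hgen : (X.hom (genericPoint X.left)).asIdeal = ⊥ := by
    obtain ⟨z, hz, hzη⟩ := Flat.generalizingMap X.hom (show (⟨⊥, Ideal.isPrime_bot⟩ : PrimeSpectrum R) ⤳
      X.hom (genericPoint X.left) from (PrimeSpectrum.le_iff_specializes _ _).1 bot_le)
    obtain rfl : z = genericPoint X.left := (hz.antisymm (genericPoint_specializes z)).eq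
    rw [hzη]
  obtain ⟨l, hl⟩ : ∃ l : LTSeries X.left, l.length = 2 := by
    refine Order.le_krullDim_iff.1 ?_
    rw [← ASp.topologicalKrullDim_eq_krullDim]
    exact_mod_cast hdim.ge
  obtain ⟨π, hπ⟩ := IsDiscreteValuationRing.exists_irreducible R
  let a := l ⟨0, by omega⟩
  let b := l ⟨1, by omega⟩
  let c := l ⟨2, by omega⟩
  have hab : a < b := l.strictMono (Fin.mk_lt_mk.2 (by omega))
  have hbc : b < c := l.strictMono (Fin.mk_lt_mk.2 (by omega))
  obtain ⟨y, hy, hc⟩ := (isClosed_closure (s := ({a} : Set X.left))).exists_closed_singleton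
    ⟨a, subset_closure rfl⟩
  have hya : a ⤳ y := specializes_iff_mem_closure.2 hy
  have hby : b ⤳ y := (Scheme.le_iff_specializes.1 hab.le).trans hya
  have hbη : b ≠ genericPoint X.left := fun h =>
    hbc.not_ge (h ▸ Scheme.le_iff_specializes.2 (genericPoint_specializes c))
  let ψ : R →+* X.left.presheaf.stalk y := (Spec.preimage (X.left.fromSpecStalk y ≫ X.hom)).hom
  have hψ : ∀ P : PrimeSpectrum (X.left.presheaf.stalk y),
      (X.hom (X.left.fromSpecStalk y P)).asIdeal = P.asIdeal.comap ψ := fun P => by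
    have e := congrArg (fun g : Spec (X.left.presheaf.stalk y) ⟶ Spec (CommRingCat.of R) => g P)
      (Spec.map_preimage (X.left.fromSpecStalk y ≫ X.hom))
    exact congrArg PrimeSpectrum.asIdeal e.symm
  have hspec : ∀ P : PrimeSpectrum (X.left.presheaf.stalk y),
      X.hom (X.left.fromSpecStalk y P) = IsLocalRing.closedPoint R → ψ π ∈ P.asIdeal := fun P h => by
    have h1 := hψ P
    rw [h] at h1
    exact h1.le ((IsLocalRing.mem_maximalIdeal _).2 hπ.not_isUnit)
  obtain ⟨P, hP⟩ := (Scheme.range_fromSpecStalk (x := y)).ge hby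
  obtain ⟨Q, hQ⟩ := (Scheme.range_fromSpecStalk (x := y)).ge (genericPoint_specializes y)
  have hπy : ψ π ∉ (⊥ : Ideal (X.left.presheaf.stalk y)) := fun h => hπ.ne_zero (by
    have h2 : π ∈ Q.asIdeal.comap ψ := (bot_le : (⊥ : Ideal (X.left.presheaf.stalk y)) ≤ Q.asIdeal) h
    rw [← hψ, hQ, hgen] at h2
    exact Ideal.mem_bot.1 h2)
  have hmax : ∀ T : Ideal (X.left.presheaf.stalk y), T.IsPrime → ⊥ < T → ψ π ∈ T := fun T hT hlt => by
    refine hspec ⟨T, hT⟩ (hall _ fun he => ?_)
    have hs : X.left.fromSpecStalk y ⟨T, hT⟩ ⤳ X.left.fromSpecStalk y ⟨⊥, Ideal.isPrime_bot⟩ := by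
      rw [he]; exact genericPoint_specializes _
    exact hlt.not_ge ((PrimeSpectrum.le_iff_specializes _ _).2
      ((X.left.fromSpecStalk y).isEmbedding.isInducing.specializes_iff.1 hs))
  have hPm := Groth.Agent.S7890.h9_eq_max (ψ π) (⊥ : Ideal (X.left.presheaf.stalk y)) hπy hmax P.asIdeal
    bot_le (hspec P (hP ▸ hall b hbη))
  have hby' : b = y := by
    rw [← hP, show P = IsLocalRing.closedPoint (X.left.presheaf.stalk y) from PrimeSpectrum.ext hPm,
      Scheme.fromSpecStalk_closedPoint]
  exact hab.not_ge (hby' ▸ Scheme.le_iff_specializes.2 hya)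

end Groth.Agent.CastLib.ArtinSec
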