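import Groth.Agent.CastLib.CurveRes
import Groth.Agent.DivisorialLib.Basic
import Groth.Agent.S10920

/-!
# Embedded resolution of curves: strict transforms
-/

set_option autoImplicit false
set_option backward.isDefEq.respectTransparency false
set_option linter.style.haveILetI false

universe u

open CategoryTheory CategoryTheory.Limits AlgebraicGeometry TopologicalSpace
open Groth.Agent.TwistShriek Groth.Agent.TwistShriek.PointBlow Groth.Agent.SurfPtBlow

noncomputable section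

namespace Groth.Agent.CastLib.CurveEmb

open CurveRes

theorem stalkIdeal_point {Y : Scheme.{u}} {y : Y} (hy : IsClosed ({y} : Set Y)) :
    IntMult.stalkIdeal (pointIdeal hy) y = IsLocalRing.maximalIdeal (Y.presheaf.stalk y) := by
  obtain ⟨V, hV, hyV, -⟩ := exists_isAffineOpen_mem_and_subset (X := Y) (U := ⊤) (x := y) trivial
  rw [IdealStalkLib.stalkIdeal_eq (pointIdeal hy) ⟨V, hV⟩ y hyV,
    CurveP1Lib.map_vanishingIdeal_singleton hy ⟨V, hV⟩ hyV]

/-- The ideal of a point of a closed subscheme is the trace of the ideal of the point. -/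
theorem comap_pointIdeal {X Y : Scheme.{u}}
    (k : Y ⟶ X) [IsClosedImmersion k] {y : Y} (hy : IsClosed ({y} : Set Y)) (hky : IsClosed ({k y} : Set X)) :
    (pointIdeal hky).comap k = pointIdeal hy := by
  have hsupp : ∀ z : Y, (z ∈ ((pointIdeal hky).comap k).support ↔ z = y) ∧ (z ∈ (pointIdeal hy).support ↔ z = y) := by
    intro z
    constructor
    · rw [← SetLike.mem_coe, Scheme.IdealSheafData.support_comap, Closeds.coe_preimage,
        Scheme.IdealSheafData.coe_support_vanishingIdeal]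
      exact ⟨fun h => k.isEmbedding.injective h, fun h => h ▸ rfl⟩
    · rw [← SetLike.mem_coe, Scheme.IdealSheafData.coe_support_vanishingIdeal]
      exact Iff.rfl
  have h : ∀ z : Y, IntMult.stalkIdeal ((pointIdeal hky).comap k) z = IntMult.stalkIdeal (pointIdeal hy) z := by
    intro z
    by_cases hz : z = y
    · subst hz
      rw [IdealStalkLib.stalkIdeal_comap, stalkIdeal_point hky, stalkIdeal_point hy]
      haveI : IsLocalHom (k.stalkMap z).hom := inferInstance
      exact IsLocalRing.map_maximalIdeal_of_surjective (k.stalkMap z).hom (k.stalkMap_surjective z)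
    · rw [IdealMulLib.stalkIdeal_eq_top _ fun h => hz ((hsupp z).1.1 h),
        IdealMulLib.stalkIdeal_eq_top _ fun h => hz ((hsupp z).2.1 h)]
  exact le_antisymm (DivisorialLib.le_of_stalk fun z => (h z).le) (DivisorialLib.le_of_stalk fun z => (h z).ge)

/-- Birational maps compose. -/
theorem birat_comp {A B C : Scheme.{u}} [IsIntegral A] [IsIntegral B] [IsIntegral C] (f : A ⟶ B) (g : B ⟶ C) [IsProper g]
    (hf : ∃ V : B.Opens, (V : Set B).Nonempty ∧ IsIso (f ∣_ V))
    (hg : ∃ V : C.Opens, (V : Set C).Nonempty ∧ IsIso (g ∣_ V)) :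
    ∃ V : C.Opens, (V : Set C).Nonempty ∧ IsIso ((f ≫ g) ∣_ V) := by
  obtain ⟨V', ⟨v', hv'⟩, hiso'⟩ := hf
  obtain ⟨V, ⟨v, hv⟩, hiso⟩ := hg
  obtain ⟨hgen, -⟩ := BirQFLib.birational_of_isIso_restrict g V ⟨v, hv⟩ hiso
  let W : C.Opens := V ⊓ ⟨(g '' (V' : Set B)ᶜ)ᶜ, (g.isClosedMap _ V'.2.isClosed_compl).isOpen_compl⟩
  have hgV : genericPoint C ∈ V := (genericPoint_specializes v).mem_open V.2 hv
  have hgW : genericPoint C ∈ W := by
    refine ⟨hgV, ?_⟩
    rintro ⟨b, hb, hb'⟩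
    apply hb
    have ha : b ∈ g ⁻¹ᵁ V := by show g b ∈ V; rw [hb']; exact hgV
    have hc : genericPoint B ∈ g ⁻¹ᵁ V := by show g _ ∈ V; rw [hgen]; exact hgV
    have h2 : (g ∣_ V) ⟨_, ha⟩ = (g ∣_ V) ⟨_, hc⟩ := by
      apply Subtype.ext
      rw [morphismRestrict_base]
      exact hb'.trans hgen.symm
    haveI := hiso
    have h3 := congrArg Subtype.val ((g ∣_ V).homeomorph.injective h2)
    rw [show b = genericPoint B from h3]
    exact (genericPoint_specializes v').mem_open V'.2 hv'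
  refine ⟨W, ⟨_, hgW⟩, ?_⟩
  haveI := hiso
  haveI := hiso'
  haveI : IsIso (g ∣_ W) := BMCohLib.isIso_restrict_le g inf_le_left
  haveI : IsIso (f ∣_ g ⁻¹ᵁ W) := BMCohLib.isIso_restrict_le f (fun b hb => by
    by_contra h
    exact hb.2 ⟨b, h, rfl⟩ : g ⁻¹ᵁ W ≤ V')
  rw [morphismRestrict_comp]
  infer_instance

/-- A blow-up of the ambient scheme at a point of a curve, and the strict transform. -/
theorem exists_step {X Y N : Scheme.{u}} [AlgebraicGeometry.IsNoetherian X] [IsIntegral Y] [AlgebraicGeometry.IsNoetherian Y]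
    [IsIntegral N] [AlgebraicGeometry.IsNoetherian N] (hreg : ∀ x : N, IsRegularLocalRing (N.presheaf.stalk x))
    (hd : topologicalKrullDim N ≤ 1) (k : Y ⟶ X) [IsClosedImmersion k] (h : N ⟶ Y) [IsDominant h] {y : Y}
    (hy : IsClosed ({y} : Set Y)) (hne : y ≠ genericPoint Y) :
    ∃ (hky : IsClosed ({k y} : Set X)) (X' : Scheme.{u}) (_ : AlgebraicGeometry.IsNoetherian X') (b : X' ⟶ X) (_ : BlowUp.IsBlowUp b (pointIdeal hky))
      (Y' : Scheme.{u}) (b' : Y' ⟶ Y) (_ : BlowUp.IsBlowUp b' (pointIdeal hy)) (_ : IsProper b') (_ : IsIntegral Y')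
      (k' : Y' ⟶ X') (h' : N ⟶ Y'), IsClosedImmersion k' ∧ k' ≫ b = b' ≫ k ∧ IsDominant h' ∧ h' ≫ b' = h ∧
        ∃ V : Y.Opens, (V : Set Y).Nonempty ∧ IsIso (b' ∣_ V) := by
  have hky : IsClosed ({k y} : Set X) := by
    rw [← Set.image_singleton]
    exact k.isClosedEmbedding.isClosedMap _ hy
  obtain ⟨X', b, hb⟩ := S8859.result X (pointIdeal hky)
  obtain ⟨Y', b', hb'⟩ := S8859.result Y (pointIdeal hy)
  obtain ⟨hp, hY', h', hh'd, hh', hV⟩ := exists_lift hreg hd h hy hne b' hb'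
  have hc : BlowUp.IsEffCartierIdeal ((pointIdeal hky).comap (b' ≫ k)) := by
    rw [Scheme.IdealSheafData.comap_comp, comap_pointIdeal k hy hky]
    exact hb'.1
  obtain ⟨k', hk', -⟩ := hb.2 Y' (b' ≫ k) hc
  have hk'' : IsClosedImmersion k' :=
    S10920.result (pointIdeal hky) k b hb b' (by rw [comap_pointIdeal k hy hky]; exact hb') k' hk'
  exact ⟨hky, X', isNoetherian_blowUp hb, b, hb, Y', b', hb', hp, hY', k', h', hk'', hk', hh'd, hh', hV⟩

/-- Embedded resolution of a curve with finite normalization. -/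
theorem exists_embedded {X Y N : Scheme.{u}} [AlgebraicGeometry.IsNoetherian X] [IsIntegral Y] [AlgebraicGeometry.IsNoetherian Y]
    (hdim : topologicalKrullDim Y ≤ 1) (k : Y ⟶ X) [IsClosedImmersion k] (ν : N ⟶ Y) [IsFinite ν] [IsIntegral N]
    [IsDominant ν] (hN : ∀ x : N, IsRegularLocalRing (N.presheaf.stalk x))
    (Ok : ∀ {A : Scheme.{u}}, (A ⟶ X) → Prop) (hOk : Ok (𝟙 X))
    (hOkStep : ∀ {A A' C : Scheme.{u}} (g : A ⟶ X) (k₁ : C ⟶ A) (b : A' ⟶ A) [IsClosedImmersion k₁] [IsIntegral C]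
      (y : C), y ≠ genericPoint C → ∀ (hky : IsClosed ({k₁ y} : Set A)), BlowUp.IsBlowUp b (pointIdeal hky) →
        g (k₁ (genericPoint C)) = k (genericPoint Y) → Ok g → Ok (b ≫ g)) :
    ∃ (X' : Scheme.{u}) (_ : AlgebraicGeometry.IsNoetherian X') (g : X' ⟶ X), Resolve.IsPtBlowupSeq g ∧ Ok g ∧
      ∃ (Z : Scheme.{u}) (k' : Z ⟶ X') (r : Z ⟶ Y), IsClosedImmersion k' ∧ IsIntegral Z ∧ IsFinite r ∧
        k' ≫ g = r ≫ k ∧ (∃ V : Y.Opens, (V : Set Y).Nonempty ∧ IsIso (r ∣_ V)) ∧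
        (∃ h : N ⟶ Z, IsDominant h ∧ h ≫ r = ν) ∧
        ∀ z : Z, IsRegularLocalRing (Z.presheaf.stalk z) := by
  haveI : IsLocallyNoetherian N := LocallyOfFiniteType.isLocallyNoetherian ν
  haveI : CompactSpace N := QuasiCompact.compactSpace_of_compactSpace ν
  haveI : AlgebraicGeometry.IsNoetherian N := {}
  have hdN : topologicalKrullDim N ≤ 1 := (S9683.result ν).1.trans hdim
  refine stage_induction ν
    (fun {Y'} r => ∀ (X' : Scheme.{u}) (_ : AlgebraicGeometry.IsNoetherian X') (g : X' ⟶ X) (k' : Y' ⟶ X'),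
      Resolve.IsPtBlowupSeq g → Ok g → IsClosedImmersion k' → k' ≫ g = r ≫ k →
      (∃ V : Y.Opens, (V : Set Y).Nonempty ∧ IsIso (r ∣_ V)) →
      ∃ (X' : Scheme.{u}) (_ : AlgebraicGeometry.IsNoetherian X') (g : X' ⟶ X), Resolve.IsPtBlowupSeq g ∧ Ok g ∧
        ∃ (Z : Scheme.{u}) (k' : Z ⟶ X') (r : Z ⟶ Y), IsClosedImmersion k' ∧ IsIntegral Z ∧ IsFinite r ∧
          k' ≫ g = r ≫ k ∧ (∃ V : Y.Opens, (V : Set Y).Nonempty ∧ IsIso (r ∣_ V)) ∧
          (∃ h : N ⟶ Z, IsDominant h ∧ h ≫ r = ν) ∧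
          ∀ z : Z, IsRegularLocalRing (Z.presheaf.stalk z))
    (fun {Y'} r h _ _ _ hr ih => ?_) (Y' := Y) (𝟙 Y) ν (Category.comp_id ν) X ‹_› (𝟙 X) k
      (Resolve.IsPtBlowupSeq.iso (Iso.refl X)) hOk ‹_› (by simp) ⟨⊤, ⟨genericPoint Y, trivial⟩, inferInstance⟩
  intro X' hX' g k' hseq hok hk' hkg hbir
  haveI := hX'
  haveI := hk'
  by_cases hreg : ∀ y : Y', IsRegularLocalRing (Y'.presheaf.stalk y)
  · exact ⟨X', hX', g, hseq, hok, Y', k', r, hk', inferInstance, inferInstance, hkg, hbir, ⟨h, inferInstance, hr⟩, hreg⟩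
  push Not at hreg
  obtain ⟨y, hy⟩ := hreg
  haveI : IsLocallyNoetherian Y' := LocallyOfFiniteType.isLocallyNoetherian r
  haveI : CompactSpace Y' := QuasiCompact.compactSpace_of_compactSpace r
  haveI : AlgebraicGeometry.IsNoetherian Y' := {}
  have hdY' : topologicalKrullDim Y' ≤ 1 := (S9683.result r).1.trans hdim
  have hne : y ≠ genericPoint Y' := by
    rintro rfl
    apply hy
    letI : Field (Y'.presheaf.stalk (genericPoint Y')) := inferInstanceAs (Field Y'.functionField)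
    infer_instance
  have hyc : IsClosed ({y} : Set Y') :=
    H6CurveCorr.isClosed_singleton hdY' (fun x => genericPoint_specializes x) hne
  obtain ⟨hky, X'', hX'', b, hb, Y'', b', hb', _, _, k'', h', hk'', hkb, hh'd, hh', hVb⟩ :=
    exists_step hN hdN k' h hyc hne
  haveI := hh'd
  refine ih b' h' hh' (not_isIso_blowUp hyc hy b' hb') X'' hX'' (b ≫ g) k''
    (Resolve.IsPtBlowupSeq.step b g (k' y) hky hb hseq) (hOkStep g k' b y hne hky hb (by
      obtain ⟨V, hV, hiso⟩ := hbir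
      obtain ⟨hgen, -⟩ := BirQFLib.birational_of_isIso_restrict r V hV hiso
      rw [← Scheme.Hom.comp_apply, hkg, Scheme.Hom.comp_apply, hgen]) hok) hk'' ?_
    (birat_comp b' r hVb hbir)
  rw [← Category.assoc, hkb, Category.assoc, hkg, ← Category.assoc]

end Groth.Agent.CastLib.CurveEmb

end
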