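import Groth.Agent.CastLib.Twist

/-!
# Isomorphisms of projective lines respect `O(1)`
-/

set_option autoImplicit false
set_option backward.isDefEq.respectTransparency false
set_option linter.style.haveILetI false
set_option maxHeartbeats 1000000

universe u

open CategoryTheory CategoryTheory.Limits AlgebraicGeometry TopologicalSpace
open Groth.Agent.IntLib (mk pullCls)
open Groth.Agent.AmpleLib

noncomputable section

namespace Groth.Agent.CastLib

open Groth.Agent.SurfPtBlow

variable {k κ : Type u} [Field k] [Field κ]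

/-- Pull-back along an isomorphism loses nothing. -/
theorem pull_back_iso {X Y : Scheme.{u}} (u : X ≅ Y) (M : Y.Modules) :
    Nonempty ((Scheme.Modules.pullback u.inv).obj ((Scheme.Modules.pullback u.hom).obj M) ≅ M) :=
  ⟨(Scheme.Modules.pullbackComp u.inv u.hom).app M ≪≫
    eqToIso (congrArg (fun f => (Scheme.Modules.pullback f).obj M) u.inv_hom_id) ≪≫
      (Scheme.Modules.pullbackId Y).app M⟩

/-- The inverse image of `O(1)` has positive degree. -/
theorem one_le_degOn_twist (u : CohB1.ProjSpace 1 k ≅ CohB1.ProjSpace 1 κ) :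
    1 ≤ degOn u.hom (Twist.twistProjSpace 1 κ 1) := by
  haveI := isIntegral_P1 (k := k)
  haveI := isIntegral_P1 (k := κ)
  let M := Twist.twistProjSpace 1 κ 1
  have hM : PicF.IsInvertible M := AmpleEmb.isInvertible_twistOne 1 κ
  let N := (Scheme.Modules.pullback u.hom).obj M
  have hN : PicF.IsInvertible N := isInvertible_pullback u.hom hM
  let s := pullS u.hom (AmpleEmb.coordSec 1 κ 0)
  have hloc : CohB1.genLocus N s = u.hom ⁻¹ᵁ AmpleEmb.stdOpen 1 κ 0 :=
    (genLocus_pullS _ hM _).trans (congrArg (u.hom ⁻¹ᵁ ·) (AmpleEmb.genLocus_coordSec 1 κ 0))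
  have hne : (CohB1.genLocus N s : Set (CohB1.ProjSpace 1 k)).Nonempty := by
    rw [hloc]
    have hg : genericPoint (CohB1.ProjSpace 1 κ) ∈ AmpleEmb.stdOpen 1 κ 0 :=
      ((genericPoint_spec (CohB1.ProjSpace 1 κ)).mem_open_set_iff (AmpleEmb.stdOpen 1 κ 0).2).2 (by
        rw [Set.univ_inter]
        exact Set.nonempty_coe_sort.1 (PicProjLib.nonempty_stdOpen 1 κ 0))
    exact ⟨u.inv (genericPoint _), show u.hom (u.inv _) ∈ _ by
      rw [← Scheme.Hom.comp_apply, u.inv_hom_id]; exact hg⟩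
  have hs : s ≠ 0 := fun h => by
    obtain ⟨x, hx⟩ := hne
    rw [SetLike.mem_coe, mem_genLocus_iff hN, h] at hx
    have h1 := hx.1 (a₁ := 1) (a₂ := 0) (by
      show (1 : _) • _ = (0 : (CohB1.ProjSpace 1 k).presheaf.stalk _) • _
      rw [show sec (0 : Coh.structureModule (CohB1.ProjSpace 1 k) ⟶ N) = 0 from rfl, map_zero, smul_zero, smul_zero])
    exact one_ne_zero h1
  have h0 : 0 ≤ degP k N := degP_nonneg hN hs
  rcases h0.eq_or_lt with h | h
  · obtain ⟨e⟩ := nonempty_iso_twist_degP hN (n := 0) (by simpa using h.symm)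
    let φ : Coh.structureModule (CohB1.ProjSpace 1 k) ≅ Twist.twistProjSpace 1 k ((0 : ℕ) : ℤ) :=
      @asIso _ _ _ _ (ProjCoh.unitToTwist (CohB1.polyGrading 1 k)) ProjCoh.isIso_unitToTwist
    obtain ⟨r⟩ := pull_back_iso u M
    have h1 : M ≅ Coh.structureModule (CohB1.ProjSpace 1 κ) :=
      r.symm ≪≫ (Scheme.Modules.pullback u.inv).mapIso (e ≪≫ φ.symm) ≪≫ pullO u.inv
    have h2 := degP_congr (k := κ) (IntLib.mk_congr h1)
    rw [degP_one, show degP κ M = 1 from S6579.deg_twist_one κ] at h2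
    omega
  · exact h

/-- **An isomorphism of projective lines pulls `O(1)` back to `O(1)`.** -/
theorem degOn_twist_one (u : CohB1.ProjSpace 1 k ≅ CohB1.ProjSpace 1 κ) :
    degOn u.hom (Twist.twistProjSpace 1 κ 1) = 1 := by
  let M := Twist.twistProjSpace 1 k 1
  have hM : PicF.IsInvertible M := AmpleEmb.isInvertible_twistOne 1 k
  have hκ : PicF.IsInvertible (Twist.twistProjSpace 1 κ 1) := AmpleEmb.isInvertible_twistOne 1 κ
  obtain ⟨b, hb⟩ := Int.eq_ofNat_of_zero_le (zero_le_one.trans (one_le_degOn_twist u.symm))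
  have h1 := one_le_degOn_twist u.symm
  have h2 := one_le_degOn_twist u
  have hpow : degP κ (CohB1.tensorPow (Twist.twistProjSpace 1 κ 1) b) = b := by
    have h3 := degOn_tensorPow (𝟙 (CohB1.ProjSpace 1 κ)) hκ b
    have hid : ∀ N : (CohB1.ProjSpace 1 κ).Modules, degOn (𝟙 (CohB1.ProjSpace 1 κ)) N = degP κ N := fun N =>
      degP_congr (IntLib.mk_congr ((Scheme.Modules.pullbackId _).app N))
    rw [hid, hid, show degP κ (Twist.twistProjSpace 1 κ 1) = 1 from S6579.deg_twist_one κ, mul_one] at h3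
    exact h3
  obtain ⟨e₁⟩ := nonempty_iso_twist_degP (isInvertible_tensorPow hκ b) hpow
  obtain ⟨e₂⟩ := nonempty_iso_twist_degP (isInvertible_pullback u.symm.hom hM) (n := b) hb
  obtain ⟨r⟩ := pull_back_iso u.symm M
  have h4 : degOn u.hom (CohB1.tensorPow (Twist.twistProjSpace 1 κ 1) b) = degP k M :=
    degP_congr (IntLib.mk_congr ((Scheme.Modules.pullback u.hom).mapIso (e₁ ≪≫ e₂.symm) ≪≫ r))
  rw [degOn_tensorPow u.hom hκ b, show degP k M = 1 from S6579.deg_twist_one k] at h4
  nlinarith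

/-- The conormal degree of an exceptional curve in any parametrisation by a projective line. -/
theorem degOn_exc_eq_one {E X : Scheme.{u}} {ι : E ⟶ X} (hE : Models.IsExcCurve ι)
    (e : CohB1.ProjSpace 1 k ≅ E) : degOn (e.hom ≫ ι) (ClSub.idealMod ι.ker) = 1 := by
  obtain ⟨-, κ, hκ, e', ⟨f⟩⟩ := hE
  let u : CohB1.ProjSpace 1 k ≅ CohB1.ProjSpace 1 κ := e ≪≫ e'.symm
  refine (degP_congr (IntLib.mk_congr ?_)).trans (degOn_twist_one u)
  refine eqToIso (congrArg (fun g => (Scheme.Modules.pullback g).obj (ClSub.idealMod ι.ker)) ?_) ≪≫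
    ((Scheme.Modules.pullbackComp u.hom (e'.hom ≫ ι)).app _).symm ≪≫ (Scheme.Modules.pullback u.hom).mapIso f
  simp [u]

end Groth.Agent.CastLib
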