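import Groth.Agent.CastLib.BlowPic
import Groth.Agent.CastLib.CurveEmb
import Groth.Agent.CastLib.LineIso
import Groth.Agent.SurfPtBlow.Contraction
import Groth.Agent.ProjUPLib.Sec
import Groth.Agent.SeesawVB.Unit
import Groth.Agent.CurveLib.Inv
import Groth.Agent.LocImmersion.GlueModels

/-!
# Invertible modules and contractions of exceptional curves
-/

set_option autoImplicit false
set_option backward.isDefEq.respectTransparency false
set_option linter.style.haveILetI false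
set_option maxHeartbeats 1000000

universe u

open CategoryTheory CategoryTheory.Limits AlgebraicGeometry TopologicalSpace
open Groth.Agent.TwistShriek Groth.Agent.TwistShriek.PointBlow Groth.Agent.SurfPtBlow
open Groth.Agent.PullbackMod Groth.Agent.AmpleLib Groth.Agent.ParaFLib
open Groth.Agent.IntLib (mk pullCls)

noncomputable section

namespace Groth.Agent.CastLib.ContractPic

variable {X Y : Scheme.{u}}

/-- Pull-back of invertible modules is injective when `O = f_* O`. -/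
theorem pullback_injective (f : X ⟶ Y) (hf : ∀ U : Y.Opens, Function.Bijective (f.app U)) {A B : Y.Modules}
    (hA : PicF.IsInvertible A) (hB : PicF.IsInvertible B)
    (h : Nonempty ((Scheme.Modules.pullback f).obj A ≅ (Scheme.Modules.pullback f).obj B)) : Nonempty (A ≅ B) := by
  obtain ⟨e⟩ := h
  haveI := SeesawVB.isIso_unit f hf (Groth.Agent.CurveLib.isFinLocFree_of_isInvertible hA)
  haveI := SeesawVB.isIso_unit f hf (Groth.Agent.CurveLib.isFinLocFree_of_isInvertible hB)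
  exact ⟨asIso ((Scheme.Modules.pullbackPushforwardAdjunction f).unit.app A) ≪≫
    (Scheme.Modules.pushforward f).mapIso e ≪≫
      (asIso ((Scheme.Modules.pullbackPushforwardAdjunction f).unit.app B)).symm⟩

/-- A module trivial over a cover of the base descends along `f` when `O = f_* O`. -/
theorem exists_descend (f : X ⟶ Y) (hf : ∀ U : Y.Opens, Function.Bijective (f.app U)) (L : X.Modules)
    (h : ∀ y : Y, ∃ W : Y.Opens, y ∈ W ∧ ∃ e : Γ(L, f ⁻¹ᵁ W), Gen (f ⁻¹ᵁ W) e) :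
    ∃ L' : Y.Modules, PicF.IsInvertible L' ∧ Nonempty ((Scheme.Modules.pullback f).obj L' ≅ L) := by
  let L' := (Scheme.Modules.pushforward f).obj L
  have hgen : ∀ (W : Y.Opens) (e : Γ(L, f ⁻¹ᵁ W)), Gen (f ⁻¹ᵁ W) e →
      Gen (L := L') W (show Γ(L', W) from e) := fun W e he O hO =>
    (he (f ⁻¹ᵁ O) (f.preimage_mono hO)).comp (hf O)
  have hL' : PicF.IsInvertible L' := isInvertible_of_gen fun y => by
    obtain ⟨W, hyW, e, he⟩ := h y
    exact ⟨W, _, hyW, hgen W e he⟩
  refine ⟨L', hL', ⟨@asIso _ _ _ _ ((Scheme.Modules.pullbackPushforwardAdjunction f).counit.app L) ?_⟩⟩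
  let ε := (Scheme.Modules.pullbackPushforwardAdjunction f).counit.app L
  refine isIso_of_locally_app _ fun x => ?_
  obtain ⟨W, hyW, e, he⟩ := h (f x)
  refine ⟨f ⁻¹ᵁ W, hyW, fun V hV => ?_⟩
  let m : Γ(L', W) := show Γ(L', W) from e
  have hm : ε.app (f ⁻¹ᵁ W) (pullMap f L' le_rfl m) = e := by
    have tri := ConcreteCategory.congr_hom (congrArg (fun φ : L' ⟶ L' => φ.app W)
      ((Scheme.Modules.pullbackPushforwardAdjunction f).right_triangle_components L)) m
    refine Eq.trans ?_ tri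
    show ε.app (f ⁻¹ᵁ W) (((Scheme.Modules.pullback f).obj L').presheaf.map (homOfLE (le_refl (f ⁻¹ᵁ W))).op
      (((Scheme.Modules.pullbackPushforwardAdjunction f).unit.app L').app W m)) = _
    rw [ParaFLib.res_self]
    rfl
  have hn : ε.app V (((Scheme.Modules.pullback f).obj L').presheaf.map (homOfLE hV).op (pullMap f L' le_rfl m)) =
      L.presheaf.map (homOfLE hV).op e := by
    rw [← hm]
    exact ConcreteCategory.congr_hom (ε.mapPresheaf.naturality (homOfLE hV).op) _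
  have h1 := ProjUPLib.gen_pullMap f hL' (hgen W e he) (le_refl (f ⁻¹ᵁ W)) V hV
  have h2 := he V hV
  have hcomp : (ε.app V : _ → _) ∘ (fun r : Γ(X, V) =>
      r • ((Scheme.Modules.pullback f).obj L').presheaf.map (homOfLE hV).op (pullMap f L' le_rfl m)) =
      fun r : Γ(X, V) => r • L.presheaf.map (homOfLE hV).op e := funext fun r => by
    show ε.app V (r • _) = _
    rw [Scheme.Modules.Hom.app_smul, hn]
  exact (Function.Bijective.of_comp_iff _ h1).1 (hcomp ▸ h2)

variable {k : Type u} [Field k]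

/-- An invertible module has a basis on the preimage of a small open set off the centre. -/
theorem exists_gen_off [IsProper (𝟙 Y)] (f : X ⟶ Y) [IsProper f] {y : Y} (U : Y.Opens) (hy : y ∈ U)
    [IsIso (f ∣_ U)] {L : X.Modules} (hL : PicF.IsInvertible L) :
    ∃ W : Y.Opens, y ∈ W ∧ ∃ e : Γ(L, f ⁻¹ᵁ W), Gen (f ⁻¹ᵁ W) e := by
  let z : U.toScheme := ⟨y, hy⟩
  let w := (inv (f ∣_ U)) z
  let x : X := (f ⁻¹ᵁ U).ι w
  have hx : f x = y := by
    show ((f ⁻¹ᵁ U).ι ≫ f) w = y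
    rw [← morphismRestrict_ι]
    show U.ι ((inv (f ∣_ U) ≫ (f ∣_ U)) z) = y
    rw [IsIso.inv_hom_id]
    rfl
  obtain ⟨V, e, hxV, he⟩ := exists_gen_nhd hL x
  let W : Y.Opens := U ⊓ ⟨(f '' (V : Set X)ᶜ)ᶜ, (f.isClosedMap _ V.2.isClosed_compl).isOpen_compl⟩
  have hle : f ⁻¹ᵁ W ≤ V := fun a ha => by_contra fun h => ha.2 ⟨a, h, rfl⟩
  refine ⟨W, ⟨hy, ?_⟩, _, he.res hle⟩
  rintro ⟨a, ha, hay⟩
  have haU : a ∈ f ⁻¹ᵁ U := show f a ∈ U from hay ▸ hy
  have h1 : (f ∣_ U) ⟨a, haU⟩ = z := Subtype.ext (by rw [morphismRestrict_base]; exact hay)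
  have h2 : (⟨a, haU⟩ : (f ⁻¹ᵁ U).toScheme) = w := by
    show _ = (inv (f ∣_ U)) z
    rw [← h1, ← Scheme.Hom.comp_apply, IsIso.hom_inv_id]
    rfl
  exact ha ((show a = x from congrArg (f ⁻¹ᵁ U).ι h2) ▸ hxV)

/-- The ideal of a point of an open subscheme. -/
theorem comap_pointIdeal_open (W : Y.Opens) {w : W.toScheme} (hw : IsClosed ({w} : Set W.toScheme))
    (hky : IsClosed ({W.ι w} : Set Y)) : (pointIdeal hky).comap W.ι = pointIdeal hw := by
  have hsupp : ∀ z : W.toScheme, (z ∈ ((pointIdeal hky).comap W.ι).support ↔ z = w) ∧ (z ∈ (pointIdeal hw).support ↔ z = w) := by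
    intro z
    constructor
    · rw [← SetLike.mem_coe, Scheme.IdealSheafData.support_comap, Closeds.coe_preimage,
        Scheme.IdealSheafData.coe_support_vanishingIdeal]
      exact ⟨fun h => W.ι.isOpenEmbedding.injective h, fun h => h ▸ rfl⟩
    · rw [← SetLike.mem_coe, Scheme.IdealSheafData.coe_support_vanishingIdeal]
      exact Iff.rfl
  have h : ∀ z, IntMult.stalkIdeal ((pointIdeal hky).comap W.ι) z = IntMult.stalkIdeal (pointIdeal hw) z := by
    intro z
    by_cases hz : z = w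
    · subst hz
      rw [IdealStalkLib.stalkIdeal_comap, CurveEmb.stalkIdeal_point hky, CurveEmb.stalkIdeal_point hw]
      haveI : IsLocalHom (W.ι.stalkMap z).hom := inferInstance
      exact IsLocalRing.map_maximalIdeal_of_surjective (W.ι.stalkMap z).hom
        (ConcreteCategory.bijective_of_isIso (W.ι.stalkMap z)).2
    · rw [IdealMulLib.stalkIdeal_eq_top _ fun h => hz ((hsupp z).1.1 h),
        IdealMulLib.stalkIdeal_eq_top _ fun h => hz ((hsupp z).2.1 h)]
  exact le_antisymm (DivisorialLib.le_of_stalk fun z => (h z).le) (DivisorialLib.le_of_stalk fun z => (h z).ge)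

/-- On an integral base, a module trivial on the exceptional line has a basis near it. -/
theorem exists_gen_integral [IsNoetherian Y] [IsIntegral Y] {y : Y} {hy : IsClosed ({y} : Set Y)}
    (hreg : IsRegularLocalRing (Y.presheaf.stalk y)) (hd : ringKrullDim (Y.presheaf.stalk y) = 2)
    (f : X ⟶ Y) (hb : BlowUp.IsBlowUp f (pointIdeal hy)) (j : CohB1.ProjSpace 1 k ⟶ X) (hj : ∀ z, f (j z) = y)
    (hdeg : degOn j (ClSub.idealMod (BlowUp.exceptional f (pointIdeal hy))) = 1)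
    {F : X.Modules} (hF : PicF.IsInvertible F) (hFj : pullCls j (mk F) = 1) :
    ∃ W : Y.Opens, y ∈ W ∧ ∃ e : Γ(F, f ⁻¹ᵁ W), Gen (f ⁻¹ᵁ W) e := by
  obtain ⟨P⟩ := exists_pointParams hy hreg hd
  haveI := PointBlow.isProper hb
  haveI : IsLocallyNoetherian X := LocallyOfFiniteType.isLocallyNoetherian f
  haveI : CompactSpace X := QuasiCompact.compactSpace_of_compactSpace f
  haveI : AlgebraicGeometry.IsNoetherian X := ⟨⟩
  obtain ⟨hXi, -⟩ := integral_blowUp hb hd
  haveI := hXi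
  let I : X.IdealSheafData := BlowUp.exceptional f (pointIdeal hy)
  have hI : BlowUp.IsEffCartierIdeal I := hb.1
  have hIE : IsIntegral I.subscheme := isIntegral_E hb P
  let U : Y.Opens := ⟨{y}ᶜ, hy.isOpen_compl⟩
  haveI hiso : IsIso (f ∣_ U) := isIso_restrict_compl hb U fun hh => hh rfl
  obtain ⟨L₀, hL₀, hL₀F⟩ := BlowPic.exists_restrict_eq f U hF
  obtain ⟨L, hL, ⟨eL⟩⟩ := S0234.result Y U L₀ hL₀ fun z hz => by
    have hzy : z = y := not_not.1 hz
    subst hzy
    haveI := hreg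
    haveI := RegLocal.isDomain (Y.presheaf.stalk z)
    exact RegLocal.ufd _
  obtain ⟨L', hL', hLL'⟩ := exists_inverse_of_isInvertible hL
  let M : X.Modules := CohB1.tensorMod F ((Scheme.Modules.pullback f).obj L')
  have hM : PicF.IsInvertible M := isInvertible_tensor hF (isInvertible_pullback f hL')
  have hMU : pullCls (f ⁻¹ᵁ U).ι (mk M) = 1 := by
    have h1 : pullCls U.ι (mk L) = mk L₀ := (BlowPic.mk_restrict U L).symm.trans (IntLib.mk_congr eL)
    have h2 : pullCls (f ⁻¹ᵁ U).ι (mk M) =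
        pullCls (f ∣_ U) (pullCls U.ι (mk L)) * pullCls (f ∣_ U) (pullCls U.ι (mk L')) := by
      rw [IntLib.mk_tensor, map_mul, ← IntLib.pullCls_mk, BlowPic.pullCls_comp, ← morphismRestrict_ι,
        ← BlowPic.pullCls_comp, h1, hL₀F]
    rw [h2, ← map_mul, ← map_mul, hLL', map_one, map_one]
  have hopen : f ⁻¹ᵁ U = (I.support.compl : X.Opens) := by
    apply Opens.ext
    show f ⁻¹' ({y}ᶜ : Set Y) = (((pointIdeal hy).comap f).support : Set X)ᶜ
    rw [Scheme.IdealSheafData.support_comap, Closeds.coe_preimage, Scheme.IdealSheafData.coe_support_vanishingIdeal]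
    rfl
  rw [hopen] at hMU
  obtain ⟨e⟩ := BlowPic.mk_eq_one.1 ((BlowPic.mk_restrict (A := X) I.support.compl M).trans hMU)
  obtain ⟨a, b, hab⟩ := exists_mk_eq_pow hI hIE hM e
  -- a module from below is trivial on the line
  have hbelow : ∀ N : Y.Modules, PicF.IsInvertible N → pullCls j (pullCls f (mk N)) = 1 := fun N hN => by
    obtain ⟨V, hyV, ⟨t⟩⟩ := hN y
    let l := IsOpenImmersion.lift V.ι (j ≫ f) (by
      rw [Scheme.Opens.range_ι]
      rintro _ ⟨z, rfl⟩
      show f (j z) ∈ V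
      rw [hj]; exact hyV)
    have h1 : pullCls V.ι (mk N) = 1 := (BlowPic.mk_restrict V N).symm.trans
      ((IntLib.mk_congr t).trans IntLib.mk_structureModule)
    rw [BlowPic.pullCls_comp, ← (show l ≫ V.ι = j ≫ f from IsOpenImmersion.lift_fac _ _ _), ← BlowPic.pullCls_comp, h1, map_one]
  have hMj : pullCls j (mk M) = 1 := by
    rw [IntLib.mk_tensor, map_mul, ← IntLib.pullCls_mk, hFj, hbelow L' hL', one_mul]
  have h3 := congrArg (pullCls j) hab
  rw [map_mul, hMj, one_mul, map_pow, map_pow] at h3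
  have hpow : ∀ n : ℕ, pullCls j (mk (ClSub.idealMod I)) ^ n =
      mk ((Scheme.Modules.pullback j).obj (ClSub.idealMod (I ^ n))) := fun n => by
    rw [← map_pow, ← (mk_idealMod_pow hI n).2, IntLib.pullCls_mk]
  change pullCls j _ ^ a = pullCls j _ ^ b at h3
  rw [hpow, hpow] at h3
  have h5 : degOn j (ClSub.idealMod (I ^ a)) = degOn j (ClSub.idealMod (I ^ b)) := degP_congr h3
  rw [(degOn_pow _ hI a).2, (degOn_pow _ hI b).2, hdeg, mul_one, mul_one] at h5
  have hab' : a = b := by exact_mod_cast h5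
  subst hab'
  obtain ⟨N, hN⟩ := exists_inverse_idealMod hI
  have hunit : mk N * mk (ClSub.idealMod I) = 1 := mk_mul_of_isInverseOf hN
  have hM1 : mk M = 1 := by
    calc mk M = mk M * (mk N * mk (ClSub.idealMod I)) ^ a := by rw [hunit, one_pow, mul_one]
      _ = (mk M * mk (ClSub.idealMod I) ^ a) * mk N ^ a := by rw [mul_pow]; ac_rfl
      _ = 1 := by rw [hab, ← mul_pow, mul_comm (mk (ClSub.idealMod I)), hunit, one_pow]
  have hFL : pullCls f (mk L) = mk F := by
    calc pullCls f (mk L) = mk M * pullCls f (mk L) := by rw [hM1, one_mul]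
      _ = mk F * pullCls f (mk L * mk L') := by
          rw [IntLib.mk_tensor, ← IntLib.pullCls_mk, map_mul]; ac_rfl
      _ = _ := by rw [hLL', map_one, mul_one]
  rw [IntLib.pullCls_mk] at hFL
  obtain ⟨φ⟩ := IntLib.mk_eq_mk.1 hFL
  obtain ⟨W, g, hyW, hg⟩ := exists_gen_nhd hL y
  refine ⟨W, hyW, φ.hom.app (f ⁻¹ᵁ W) (pullMap f L le_rfl g), fun O hO => ?_⟩
  have h1 := ProjUPLib.gen_pullMap f hL hg (le_refl (f ⁻¹ᵁ W)) O hO
  have hcomp : (fun r : Γ(X, O) => r • F.presheaf.map (homOfLE hO).op (φ.hom.app (f ⁻¹ᵁ W) (pullMap f L le_rfl g))) =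
      (φ.hom.app O : _ → _) ∘ fun r : Γ(X, O) =>
        r • ((Scheme.Modules.pullback f).obj L).presheaf.map (homOfLE hO).op (pullMap f L le_rfl g) :=
    funext fun r => by
      show _ = φ.hom.app O (r • _)
      rw [Scheme.Modules.Hom.app_smul]
      exact congrArg (r • ·) (ConcreteCategory.congr_hom (φ.hom.mapPresheaf.naturality (homOfLE hO).op) _).symm
  rw [hcomp]
  exact (ConcreteCategory.bijective_of_isIso (φ.hom.app O)).comp h1

/-- The ideal of an exceptional curve is the exceptional ideal of its contraction. -/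
theorem ker_eq_exceptional [IsNoetherian X] [IsNoetherian Y] {E : Scheme.{u}} {ι : E ⟶ X} [IsClosedImmersion ι]
    (hE : Models.IsExcCurve ι) {f : X ⟶ Y} {y : Y} (hy : IsClosed ({y} : Set Y))
    (hr : Set.range ((ι ≫ f).base : E → Y) = {y}) (hreg : IsRegularLocalRing (Y.presheaf.stalk y))
    (hd : ringKrullDim (Y.presheaf.stalk y) = 2) (hb : BlowUp.IsBlowUp f (pointIdeal hy)) :
    ι.ker = BlowUp.exceptional f (pointIdeal hy) := by
  obtain ⟨P⟩ := exists_pointParams hy hreg hd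
  haveI := PointBlow.isProper hb
  haveI := PointBlow.isIntegral_E hb P
  obtain ⟨-, κ, hκ, e, -⟩ := id hE
  haveI : IsIntegral (CohB1.ProjSpace 1 κ) := Groth.Agent.REqLib.isIntegral_proj_domain 1 κ
  haveI : IsReduced E := isReduced_of_isOpenImmersion e.inv
  rw [← Scheme.IdealSheafData.ker_subschemeι (BlowUp.exceptional f (pointIdeal hy))]
  refine ker_eq_of_range_eq ι (jE f hy) ?_
  rw [range_jE_eq, range_eq_fibre hE hy hr hreg hd hb]

/-- Bases near the centre of a contraction. -/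
theorem exists_gen_centre [IsNoetherian X] [IsNoetherian Y] {E : Scheme.{u}} {ι : E ⟶ X} [IsClosedImmersion ι]
    (hE : Models.IsExcCurve ι) {f : X ⟶ Y} {y : Y} (hy : IsClosed ({y} : Set Y))
    (hr : Set.range ((ι ≫ f).base : E → Y) = {y}) (hreg : IsRegularLocalRing (Y.presheaf.stalk y))
    (hd : ringKrullDim (Y.presheaf.stalk y) = 2) (hb : BlowUp.IsBlowUp f (pointIdeal hy)) {L : X.Modules}
    (hL : PicF.IsInvertible L) (hLE : pullCls ι (mk L) = 1) :
    ∃ W : Y.Opens, y ∈ W ∧ ∃ e : Γ(L, f ⁻¹ᵁ W), Gen (f ⁻¹ᵁ W) e := by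
  haveI := hreg
  haveI := RegLocal.isDomain (Y.presheaf.stalk y)
  haveI := PointBlow.isProper hb
  have hker := ker_eq_exceptional hE hy hr hreg hd hb
  obtain ⟨hC, κ, hκ, e', ⟨τ⟩⟩ := id hE
  obtain ⟨W₀, hyW₀, -, hint⟩ := exists_integral_nhd y ⊤ trivial
  haveI := hint
  haveI : IsNoetherian W₀.toScheme := Groth.Agent.LocImmersion.isNoetherian_opens W₀
  let y₀ : W₀.toScheme := ⟨y, hyW₀⟩
  have hy₀ : IsClosed ({y₀} : Set W₀.toScheme) := by
    rw [show ({y₀} : Set W₀.toScheme) = W₀.ι ⁻¹' {y} from Set.ext fun a =>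
      ⟨fun h => congrArg W₀.ι h, fun h => W₀.ι.isOpenEmbedding.injective h⟩]
    exact hy.preimage W₀.ι.continuous
  have hI₀ : (pointIdeal hy).comap W₀.ι = pointIdeal hy₀ := comap_pointIdeal_open W₀ hy₀ hy
  have hb₀ : BlowUp.IsBlowUp (f ∣_ W₀) (pointIdeal hy₀) := by
    have h := AlmostBlowLib.isBlowUp_of_iso (S1680.result W₀.ι (pointIdeal hy) f hb)
      (isPullback_morphismRestrict f W₀).isoPullback
    rwa [IsPullback.isoPullback_hom_fst, hI₀] at h
  have hd₀ : ringKrullDim (W₀.toScheme.presheaf.stalk y₀) = 2 :=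
    (ringKrullDim_eq_of_ringEquiv (W₀.stalkIso y₀).commRingCatIsoToRingEquiv).trans hd
  have hreg₀ : IsRegularLocalRing (W₀.toScheme.presheaf.stalk y₀) :=
    IsRegularLocalRing.of_ringEquiv (R := Y.presheaf.stalk y) (W₀.stalkIso y₀).symm.commRingCatIsoToRingEquiv
  let j := e'.hom ≫ ι
  have hjy : ∀ z, f (j z) = y := fun z => hr.le ⟨e'.hom z, rfl⟩
  let j₀ := IsOpenImmersion.lift (f ⁻¹ᵁ W₀).ι j (by
    rw [Scheme.Opens.range_ι]
    rintro _ ⟨z, rfl⟩
    show f (j z) ∈ W₀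
    rw [hjy]; exact hyW₀)
  have hj₀ : j₀ ≫ (f ⁻¹ᵁ W₀).ι = j := IsOpenImmersion.lift_fac _ _ _
  have hdeg : degOn j₀ (ClSub.idealMod (BlowUp.exceptional (f ∣_ W₀) (pointIdeal hy₀))) = 1 := by
    have hexc : BlowUp.exceptional (f ∣_ W₀) (pointIdeal hy₀) = ι.ker.comap (f ⁻¹ᵁ W₀).ι := by
      rw [hker, BlowUp.exceptional, BlowUp.exceptional, ← hI₀, ← Scheme.IdealSheafData.comap_comp,
        morphismRestrict_ι, Scheme.IdealSheafData.comap_comp]
    rw [hexc]
    obtain ⟨δ⟩ := JacLib.nonempty_iso_pullback_idealMod (f ⁻¹ᵁ W₀).ι ι.ker hC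
      (BlowCompLib.isEffCartier_comap_openImmersion hC _)
    refine (degP_congr ?_).trans (S6579.deg_twist_one κ)
    rw [← IntLib.mk_congr τ, ← IntLib.pullCls_mk, ← IntLib.pullCls_mk, ← IntLib.mk_congr δ, ← IntLib.pullCls_mk,
      BlowPic.pullCls_comp, hj₀]
  obtain ⟨W, hyW, g, hg⟩ := exists_gen_integral (y := y₀) hreg₀ hd₀ (f ∣_ W₀) hb₀ j₀
    (fun z => Subtype.ext (by
      rw [morphismRestrict_base]
      exact (congrArg f (congrArg (fun g => g z) hj₀)).trans (hjy z)))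
    hdeg (F := L.restrict (f ⁻¹ᵁ W₀).ι) (isInvertible_of_gen fun x => by
      obtain ⟨V, s, hxV, hs⟩ := exists_gen_nhd hL ((f ⁻¹ᵁ W₀).ι x)
      exact ⟨(f ⁻¹ᵁ W₀).ι ⁻¹ᵁ V, _, hxV, (ParaFLib.gen_restrict_iff _ _).2 (hs.res ((f ⁻¹ᵁ W₀).ι.image_preimage_le V))⟩)
    (by
      rw [BlowPic.mk_restrict, BlowPic.pullCls_comp, hj₀, ← BlowPic.pullCls_comp, hLE, map_one])
  refine ⟨W₀.ι ''ᵁ W, ⟨y₀, hyW, rfl⟩, ?_⟩
  refine exists_gen_of_eq ?_ ⟨_, (ParaFLib.gen_restrict_iff (f ⁻¹ᵁ W₀).ι (W := (f ∣_ W₀) ⁻¹ᵁ W) g).1 hg⟩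
  exact image_morphismRestrict_preimage f W₀ W

end Groth.Agent.CastLib.ContractPic
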