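import Groth.Agent.CastLib.FieldVert
import Groth.Agent.S15544
import Groth.Agent.FinBirLib.Iso

/-!
# Curves contracted by a birational morphism have negative definite intersection form
-/

set_option autoImplicit false
set_option backward.isDefEq.respectTransparency false
set_option linter.style.haveILetI false
set_option maxHeartbeats 1000000

universe u

open CategoryTheory CategoryTheory.Limits AlgebraicGeometry TopologicalSpace IsLocalRing

noncomputable section

namespace Groth.Agent.CastLib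

/-- In a Noetherian local ring of dimension at least two some non-zero non-maximal prime avoids a given element. -/
theorem exists_prime_avoiding {A : Type u} [CommRing A] [IsDomain A] [IsNoetherianRing A] [IsLocalRing A]
    (hdim : 1 < (maximalIdeal A).height) {π : A} (hπ : π ≠ 0) :
    ∃ q : Ideal A, q.IsPrime ∧ q ≠ ⊥ ∧ π ∉ q := by
  classical
  by_cases hu : π ∈ maximalIdeal A
  · have hfin := Ideal.finite_minimalPrimes_of_isNoetherianRing A (Ideal.span {π})
    have hnot : ¬ ((maximalIdeal A : Set A) ⊆ ⋃ P ∈ (hfin.toFinset : Set (Ideal A)), (P : Set A)) := fun h => by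
      obtain ⟨P, hP, hle⟩ := (Ideal.subset_union_prime ⊥ ⊥ fun P hP _ _ =>
        ((hfin.mem_toFinset).1 hP).1.1).1 h
      haveI : P.IsPrime := ((hfin.mem_toFinset).1 hP).1.1
      have h1 := Ideal.height_le_one_of_isPrincipal_of_mem_minimalPrimes (Ideal.span {π}) P ((hfin.mem_toFinset).1 hP)
      rw [((maximalIdeal.isMaximal A).eq_of_le (Ideal.IsPrime.ne_top inferInstance) hle).symm] at h1
      exact absurd (hdim.trans_le h1) (lt_irrefl _)
    obtain ⟨a, ha, ha'⟩ := Set.not_subset.1 hnot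
    obtain ⟨q, hq, -⟩ := Ideal.exists_minimalPrimes_le
      (show Ideal.span {a} ≤ maximalIdeal A from (Ideal.span_singleton_le_iff_mem _).2 ha)
    haveI : q.IsPrime := hq.1.1
    have hqh := Ideal.height_le_one_of_isPrincipal_of_mem_minimalPrimes (Ideal.span {a}) q hq
    have haq : a ∈ q := hq.1.2 (Ideal.mem_span_singleton_self a)
    refine ⟨q, inferInstance, fun h => ?_, fun hπq => ?_⟩
    · rw [h] at haq
      have ha0 : a = 0 := haq
      obtain ⟨P, hP⟩ := Ideal.nonempty_minimalPrimes (I := Ideal.span {π})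
        (fun h => (maximalIdeal.isMaximal A).ne_top
          (top_le_iff.1 (h ▸ (Ideal.span_singleton_le_iff_mem _).2 hu)))
      exact ha' (Set.mem_biUnion (Finset.mem_coe.2 (hfin.mem_toFinset.2 hP)) (ha0 ▸ P.zero_mem))
    · obtain ⟨P, hP, hPq⟩ := Ideal.exists_minimalPrimes_le
        (show Ideal.span {π} ≤ q from (Ideal.span_singleton_le_iff_mem _).2 hπq)
      haveI : P.IsPrime := hP.1.1
      rcases hPq.lt_or_eq with hlt | heq
      · have h2 := Ideal.height_strict_mono_of_isPrime_of_isPrime hlt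
        have h3 : P.height = 0 := ENat.lt_one_iff_eq_zero.1 (h2.trans_le hqh)
        have hP0 : ⊥ < P := bot_lt_iff_ne_bot.2 fun e => hπ (by
          simpa [e] using hP.1.2 (Ideal.mem_span_singleton_self π))
        have h4 := Ideal.height_strict_mono_of_isPrime_of_isPrime hP0
        rw [h3] at h4
        exact absurd h4 (by simp)
      · exact ha' (Set.mem_biUnion (Finset.mem_coe.2 (hfin.mem_toFinset.2 hP)) (heq ▸ haq))
  · exact ⟨maximalIdeal A, inferInstance, fun h => by rw [h, Ideal.height_bot] at hdim; exact absurd hdim (by simp), hu⟩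

variable {R : Type u} [CommRing R] [IsDomain R] [IsDiscreteValuationRing R]

/-- An integral proper flat surface has no isolated point in its closed fibre. -/
theorem not_isolated_in_fibre {Y : Over (Spec (CommRingCat.of R))} [IsIntegral Y.left] [IsProper Y.hom] [Flat Y.hom]
    (hdim : topologicalKrullDim Y.left = 2) {y : Y.left} (hy : Y.hom y = closedPoint R) {G : Set Y.left}
    (hG : IsClosed G) (hyG : y ∉ G) (hcov : ∀ z, Y.hom z = closedPoint R → z = y ∨ z ∈ G) : False := by
  haveI : IsLocallyNoetherian Y.left := LocallyOfFiniteType.isLocallyNoetherian Y.hom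
  obtain ⟨π, hπ⟩ := IsDiscreteValuationRing.exists_irreducible R
  -- a point off the closed fibre which is not generic
  obtain ⟨l, hl⟩ := Order.le_krullDim_iff.1 (show ((2 : ℕ) : WithBot ℕ∞) ≤ Order.krullDim Y.left by
    rw [← ASp.topologicalKrullDim_eq_krullDim, hdim]; rfl)
  obtain ⟨c, hc, hsp⟩ : ∃ c, Y.hom c = closedPoint R ∧ l.head ⤳ c := by
    obtain ⟨c, hc, hce⟩ := (Y.hom.isClosedMap _ (isClosed_closure (s := ({l.head} : Set Y.left)))).stableUnderSpecialization
      (IsLocalRing.specializes_closedPoint (Y.hom l.head)) ⟨l.head, subset_closure rfl, rfl⟩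
    exact ⟨c, hce, specializes_iff_mem_closure.2 hc⟩
  have h2 := Order.length_le_coheight (p := l) (Scheme.le_iff_specializes.2 hsp)
  rw [hl] at h2
  let A := Y.left.presheaf.stalk c
  haveI : IsDomain A := inferInstance
  have hdimA : 1 < (maximalIdeal A).height := by
    have h3 : ((maximalIdeal A).height : WithBot ℕ∞) = (Order.coheight c : WithBot ℕ∞) := by
      rw [IsLocalRing.maximalIdeal_height_eq_ringKrullDim, ringKrullDim_stalk_eq_coheight]
    rw [WithBot.coe_inj] at h3
    rw [h3]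
    exact lt_of_lt_of_le (by decide) h2
  let ψ := Models.stalkHom R Y c
  have hpre : Y.hom ⁻¹ᵁ PrimeSpectrum.basicOpen π = Y.left.basicOpen (Coh.toGlobal Y.hom π) := by
    rw [← basicOpen_eq_of_affine (R := CommRingCat.of R) π, Scheme.preimage_basicOpen_top]
    rfl
  have hπA : ψ π ≠ 0 := by
    obtain ⟨z, hz, hzη⟩ := Flat.generalizingMap Y.hom (show (⟨⊥, Ideal.isPrime_bot⟩ : PrimeSpectrum R) ⤳
      Y.hom (genericPoint Y.left) from (PrimeSpectrum.le_iff_specializes _ _).1 bot_le)
    obtain rfl : z = genericPoint Y.left := (hz.antisymm (genericPoint_specializes z)).eq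
    intro h0
    have hz0 : Coh.toGlobal Y.hom π = 0 := germ_injective_of_isIntegral Y.left c (U := ⊤) trivial
      (h0.trans (map_zero _).symm)
    have hmem : genericPoint Y.left ∈ Y.hom ⁻¹ᵁ PrimeSpectrum.basicOpen π := by
      show π ∉ (Y.hom (genericPoint Y.left)).asIdeal
      rw [hzη]
      exact hπ.ne_zero
    rw [hpre, hz0, Scheme.basicOpen_zero] at hmem
    exact hmem
  obtain ⟨q, hq, hq0, hπq⟩ := exists_prime_avoiding hdimA hπA
  let x : Y.left := Y.left.fromSpecStalk c ⟨q, hq⟩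
  have hxη : x ≠ genericPoint Y.left := fun h => by
    have h4 : x ⤳ Y.left.fromSpecStalk c ⟨⊥, Ideal.isPrime_bot⟩ := h ▸ genericPoint_specializes _
    have h5 := (Y.left.fromSpecStalk c).isEmbedding.isInducing.specializes_iff.1 h4
    exact hq0 (le_bot_iff.1 ((PrimeSpectrum.le_iff_specializes _ _).2 h5))
  have hbot : ∀ P : PrimeSpectrum R, π ∉ P.asIdeal → P = ⟨⊥, Ideal.isPrime_bot⟩ := fun P hP => PrimeSpectrum.ext (by
    by_contra hne
    exact hP ((IsPrime.to_maximal_ideal hne).eq_of_le (maximalIdeal.isMaximal R).ne_top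
      (IsLocalRing.le_maximalIdeal P.2.ne_top) ▸ hπ.maximalIdeal_eq ▸ Ideal.mem_span_singleton_self π))
  have hxb : Y.hom x = (⟨⊥, Ideal.isPrime_bot⟩ : PrimeSpectrum R) := by
    refine hbot _ fun hπx => hπq ?_
    have hnot : x ∉ Y.left.basicOpen (Coh.toGlobal Y.hom π) := by
      rw [← hpre]
      exact fun h => h hπx
    by_contra hn
    refine hnot ?_
    show (⟨q, hq⟩ : PrimeSpectrum A) ∈ (Y.left.fromSpecStalk c) ⁻¹ᵁ Y.left.basicOpen (Coh.toGlobal Y.hom π)
    have he : (Y.left.fromSpecStalk c).appTop (Coh.toGlobal Y.hom π) =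
        (Scheme.ΓSpecIso (Y.left.presheaf.stalk c)).inv (Y.left.presheaf.germ ⊤ c trivial (Coh.toGlobal Y.hom π)) := by
      rw [Scheme.fromSpecStalk_appTop]
      simp
      exact (ConcreteCategory.congr_hom (Scheme.ΓSpecIso_inv_naturality (Y.left.presheaf.germ ⊤ c trivial)) _).symm
    rw [Scheme.preimage_basicOpen_top, he, basicOpen_eq_of_affine]
    exact hn
  have hηb : Y.hom (genericPoint Y.left) = (⟨⊥, Ideal.isPrime_bot⟩ : PrimeSpectrum R) := hbot _ fun h => by
    have h6 := (genericPoint_specializes x).map Y.hom.continuous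
    rw [hxb] at h6
    exact hπ.ne_zero (show π = 0 from (PrimeSpectrum.le_iff_specializes _ _).2 h6 h)
  -- but the morphism is quasi-finite at the isolated point
  have hqy : Y.hom.QuasiFiniteAt y := by
    rw [Scheme.Hom.quasiFiniteAt_iff_isOpen_singleton_asFiber, ← (Y.hom.fiberHomeo (Y.hom y)).isOpen_image]
    simp only [Set.image_singleton, Scheme.Hom.asFiber, Homeomorph.apply_symm_apply]
    rw [isOpen_induced_iff]
    refine ⟨Gᶜ, hG.isOpen_compl, Set.ext fun z => ?_⟩
    simp only [Set.mem_preimage, Set.mem_compl_iff, Set.mem_singleton_iff]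
    refine ⟨fun hz => Subtype.ext ((hcov z.1 (z.2.trans hy)).resolve_right hz), ?_⟩
    rintro rfl
    exact hyG
  have hqη : Y.hom.QuasiFiniteAt (genericPoint Y.left) :=
    (genericPoint_specializes y).mem_open Y.hom.isOpen_quasiFiniteAt hqy
  have hcl := (hqη.isClopen_singleton_asFiber).1
  rw [← (Y.hom.fiberHomeo (Y.hom (genericPoint Y.left))).isClosed_image] at hcl
  simp only [Set.image_singleton, Scheme.Hom.asFiber, Homeomorph.apply_symm_apply] at hcl
  obtain ⟨T, hT, hTe⟩ := isClosed_induced_iff.1 hcl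
  have hηT : genericPoint Y.left ∈ T := by
    have h7 := congrArg (fun S => (⟨genericPoint Y.left, rfl⟩ : Y.hom ⁻¹' {Y.hom (genericPoint Y.left)}) ∈ S) hTe
    simpa using h7
  have hxT : x ∈ T := hT.closure_subset_iff.2 (Set.singleton_subset_iff.2 hηT) (genericPoint_specializes x).mem_closure
  have h8 := congrArg (fun S => (⟨x, hxb.trans hηb.symm⟩ : Y.hom ⁻¹' {Y.hom (genericPoint Y.left)}) ∈ S) hTe
  simp only [Set.mem_preimage, Set.mem_singleton_iff, Subtype.mk.injEq, eq_iff_iff] at h8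
  exact hxη (h8.1 hxT)

variable {X : Over (Spec (CommRingCat.of R))}

/-- Linked indices in the kernel of the form have the same ratio. -/
theorem ratio_of_form_eq_zero {ι : Type*} [Fintype ι] (M : ι → ι → ℤ) (m : ι → ℕ)
    (hsymm : ∀ i j, i ≠ j → M i j = M j i) (hoff : ∀ i j, i ≠ j → 0 ≤ M i j) (hm : ∀ i, 0 < m i)
    (hrow : ∀ i, ∑ j, (m j : ℤ) * M i j = 0) (a : ι → ℤ) (h0 : ∑ i, ∑ j, a i * a j * M i j = 0) :
    ∀ i j, M i j ≠ 0 → (a i : ℚ) / m i = (a j : ℚ) / m j := by
  classical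
  have h := two_mul_form_eq M m hsymm hm a
  have h0' : ∑ i, ∑ j, ((a i * a j * M i j : ℤ) : ℚ) = 0 := by exact_mod_cast h0
  have hrow' : ∀ i, ∑ j, ((m j * M i j : ℤ) : ℚ) = 0 := fun i => by exact_mod_cast hrow i
  simp only [h0', hrow', mul_zero, Finset.sum_const_zero, zero_sub] at h
  have hnn : ∀ i j, 0 ≤ (M i j : ℚ) * m i * m j * ((a i : ℚ) / m i - (a j : ℚ) / m j) ^ 2 := fun i j => by
    by_cases hij : i = j
    · subst hij; simp
    · have : (0 : ℚ) ≤ (M i j : ℚ) := by exact_mod_cast hoff i j hij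
      positivity
  have hsum : ∑ i, ∑ j, (M i j : ℚ) * m i * m j * ((a i : ℚ) / m i - (a j : ℚ) / m j) ^ 2 = 0 := by linarith
  intro i j hne
  have h1 := (Finset.sum_eq_zero_iff_of_nonneg fun i _ => Finset.sum_nonneg fun j _ => hnn i j).1 hsum i
    (Finset.mem_univ i)
  have h2 := (Finset.sum_eq_zero_iff_of_nonneg fun j _ => hnn i j).1 h1 j (Finset.mem_univ j)
  have hi : (m i : ℚ) ≠ 0 := by exact_mod_cast (hm i).ne'
  have hj : (m j : ℚ) ≠ 0 := by exact_mod_cast (hm j).ne'
  have hM : (M i j : ℚ) ≠ 0 := by exact_mod_cast hne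
  simp only [mul_eq_zero, hi, hj, hM, false_or, pow_eq_zero_iff two_ne_zero, sub_eq_zero] at h2
  exact h2

/-- A vertical surface has a list of components of its closed fibre. -/
theorem VSurf.exists_componentList' (hV : VSurf X) (hdim : topologicalKrullDim X.left = 2) :
    ∃ (n : ℕ) (Γ : Fin n → ArSurf.VertComp R X), Models.IsComponentList R X Γ := by
  haveI := hV.int
  haveI := hV.noeth
  haveI := hV.proper
  haveI := hV.flat
  refine hV.exists_componentList_of_not_isClosed fun ξ hξ h1 hcl => ?_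
  obtain ⟨n, ζ, a, hco, -, -, hall, -, hfib⟩ := hV.toFibreGood.exists_fibre_decomp
  refine not_isolated_in_fibre hdim hξ (G := ⋃ i ∈ {i | ζ i ≠ ξ}, closure {ζ i})
    ((Set.toFinite _).isClosed_biUnion fun _ _ => isClosed_closure) (fun h => ?_) fun y hy => ?_
  · simp only [Set.mem_iUnion, exists_prop, Set.mem_setOf_eq] at h
    obtain ⟨i, hi, hmem⟩ := h
    have h3 := S8909.succ_le (specializes_iff_mem_closure.2 hmem) hi
    rw [h1, hco i] at h3
    exact absurd h3 (by decide)
  · by_contra hcon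
    rw [not_or] at hcon
    have htop : IntMult.stalkIdeal (SurfPtBlow.fibreIdeal X.hom) y = ⊤ := by
      rw [show SurfPtBlow.fibreIdeal X.hom = ∏ i, cl (ζ i) ^ a i from hfib, stalkIdeal_prod', ← Ideal.one_eq_top]
      refine Finset.prod_eq_one fun i _ => ?_
      rw [IdealMulLib.stalkIdeal_eq_top _ (fun hmem => ?_), ← Ideal.one_eq_top, one_pow]
      rw [mem_support_cl] at hmem
      by_cases hi : ζ i = ξ
      · rw [hi, specializes_iff_mem_closure, hcl.closure_eq] at hmem
        exact hcon.1 hmem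
      · exact hcon.2 (Set.mem_biUnion (show i ∈ {i | ζ i ≠ ξ} from hi) (specializes_iff_mem_closure.1 hmem))
    exact (IsLocalRing.maximalIdeal.isMaximal _).ne_top (top_le_iff.1 (htop ▸
      IdealStalkLib.stalkIdeal_le_maximal (SurfPtBlow.fibreIdeal X.hom) ((FibreGood.mem_fibre (X := X)).2 hy)))

/-- **Curves contracted to a point by a birational morphism span a negative definite lattice.** -/
theorem negDef_of_contracted (hX : ArSurf.IsArithSurface R X) {Y : Over (Spec (CommRingCat.of R))}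
    [IsIntegral Y.left] (hnor : ∀ q : Y.left, IsIntegrallyClosed (Y.left.presheaf.stalk q))
    (hdimY : topologicalKrullDim Y.left = 2) [Flat Y.hom] (hproj : Neron.IsProjectiveOver R Y)
    (f : X ⟶ Y) (hbir : ∃ U : Y.left.Opens, (U : Set Y.left).Nonempty ∧ IsIso (f.left ∣_ U))
    {y : Y.left} {r : ℕ} (Γ : Fin r → ArSurf.VertComp R X)
    (hΓ : Function.Injective fun i => Set.range (Γ i).ι)
    (hΓy : ∀ i, Set.range ((Γ i).ι ≫ f.left) = {y})
    (L : Fin r → X.left.Modules) (hL : ∀ j, ClSub.IsInverseOf (L j) (ClSub.idealMod (Γ j).ι.ker))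
    (x : Fin r → ℤ) (hx : x ≠ 0) :
    (Finset.univ : Finset (Fin r × Fin r)).sum (fun p => x p.1 * x p.2 * ArSurf.inter R X (L p.2) (Γ p.1)) < 0 := by
  classical
  have hV := VSurf.of_arith hX
  haveI := hV.int
  haveI := hV.noeth
  haveI := hV.proper
  obtain ⟨nY, iY, hiY, hiYX⟩ := hproj
  haveI := hiY
  haveI : IsProper (CohB1.ProjSpaceOver.toBase nY (Spec (CommRingCat.of R))) := BCLib.isProper_toBase _ _
  haveI : IsProper Y.hom := hiYX ▸ inferInstance
  haveI : IsLocallyNoetherian Y.left := LocallyOfFiniteType.isLocallyNoetherian Y.hom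
  haveI : IsProper (f.left ≫ Y.hom) := by rw [Over.w f]; exact hV.proper
  haveI : IsProper f.left := IsProper.of_comp f.left Y.hom
  obtain ⟨U, hUne, hUiso⟩ := hbir
  have hηU : genericPoint Y.left ∈ U :=
    (genericPoint_spec Y.left).mem_open_set_iff U.2 |>.2 (by simpa using hUne)
  obtain ⟨x₀, hx₀⟩ : ∃ x₀, f.left x₀ = genericPoint Y.left := by
    obtain ⟨w, hw⟩ := (f.left ∣_ U).surjective ⟨_, hηU⟩
    exact ⟨(f.left ⁻¹ᵁ U).ι w, by rw [← Scheme.Hom.comp_apply, ← morphismRestrict_ι, Scheme.Hom.comp_apply, hw]; rfl⟩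
  have hgen : f.left (genericPoint X.left) = genericPoint Y.left := by
    have h := (genericPoint_specializes x₀).map f.left.continuous
    rw [hx₀] at h
    exact (h.antisymm (genericPoint_specializes _)).eq
  have hsurj : ∀ z, ∃ w, f.left w = z := fun z => by
    obtain ⟨w, -, hw⟩ := (f.left.isClosedMap _ isClosed_univ).stableUnderSpecialization
      (hgen ▸ genericPoint_specializes z : f.left (genericPoint X.left) ⤳ z) ⟨_, trivial, rfl⟩
    exact ⟨w, hw⟩
  have hconn := Groth.Agent.S15544.result (X := X.left) (Y := Y.left) (fun q => ⟨inferInstance, hnor q⟩) f.left hgen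
    (FinBirLib.isIso_stalkMap_of_restrict f.left U hUiso _ (hgen.symm ▸ hηU)) y
  have hfibconn : _root_.IsPreconnected (f.left ⁻¹' {y}) := by
    rw [← f.left.range_fiberι y]
    haveI := hconn
    exact isPreconnected_range (f.left.fiberι y).continuous
  obtain ⟨i₀, -⟩ := Function.ne_iff.1 hx
  have hy : Y.hom y = closedPoint R := by
    have h1 : f.left (Models.genPtOf R X (Γ i₀)) = y := (hΓy i₀).le ⟨genericPoint (Γ i₀).curve.left, rfl⟩
    rw [← h1, ← Scheme.Hom.comp_apply, Over.w f]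
    exact vertComp_vertical (Γ i₀) _
  -- the whole fibre
  obtain ⟨n, Δ, hΔ⟩ := hV.exists_componentList' hX.2.2.1
  obtain ⟨-, hfib⟩ := hV.toFibreGood.fibre_eq_prod hΔ
  choose M hM using fun j => exists_inverse_idealMod (hV.isEffCartier_ker (Δ j))
  obtain ⟨hco, hinj, hall⟩ := hV.toFibreGood.componentList hΔ
  choose σ hσ using fun i => hall (Models.genPtOf R X (Γ i)) (vertComp_vertical (Γ i) _) (hV.coheight_genPtOf (Γ i))
  have hσinj : Function.Injective σ := fun i j h => hΓ (by
    show Set.range (Γ i).ι = Set.range (Γ j).ι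
    rw [range_vertComp, range_vertComp, ← hσ, ← hσ, h])
  have hσr : ∀ i, Set.range (Δ (σ i)).ι = Set.range (Γ i).ι := fun i => by
    rw [range_vertComp, range_vertComp, hσ]
  let A : Fin n → Fin n → ℤ := fun i j => ArSurf.inter R X (M j) (Δ i)
  have hA : ∀ i j, ArSurf.inter R X (L j) (Γ i) = A (σ i) (σ j) := fun i j => by
    obtain ⟨e⟩ := nonempty_iso_inverse (hL j) (show ClSub.IsInverseOf (M (σ j)) (ClSub.idealMod (Γ j).ι.ker) by
      rw [ker_vertComp (Γ j), ← genPtOf_eq_of_range (hσr j), ← ker_vertComp]; exact hM (σ j))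
    rw [inter_congr_range (hσr i).symm (L j) (isInvertible_inverse_ideal (hL j))]
    exact inter_congr _ e
  let a : Fin n → ℤ := fun l => ∑ i, if σ i = l then x i else 0
  have haσ : ∀ i, a (σ i) = x i := fun i => by
    simp only [a, hσinj.eq_iff, Finset.sum_ite_eq', Finset.mem_univ, if_true]
  have hform : (Finset.univ : Finset (Fin r × Fin r)).sum (fun p => x p.1 * x p.2 * ArSurf.inter R X (L p.2) (Γ p.1)) =
      ∑ i, ∑ j, a i * a j * A i j := by
    have hpush : ∀ g : Fin n → ℤ, ∑ l, a l * g l = ∑ i, x i * g (σ i) := fun g => by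
      simp only [a, Finset.sum_mul]
      rw [Finset.sum_comm]
      exact Finset.sum_congr rfl fun i _ => by simp [ite_mul]
    rw [← Finset.univ_product_univ, Finset.sum_product]
    simp only [hA, mul_assoc, ← Finset.mul_sum, hpush]
  rw [hform]
  let m : Fin n → ℕ := fun i => Models.mult R X (Δ i)
  have hsymm : ∀ i j, i ≠ j → A i j = A j i := fun i j hij =>
    hV.inter_symm (fun e => hij (hΔ.1 e)) (hM i) (hM j)
  have hoff : ∀ i j, i ≠ j → 0 ≤ A i j := fun i j hij => (hV.inter_nonneg_of_ne (fun e => hij (hΔ.1 e)) (hM j)).1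
  have hrow : ∀ i, ∑ j, (m j : ℤ) * A i j = 0 := fun i => hV.sum_mult_inter_list hΔ hM (Δ i)
  refine lt_of_le_of_ne (CastLib.form_nonpos A m hsymm hoff (hV.mult_pos hΔ) (fun i => (hrow i).le) a) fun h0 => ?_
  have hratio := ratio_of_form_eq_zero A m hsymm hoff (hV.mult_pos hΔ) hrow a h0
  let I : Finset (Fin n) := Finset.univ.filter fun l => a l ≠ 0
  obtain ⟨i₁, hi₁⟩ := Function.ne_iff.1 hx
  have hI : σ i₁ ∈ I := Finset.mem_filter.2 ⟨Finset.mem_univ _, by rw [haσ]; simpa using hi₁⟩
  have hIy : ∀ l ∈ I, Set.range (Δ l).ι ⊆ f.left ⁻¹' {y} := fun l hl => by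
    obtain ⟨i, -, hi⟩ := Finset.exists_ne_zero_of_sum_ne_zero (Finset.mem_filter.1 hl).2
    obtain rfl : σ i = l := by by_contra h; simp [h] at hi
    rw [hσr]
    rintro _ ⟨c, rfl⟩
    exact (hΓy i).le ⟨c, rfl⟩
  -- a component outside meets the contracted ones
  let U₁ : Set X.left := ⋃ l ∈ (I : Set (Fin n)), Set.range (Δ l).ι
  let U₂ : Set X.left := ⋃ l ∈ ((Iᶜ : Finset (Fin n)) : Set (Fin n)), Set.range (Δ l).ι
  have hU₁ : IsClosed U₁ := I.finite_toSet.isClosed_biUnion fun l _ => (Δ l).ι.isClosedEmbedding.isClosed_range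
  have hU₂ : IsClosed U₂ :=
    (Iᶜ : Finset (Fin n)).finite_toSet.isClosed_biUnion fun l _ => (Δ l).ι.isClosedEmbedding.isClosed_range
  have hcover : ∀ w, X.hom w = closedPoint R → w ∈ U₁ ∪ U₂ := fun w hw => by
    by_contra hw'
    have htop : IntMult.stalkIdeal (SurfPtBlow.fibreIdeal X.hom) w = ⊤ := by
      rw [show SurfPtBlow.fibreIdeal X.hom = ∏ j, (Δ j).ι.ker ^ Models.mult R X (Δ j) from hfib, stalkIdeal_prod',
        ← Ideal.one_eq_top]
      refine Finset.prod_eq_one fun j _ => ?_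
      rw [IdealMulLib.stalkIdeal_eq_top _ (fun hmem => hw' ?_), ← Ideal.one_eq_top, one_pow]
      rw [← SetLike.mem_coe, support_ker] at hmem
      by_cases hj : j ∈ I
      · exact Or.inl (Set.mem_biUnion (Finset.mem_coe.2 hj) hmem)
      · exact Or.inr (Set.mem_biUnion (Finset.mem_coe.2 (Finset.mem_compl.2 hj)) hmem)
    exact (IsLocalRing.maximalIdeal.isMaximal _).ne_top (top_le_iff.1 (htop ▸
      IdealStalkLib.stalkIdeal_le_maximal (SurfPtBlow.fibreIdeal X.hom) (FibreGood.mem_fibre.2 hw)))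
  have hfv : ∀ w, f.left w = y → X.hom w = closedPoint R := fun w hw => by
    rw [← Over.w f, Scheme.Hom.comp_apply, hw, hy]
  have hU₁y : U₁ ⊆ f.left ⁻¹' {y} := Set.iUnion₂_subset fun l hl => hIy l (Finset.mem_coe.1 hl)
  obtain ⟨w, hw₁, hw₂⟩ : (U₁ ∩ U₂).Nonempty := by
    by_contra hdis
    rw [Set.not_nonempty_iff_eq_empty] at hdis
    have hin : f.left ⁻¹' {y} ∩ U₂ = ∅ := by
      by_contra hne
      obtain ⟨v, hv₁, hv₂⟩ := Set.nonempty_iff_ne_empty.2 hne
      have hp : Models.genPtOf R X (Δ (σ i₁)) ∈ U₁ := Set.mem_biUnion (Finset.mem_coe.2 hI) ⟨_, rfl⟩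
      obtain ⟨u, -, hu₁, hu₂⟩ := isPreconnected_closed_iff.1 hfibconn U₁ U₂ hU₁ hU₂
        (fun u hu => hcover u (hfv u hu)) ⟨_, hU₁y hp, hp⟩ ⟨v, hv₁, hv₂⟩
      exact Set.notMem_empty u (hdis ▸ ⟨hu₁, hu₂⟩)
    refine not_isolated_in_fibre hdimY hy (f.left.isClosedMap _ hU₂) ?_ fun z hz => ?_
    · rintro ⟨v, hv, hvy⟩
      exact Set.notMem_empty v (hin ▸ ⟨hvy, hv⟩)
    · obtain ⟨v, rfl⟩ := hsurj z
      rcases hcover v (by rw [← Over.w f, Scheme.Hom.comp_apply]; exact hz) with hv | hv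
      · exact Or.inl (hU₁y hv)
      · exact Or.inr ⟨v, hv, rfl⟩
  simp only [U₁, U₂, Set.mem_iUnion, exists_prop, Finset.mem_coe, Finset.mem_compl] at hw₁ hw₂
  obtain ⟨i, hi, hwi⟩ := hw₁
  obtain ⟨j, hj, hwj⟩ := hw₂
  have hij : i ≠ j := fun h => hj (h ▸ hi)
  have hne : A i j ≠ 0 := fun h0 =>
    Set.disjoint_left.1 ((hV.inter_nonneg_of_ne (fun e => hij (hΔ.1 e)) (hM j)).2.1 h0) hwi hwj
  have h9 := hratio i j hne
  have haj : a j = 0 := by simpa [I] using hj
  have hai : a i ≠ 0 := (Finset.mem_filter.1 hi).2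
  rw [haj, Int.cast_zero, zero_div, div_eq_zero_iff] at h9
  rcases h9 with h9 | h9
  · exact hai (by exact_mod_cast h9)
  · exact (hV.mult_pos hΔ i).ne' (by exact_mod_cast h9)

end Groth.Agent.CastLib
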