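import Groth.Agent.CastLib.InterForm
import Groth.Agent.TwistShriek.PicPrime
import Groth.Agent.TwistShriek.SurfConn
import Groth.Agent.SurfPtBlow.DvrModel

/-!
# Modules trivial on the generic fibre
-/

set_option autoImplicit false
set_option backward.isDefEq.respectTransparency false
set_option linter.style.haveILetI false
set_option maxHeartbeats 1000000

universe u

open CategoryTheory CategoryTheory.Limits AlgebraicGeometry TopologicalSpace IsLocalRing IntMult
open Groth.Agent.PullbackMod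

noncomputable section

namespace Groth.Agent.CastLib

open Groth.Agent.SurfPtBlow Groth.Agent.DivisorialLib

/-- An ideal isomorphic to the structure sheaf is generated by a global function. -/
theorem exists_global_gen {Y : Scheme.{u}} {I : Y.IdealSheafData} (e : Coh.structureModule Y ≅ ClSub.idealMod I) :
    ∃ s : Γ(Y, ⊤), ∀ x : Y, IntMult.stalkIdeal I x = Ideal.span {Y.presheaf.germ ⊤ x trivial s} := by
  let φ : Coh.structureModule Y ⟶ Coh.structureModule Y := e.hom ≫ ClSub.idealModι I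
  refine ⟨φ.app ⊤ (1 : Γ(Y, ⊤)), fun x => ?_⟩
  have h1 := ParaFLib.stalkLin_unit_endo φ x
  ext r
  rw [← HilbObsLib.mem_range_idealModι, Ideal.mem_span_singleton']
  constructor
  · rintro ⟨m, hm⟩
    obtain ⟨z, rfl⟩ := ((isIso_iff_stalk e.hom).1 inferInstance x).2 m
    obtain ⟨c, rfl⟩ := (ParaFLib.bijective_oneG x).2 z
    refine ⟨c, (ParaFLib.bijective_oneG x).1 ?_⟩
    show (c * _) • ParaFLib.oneG x = r • ParaFLib.oneG x
    rw [← hm, map_smul, map_smul, mul_smul, ← h1, stalkLin_comp, LinearMap.comp_apply]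
  · rintro ⟨c, rfl⟩
    refine ⟨stalkLin e.hom x (c • ParaFLib.oneG x), ?_⟩
    rw [← LinearMap.comp_apply, ← stalkLin_comp, map_smul, h1, smul_smul]

variable {R : Type u} [CommRing R] [IsDomain R] [IsDiscreteValuationRing R]
variable {X : Over (Spec (CommRingCat.of R))}

/-- The stalks of a combination of components at their generic points. -/
theorem VSurf.stalk_prod_at (h : VSurf X) {n : ℕ} {Γ : Fin n → ArSurf.VertComp R X}
    (hΓ : Models.IsComponentList R X Γ) (a : Fin n → ℕ) (i : Fin n) :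
    IntMult.stalkIdeal (∏ j, (Γ j).ι.ker ^ a j) (Models.genPtOf R X (Γ i)) =
      maximalIdeal (X.left.presheaf.stalk (Models.genPtOf R X (Γ i))) ^ a i := by
  haveI := h.int
  haveI := h.noeth
  obtain ⟨hco, hinj, -⟩ := h.toFibreGood.componentList hΓ
  rw [stalkIdeal_prod', Finset.prod_eq_single i]
  · rw [ker_vertComp, stalkIdeal_cl_self]
  · intro j _ hji
    rw [ker_vertComp, stalkIdeal_cl_of_ne (hco j) (hco i) (fun e => hji (hinj e)), ← Ideal.one_eq_top, one_pow]
  · exact fun hni => absurd (Finset.mem_univ i) hni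

/-- **A combination of components with trivial ideal is a multiple of the fibre.** -/
theorem VSurf.exists_multiple_of_trivial (h : VSurf X) (hs : Function.Surjective (Coh.toGlobal X.hom)) {n : ℕ}
    {Γ : Fin n → ArSurf.VertComp R X} (hΓ : Models.IsComponentList R X Γ) (d : Fin n → ℕ)
    (e : Coh.structureModule X.left ≅ ClSub.idealMod (∏ j, (Γ j).ι.ker ^ d j)) :
    ∃ v : ℕ, ∀ i, d i = v * Models.mult R X (Γ i) := by
  haveI := h.int
  haveI := h.noeth
  obtain ⟨hC, hfib⟩ := h.toFibreGood.fibre_eq_prod hΓ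
  obtain ⟨s, hgen⟩ := exists_global_gen e
  obtain ⟨r, rfl⟩ := hs s
  obtain ⟨π, hπ⟩ := IsDiscreteValuationRing.exists_irreducible R
  have hr : r ≠ 0 := fun h0 => by
    obtain ⟨f, hf, hfI⟩ := exists_gen (mk_idealMod_prod _ hC d Finset.univ).1 (genericPoint X.left)
    rw [hgen, h0, map_zero, map_zero, eq_comm, Ideal.span_singleton_eq_span_singleton] at hfI
    exact nonZeroDivisors.ne_zero hf ((associated_zero_iff_eq_zero f).1 hfI)
  obtain ⟨v, u, hu⟩ := IsDiscreteValuationRing.eq_unit_mul_pow_irreducible hr hπ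
  refine ⟨v, fun i => ?_⟩
  let ξ := Models.genPtOf R X (Γ i)
  obtain ⟨hco, -, -⟩ := h.toFibreGood.componentList hΓ
  haveI : IsDiscreteValuationRing (X.left.presheaf.stalk ξ) :=
    CDivLib.isDVR_stalk (fun x => by haveI := h.reg x; exact PurityLib.isIntegrallyClosed_of_regular _) (hco i)
  obtain ⟨ϖ, hϖ⟩ := IsDiscreteValuationRing.exists_irreducible (X.left.presheaf.stalk ξ)
  have hJ : IntMult.stalkIdeal (fibreIdeal X.hom) ξ =
      Ideal.span {(X.left.presheaf.germ ⊤ ξ trivial).hom (Coh.toGlobal X.hom π)} := by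
    rw [fibreIdeal, hπ.maximalIdeal_eq]
    exact stalkIdeal_comap_principal X.hom π ξ
  have h1 := h.stalk_prod_at hΓ d i
  have h2 := h.stalk_prod_at hΓ (fun j => Models.mult R X (Γ j)) i
  have hunit : IsUnit ((X.left.presheaf.germ ⊤ ξ trivial).hom (Coh.toGlobal X.hom (u : R))) :=
    (u.isUnit.map (Coh.toGlobal X.hom)).map (X.left.presheaf.germ ⊤ ξ trivial).hom
  rw [hgen, hu, map_mul, map_mul, map_pow, map_pow,
    Ideal.span_singleton_mul_left_unit hunit, ← Ideal.span_singleton_pow, ← hJ,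
    show fibreIdeal X.hom = ∏ j, (Γ j).ι.ker ^ Models.mult R X (Γ j) from hfib, h2, ← pow_mul, mul_comm,
    hϖ.maximalIdeal_eq, Ideal.span_singleton_pow, Ideal.span_singleton_pow, Ideal.span_singleton_eq_span_singleton] at h1
  exact (le_antisymm ((pow_dvd_pow_iff hϖ.ne_zero hϖ.not_isUnit).1 h1.dvd) ((pow_dvd_pow_iff hϖ.ne_zero hϖ.not_isUnit).1 h1.symm.dvd)).symm

/-- **Invertible modules trivial on the generic fibre come from the closed fibre.** -/
theorem VSurf.exists_eq_prod_of_trivial (h : VSurf X) {n : ℕ} {Γ : Fin n → ArSurf.VertComp R X}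
    (hΓ : Models.IsComponentList R X Γ) {M : X.left.Modules} (hM : PicF.IsInvertible M)
    (e : M.restrict (Scheme.Opens.ι ((fibreIdeal X.hom).support.compl : X.left.Opens)) ≅
      Coh.structureModule (Scheme.Opens.toScheme ((fibreIdeal X.hom).support.compl : X.left.Opens))) :
    ∃ a : Fin n → ℕ, IntLib.mk M * IntLib.mk (ClSub.idealMod (∏ j, (Γ j).ι.ker ^ a j)) = 1 := by
  classical
  haveI := h.int
  haveI := h.noeth
  let I := fibreIdeal X.hom
  have hI := h.toFibreGood.isEffCartier_fibre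
  obtain ⟨eI⟩ := h.toFibreGood.nonempty_idealMod_fibre
  obtain ⟨N, hNI⟩ := exists_inverse_idealMod hI
  have hN := isInvertible_inverse_ideal hNI
  have hN1 : IntLib.mk N = 1 := by
    obtain ⟨f⟩ := id hNI
    have h2 := (IntLib.mk_tensor N _).symm.trans ((IntLib.mk_congr f).trans IntLib.mk_structureModule)
    rwa [(IntLib.mk_congr eI).trans IntLib.mk_structureModule, mul_one] at h2
  obtain ⟨u, hu⟩ := AVLib.exists_section_genLocus_compl hI hN hNI
  obtain ⟨t, ht⟩ : ∃ t : Coh.structureModule (CohB1.genLocus N u : Scheme.{u}) ⟶ M.restrict (CohB1.genLocus N u).ι,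
      CohB1.genLocus _ t = ⊤ := by
    rw [hu]
    exact ⟨e.inv, eq_top_iff.2 fun z _ => (AVLib.mem_genLocus_iff_stalkLin (ParaFLib.isInvertible_restrict _ hM)).2
      ((isIso_iff_stalk e.inv).1 inferInstance z)⟩
  obtain ⟨K₀, hK⟩ := AmpleEmb.exists_section_genLocus hM hN u t
  obtain ⟨Ξ, hΞ⟩ := hK K₀ le_rfl
  rw [ht, Scheme.Opens.ι_image_top, hu] at hΞ
  have hLK : PicF.IsInvertible (CohB1.tensorMod (CohB1.tensorMod M (CohB1.tensorPow N K₀)) N) :=
    AmpleLib.isInvertible_tensor (AmpleLib.isInvertible_tensor hM (AmpleLib.isInvertible_tensorPow hN K₀)) hN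
  choose U hU hxU _ using fun x : X.left => exists_isAffineOpen_mem_and_subset (U := (⊤ : X.left.Opens)) (x := x) trivial
  have hη : genericPoint X.left ∈ CohB1.genLocus _ Ξ := by
    rw [hΞ]
    show genericPoint X.left ∉ I.support
    exact fun h' => h.genPt_not_fibre (FibreGood.mem_fibre.1 h')
  obtain ⟨D, hD, hDs, ⟨eD⟩⟩ := S1658.exists_effCartier_of_section hLK U hU (fun x => ⟨x, hxU x⟩) Ξ fun i p hp => by
    haveI : Nonempty ↥(U i) := ⟨⟨i, hxU i⟩⟩
    haveI : IsDomain Γ(X.left, U i) := @IsIntegral.component_integral X.left _ (U i) ⟨⟨i, hxU i⟩⟩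
    have hp0 : p.asIdeal = ⊥ := by
      obtain ⟨hpr, z, hz⟩ := hp
      rcases eq_or_ne z 0 with rfl | hz0
      · exact absurd (by rw [hz]; simp) hpr.ne_top
      · rw [eq_bot_iff, hz]
        intro a ha
        exact (by simpa [Ideal.mem_radical_iff, mul_eq_zero, hz0] using ha : a = 0 ∧ _).1
    obtain ⟨q, hq⟩ : ∃ q, (hU i).fromSpec q = i := by
      have h' : i ∈ Set.range (hU i).fromSpec := by rw [(hU i).range_fromSpec]; exact hxU i
      exact h'
    have hgen : (hU i).fromSpec p = genericPoint X.left := by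
      have hp' : p = genericPoint (Spec Γ(X.left, U i)) := by
        rw [genericPoint_eq_bot_of_affine]; exact PrimeSpectrum.ext hp0
      rw [hp']
      exact genericPoint_eq_of_isOpenImmersion (hU i).fromSpec
    rw [hgen]
    exact hη
  rw [hΞ] at hDs
  obtain ⟨hco, hinj, hall⟩ := h.toFibreGood.componentList hΓ
  have hexp : ∀ i, ∃ m, IntMult.stalkIdeal D (Models.genPtOf R X (Γ i)) =
      maximalIdeal (X.left.presheaf.stalk (Models.genPtOf R X (Γ i))) ^ m := fun i => by
    haveI : IsDiscreteValuationRing (X.left.presheaf.stalk (Models.genPtOf R X (Γ i))) :=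
      CDivLib.isDVR_stalk (fun x => by haveI := h.reg x; exact PurityLib.isIntegrallyClosed_of_regular _) (hco i)
    obtain ⟨ϖ, hϖ⟩ := IsDiscreteValuationRing.exists_irreducible (X.left.presheaf.stalk (Models.genPtOf R X (Γ i)))
    obtain ⟨f, hf, hfI⟩ := exists_gen hD (Models.genPtOf R X (Γ i))
    refine S8909.exists_eq_pow hϖ.maximalIdeal_eq fun hbot => nonZeroDivisors.ne_zero hf ?_
    exact Ideal.span_singleton_eq_bot.1 (hfI.symm.trans hbot)
  choose a ha using hexp
  have hprod : D = ∏ i, cl (Models.genPtOf R X (Γ i)) ^ a i :=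
    eq_prod_cl h.reg _ hco hinj _ a rfl D hD (fun η hη' h1 => hall η (FibreGood.mem_fibre.1 (by
      have h' : η ∈ (D.support : Set X.left) := hη'
      rw [hDs] at h'
      exact (compl_compl (I.support : Set X.left)).le h')) h1) ha
  have hker : ∀ i, cl (Models.genPtOf R X (Γ i)) = (Γ i).ι.ker := fun i => (ker_vertComp (Γ i)).symm
  simp only [hker] at hprod
  refine ⟨a, ?_⟩
  have h1 := (IntLib.mk_congr eD).trans IntLib.mk_structureModule
  rw [IntLib.mk_tensor, IntLib.mk_tensor, IntLib.mk_tensor, IntLib.mk_tensorPow, hN1, one_pow, mul_one, mul_one] at h1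
  rw [← hprod]
  exact h1

end Groth.Agent.CastLib

namespace Groth.Agent.CastLib

variable {R : Type u} [CommRing R] [IsDomain R] [IsDiscreteValuationRing R]
variable {X : Over (Spec (CommRingCat.of R))}

theorem mk_mul_of_isInverseOf {Y : Scheme.{u}} {L M : Y.Modules} (h : ClSub.IsInverseOf L M) :
    IntLib.mk L * IntLib.mk M = 1 := by
  obtain ⟨e⟩ := h
  exact (IntLib.mk_tensor _ _).symm.trans ((IntLib.mk_congr e).trans IntLib.mk_structureModule)

/-- **The relations between the components are the multiples of the fibre.** -/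
theorem VSurf.multiTwist_iso_iff (h : VSurf X) (hs : Function.Surjective (Coh.toGlobal X.hom)) {n : ℕ}
    {Γ : Fin n → ArSurf.VertComp R X} (hΓ : Models.IsComponentList R X Γ) {L : Fin n → X.left.Modules}
    (hL : ∀ i, ClSub.IsInverseOf (L i) (ClSub.idealMod (Γ i).ι.ker)) (a b : Fin n → ℕ) :
    Nonempty (FGA.multiTwist L a ≅ FGA.multiTwist L b) ↔
      ∃ c : ℤ, ∀ i, (a i : ℤ) - (b i : ℤ) = c * (Models.mult R X (Γ i) : ℤ) := by
  classical
  obtain ⟨hC, hfib⟩ := h.toFibreGood.fibre_eq_prod hΓ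
  have hm1 : ∏ i, IntLib.mk (L i) ^ Models.mult R X (Γ i) = 1 := by
    obtain ⟨e⟩ := h.toFibreGood.multiTwist_fibre hC _ hfib L hL
    rw [← mk_multiTwist]
    exact (IntLib.mk_congr e).trans IntLib.mk_structureModule
  have hshift : ∀ (a : Fin n → ℕ) (k : ℕ),
      ∏ i, IntLib.mk (L i) ^ (a i + k * Models.mult R X (Γ i)) = ∏ i, IntLib.mk (L i) ^ a i := fun a k => by
    simp only [pow_add, Finset.prod_mul_distrib, mul_comm k, pow_mul, Finset.prod_pow, hm1, one_pow, mul_one]
  rw [← IntLib.mk_eq_mk, mk_multiTwist, mk_multiTwist]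
  constructor
  · intro heq
    let k := ∑ i, b i
    have hk : ∀ i, b i ≤ a i + k * Models.mult R X (Γ i) := fun i =>
      le_trans (Finset.single_le_sum (fun j _ => Nat.zero_le (b j)) (Finset.mem_univ i))
        (le_trans (Nat.le_mul_of_pos_right _ (h.mult_pos hΓ i)) (Nat.le_add_left _ _))
    let d : Fin n → ℕ := fun i => a i + k * Models.mult R X (Γ i) - b i
    have hd : ∏ i, IntLib.mk (L i) ^ d i = 1 := by
      have h1 : (∏ i, IntLib.mk (L i) ^ d i) * ∏ i, IntLib.mk (L i) ^ b i = ∏ i, IntLib.mk (L i) ^ b i := by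
        rw [← Finset.prod_mul_distrib, Finset.prod_congr rfl fun i _ => by rw [← pow_add, Nat.sub_add_cancel (hk i)],
          hshift, heq]
      have h2 : (∏ i, IntLib.mk (L i) ^ b i) * ∏ i, IntLib.mk (ClSub.idealMod (Γ i).ι.ker) ^ b i = 1 := by
        rw [← Finset.prod_mul_distrib]
        exact Finset.prod_eq_one fun i _ => by rw [← mul_pow, mk_mul_of_isInverseOf (hL i), one_pow]
      calc _ = (∏ i, IntLib.mk (L i) ^ d i) *
            ((∏ i, IntLib.mk (L i) ^ b i) * ∏ i, IntLib.mk (ClSub.idealMod (Γ i).ι.ker) ^ b i) := by rw [h2, mul_one]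
        _ = 1 := by rw [← mul_assoc, h1, h2]
    obtain ⟨e⟩ : Nonempty (Coh.structureModule X.left ≅ ClSub.idealMod (∏ j, (Γ j).ι.ker ^ d j)) := by
      refine IntLib.mk_eq_mk.1 ?_
      rw [IntLib.mk_structureModule, (mk_idealMod_prod _ hC d Finset.univ).2]
      calc (1 : IntLib.MCls X.left) = (∏ i, IntLib.mk (L i) ^ d i) *
            ∏ i, IntLib.mk (ClSub.idealMod (Γ i).ι.ker) ^ d i := by
            rw [← Finset.prod_mul_distrib]
            exact (Finset.prod_eq_one fun i _ => by rw [← mul_pow, mk_mul_of_isInverseOf (hL i), one_pow]).symm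
        _ = _ := by rw [hd, one_mul]
    obtain ⟨v, hv⟩ := h.exists_multiple_of_trivial hs hΓ d e
    refine ⟨(v : ℤ) - k, fun i => ?_⟩
    have h3 : ((a i + k * Models.mult R X (Γ i) : ℕ) : ℤ) = ((v * Models.mult R X (Γ i) + b i : ℕ) : ℤ) := by
      rw [← hv i, Nat.sub_add_cancel (hk i)]
    push_cast at h3
    linarith
  · rintro ⟨c, hc⟩
    rcases Int.eq_nat_or_neg c with ⟨k, rfl | rfl⟩
    · rw [← hshift b k]
      refine Finset.prod_congr rfl fun i _ => congrArg _ ?_
      have := hc i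
      push_cast at this
      omega
    · rw [← hshift a k]
      refine Finset.prod_congr rfl fun i _ => congrArg _ ?_
      have := hc i
      rw [neg_mul] at this
      push_cast at this
      omega

/-- Modules trivial on the generic fibre, on a model. -/
theorem exists_multiTwist_of_trivial {C Y : Scheme.{u}} {f : C ⟶ Spec (CommRingCat.of (FractionRing R))}
    {p : Y ⟶ Spec (CommRingCat.of R)} (hC : Curve.IsSmoothProperCurve (FractionRing R) C f)
    (hY : Models.IsRegularProperModel R Y p C f) {n : ℕ} {Γ : Fin n → ArSurf.VertComp R (Over.mk p)}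
    (hΓ : Models.IsComponentList R (Over.mk p) Γ) {g : C ⟶ Y}
    (hg : IsPullback g f p (Spec.map (CommRingCat.ofHom (algebraMap R (FractionRing R)))))
    {L : Fin n → Y.Modules} (hL : ∀ i, ClSub.IsInverseOf (L i) (ClSub.idealMod (Γ i).ι.ker)) {M : Y.Modules}
    (hM : PicF.IsInvertible M) (htriv : Nonempty ((Scheme.Modules.pullback g).obj M ≅ Coh.structureModule C)) :
    ∃ a b : Fin n → ℕ, Nonempty (CohB1.tensorMod M (FGA.multiTwist L a) ≅ FGA.multiTwist L b) := by
  have hV := VSurf.of_model hC hY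
  haveI : IsProper p := hY.2.1
  haveI : Flat p := hY.1.1
  haveI := SurfPtBlow.isOpenImmersion_gen hg
  let W : Y.Opens := (SurfPtBlow.fibreIdeal (Over.mk p).hom).support.compl
  have hrange : Set.range g = Set.range W.ι := by
    rw [Scheme.Opens.range_ι]
    ext x
    show x ∈ Set.range g ↔ x ∉ (SurfPtBlow.fibreIdeal (Over.mk p).hom).support
    rw [FibreGood.mem_fibre (X := Over.mk p)]
    exact ⟨fun ⟨c, hc⟩ => hc ▸ SurfPtBlow.p_apply_gen hg c, fun hx => SurfPtBlow.mem_range_gen hg hx⟩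
  let φ := IsOpenImmersion.isoOfRangeEq g W.ι hrange
  have hφ : φ.hom ≫ W.ι = g := IsOpenImmersion.isoOfRangeEq_hom_fac g W.ι hrange
  obtain ⟨t⟩ := htriv
  have e : M.restrict W.ι ≅ Coh.structureModule W.toScheme :=
    (Scheme.Modules.restrictFunctorIsoPullback W.ι).app M ≪≫
      (Scheme.Modules.pullbackCongr ((Iso.inv_comp_eq φ).2 hφ.symm)).symm.app M ≪≫
      ((Scheme.Modules.pullbackComp φ.inv g).app M).symm ≪≫
      (Scheme.Modules.pullback φ.inv).mapIso t ≪≫ AmpleLib.pullO φ.inv
  obtain ⟨a, ha⟩ := hV.exists_eq_prod_of_trivial hΓ hM e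
  obtain ⟨hC', -⟩ := hV.toFibreGood.fibre_eq_prod hΓ
  refine ⟨fun _ => 0, a, IntLib.mk_eq_mk.1 ?_⟩
  rw [IntLib.mk_tensor, mk_multiTwist, mk_multiTwist]
  simp only [pow_zero, Finset.prod_const_one, mul_one]
  rw [(mk_idealMod_prod _ hC' a Finset.univ).2] at ha
  calc IntLib.mk (X := (Over.mk p).left) M = IntLib.mk (X := (Over.mk p).left) M * ((∏ i, IntLib.mk (ClSub.idealMod (Γ i).ι.ker) ^ a i) * ∏ i, IntLib.mk (X := (Over.mk p).left) (L i) ^ a i) := by
        rw [← Finset.prod_mul_distrib, Finset.prod_eq_one fun i _ => by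
          rw [← mul_pow, mul_comm, mk_mul_of_isInverseOf (hL i), one_pow], mul_one]
    _ = _ := by rw [← mul_assoc, ha, one_mul]

end Groth.Agent.CastLib
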