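import Groth.Agent.CastLib.ArtinContract

/-!
# Modules of degree zero near a contractible configuration
-/

set_option autoImplicit false
set_option backward.isDefEq.respectTransparency false
set_option linter.style.haveILetI false
set_option maxHeartbeats 1000000

universe u

open CategoryTheory CategoryTheory.Limits AlgebraicGeometry TopologicalSpace
open Groth.Agent.AmpleLib
open Groth.Agent.IntLib (mk pullCls)

noncomputable section

namespace Groth.Agent.CastLib.ArtinContract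

variable {R : Type u} [CommRing R] [IsDomain R] [IsDiscreteValuationRing R]

/-- A module of degree zero on the configuration is trivial near it. -/
theorem exists_trivializing_open {X : Over (Spec (CommRingCat.of R))} (hX : ArSurf.IsArithSurface R X)
    {r : ℕ} (Γ : Fin r → ArSurf.VertComp R X)
    (hΓ : Function.Injective fun i => Set.range ((Γ i).ι.base : (Γ i).curve.left → X.left))
    (L : Fin r → X.left.Modules) (hL : ∀ j, ClSub.IsInverseOf (L j) (ClSub.idealMod (Γ j).ι.ker))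
    (hneg : ∀ a : Fin r → ℤ, a ≠ 0 →
      (Finset.univ : Finset (Fin r × Fin r)).sum (fun p => a p.1 * a p.2 * ArSurf.inter R X (L p.2) (Γ p.1)) < 0)
    (hpic : ∀ (Z : Scheme.{u}) (z : Z ⟶ X.left) [IsClosedImmersion z], BlowUp.IsEffCartierIdeal z.ker →
      Nonempty Z → Set.range z.base ⊆ (⋃ i, Set.range (Γ i).ι.base) →
      ∀ N : Z.Modules, PicF.IsInvertible N →
        (∀ (i : Fin r) (g : (Γ i).curve.left ⟶ Z), g ≫ z = (Γ i).ι →
          ArSurf.curveDeg (IsLocalRing.ResidueField R) (Γ i).curve.left ((Scheme.Modules.pullback g).obj N) = 0) →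
        Nonempty (N ≅ Coh.structureModule Z))
    (M : X.left.Modules) (hM : PicF.IsInvertible M) (hM0 : ∀ i, ArSurf.inter R X M (Γ i) = 0) :
    ∃ W : X.left.Opens, (∀ i, Set.range ((Γ i).ι.base : (Γ i).curve.left → X.left) ⊆ (W : Set X.left)) ∧
      Nonempty (M.restrict W.ι ≅ Coh.structureModule (W : Scheme.{u})) := by
  classical
  haveI := hX.2.1
  haveI : IsProper X.hom := (SurfPtBlow.arSurf_facts hX).1
  haveI := (SurfPtBlow.arSurf_facts hX).2
  by_cases hr : r = 0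
  · obtain ⟨V, -, hV⟩ := hM (genericPoint X.left)
    subst hr
    exact ⟨V, fun i => i.elim0, hV⟩
  obtain ⟨H, d, hH, hd0, hdiv⟩ := exists_divisor hX Γ hΓ L hL hneg hpic
  obtain ⟨n₀, hn₀⟩ := AmpleEmb.serre_vanishing X.hom hH (DevLib.isCoh_structureModule X.left)
  obtain ⟨n₁, hn₁⟩ := AmpleEmb.serre_vanishing X.hom hH (CurveLib.isCoh_of_isInvertible hM)
  let t := n₀ + n₁ + 1
  let k := d * t
  have hk₀ : n₀ ≤ k := le_trans (by omega) (Nat.le_mul_of_pos_left t hd0)
  have hk₁ : n₁ ≤ k := le_trans (by omega) (Nat.le_mul_of_pos_left t hd0)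
  obtain ⟨D, Lz, -, hLzi, hLzD, -, -, hsupp, hLzinter, hDtriv⟩ := hdiv t (Nat.succ_pos _)
  let H₁ := CohB1.tensorPow H k
  have hH₁ : PicF.IsInvertible H₁ := isInvertible_tensorPow hH.1 k
  have key : ∀ N : X.left.Modules, PicF.IsInvertible N → Subsingleton (Coh.HH X.left N 1) →
      (∀ i, ArSurf.inter R X N (Γ i) = (k : ℤ) * ArSurf.inter R X H (Γ i)) →
      ∃ τ : Coh.structureModule X.left ⟶ CohB1.tensorMod N Lz, ∀ y ∈ D.support,
        y ∈ CohB1.genLocus (CohB1.tensorMod N Lz) τ := fun N hN hN1 hNi => by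
    have hN' : PicF.IsInvertible (CohB1.tensorMod N Lz) := isInvertible_tensor hN hLzi
    obtain ⟨e⟩ := hDtriv hr _ hN' fun i => by rw [inter_tensor _ hN hLzi, hNi, hLzinter]; ring
    obtain ⟨θ⟩ := IntLib.mk_eq_mk.1 (show mk (CohB1.tensorMod (ClSub.idealMod D) (CohB1.tensorMod N Lz)) = mk N by
      rw [IntLib.mk_tensor, IntLib.mk_tensor, mul_left_comm, mul_comm (mk (ClSub.idealMod D)), hLzD, mul_one])
    exact ArtinSec.exists_lift_generating D hN' (CurveLib.subsingleton_HH_iso θ.symm 1 hN1) e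
  obtain ⟨τ₁, hτ₁⟩ := key H₁ hH₁ (CurveLib.subsingleton_HH_iso (unitL _) 1 (hn₀ k hk₀ 1 one_pos))
    fun i => inter_pow hH.1 k (Γ i)
  have hMH : PicF.IsInvertible (CohB1.tensorMod M H₁) := isInvertible_tensor hM hH₁
  obtain ⟨τ₂, hτ₂⟩ := key (CohB1.tensorMod M H₁) hMH (hn₁ k hk₁ 1 one_pos)
    fun i => by rw [inter_tensor _ hM hH₁, hM0, zero_add]; exact inter_pow hH.1 k (Γ i)
  let W : X.left.Opens := CohB1.genLocus _ τ₁ ⊓ CohB1.genLocus _ τ₂
  refine ⟨W, fun i y hy => ⟨hτ₁ y ((hsupp y).2 ⟨i, hy⟩), hτ₂ y ((hsupp y).2 ⟨i, hy⟩)⟩, ?_⟩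
  have h₁ : pullCls W.ι (mk (CohB1.tensorMod H₁ Lz)) = 1 :=
    HensContract.pullCls_eq_one_of_gen W.ι (isInvertible_tensor hH₁ hLzi) τ₁ fun a => a.2.1
  have h₂ : pullCls W.ι (mk (CohB1.tensorMod (CohB1.tensorMod M H₁) Lz)) = 1 :=
    HensContract.pullCls_eq_one_of_gen W.ι (isInvertible_tensor hMH hLzi) τ₂ fun a => a.2.2
  rw [IntLib.mk_tensor, IntLib.mk_tensor, mul_assoc, map_mul, ← IntLib.mk_tensor, h₁, mul_one,
    ← BlowPic.mk_restrict] at h₂
  exact BlowPic.mk_eq_one.1 h₂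

end Groth.Agent.CastLib.ArtinContract
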