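import Groth.Agent.SurfPtBlow.ColengthAlg
import Groth.Agent.SurfPtBlow.Colon
import Groth.Agent.SurfPtBlow.Factor
import Groth.Agent.TwistShriek.SpecIdeal
import Groth.Agent.TwistShriek.PointParams
import Groth.Agent.HTopPerf.Blow
import Mathlib

/-!
# The multiplicity of the exceptional curve in the pull-back of a curve
-/

set_option autoImplicit false
set_option backward.isDefEq.respectTransparency false
set_option linter.style.haveILetI false
set_option maxHeartbeats 1000000

universe u

open CategoryTheory AlgebraicGeometry TopologicalSpace Groth.Agent.TwistShriek Groth.Agent.SurfPtBlow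

namespace Groth.Agent.CastLib.StrictPoint

variable {A : Type u} [CommRing A]

theorem idealSheaf_pow (I : Ideal A) (n : ℕ) : Curv2.idealSheaf A (I ^ n) = Curv2.idealSheaf A I ^ n := by
  induction n with
  | zero => rw [pow_zero, pow_zero, Ideal.one_eq_top, idealSheaf_top]; rfl
  | succ n ih => rw [pow_succ, pow_succ, idealSheaf_mul, ih]

theorem idealSheaf_le_iff {I J : Ideal A} : Curv2.idealSheaf A I ≤ Curv2.idealSheaf A J ↔ I ≤ J := by
  rw [← sup_eq_right, ← idealSheaf_sup]
  exact ⟨fun h => sup_eq_right.1 (idealSheaf_inj h), fun h => by rw [sup_eq_right.2 h]⟩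

theorem mem_support_idealSheaf (I : Ideal A) (p : PrimeSpectrum A) :
    (p : Spec (CommRingCat.of A)) ∈ (Curv2.idealSheaf A I).support ↔ I ≤ p.asIdeal := by
  rw [← SetLike.mem_coe, Curv2.idealSheaf, Scheme.IdealSheafData.coe_support_ofIdealTop, Spec_zeroLocus,
    ← Ideal.coe_comap,
    Ideal.comap_map_of_bijective _ (ConcreteCategory.bijective_of_isIso (Scheme.ΓSpecIso (CommRingCat.of A)).inv)]
  rfl

theorem isEffCartier_pow {X : Scheme.{u}} {D : X.IdealSheafData} (hD : BlowUp.IsEffCartierIdeal D) :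
    ∀ n : ℕ, BlowUp.IsEffCartierIdeal (D ^ n)
  | 0 => fun x => by
    obtain ⟨U, hxU, -⟩ := hD x
    refine ⟨U, hxU, 1, one_mem _, ?_⟩
    rw [pow_zero, Ideal.span_singleton_one]; rfl
  | n + 1 => by rw [pow_succ]; exact BlowCompLib.isEffCartier_mul (isEffCartier_pow hD n) hD

theorem isEffCartier_span [IsDomain A] {f : A} (hf : f ≠ 0) :
    BlowUp.IsEffCartierIdeal (Curv2.idealSheaf A (Ideal.span {f})) := by
  have h := HTopPerf.isEffCartier_specMap (RingHom.id A) (Ideal.span {f}) f (Ideal.map_id _)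
    (mem_nonZeroDivisors_of_ne_zero hf)
  rwa [idealSheaf_comap, Ideal.map_id] at h

/-- Quasi-regular generators of the maximal ideal of a two-dimensional regular local ring. -/
theorem exists_params [IsRegularLocalRing A] (hA : ringKrullDim A = 2) :
    ∃ g : Fin 2 → A, IsLocalRing.maximalIdeal A = Ideal.span (Set.range g) ∧ CAlgX.IsQuasiRegular g ∧ ∀ i, g i ≠ 0 := by
  haveI : IsDomain A := RegLocal.isDomain _
  obtain ⟨g₀, hg₀⟩ := RegLocal.exists_generators A
  have h2 : (IsLocalRing.maximalIdeal A).spanFinrank = 2 := by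
    have h := IsRegularLocalRing.spanFinrank_maximalIdeal (R := A)
    rw [hA] at h
    exact_mod_cast h
  let g : Fin 2 → A := g₀ ∘ finCongr h2.symm
  have hg : Ideal.span (Set.range g) = IsLocalRing.maximalIdeal A := by
    rw [(finCongr h2.symm).surjective.range_comp, hg₀]
  refine ⟨g, hg.symm, (HilbertRegLib.isQuasiRegular_iff_length g hg).2 fun s => ?_, fun i hi => ?_⟩
  · rw [(HilbertRegLib.isRegularLocalRing_iff_length A).1 inferInstance s,
      ← IsLocalRing.spanFinrank_maximalIdeal_eq_finrank_cotangentSpace, h2]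
  · have h1 : (IsLocalRing.maximalIdeal A).spanFinrank ≤ 1 := by
      rw [← hg, show Ideal.span (Set.range g) = Ideal.span {g (i + 1)} from le_antisymm (Ideal.span_le.2 (by
        rintro _ ⟨j, rfl⟩
        rcases PointChart.eq_or i j with rfl | rfl
        · rw [hi]; exact zero_mem _
        · exact Ideal.mem_span_singleton_self _)) (Ideal.span_mono (by simp))]
      exact (Submodule.spanFinrank_span_le_ncard_of_finite (Set.finite_singleton _)).trans (by simp)
    omega

/-- In the first chart, an element of order `μ` is `a ^ μ` times a function not divisible by `a`. -/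
theorem exists_chart [IsRegularLocalRing A] (hA : ringKrullDim A = 2) {f : A} {μ : ℕ}
    (hf : f ∈ IsLocalRing.maximalIdeal A ^ μ) (hf' : f ∉ IsLocalRing.maximalIdeal A ^ (μ + 1)) :
    ∃ (B : Type u) (_ : CommRing B) (φ : A →+* B) (a G : B), a ∈ nonZeroDivisors B ∧
      (IsLocalRing.maximalIdeal A).map φ = Ideal.span {a} ∧ φ f = a ^ μ * G ∧
      (Ideal.span {a}).IsPrime ∧ G ∉ Ideal.span {a} := by
  haveI : IsDomain A := RegLocal.isDomain _
  obtain ⟨g, hI, hq, hne⟩ := exists_params hA
  let m := IsLocalRing.maximalIdeal A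
  obtain ⟨Ψ, hΨ, hC, hX, hE⟩ := PointChart.exists_poly hq hI 0
  obtain ⟨hdown, hup⟩ := SurfPtBlow.exists_form hq hI 0 μ hC hX
  obtain ⟨G, hGdeg, hG⟩ := hdown f hf
  refine ⟨↥(BlowUp.affineAlgebra A m (g 0)), inferInstance, algebraMap A _, algebraMap A _ (g 0), Ψ G,
    BlowChartLib.mem_nonZeroDivisors, BlowChartLib.map_eq_span (hI.ge (Ideal.subset_span ⟨0, rfl⟩)), hG,
    PointChart.isPrime_exceptional hq hI (IsLocalRing.maximalIdeal.isMaximal A).isPrime 0, fun h => ?_⟩
  obtain ⟨r, hr, hrG⟩ := hup G hGdeg m ((hE G).1 h)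
  rw [← hG] at hrG
  rw [SurfPtBlow.algebraMap_injective_chart (m := m) hne 0 hrG, ← pow_succ'] at hr
  exact hf' hr

/-- **The pull-back of a curve contains the exceptional curve exactly with its multiplicity.** -/
theorem main [IsRegularLocalRing A] (hA : ringKrullDim A = 2) {X : Scheme.{u}} {b : X ⟶ Spec (CommRingCat.of A)}
    [IsLocallyNoetherian X] (hb : BlowUp.IsBlowUp b (Curv2.idealSheaf A (IsLocalRing.maximalIdeal A)))
    {f : A} {μ : ℕ} (hf : f ∈ IsLocalRing.maximalIdeal A ^ μ) (hf' : f ∉ IsLocalRing.maximalIdeal A ^ (μ + 1)) :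
    (Curv2.idealSheaf A (Ideal.span {f})).comap b ≤
        BlowUp.exceptional b (Curv2.idealSheaf A (IsLocalRing.maximalIdeal A)) ^ μ ∧
      ¬ (Curv2.idealSheaf A (Ideal.span {f})).comap b ≤
        BlowUp.exceptional b (Curv2.idealSheaf A (IsLocalRing.maximalIdeal A)) ^ (μ + 1) ∧
      ∃ I' : X.IdealSheafData, (Curv2.idealSheaf A (Ideal.span {f})).comap b =
          I' * BlowUp.exceptional b (Curv2.idealSheaf A (IsLocalRing.maximalIdeal A)) ^ μ ∧
        ¬ ((BlowUp.exceptional b (Curv2.idealSheaf A (IsLocalRing.maximalIdeal A))).support : Set X) ⊆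
          (I'.support : Set X) := by
  let m := IsLocalRing.maximalIdeal A
  have hE := hb.1
  have hle : (Curv2.idealSheaf A (Ideal.span {f})).comap b ≤ (Curv2.idealSheaf A m).comap b ^ μ := by
    rw [← comap_pow', ← idealSheaf_pow]
    exact Scheme.IdealSheafData.comap_mono b (idealSheaf_le_iff.2 ((Ideal.span_singleton_le_iff_mem _).2 hf))
  obtain ⟨B, _, φ, a, G, ha, hmap, hfG, hprime, hGa⟩ := exists_chart hA hf hf'
  obtain ⟨ψ, hψ, -⟩ := hb.2 (Spec (CommRingCat.of B)) (Spec.map (CommRingCat.ofHom φ))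
    (HTopPerf.isEffCartier_specMap φ m a hmap ha)
  have hJ : ((Curv2.idealSheaf A (Ideal.span {f})).comap b).comap ψ = Curv2.idealSheaf B (Ideal.span {φ f}) := by
    rw [← Scheme.IdealSheafData.comap_comp, hψ, idealSheaf_comap, Ideal.map_span, Set.image_singleton]
  have hEψ : ((Curv2.idealSheaf A m).comap b).comap ψ = Curv2.idealSheaf B (Ideal.span {a}) := by
    rw [← Scheme.IdealSheafData.comap_comp, hψ, idealSheaf_comap, hmap]
  have hEn : ∀ n, ((Curv2.idealSheaf A m).comap b ^ n).comap ψ = Curv2.idealSheaf B (Ideal.span {a ^ n}) := fun n => by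
    rw [comap_pow', hEψ, ← idealSheaf_pow, Ideal.span_singleton_pow]
  refine ⟨hle, fun h => hGa ?_, ?_⟩
  · have h1 := Scheme.IdealSheafData.comap_mono ψ h
    simp only [BlowUp.exceptional] at h1
    change ((Curv2.idealSheaf A (Ideal.span {f})).comap b).comap ψ ≤
      (((Curv2.idealSheaf A m).comap b) ^ (μ + 1)).comap ψ at h1
    rw [hJ, hEn, idealSheaf_le_iff, Ideal.span_singleton_le_iff_mem, hfG, Ideal.mem_span_singleton'] at h1
    obtain ⟨c, hc⟩ := h1
    have h2 : c * a = G := mul_cancel_left_mem_nonZeroDivisors (pow_mem ha μ) |>.1 (by rw [← hc, pow_succ]; ring)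
    exact h2 ▸ Ideal.mul_mem_left _ _ (Ideal.mem_span_singleton_self a)
  · obtain ⟨I', hI'⟩ := exists_eq_mul (isEffCartier_pow hE μ) hle
    refine ⟨I', hI', fun hsub => hGa ?_⟩
    obtain ⟨K, hK⟩ := exists_idealSheaf (I'.comap ψ)
    have h1 := congrArg (fun Q : X.IdealSheafData => Q.comap ψ) hI'
    simp only [BlowCompLib.comap_mul] at h1
    rw [hJ, hEn, hK, ← idealSheaf_mul] at h1
    have h2 := idealSheaf_inj h1
    let z : PrimeSpectrum B := ⟨Ideal.span {a}, hprime⟩
    have hz : ψ (z : Spec (CommRingCat.of B)) ∈ ((Curv2.idealSheaf A m).comap b).support := by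
      have h3 : (z : Spec (CommRingCat.of B)) ∈ (((Curv2.idealSheaf A m).comap b).comap ψ).support := by
        rw [hEψ, mem_support_idealSheaf]
      rwa [Scheme.IdealSheafData.support_comap] at h3
    have h4 : (z : Spec (CommRingCat.of B)) ∈ (I'.comap ψ).support := by
      rw [Scheme.IdealSheafData.support_comap]
      exact hsub hz
    rw [hK, mem_support_idealSheaf] at h4
    have h5 : φ f ∈ K * Ideal.span {a ^ μ} := h2.le (Ideal.mem_span_singleton_self _)
    obtain ⟨k, hk, hkf⟩ := Ideal.mem_mul_span_singleton.1 h5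
    have h6 : k = G := mul_cancel_left_mem_nonZeroDivisors (pow_mem ha μ) |>.1 (by rw [← hfG, ← hkf]; ring)
    exact h4 (h6 ▸ hk)

end Groth.Agent.CastLib.StrictPoint
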