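import Groth.Agent.RigidLib.Proper
import Groth.Agent.SteinConn.Conn

/-!
# The canonical map to the spectrum of the global functions
-/

set_option autoImplicit false
set_option backward.isDefEq.respectTransparency false
set_option linter.style.haveILetI false
set_option maxHeartbeats 1000000

universe u

open CategoryTheory CategoryTheory.Limits AlgebraicGeometry TopologicalSpace

noncomputable section

namespace Groth.Agent.CastLib

/-- Only pulled back functions over a basis means only pulled back functions. -/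
theorem bijApp_of_basis {X S : Scheme.{u}} (p : X ⟶ S) {ι : Type u} (B : ι → S.Opens)
    (hB : Opens.IsBasis (Set.range B)) (hinf : ∀ i j, ∃ l, B l = B i ⊓ B j)
    (h : ∀ i, Function.Bijective (p.app (B i)).hom) : RigidLib.BijApp p := by
  intro V
  let J := {i : ι // B i ≤ V}
  have hcov : V ≤ ⨆ i : J, B i.1 := fun x hx => by
    obtain ⟨_, ⟨i, rfl⟩, hxi, hiV⟩ := Opens.isBasis_iff_nbhd.1 hB hx
    exact Opens.mem_iSup.2 ⟨⟨i, hiV⟩, hxi⟩
  have hcov' : p ⁻¹ᵁ V ≤ ⨆ i : J, p ⁻¹ᵁ B i.1 := fun x hx => by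
    obtain ⟨i, hi⟩ := Opens.mem_iSup.1 (hcov (show p x ∈ V from hx))
    exact Opens.mem_iSup.2 ⟨i, hi⟩
  refine ⟨fun a b hab => S.sheaf.eq_of_locally_eq' _ V (fun i : J => homOfLE i.2) hcov a b fun i =>
    (h i.1).1 ?_, fun b => ?_⟩
  · show p.app _ (S.presheaf.map (homOfLE _).op a) = p.app _ (S.presheaf.map (homOfLE _).op b)
    rw [RigidLib.app_res, RigidLib.app_res, hab]
  choose a ha using fun i : J => (h i.1).2 (X.presheaf.map (homOfLE (p.preimage_mono i.2)).op b)
  have hcomp : TopCat.Presheaf.IsCompatible S.presheaf (fun i : J => B i.1) a := fun i j => by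
    obtain ⟨l, hl⟩ := hinf i.1 j.1
    have hbij : Function.Bijective (p.app (B i.1 ⊓ B j.1)).hom := hl ▸ h l
    refine hbij.1 ?_
    show p.app _ (S.presheaf.map (homOfLE inf_le_left).op (a i)) = p.app _ (S.presheaf.map (homOfLE inf_le_right).op (a j))
    rw [RigidLib.app_res, RigidLib.app_res, ha, ha, ← ConcreteCategory.comp_apply, ← ConcreteCategory.comp_apply,
      ← Functor.map_comp, ← Functor.map_comp]
    rfl
  obtain ⟨c, hc, -⟩ := S.sheaf.existsUnique_gluing' _ V (fun i : J => homOfLE i.2) hcov a hcomp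
  refine ⟨c, X.sheaf.eq_of_locally_eq' _ (p ⁻¹ᵁ V) (fun i : J => homOfLE (p.preimage_mono i.2)) hcov' _ _ fun i => ?_⟩
  show X.presheaf.map (homOfLE _).op (p.app V c) = X.presheaf.map (homOfLE _).op b
  rw [← RigidLib.app_res p i.2, ← ha i]
  exact congrArg _ (hc i)

/-- The map to the spectrum of the global functions has only pulled back functions. -/
theorem bijApp_toSpecΓ (X : Scheme.{u}) [CompactSpace X] [QuasiSeparatedSpace X] : RigidLib.BijApp X.toSpecΓ :=
  bijApp_of_basis X.toSpecΓ (fun f : Γ(X, ⊤) => PrimeSpectrum.basicOpen f) PrimeSpectrum.isBasis_basic_opens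
    (fun a b => ⟨a * b, PrimeSpectrum.basicOpen_mul a b⟩)
    fun f => ConcreteCategory.bijective_of_isIso (X.toSpecΓ.app (PrimeSpectrum.basicOpen f))

/-- The fibres of the map to the spectrum of the global functions are connected. -/
theorem isPreconnected_fibre_toSpecΓ (X : Scheme.{u}) [IsProper X.toSpecΓ] [CompactSpace X] [QuasiSeparatedSpace X]
    [IsNoetherianRing Γ(X, ⊤)] (t : Spec Γ(X, ⊤)) : _root_.IsPreconnected (X.toSpecΓ ⁻¹' {t}) := by
  haveI : IsLocallyNoetherian (Spec Γ(X, ⊤)) := inferInstance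
  haveI := SteinConn.connectedSpace_fiber X.toSpecΓ (bijApp_toSpecΓ X) t
  rw [← X.toSpecΓ.range_fiberι t]
  exact isPreconnected_range (X.toSpecΓ.fiberι t).continuous

end Groth.Agent.CastLib
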