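import Groth.Agent.CastLib.Dedekind
import Groth.Agent.CastLib.ToSpec
import Groth.Agent.ASp.GeomRedEt
import Groth.Agent.RegHomLib.Basic

/-!
# Smooth arithmetic surfaces are relatively minimal
-/

set_option autoImplicit false
set_option backward.isDefEq.respectTransparency false
set_option linter.style.haveILetI false
set_option maxHeartbeats 1000000

universe u

open CategoryTheory CategoryTheory.Limits AlgebraicGeometry TopologicalSpace

noncomputable section

namespace Groth.Agent.CastLib

open Groth.Agent.SurfPtBlow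

/-- A closed connected generalisation stable subset of a locally integral Noetherian scheme is irreducible. -/
theorem isPreirreducible_of_domain_stalks {F : Scheme.{u}} [NoetherianSpace F] (hF : ∀ z : F, IsDomain (F.presheaf.stalk z))
    {T : Set F} (hT : IsClosed T) (hc : _root_.IsPreconnected T) (hgen : ∀ a b : F, a ⤳ b → b ∈ T → a ∈ T) :
    IsPreirreducible T := by
  rcases T.eq_empty_or_nonempty with hT0 | ⟨z₀, hz₀⟩
  · exact hT0 ▸ isPreirreducible_empty
  -- the irreducible component through a point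
  let η : F → F := fun z => haveI := hF z; F.fromSpecStalk z ⟨⊥, Ideal.isPrime_bot⟩
  have hη : ∀ z g, g ⤳ z → η z ⤳ g := fun z g hg => by
    haveI := hF z
    obtain ⟨p, rfl⟩ := (F.range_fromSpecStalk (x := z)).ge hg
    exact ((PrimeSpectrum.le_iff_specializes (⟨⊥, Ideal.isPrime_bot⟩ : PrimeSpectrum _) p).1 bot_le).map
      (F.fromSpecStalk z).continuous
  have hηz : ∀ z, η z ⤳ z := fun z => hη z z specializes_rfl
  have hcomp : ∀ C ∈ irreducibleComponents F, ∀ z ∈ C, C = closure {η z} := fun C hC z hz => by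
    obtain ⟨g, hg⟩ := QuasiSober.sober hC.1 (isClosed_of_mem_irreducibleComponents C hC)
    have hle : C ⊆ closure {η z} := by
      rw [← hg.def]
      exact closure_minimal (Set.singleton_subset_iff.2 (specializes_iff_mem_closure.1 (hη z g (hg.specializes hz))))
        isClosed_closure
    exact le_antisymm hle (hC.2 isIrreducible_singleton.closure hle)
  let D : Set F := ⋃₀ (irreducibleComponents F \ {closure {η z₀}})
  have hD : IsClosed D := by
    rw [show D = ⋃ C ∈ irreducibleComponents F \ {closure {η z₀}}, C from Set.sUnion_eq_biUnion]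
    exact ((NoetherianSpace.finite_irreducibleComponents).subset Set.sdiff_subset).isClosed_biUnion
      fun C hC => isClosed_of_mem_irreducibleComponents C hC.1
  have hcov : T ⊆ closure {η z₀} ∪ D := fun z _ => by
    obtain ⟨C, hC, hzC⟩ := Set.mem_sUnion.1 ((sUnion_irreducibleComponents (X := F)).ge (Set.mem_univ z))
    by_cases h : C = closure {η z₀}
    · exact Or.inl (h ▸ hzC)
    · exact Or.inr ⟨C, ⟨hC, h⟩, hzC⟩
  have hdis : closure {η z₀} ∩ D = ∅ := by
    refine Set.eq_empty_of_forall_notMem ?_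
    rintro z ⟨hz, C, ⟨hC, hne⟩, hzC⟩
    obtain ⟨C₀, hC₀, hz₀C⟩ := Set.mem_sUnion.1 ((sUnion_irreducibleComponents (X := F)).ge (Set.mem_univ z₀))
    have e₀ : C₀ = closure {η z₀} := hcomp C₀ hC₀ z₀ hz₀C
    exact hne ((hcomp C hC z hzC).trans ((hcomp C₀ hC₀ z (e₀ ▸ hz)).symm.trans e₀))
  have hsub : T ⊆ closure {η z₀} := by
    intro z hz
    by_contra hzC
    obtain ⟨w, -, hw1, hw2⟩ := (isPreconnected_closed_iff.1 hc) _ _ isClosed_closure hD hcov
      ⟨z₀, hz₀, specializes_iff_mem_closure.1 (hηz z₀)⟩ ⟨z, hz, (hcov hz).resolve_left hzC⟩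
    exact (Set.eq_empty_iff_forall_notMem.1 hdis) w ⟨hw1, hw2⟩
  have hT' : T = closure {η z₀} := hsub.antisymm
    (closure_minimal (Set.singleton_subset_iff.2 (hgen _ _ (hηz z₀) hz₀)) hT)
  rw [hT']
  exact isIrreducible_singleton.closure.2

variable {R : Type u} [CommRing R] [IsDedekindDomain R] {X : Over (Spec (CommRingCat.of R))}

/-- On a smooth arithmetic surface the fibres over the global functions are irreducible. -/
theorem isPreirreducible_fibre_of_smooth (hX : ArSurf.IsArithSurface R X) [Smooth X.hom]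
    (t : Spec Γ(X.left, ⊤)) : IsPreirreducible (X.left.toSpecΓ ⁻¹' {t}) := by
  haveI := hX.2.1
  haveI := (arSurf_facts hX).1
  haveI := (arSurf_facts hX).2
  haveI := isProper_toSpecΓ hX
  haveI : Nonempty (⊤ : X.left.Opens) := ⟨⟨genericPoint X.left, trivial⟩⟩
  haveI : IsDomain Γ(X.left, ⊤) := inferInstance
  haveI := S17960.h9_noeth R X.hom
  let T := (t : PrimeSpectrum Γ(X.left, ⊤))
  by_cases ht : T.asIdeal = ⊥
  · intro U V hU hV ⟨a, ha, haU⟩ ⟨b, hb, hbV⟩
    refine ⟨genericPoint X.left, ?_, (genericPoint_specializes a).mem_open hU haU,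
      (genericPoint_specializes b).mem_open hV hbV⟩
    have h1 : X.left.toSpecΓ (genericPoint X.left) ⤳ t := by
      have h := (genericPoint_specializes a).map X.left.toSpecΓ.continuous
      rwa [show X.left.toSpecΓ a = t from ha] at h
    refine PrimeSpectrum.ext (le_antisymm ((PrimeSpectrum.le_iff_specializes _ _).2 h1) ?_)
    rw [show (t : PrimeSpectrum Γ(X.left, ⊤)).asIdeal = ⊥ from ht]
    exact bot_le
  have hmax : T.asIdeal.IsMaximal := isMaximal_of_ne_bot hX T.asIdeal ht
  let α : R →+* Γ(X.left, ⊤) := ((Scheme.ΓSpecIso (CommRingCat.of R)).inv ≫ X.hom.appTop).hom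
  letI := α.toAlgebra
  haveI : Algebra.IsIntegral R Γ(X.left, ⊤) := ⟨fun v => by
    have hi : α.IsIntegral := RingHom.IsIntegral.trans _ _
      (RingHom.isIntegral_of_surjective _ (ConcreteCategory.bijective_of_isIso (Scheme.ΓSpecIso (CommRingCat.of R)).inv).2)
      (isIntegral_appTop_of_universallyClosed X.hom)
    exact hi v⟩
  have hfac : X.hom = X.left.toSpecΓ ≫ Spec.map (CommRingCat.ofHom α) := by
    rw [show CommRingCat.ofHom α = (Scheme.ΓSpecIso (CommRingCat.of R)).inv ≫ X.hom.appTop from rfl, Spec.map_comp,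
      ← Scheme.toSpecΓ_naturality_assoc]
    simp [Scheme.isoSpec]
  let s : Spec (CommRingCat.of R) := Spec.map (CommRingCat.ofHom α) t
  have hTs : X.left.toSpecΓ ⁻¹' {t} ⊆ X.hom ⁻¹' {s} := fun z (hz : X.left.toSpecΓ z = t) => by
    show X.hom z = s
    rw [hfac, Scheme.Hom.comp_apply, hz]
    rfl
  let F := X.hom.fiber s
  let j : F ⟶ X.left := X.hom.fiberι s
  haveI : Smooth (X.hom.fiberToSpecResidueField s) := MorphismProperty.pullback_snd _ _ ‹_›
  haveI : IsLocallyNoetherian F := LocallyOfFiniteType.isLocallyNoetherian (X.hom.fiberToSpecResidueField s)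
  haveI : NoetherianSpace F := j.isEmbedding.isInducing.noetherianSpace
  have hF : ∀ z : F, IsDomain (F.presheaf.stalk z) := fun z => by
    haveI := ASp.isRegularLocalRing_stalk_of_smooth_field (X.hom.fiberToSpecResidueField s) z
    exact RegLocal.isDomain _
  have himg : j '' (j ⁻¹' (X.left.toSpecΓ ⁻¹' {t})) = X.left.toSpecΓ ⁻¹' {t} := by
    rw [Set.image_preimage_eq_inter_range, Set.inter_eq_left, X.hom.range_fiberι]
    exact hTs
  rw [← himg]
  refine (isPreirreducible_of_domain_stalks hF
    (((PrimeSpectrum.isClosed_singleton_iff_isMaximal T).2 hmax).preimage X.left.toSpecΓ.continuous |>.preimage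
      j.continuous) ?_ fun a b hab (hb : X.left.toSpecΓ (j b) = t) => ?_).image j j.continuous.continuousOn
  · refine j.isEmbedding.isInducing.isPreconnected_image.1 ?_
    rw [himg]
    exact isPreconnected_fibre_toSpecΓ X.left t
  show X.left.toSpecΓ (j a) = t
  let P : PrimeSpectrum Γ(X.left, ⊤) := X.left.toSpecΓ (j a)
  have h1 : P.asIdeal ≤ T.asIdeal := by
    have h := (hab.map j.continuous).map X.left.toSpecΓ.continuous
    rw [hb] at h
    exact (PrimeSpectrum.le_iff_specializes P T).2 h
  have h2 : P.asIdeal.comap α = T.asIdeal.comap α := by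
    have h : X.hom (j a) = s := (Set.ext_iff.1 (X.hom.range_fiberι s) _).1 ⟨a, rfl⟩
    rw [hfac, Scheme.Hom.comp_apply] at h
    exact congrArg PrimeSpectrum.asIdeal h
  have h3 : P.asIdeal ≠ ⊥ := fun h => ht (Ideal.eq_bot_of_comap_eq_bot (R := R) (I := T.asIdeal) (by
    rw [show algebraMap R Γ(X.left, ⊤) = α from rfl, ← h2, h, Ideal.comap_bot_of_injective]
    refine (injective_iff_map_eq_zero α).2 fun r hr => by_contra fun hr0 => ?_
    have hD : genericPoint X.left ∈ X.hom ⁻¹ᵁ (Spec (CommRingCat.of R)).basicOpen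
        ((Scheme.ΓSpecIso (CommRingCat.of R)).inv r) := by
      show X.hom (genericPoint X.left) ∈ (Spec (CommRingCat.of R)).basicOpen _
      rw [apply_genericPoint hX, basicOpen_eq_of_affine]
      show r ∉ (genericPoint (Spec (CommRingCat.of R)) : PrimeSpectrum R).asIdeal
      rw [asIdeal_genericPoint]
      exact fun h => hr0 (Ideal.mem_bot.1 h)
    rw [Scheme.preimage_basicOpen] at hD
    change genericPoint X.left ∈ X.left.basicOpen (α r) at hD
    rw [hr, Scheme.basicOpen_zero] at hD
    exact hD))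
  exact PrimeSpectrum.ext ((isMaximal_of_ne_bot hX P.asIdeal h3).eq_of_le hmax.ne_top h1)

/-- **Smooth arithmetic surfaces are relatively minimal.** -/
theorem isRelMinimal_of_smooth (hX : ArSurf.IsArithSurface R X) [Smooth X.hom] :
    Neron.IsRelMinimalRegularModel R X := by
  refine ⟨hX.1, hX.2.2.2.2, hX.2.2.2.1, fun Y hYr hYp hYf g hg => ?_⟩
  obtain ⟨hY, V₀, hV₀, hV₀i⟩ := arith_of_generic_iso hg hX hYr hYp hYf
  haveI := hX.2.1
  haveI := hY.2.1
  haveI := (arSurf_facts hX).2
  haveI := (arSurf_facts hY).2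
  haveI := isProper_hom_left hX hY g
  by_contra hgi
  obtain ⟨y, hy⟩ : ∃ y : Y.left, ∀ V : Y.left.Opens, y ∈ V → ¬ IsIso (g.left ∣_ V) := by
    by_contra h
    push Not at h
    choose V hV hVi using h
    haveI : IsIso g.left := (IsZariskiLocalAtTarget.iff_of_iSup_eq_top (P := MorphismProperty.isomorphisms Scheme) V
      (top_le_iff.1 fun y _ => Opens.mem_iSup.2 ⟨y, hV y⟩)).2 hVi
    haveI : IsIso ((Over.forget _).map g) := ‹IsIso g.left›
    exact hgi (isIso_of_reflects_iso g (Over.forget _))
  obtain ⟨hyc, -⟩ := closed_of_not_iso hY.1 hY.2.2.1.le g.left ⟨V₀, hV₀, hV₀i⟩ y hy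
  have hn' : IsIntegrallyClosed (Y.left.presheaf.stalk y) := by
    haveI := hYr y
    exact (PurityLib.isIntegrallyClosed_of_regular _).2
  have hsurj : Function.Surjective g.left := fun z => by
    obtain ⟨hgen, -⟩ := BirQFLib.birational_of_isIso_restrict g.left V₀ hV₀ hV₀i
    have hz := BirQFLib.denseRange_generic g.left hgen z
    rwa [g.left.isClosedMap.isClosed_range.closure_eq] at hz
  obtain ⟨ξ, hξ, -⟩ := exists_contracted g.left ⟨V₀, hV₀, hV₀i⟩ y hyc hn' hsurj hy
  exact (contracted_subset_badSet hg hX hY ⟨V₀, hV₀, hV₀i⟩ hξ).2 (isPreirreducible_fibre_of_smooth hX _)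

end Groth.Agent.CastLib
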