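import Groth.Agent.CastLib.Koszul
import Groth.Agent.CastLib.Regular
import Groth.Agent.CastLib.ColengthDrop
import Groth.Agent.AmpleEmb.GenRatio
import Groth.Agent.AmpleEmb.Immersion
import Groth.Agent.BlowChartLib.Transport
import Groth.Agent.S8914

/-!
# The blow-up of a finitely generated ideal of a ring inside projective space
-/

set_option autoImplicit false
set_option backward.isDefEq.respectTransparency false
set_option linter.style.haveILetI false
set_option maxHeartbeats 1000000

universe u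

open CategoryTheory CategoryTheory.Limits AlgebraicGeometry TopologicalSpace Opposite
open Groth.Agent.PullbackMod Groth.Agent.DCohLib Groth.Agent.AmpleLib Groth.Agent.ParaFLib
open Groth.Agent.BlowChartLib

noncomputable section

namespace Groth.Agent.CastLib.BlowPn

variable {A : Type u} [CommRing A] {n : ℕ} (g : Fin (n + 1) → A) {X : Scheme.{u}} (b : X ⟶ Spec (CommRingCat.of A))

/-- The ideal of the centre. -/
abbrev centre : (Spec (CommRingCat.of A)).IdealSheafData := Curv2.idealSheaf A (Ideal.span (Set.range g))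

/-- The exceptional ideal. -/
abbrev K : X.IdealSheafData := BlowUp.exceptional b (centre g)

/-- The generators on the blow-up. -/
abbrev fn (i : Fin (n + 1)) : Γ(X, ⊤) := Coh.toGlobal b (g i)

/-- The germs of the generators generate the exceptional ideal. -/
theorem stalk_K (x : X) :
    IntMult.stalkIdeal (K g b) x = Ideal.span (Set.range fun i => (X.presheaf.germ ⊤ x trivial).hom (fn g b i)) := by
  letI : X.Over (Spec (CommRingCat.of A)) := ⟨b⟩
  refine (ColengthDrop.stalkIdeal_comap_idealSheaf (A := A) (X := X) _ x).trans ?_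
  rw [Ideal.map_span, ← Set.range_comp]
  rfl

theorem exists_lift (i : Fin (n + 1)) :
    ∃ σ : Coh.structureModule X ⟶ ClSub.idealMod (K g b),
      σ ≫ ClSub.idealModι (K g b) = Formal.smulModΓ (Coh.structureModule X) (fn g b i) :=
  exists_ideal_lift (K g b) fun x => by
    rw [stalk_K]
    exact Ideal.subset_span ⟨i, rfl⟩

/-- The sections of the exceptional ideal. -/
def s (i : Fin (n + 1)) : Coh.structureModule X ⟶ ClSub.idealMod (K g b) := (exists_lift g b i).choose

theorem sec_s (i : Fin (n + 1)) : sec (s g b i ≫ ClSub.idealModι (K g b)) = fn g b i := by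
  rw [s, (exists_lift g b i).choose_spec]
  show (X.presheaf.map (homOfLE (le_top : (⊤ : X.Opens) ≤ ⊤)).op (fn g b i) : Γ(X, ⊤)) * 1 = fn g b i
  rw [mul_one]
  exact ConcreteCategory.congr_hom (X.presheaf.map_id _) _

variable {g b} (hb : BlowUp.IsBlowUp b (centre g))

include hb in
theorem inv_K : PicF.IsInvertible (ClSub.idealMod (K g b)) := (S8914.result _).2 hb.1

/-- The open set where the `i`-th generator generates. -/
abbrev U (g : Fin (n + 1) → A) (b : X ⟶ Spec (CommRingCat.of A)) (i : Fin (n + 1)) : X.Opens :=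
  CohB1.genLocus _ (s g b i)

include hb in
/-- A point is in the `i`-th open when the generator generates the exceptional ideal there. -/
theorem mem_U_iff {i : Fin (n + 1)} {x : X} :
    x ∈ U g b i ↔ IntMult.stalkIdeal (K g b) x = Ideal.span {(X.presheaf.germ ⊤ x trivial).hom (fn g b i)} := by
  refine ⟨fun h => ?_, fun h => ?_⟩
  · have h1 := stalkIdeal_eq_span_of_gen hb.1 (s g b i) h
    rwa [sec_s] at h1
  · let f := (X.presheaf.germ ⊤ x trivial).hom (fn g b i)
    let ι := stalkLin (ClSub.idealModι (K g b)) x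
    have hinj : Function.Injective ι := (mono_iff_stalk _).1 (by unfold ClSub.idealModι; infer_instance) x
    let m₀ := stalkLin (s g b i) x (ParaFLib.oneG x)
    have hm₀ : ι m₀ = f • ParaFLib.oneG x := by
      show stalkLin _ x (stalkLin _ x _) = _
      rw [← LinearMap.comp_apply, ← stalkLin_comp, s, (exists_lift g b i).choose_spec, BCLib.stalkLin_smulModΓ]
    obtain ⟨c, hc, hcI⟩ := BlowExistsLib.exists_stalk_generator hb.1 x
    have hf : f ∈ nonZeroDivisors (X.presheaf.stalk x) := by
      obtain ⟨d, hd⟩ := Ideal.mem_span_singleton'.1 (h.le (hcI.ge (Ideal.mem_span_singleton_self c)))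
      have h2 : d * f ∈ nonZeroDivisors (X.presheaf.stalk x) := by rwa [show d * f = c from hd]
      exact (mul_mem_nonZeroDivisors.1 h2).2
    refine (mem_genLocus_iff (inv_K hb)).2 ?_
    rw [show (ClSub.idealMod (K g b)).presheaf.germ ⊤ x trivial (sec (s g b i)) = m₀ from
      (stalkLin_germ (s g b i) (U := ⊤) x trivial _).symm]
    refine ⟨fun p q hpq => ?_, fun m => ?_⟩
    · have h3 : ι (p • m₀) = ι (q • m₀) := congrArg ι hpq
      rw [map_smul, map_smul, hm₀, smul_smul, smul_smul] at h3
      exact (mul_cancel_right_mem_nonZeroDivisors hf).1 ((ParaFLib.bijective_oneG x).1 h3)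
    · obtain ⟨r, hr⟩ := (ParaFLib.bijective_oneG x).2 (ι m)
      obtain ⟨t, ht⟩ := Ideal.mem_span_singleton'.1 (h.le ((HilbObsLib.mem_range_idealModι (K g b) x r).1 ⟨m, hr.symm⟩))
      refine ⟨t, hinj ?_⟩
      show ι (t • m₀) = ι m
      rw [map_smul, hm₀, smul_smul, ht]
      exact hr

include hb in
theorem cover : iSup (U g b) = ⊤ := by
  refine top_le_iff.1 fun x _ => Opens.mem_iSup.2 ?_
  by_contra hn
  push Not at hn
  obtain ⟨c, hc, hcI⟩ := BlowExistsLib.exists_stalk_generator hb.1 x
  have hle : Ideal.span {c} ≤ IsLocalRing.maximalIdeal (X.presheaf.stalk x) * Ideal.span {c} := by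
    conv_lhs => rw [← hcI, stalk_K]
    rw [Ideal.span_le]
    rintro _ ⟨i, rfl⟩
    obtain ⟨d, hd⟩ := Ideal.mem_span_singleton'.1 (hcI.le (by rw [stalk_K]; exact Ideal.subset_span ⟨i, rfl⟩) :
      (X.presheaf.germ ⊤ x trivial).hom (fn g b i) ∈ Ideal.span {c})
    refine Ideal.mem_mul_span_singleton.2 ⟨d, ?_, hd⟩
    by_contra hu
    exact hn i ((mem_U_iff hb).2 (hcI.trans (by
      rw [← hd, Ideal.span_singleton_mul_left_unit (IsLocalRing.notMem_maximalIdeal.1 hu)])))
  obtain ⟨p, hp, hpf⟩ := Ideal.mem_mul_span_singleton.1 (hle (Ideal.mem_span_singleton_self c))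
  have hp1 : p = 1 := (mul_cancel_right_mem_nonZeroDivisors hc).1 (by rw [one_mul, hpf])
  exact (IsLocalRing.maximalIdeal.isMaximal (X.presheaf.stalk x)).ne_top ((Ideal.eq_top_iff_one _).2 (hp1 ▸ hp))

include hb in
theorem gen_U (i : Fin (n + 1)) : Gen (U g b i) (resT (sec (s g b i)) (U g b i)) :=
  AmpleEmb.gen_genLocus (inv_K hb) _

include hb in
theorem exists_t (i a : Fin (n + 1)) :
    ∃ t : Γ(X, U g b i), t • resT (sec (s g b i)) (U g b i) = resT (sec (s g b a)) (U g b i) := by
  obtain ⟨t, ht⟩ := (gen_U hb i _ le_rfl).2 (resT (sec (s g b a)) (U g b i))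
  refine ⟨t, ?_⟩
  simpa only [ParaFLib.res_self] using ht

/-- The ratios. -/
def t (i a : Fin (n + 1)) : Γ(X, U g b i) := (exists_t hb i a).choose

theorem ht (i a : Fin (n + 1)) : t hb i a • resT (sec (s g b i)) (U g b i) = resT (sec (s g b a)) (U g b i) :=
  (exists_t hb i a).choose_spec

/-- The generators with their ratios. -/
def family : GenMorph.RatioFamily X n where
  U := U g b
  cover := cover hb
  t := t hb
  t_self i := by
    refine (gen_U hb i _ le_rfl).1 ?_
    simp only [ParaFLib.res_self, one_smul]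
    exact ht hb i i
  t_open i a := by
    rw [← genLocus_inf_eq_basicOpen (s g b a) (gen_U hb i) (ht hb i a), inf_comm]
  t_mul i j a := by
    refine ((gen_U hb j).res (inf_le_right : U g b i ⊓ U g b j ≤ U g b j) _ le_rfl).1 ?_
    have h1 := congrArg ((ClSub.idealMod (K g b)).presheaf.map (homOfLE (inf_le_right : U g b i ⊓ U g b j ≤ U g b j)).op) (ht hb j a)
    have h2 := congrArg ((ClSub.idealMod (K g b)).presheaf.map (homOfLE (inf_le_right : U g b i ⊓ U g b j ≤ U g b j)).op) (ht hb j i)
    have h3 := congrArg ((ClSub.idealMod (K g b)).presheaf.map (homOfLE (inf_le_left : U g b i ⊓ U g b j ≤ U g b i)).op) (ht hb i a)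
    rw [(ClSub.idealMod (K g b)).map_smul] at h1 h2 h3
    simp only [resT, ParaFLib.res_res, ParaFLib.res_self] at h1 h2 h3 ⊢
    rw [h1, mul_comm, mul_smul, h2, h3]

/-- The morphism to projective space. -/
def r : X ⟶ CohB1.ProjSpace n A := GenMorph.toProj (Coh.toGlobal b) (family hb)

theorem r_toSpec : r hb ≫ CohB1.ProjSpace.toSpec n A = b :=
  GenMorph.toProj_toSpec (Coh.toGlobal b) (family hb) b rfl

theorem pullback_twist :
    Nonempty ((Scheme.Modules.pullback (r hb)).obj (Twist.twistProjSpace n A 1) ≅ ClSub.idealMod (K g b)) := by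
  obtain ⟨θ⟩ := GenMorph.nonempty_iso_pullback_twistOne (Coh.toGlobal b) (family hb) (s g b) (gen_U hb) (ht hb)
  exact ⟨θ.symm⟩

include hb in
/-- The functions on the `i`-th open are generated by the ratios. -/
theorem affine_and_surjective (i : Fin (n + 1)) : IsAffineOpen (U g b i) ∧
    Function.Surjective (MvPolynomial.eval₂Hom (AmpleEmb.constV (Coh.toGlobal b) (U g b i)) (t hb i)) := by
  classical
  let W : (Spec (CommRingCat.of A)).affineOpens := ⟨⊤, isAffineOpen_top _⟩
  let si : A →+* Γ(Spec (CommRingCat.of A), W.1) := (Scheme.ΓSpecIso (CommRingCat.of A)).inv.hom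
  have hI : (centre g).ideal W = Ideal.span (Set.range (si ∘ g)) := by
    show (Scheme.IdealSheafData.ofIdealTop _).ideal _ = _
    rw [Scheme.IdealSheafData.ofIdealTop_ideal]
    simp only [W, homOfLE_refl, op_id, CategoryTheory.Functor.map_id, CommRingCat.hom_id, Ideal.map_id]
    rw [Set.range_comp, ← Ideal.map_span]
  have hgi : ∀ a, si (g a) ∈ (centre g).ideal W := fun a => hI ▸ Ideal.subset_span ⟨a, rfl⟩
  have hgerm : ∀ (V : X.Opens) (e : V ≤ b ⁻¹ᵁ W.1) (a : Fin (n + 1)) (x : X) (hx : x ∈ V),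
      (X.presheaf.germ V x hx).hom ((b.appLE W.1 V e).hom (si (g a))) =
        (X.presheaf.germ ⊤ x trivial).hom (fn g b a) := fun V e a x hx => by
    show (b.app W.1 ≫ X.presheaf.map (homOfLE e).op ≫ X.presheaf.germ V x hx).hom (si (g a)) = _
    rw [TopCat.Presheaf.germ_res]
    rfl
  -- the chart is the open
  have hU : U g b i = chartOpen (centre g) W (si (g i)) b := by
    refine le_antisymm (fun x hx => ?_) (fun x hx => ?_)
    · obtain ⟨V, e, hxV, f, hf, hIV, hmap⟩ := exists_generator_near (centre g) W b hb x trivial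
      obtain ⟨d, hd⟩ := Ideal.mem_span_singleton'.1 (hmap ▸ Ideal.mem_map_of_mem (b.appLE W.1 V.1 e).hom (hgi i))
      refine Opens.mem_iSup.2 ⟨⟨_, isGood_basicOpen (centre g) W (si (g i)) b e hf hIV hd.symm⟩, ?_⟩
      rw [show ((X.affineBasicOpen (U := V) d).1 : X.Opens) = X.basicOpen d from rfl, X.mem_basicOpen d x hxV]
      have h1 := congrArg (X.presheaf.germ V.1 x hxV).hom hd
      rw [map_mul, hgerm] at h1
      have h2 : (X.presheaf.germ V.1 x hxV).hom f ∈ IntMult.stalkIdeal (K g b) x := by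
        rw [IdealStalkLib.stalkIdeal_eq (K g b) V x hxV]
        exact Ideal.mem_map_of_mem _ (hIV ▸ Ideal.mem_span_singleton_self f)
      rw [(mem_U_iff hb).1 hx] at h2
      obtain ⟨c, hc⟩ := Ideal.mem_span_singleton'.1 h2
      rw [← h1] at hc
      have hfn : (X.presheaf.germ V.1 x hxV).hom f ∈ nonZeroDivisors (X.presheaf.stalk x) := by
        obtain ⟨z, hz, hzI⟩ := BlowExistsLib.exists_stalk_generator hb.1 x
        obtain ⟨w, hw⟩ := Ideal.mem_span_singleton'.1 (show z ∈ Ideal.span {(X.presheaf.germ V.1 x hxV).hom f} from by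
          have h3 := hzI.ge (Ideal.mem_span_singleton_self z)
          rw [IdealStalkLib.stalkIdeal_eq (K g b) V x hxV, hIV, Ideal.map_span, Set.image_singleton] at h3
          exact h3)
        exact (mul_mem_nonZeroDivisors.1 (show w * _ ∈ nonZeroDivisors (X.presheaf.stalk x) by rw [hw]; exact hz)).2
      exact IsUnit.of_mul_eq_one_right c ((mul_cancel_right_mem_nonZeroDivisors hfn).1
        (by rw [one_mul, mul_assoc, hc]))
    · obtain ⟨⟨V, e, hn, hIV⟩, hxV⟩ := Opens.mem_iSup.1 hx
      refine (mem_U_iff hb).2 ?_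
      rw [IdealStalkLib.stalkIdeal_eq (K g b) V x hxV, hIV, Ideal.map_span, Set.image_singleton, hgerm]
  haveI : IsAffine (U g b i).toScheme := by
    obtain ⟨e, -⟩ := isOpenImmersion_hom (centre g) W (si (g i)) b (hgi i) hb
    rw [hU]; exact IsAffine.of_isIso e.hom
  refine ⟨‹_›, fun z => ?_⟩
  obtain ⟨e, he⟩ : ∃ e : (U g b i).toScheme ≅ Spec (CommRingCat.of (ChartAlg (centre g) W (si (g i)))),
      e.hom ≫ chartMap (centre g) W (si (g i)) = (U g b i).ι ≫ b := by
    rw [hU]; exact isOpenImmersion_hom (centre g) W (si (g i)) b (hgi i) hb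
  let ψ : ChartAlg (centre g) W (si (g i)) →+* Γ(X, U g b i) :=
    ((Scheme.ΓSpecIso (CommRingCat.of (ChartAlg (centre g) W (si (g i))))).inv ≫ e.hom.appTop ≫
      (U g b i).topIso.hom).hom
  have hψs : Function.Surjective ψ := (ConcreteCategory.bijective_of_isIso
    ((Scheme.ΓSpecIso (CommRingCat.of (ChartAlg (centre g) W (si (g i))))).inv ≫ e.hom.appTop ≫
      (U g b i).topIso.hom)).2
  have hψa : ∀ a : Γ(Spec (CommRingCat.of A), W.1),
      ψ (algebraMap _ _ a) = (b.appLE W.1 (U g b i) le_top).hom a := by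
    intro a
    have h1 : (b.appLE W.1 (U g b i) le_top) =
        CommRingCat.ofHom (algebraMap Γ(Spec (CommRingCat.of A), W.1) (ChartAlg (centre g) W (si (g i)))) ≫
          CommRingCat.ofHom ψ := by
      haveI : IsAffine (U g b i).toScheme := ‹_›
      apply Spec.map_injective
      rw [← cancel_mono W.2.fromSpec, IsAffineOpen.SpecMap_appLE_fromSpec b W.2 ‹_› le_top, Spec.map_comp,
        Category.assoc, IsAffineOpen.fromSpec, Category.assoc, ← he]
      show _ = _ ≫ chartMap (centre g) W (si (g i))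
      rw [show CommRingCat.ofHom ψ = (Scheme.ΓSpecIso (CommRingCat.of (ChartAlg (centre g) W (si (g i))))).inv ≫
        e.hom.appTop ≫ (U g b i).topIso.hom from rfl, Spec.map_comp, Spec.map_comp]
      simp only [IsAffineOpen.isoSpec_inv, Category.assoc]
      rw [show Spec.map (Scheme.ΓSpecIso (CommRingCat.of (ChartAlg (centre g) W (si (g i))))).inv =
        (Spec (CommRingCat.of (ChartAlg (centre g) W (si (g i))))).isoSpec.inv from (Scheme.isoSpec_Spec_inv _).symm,
        Scheme.isoSpec_inv_naturality_assoc]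
      rfl
    exact (congrArg (fun h => h.hom a) h1).symm
  -- fractions are ratios
  let S : Subring Γ(X, U g b i) :=
    (MvPolynomial.eval₂Hom (AmpleEmb.constV (Coh.toGlobal b) (U g b i)) (t hb i)).range
  have key : ∀ w : ChartAlg (centre g) W (si (g i)), ψ w ∈ S := by
    have hconst : ∀ a : Γ(Spec (CommRingCat.of A), W.1), (b.appLE W.1 (U g b i) le_top).hom a ∈ S := fun a => by
      obtain ⟨a, rfl⟩ := (Scheme.ΓSpecIso (CommRingCat.of A)).commRingCatIsoToRingEquiv.symm.surjective a
      exact ⟨MvPolynomial.C a, by rw [MvPolynomial.eval₂Hom_C]; rfl⟩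
    intro w
    refine induction_frac (P := fun w => ψ w ∈ S) (fun a => ?_) (fun x hx => ?_)
      (fun p q hp hq => by rw [map_add]; exact add_mem hp hq)
      (fun p q hp hq => by rw [map_mul]; exact mul_mem hp hq) w
    · rw [hψa]; exact hconst a
    · obtain ⟨c, hc⟩ := Ideal.mem_span_range_iff_exists_fun.1 (hI.le hx)
      rw [frac_linear (a := si (g i)) c (si ∘ g) hgi x hx hc, map_sum]
      refine sum_mem fun j _ => ?_
      rw [map_mul, hψa]
      refine mul_mem (hconst (c j)) ⟨MvPolynomial.X j, ?_⟩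
      rw [MvPolynomial.eval₂Hom_X']
      -- both are quotients by a nonzerodivisor
      have h2 := congrArg ψ (frac_mul (a := si (g i)) (si (g j)) (hgi j))
      rw [map_mul, hψa, hψa] at h2
      have h3 := congrArg (fun m => ((ClSub.idealModι (K g b)).app (U g b i)) m) (ht hb i j)
      simp only at h3
      rw [Scheme.Modules.Hom.app_smul] at h3
      have h4 : ∀ a, (ClSub.idealModι (K g b)).app (U g b i) (resT (sec (s g b a)) (U g b i)) =
          (b.appLE W.1 (U g b i) le_top).hom (si (g a)) := fun a => by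
        have h5 := app_eq (s g b a ≫ ClSub.idealModι (K g b)) (U g b i) 1
        rw [sec_s, one_smul] at h5
        refine Eq.trans ?_ (h5.trans rfl)
        rw [Scheme.Modules.Hom.comp_app, ConcreteCategory.comp_apply]
        congr 1
        exact ((app_eq (s g b a) (U g b i) 1).trans (one_smul _ _)).symm
      rw [h4, h4] at h3
      change t hb i j * _ = _ at h3
      refine TopCat.Presheaf.section_ext X.sheaf (U g b i) _ _ fun x hx => ?_
      obtain ⟨z, hz, hzI⟩ := BlowExistsLib.exists_stalk_generator hb.1 x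
      obtain ⟨w', hw⟩ := Ideal.mem_span_singleton'.1 (((mem_U_iff hb).1 hx).le (hzI.ge (Ideal.mem_span_singleton_self z)))
      have hn : (X.presheaf.germ ⊤ x trivial).hom (fn g b i) ∈ nonZeroDivisors (X.presheaf.stalk x) :=
        (mul_mem_nonZeroDivisors.1 (show w' * _ ∈ nonZeroDivisors (X.presheaf.stalk x) by rw [hw]; exact hz)).2
      refine (mul_cancel_right_mem_nonZeroDivisors hn).1 ?_
      rw [← hgerm (U g b i) le_top i x hx]
      show (X.presheaf.germ _ x hx).hom _ * _ = (X.presheaf.germ _ x hx).hom _ * _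
      rw [← map_mul, ← map_mul, h3]
      exact congrArg _ h2.symm
  obtain ⟨w, rfl⟩ := hψs z
  exact key w

/-- The blow-up is closed in projective space. -/
theorem isClosedImmersion_r : IsClosedImmersion (r hb) := by
  refine IsZariskiLocalAtTarget.of_iSup_eq_top (fun i : Fin (n + 1) => AmpleEmb.stdOpen n A i)
    (AmpleEmb.iSup_stdOpen n A) fun i => ?_
  obtain ⟨hUa, hs⟩ := affine_and_surjective hb i
  refine AmpleEmb.isClosedImmersion_morphismRestrict_of_surjective (r hb)
    (GenMorph.preimage_basicOpen (Coh.toGlobal b) (family hb) i) (AmpleEmb.isAffineOpen_stdOpen n A i) hUa ?_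
  intro z
  obtain ⟨p, rfl⟩ := hs z
  let θ := ((r hb).appLE (AmpleEmb.stdOpen n A i) (U g b i)
    (GenMorph.le_preimage_stdOpen (Coh.toGlobal b) (family hb) i)).hom
  let cst : A →+* Γ(CohB1.ProjSpace n A, AmpleEmb.stdOpen n A i) :=
    ((CohB1.ProjSpace n A).presheaf.map (homOfLE (le_top : AmpleEmb.stdOpen n A i ≤ ⊤)).op).hom.comp
      (Coh.toGlobal (CohB1.ProjSpace.toSpec n A))
  have hc : ∀ a : A, θ (cst a) = AmpleEmb.constV (Coh.toGlobal b) (U g b i) a := fun a => by
    have h := r_toSpec hb
    show ((r hb).appLE _ _ _).hom (((CohB1.ProjSpace n A).presheaf.map _).hom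
      ((CohB1.ProjSpace.toSpec n A).appTop.hom ((Scheme.ΓSpecIso (CommRingCat.of A)).inv.hom a))) = _
    rw [← CommRingCat.comp_apply (g := (r hb).appLE _ _ _), Scheme.Hom.map_appLE]
    have h2 : ∀ e : U g b i ≤ r hb ⁻¹ᵁ ⊤, (CohB1.ProjSpace.toSpec n A).appTop ≫ (r hb).appLE ⊤ (U g b i) e =
        b.appTop ≫ X.presheaf.map (homOfLE (le_top : U g b i ≤ ⊤)).op := fun e => by
      rw [Scheme.Hom.appLE, ← Category.assoc]
      show ((CohB1.ProjSpace.toSpec n A).appTop ≫ (r hb).appTop) ≫ _ = _
      rw [← Scheme.Hom.comp_appTop, h]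
    exact ConcreteCategory.congr_hom (h2 _) _
  refine ⟨MvPolynomial.eval₂Hom cst (fun a => AmpleEmb.coordRatio n A i a) p, ?_⟩
  show θ _ = _
  rw [← RingHom.comp_apply, show θ.comp (MvPolynomial.eval₂Hom cst fun a => AmpleEmb.coordRatio n A i a) =
      MvPolynomial.eval₂Hom (AmpleEmb.constV (Coh.toGlobal b) (U g b i)) (t hb i) from
    MvPolynomial.ringHom_ext (fun a => by simpa using hc a) (fun a => by
      simp only [RingHom.comp_apply, MvPolynomial.eval₂Hom_X']
      exact GenMorph.toProj_appLE_ratio (Coh.toGlobal b) (family hb) i a)]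

end Groth.Agent.CastLib.BlowPn
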