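import Groth.Agent.CastLib.InterForm
import Groth.Agent.CastLib.EulerFlat
import Mathlib.AlgebraicGeometry.ZariskisMainTheorem

/-!
# Existence of component lists
-/

set_option autoImplicit false
set_option backward.isDefEq.respectTransparency false
set_option linter.style.haveILetI false
set_option maxHeartbeats 1000000

universe u

open CategoryTheory CategoryTheory.Limits AlgebraicGeometry TopologicalSpace IsLocalRing

noncomputable section

namespace Groth.Agent.CastLib

open Groth.Agent.SurfPtBlow

variable {R : Type u} [CommRing R] [IsDomain R] [IsDiscreteValuationRing R]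

/-- A point of codimension one on the closed fibre is not closed. -/
theorem not_isClosed_of_coheight_one {C Y : Scheme.{u}} {f : C ⟶ Spec (CommRingCat.of (FractionRing R))}
    {p : Y ⟶ Spec (CommRingCat.of R)} (hC : Curve.IsSmoothProperCurve (FractionRing R) C f)
    (hY : Models.IsRegularProperModel R Y p C f) {ξ : Y} (hξ : p ξ = closedPoint R)
    (h1 : Order.coheight ξ = 1) : ¬ IsClosed ({ξ} : Set Y) := by
  intro hcl
  have hV := VSurf.of_model hC hY
  obtain ⟨g, hg⟩ := hY.1.2.2.2
  haveI : IsIntegral Y := hV.int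
  haveI : IsNoetherian Y := hV.noeth
  haveI : IsProper p := hY.2.1
  haveI : IsIntegral C := hC.2.2.1
  haveI := isOpenImmersion_gen hg
  obtain ⟨n, ζ, a, hco, -, -, hall, -, hfib⟩ := hV.toFibreGood.exists_fibre_decomp
  let G : Set Y := ⋃ i ∈ {i | ζ i ≠ ξ}, closure {ζ i}
  have hGc : IsClosed G := (Set.toFinite _).isClosed_biUnion fun _ _ => isClosed_closure
  have hξG : ξ ∉ G := fun h => by
    simp only [G, Set.mem_iUnion, exists_prop, Set.mem_setOf_eq] at h
    obtain ⟨i, hi, hmem⟩ := h
    have h3 := S8909.succ_le (specializes_iff_mem_closure.2 hmem) hi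
    rw [h1, hco i] at h3
    exact absurd h3 (by decide)
  have hcov : ∀ y, p y = closedPoint R → y = ξ ∨ y ∈ G := fun y hy => by
    by_contra hcon
    rw [not_or] at hcon
    have htop : IntMult.stalkIdeal (fibreIdeal p) y = ⊤ := by
      rw [show fibreIdeal p = ∏ i, cl (ζ i) ^ a i from hfib, stalkIdeal_prod', ← Ideal.one_eq_top]
      refine Finset.prod_eq_one fun i _ => ?_
      rw [IdealMulLib.stalkIdeal_eq_top _ (fun hmem => ?_), ← Ideal.one_eq_top, one_pow]
      rw [mem_support_cl] at hmem
      by_cases hi : ζ i = ξ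
      · rw [hi, specializes_iff_mem_closure, hcl.closure_eq] at hmem
        exact hcon.1 hmem
      · exact hcon.2 (Set.mem_biUnion (show i ∈ {i | ζ i ≠ ξ} from hi) (specializes_iff_mem_closure.1 hmem))
    exact (IsLocalRing.maximalIdeal.isMaximal _).ne_top (top_le_iff.1 (htop ▸
      IdealStalkLib.stalkIdeal_le_maximal (fibreIdeal p) ((FibreGood.mem_fibre (X := Over.mk p)).2 hy)))
  have hq : p.QuasiFiniteAt ξ := by
    rw [Scheme.Hom.quasiFiniteAt_iff_isOpen_singleton_asFiber, ← (p.fiberHomeo (p ξ)).isOpen_image]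
    simp only [Set.image_singleton, Scheme.Hom.asFiber, Homeomorph.apply_symm_apply]
    rw [isOpen_induced_iff]
    refine ⟨Gᶜ, hGc.isOpen_compl, Set.ext fun y => ?_⟩
    simp only [Set.mem_preimage, Set.mem_compl_iff, Set.mem_singleton_iff]
    refine ⟨fun hy => Subtype.ext ((hcov y.1 (y.2.trans hξ)).resolve_right hy), ?_⟩
    rintro rfl
    exact hξG
  have hqη : p.QuasiFiniteAt (g (genericPoint C)) := by
    rw [genericPoint_eq_of_isOpenImmersion g]
    exact (genericPoint_specializes ξ).mem_open p.isOpen_quasiFiniteAt hq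
  have hclosed := (hqη.isClopen_singleton_asFiber).1
  have h2 : IsClosed ({genericPoint C} : Set C) := by
    rw [← (p.fiberHomeo (p (g (genericPoint C)))).isClosed_image] at hclosed
    simp only [Set.image_singleton, Scheme.Hom.asFiber, Homeomorph.apply_symm_apply] at hclosed
    obtain ⟨T, hT, hTe⟩ := isClosed_induced_iff.1 hclosed
    have hsame : ∀ c, p (g c) = p (g (genericPoint C)) := fun c => by
      have h1 : ∀ c, p (g c) = (⟨⊥, Ideal.isPrime_bot⟩ : PrimeSpectrum R) := fun c => by
        have h2 : p (g c) ∈ Set.range (Spec.map (CommRingCat.ofHom (algebraMap R (FractionRing R)))) :=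
          ⟨f c, by rw [← Scheme.Hom.comp_apply, ← hg.w, Scheme.Hom.comp_apply]⟩
        rw [range_specGen] at h2
        exact h2
      rw [h1, h1]
    have hpre : g ⁻¹' T = {genericPoint C} := Set.ext fun c => by
      have h1 := congrArg (fun S => (⟨g c, hsame c⟩ : p ⁻¹' {p (g (genericPoint C))}) ∈ S) hTe
      simp only [Set.mem_preimage, Set.mem_singleton_iff, Subtype.mk.injEq, eq_iff_iff] at h1
      exact h1.trans ⟨fun h => g.isOpenEmbedding.injective h, fun h => by rw [h]⟩
    exact hpre ▸ hT.preimage g.continuous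
  have hu := (genericPoint_spec C).def
  rw [h2.closure_eq] at hu
  haveI : Subsingleton C := Set.subsingleton_univ_iff.1 (hu ▸ Set.subsingleton_singleton)
  have h0 := topologicalKrullDim_zero_of_discreteTopology C
  rw [hC.2.2.2] at h0
  exact absurd h0 (by decide)

/-- A vertical prime divisor with given generic point. -/
theorem exists_vertComp_genPt {C Y : Scheme.{u}} {f : C ⟶ Spec (CommRingCat.of (FractionRing R))}
    {p : Y ⟶ Spec (CommRingCat.of R)} (hC : Curve.IsSmoothProperCurve (FractionRing R) C f)
    (hY : Models.IsRegularProperModel R Y p C f) {ξ : Y} (hξ : p ξ = closedPoint R)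
    (h1 : Order.coheight ξ = 1) :
    ∃ Γ : ArSurf.VertComp R (Over.mk p), Set.range Γ.ι = closure {ξ} := by
  have hV := VSurf.of_model hC hY
  haveI : IsIntegral Y := hV.int
  let j := (cl ξ).subschemeι
  haveI hint : IsIntegral (cl ξ).subscheme :=
    CurveLib.isIntegral_vanishingIdeal isClosed_closure isIrreducible_singleton.closure
  have hr : Set.range j = closure {ξ} := by
    rw [Scheme.IdealSheafData.range_subschemeι, cl, Scheme.IdealSheafData.coe_support_vanishingIdeal]
    rfl
  have hvert : ∀ z, p (j z) = closedPoint R := fun z => by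
    have hsub : closure {ξ} ⊆ p ⁻¹' {closedPoint R} :=
      closure_minimal (Set.singleton_subset_iff.2 hξ)
        ((IsLocalRing.isClosed_singleton_closedPoint R).preimage p.continuous)
    exact hsub (hr.le ⟨z, rfl⟩)
  let res := Spec.map (CommRingCat.ofHom (IsLocalRing.residue R))
  haveI : IsClosedImmersion res := IsClosedImmersion.spec_of_surjective _ IsLocalRing.residue_surjective
  obtain ⟨t, ht⟩ := DVRCrit.exists_factor_closed res (j ≫ p) (by
    rintro _ ⟨c, rfl⟩
    exact ⟨IsLocalRing.closedPoint _, (IsLocalRing.comap_closedPoint (IsLocalRing.residue R)).trans (hvert c).symm⟩)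
  have hdim : topologicalKrullDim (cl ξ).subscheme = 1 := by
    refine le_antisymm (hV.dim_fibre j hvert) ?_
    obtain ⟨z, hz⟩ := hr.ge (subset_closure (Set.mem_singleton ξ))
    obtain ⟨y, hy, hne⟩ : ∃ y, ξ ⤳ y ∧ y ≠ ξ := by
      by_contra hcon
      push Not at hcon
      refine not_isClosed_of_coheight_one hC hY hξ h1 ?_
      rw [← closure_eq_iff_isClosed]
      exact Set.Subset.antisymm (fun y hy => hcon y (specializes_iff_mem_closure.2 hy)) subset_closure
    obtain ⟨w, hw⟩ := hr.ge (specializes_iff_mem_closure.1 hy)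
    have hsp : z ⤳ w := (j.isClosedEmbedding.isInducing.specializes_iff).1 (by rw [hz, hw]; exact hy)
    have hlt : w < z := lt_of_le_not_ge (Scheme.le_iff_specializes.2 hsp) fun h =>
      hne (hw.symm.trans ((congrArg j ((Scheme.le_iff_specializes.1 h).antisymm hsp).eq).trans hz))
    rw [ASp.topologicalKrullDim_eq_krullDim]
    exact Order.le_krullDim_iff.2 ⟨(RelSeries.singleton _ w).snoc z hlt, by simp [RelSeries.snoc]⟩
  exact ⟨⟨Over.mk t, j, inferInstance, hint, hdim, ht.symm⟩, hr⟩

/-- **Every model has a list of the components of its closed fibre.** -/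
theorem exists_componentList {C Y : Scheme.{u}} {f : C ⟶ Spec (CommRingCat.of (FractionRing R))}
    {p : Y ⟶ Spec (CommRingCat.of R)} (hC : Curve.IsSmoothProperCurve (FractionRing R) C f)
    (hY : Models.IsRegularProperModel R Y p C f) :
    ∃ (n : ℕ) (Γ : Fin n → ArSurf.VertComp R (Over.mk p)), Models.IsComponentList R (Over.mk p) Γ := by
  have hV := VSurf.of_model hC hY
  obtain ⟨n, ξ, a, hco, hinj, hvert, -, -, hfib⟩ := hV.toFibreGood.exists_fibre_decomp
  choose Γ hΓ using fun i => exists_vertComp_genPt hC hY (hvert i) (hco i)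
  refine ⟨n, Γ, hV.isComponentList_of_cover Γ (fun i j h => hinj ?_) fun x hx => ?_⟩
  · have h' : closure {ξ i} = closure {ξ j} := (hΓ i).symm.trans (h.trans (hΓ j))
    exact ((specializes_iff_mem_closure.2 (h' ▸ subset_closure (Set.mem_singleton (ξ j)))).antisymm
      (specializes_iff_mem_closure.2 (h'.symm ▸ subset_closure (Set.mem_singleton (ξ i))))).eq
  · by_contra hcon
    have htop : IntMult.stalkIdeal (fibreIdeal (Over.mk p).hom) x = ⊤ := by
      haveI := hV.int
      rw [show fibreIdeal (Over.mk p).hom = ∏ i, cl (ξ i) ^ a i from hfib, stalkIdeal_prod', ← Ideal.one_eq_top]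
      refine Finset.prod_eq_one fun i _ => ?_
      rw [IdealMulLib.stalkIdeal_eq_top _ (fun hmem => ?_), ← Ideal.one_eq_top, one_pow]
      rw [mem_support_cl] at hmem
      exact hcon ⟨i, (hΓ i).ge (specializes_iff_mem_closure.1 hmem)⟩
    exact (IsLocalRing.maximalIdeal.isMaximal _).ne_top (top_le_iff.1 (htop ▸
      IdealStalkLib.stalkIdeal_le_maximal (fibreIdeal (Over.mk p).hom) (FibreGood.mem_fibre.2 hx)))

end Groth.Agent.CastLib
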