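import Groth.Agent.CastLib.Twist
import Groth.Agent.AmpleEmb.GenRatio
import Groth.Agent.AmpleEmb.GenFinite
import Groth.Agent.SteinConn.Stein

/-!
# The contraction of an exceptional line
-/

set_option autoImplicit false
set_option backward.isDefEq.respectTransparency false
set_option linter.style.haveILetI false
set_option maxHeartbeats 1000000

universe u

open CategoryTheory CategoryTheory.Limits AlgebraicGeometry TopologicalSpace
open Groth.Agent.IntLib (mk)
open Groth.Agent.AmpleLib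

noncomputable section

namespace Groth.Agent.CastLib

open Groth.Agent.SurfPtBlow

/-- A line maps to a point of an affine scheme. -/
theorem apply_eq_of_affine {k : Type u} [Field k] {S : Scheme.{u}} [IsAffine S] (f : CohB1.ProjSpace 1 k ⟶ S)
    (a b : CohB1.ProjSpace 1 k) : f a = f b := by
  let e : k ≃+* Γ(CohB1.ProjSpace 1 k, ⊤) := RingEquiv.ofBijective _ (ProjTwist.projφ_bijective (n := 1) (R := k))
  have hF : IsField Γ(CohB1.ProjSpace 1 k, ⊤) := e.symm.toMulEquiv.isField (Field.toIsField k)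
  letI := hF.toField
  have h : Scheme.toSpecΓ (CohB1.ProjSpace 1 k) a = Scheme.toSpecΓ (CohB1.ProjSpace 1 k) b :=
    @Subsingleton.elim (PrimeSpectrum Γ(CohB1.ProjSpace 1 k, ⊤)) _ _ _
  refine S.toSpecΓ.isOpenEmbedding.injective ?_
  rw [← Scheme.Hom.comp_apply, ← Scheme.Hom.comp_apply, Scheme.toSpecΓ_naturality, Scheme.Hom.comp_apply,
    Scheme.Hom.comp_apply, h]

/-- A morphism of affine schemes with bijective sections is an isomorphism. -/
theorem isIso_restrict_of_affine {X Y : Scheme.{u}} (g : X ⟶ Y) (V : Y.Opens) (hV : IsAffineOpen V)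
    (hU : IsAffineOpen (g ⁻¹ᵁ V)) (h : Function.Bijective (g.app V).hom) : IsIso (g ∣_ V) := by
  haveI : IsAffine V.toScheme := hV
  haveI : IsAffine (g ⁻¹ᵁ V).toScheme := hU
  haveI : IsIso (g.app V) := (ConcreteCategory.isIso_iff_bijective _).2 h
  have hiso : IsIso (g ∣_ V).appTop := by
    have e : V.ι ''ᵁ ⊤ = V := V.ι_image_top
    haveI : IsIso (g.app (V.ι ''ᵁ ⊤)) := by rw [e]; infer_instance
    rw [Scheme.Hom.appTop, morphismRestrict_app]
    infer_instance
  exact (MorphismProperty.arrow_mk_iso_iff (MorphismProperty.isomorphisms _) (arrowIsoSpecΓOfIsAffine (g ∣_ V))).2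
    (inferInstanceAs (IsIso (Spec.map (g ∣_ V).appTop)))

/-- **The contraction morphism.** -/
theorem exists_contraction_map {A : Type u} [CommRing A] [IsNoetherianRing A] {X : Scheme.{u}} [IsIntegral X]
    [IsNoetherian X] (s : X ⟶ Spec (CommRingCat.of A)) [IsProper s] {H₀ : X.Modules} (hH₀ : CohB1.IsAmple H₀)
    {k : Type u} [Field k] (j : CohB1.ProjSpace 1 k ⟶ X) [IsClosedImmersion j]
    (hC : BlowUp.IsEffCartierIdeal j.ker)
    (e : (Scheme.Modules.pullback j).obj (ClSub.idealMod j.ker) ≅ Twist.twistProjSpace 1 k 1) :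
    ∃ (Y : Scheme.{u}) (_ : IsIntegral Y) (_ : IsNoetherian Y) (g : X ⟶ Y) (_ : IsProper g)
      (t : Y ⟶ Spec (CommRingCat.of A)) (_ : IsProper t) (y : Y) (hy : IsClosed ({y} : Set Y)),
      g ≫ t = s ∧ RigidLib.BijApp g ∧ g ⁻¹' {y} = Set.range j ∧
      IsIso (g ∣_ (⟨{y}ᶜ, hy.isOpen_compl⟩ : Y.Opens)) ∧ (∃ M : Y.Modules, CohB1.IsAmple M) ∧
      ∃ (V : Y.Opens) (H L : X.Modules) (τ : Coh.structureModule X ⟶ L) (r : ℕ),
        IsAffineOpen V ∧ y ∈ V ∧ 0 < r ∧ CohB1.IsAmple H ∧ PicF.IsInvertible L ∧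
        Nonempty (CohB1.tensorMod (CohB1.tensorPow (ClSub.idealMod j.ker) r) L ≅ H) ∧
        g ⁻¹ᵁ V ≤ CohB1.genLocus L τ := by
  classical
  haveI := isIntegral_P1 (k := k)
  -- an ample module with sections and without `H¹`
  obtain ⟨T, hT, D, hD, u, -, -, -, hUa, -, -, -, -, hcov⟩ := AmpleEmb.exists_trivial_cover s hH₀ hH₀.1
  obtain ⟨n₀, hn₀⟩ := AmpleEmb.serre_vanishing s hH₀ (DevLib.isCoh_structureModule X)
  let H := CohB1.tensorPow H₀ (D * (n₀ + 1))
  have hHA : CohB1.IsAmple H := (isAmple_pow_iff hH₀.1 (by positivity)).2 hH₀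
  have hH : PicF.IsInvertible H := hHA.1
  have hH1 : Subsingleton (Coh.HH X H 1) := CurveLib.subsingleton_HH_iso (unitL _) 1
    (hn₀ _ (le_trans (Nat.le_succ n₀) (Nat.le_mul_of_pos_left _ hD)) 1 one_pos)
  let v : T → (Coh.structureModule X ⟶ H) := fun i => powS (u i) (n₀ + 1) ≫ (powMul H₀ D (n₀ + 1)).hom
  have hv : ∀ i, CohB1.genLocus H (v i) = CohB1.genLocus _ (u i) := fun i => by
    rw [genLocus_comp_iso, genLocus_powS (isInvertible_tensorPow hH₀.1 D)]
  -- twist it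
  obtain ⟨r, hr⟩ := Int.eq_ofNat_of_zero_le (degOn_pos_of_isAmple j hHA).le
  have hr0 : 0 < r := by
    have := degOn_pos_of_isAmple j hHA
    omega
  obtain ⟨L, hL, -, hIL, ⟨τ, hτ⟩, hsec⟩ := exists_twist j hC e hH hr hr0 hH1
  choose v' hv' using fun i => hsec (v i)
  obtain ⟨eT⟩ : Nonempty (Fin (Fintype.card T) ≃ T) := ⟨(Fintype.equivFin T).symm⟩
  let sf : Fin (Fintype.card T + 1) → (Coh.structureModule X ⟶ L) := Fin.cons τ fun i => v' (eT i)
  have hoff : ∀ x, x ∉ Set.range j → ∃ i, x ∈ CohB1.genLocus L (v' i) := fun x hx => by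
    obtain ⟨i, hi⟩ := hcov x
    refine ⟨i, (hv' i).ge ⟨?_, hx⟩⟩
    rw [hv]; exact hi
  obtain ⟨F, hFU, hFg, hFt⟩ := GenMorph.exists_ratioFamily hL sf fun x => by
    by_cases hx : x ∈ Set.range j
    · exact ⟨0, hτ hx⟩
    · obtain ⟨i, hi⟩ := hoff x hx
      exact ⟨(eT.symm i).succ, by simpa [sf] using hi⟩
  have haff : ∀ i : Fin (Fintype.card T), IsAffineOpen (F.U i.succ) := fun i => by
    obtain ⟨N, hN, ⟨eN⟩⟩ := AmpleEmb.exists_isInverseOf ((S8914.result j.ker).2 hC)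
    obtain ⟨σ, hσ⟩ := AVLib.exists_section_genLocus_compl hC hN ⟨comm N (ClSub.idealMod j.ker) ≪≫ eN⟩
    have h1 : F.U i.succ = CohB1.genLocus _ (u (eT i)) ⊓ CohB1.genLocus N σ := by
      refine Opens.ext ?_
      rw [hFU, show sf i.succ = v' (eT i) from by simp [sf], hv', hv, Opens.coe_inf, hσ, Set.sdiff_eq]
      refine congrArg (_ ∩ ·) ?_
      show _ = ((j.ker.support : Set X))ᶜ
      rw [Scheme.Hom.support_ker, j.isClosedEmbedding.isClosed_range.closure_eq]
    rw [h1, inf_comm]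
    exact isAffineOpen_inf_genLocus hN σ (hUa (eT i))
  let φ : A →+* Γ(X, ⊤) := ((Scheme.ΓSpecIso (CommRingCat.of A)).inv ≫ s.appTop).hom
  let g₀ : X ⟶ CohB1.ProjSpace (Fintype.card T) A := GenMorph.toProj φ F
  have hg₀s : g₀ ≫ CohB1.ProjSpace.toSpec _ A = s := GenMorph.toProj_toSpec φ F s rfl
  haveI : IsProper g₀ := by
    haveI : IsProper (g₀ ≫ CohB1.ProjSpace.toSpec (Fintype.card T) A) := by rw [hg₀s]; infer_instance
    exact IsProper.of_comp g₀ (CohB1.ProjSpace.toSpec (Fintype.card T) A)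
  haveI : IsProper (CohB1.ProjSpace.toSpec (Fintype.card T) A) := inferInstance
  haveI : IsLocallyNoetherian (CohB1.ProjSpace (Fintype.card T) A) :=
    LocallyOfFiniteType.isLocallyNoetherian (CohB1.ProjSpace.toSpec (Fintype.card T) A)
  -- Stein factorisation
  let g := g₀.toNormalization
  let π := g₀.fromNormalization
  have hgπ : g ≫ π = g₀ := g₀.toNormalization_fromNormalization
  haveI : IsFinite π := S1297.result g₀
  haveI := SteinConn.isLocallyNoetherian_normalization g₀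
  haveI : CompactSpace g₀.normalization := QuasiCompact.compactSpace_of_compactSpace (π ≫ CohB1.ProjSpace.toSpec _ A)
  haveI : IsNoetherian g₀.normalization := { }
  have hO : RigidLib.BijApp g := SteinConn.bijApp_toNormalization g₀
  haveI : Surjective g := SteinConn.surjective_of_bijApp g hO
  let V : Fin (Fintype.card T + 1) → g₀.normalization.Opens := fun i =>
    π ⁻¹ᵁ AmpleEmb.stdOpen (Fintype.card T) A i
  have hVa : ∀ i, IsAffineOpen (V i) := fun i => (AmpleEmb.isAffineOpen_stdOpen _ A i).preimage π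
  have hVU : ∀ i, g ⁻¹ᵁ V i = F.U i := fun i => by
    show (g ≫ π) ⁻¹ᵁ (AmpleEmb.stdOpen (Fintype.card T) A i) = F.U i
    rw [hgπ]
    exact GenMorph.preimage_basicOpen φ F i
  have hjV : ∀ z, g (j z) ∈ V 0 := fun z => by
    have h1 : j z ∈ g ⁻¹ᵁ V 0 := by rw [hVU, hFU]; exact hτ ⟨z, rfl⟩
    exact h1
  let y := g (j (genericPoint (CohB1.ProjSpace 1 k)))
  have hjy : ∀ z, g (j z) = y := fun z => by
    haveI : IsAffine (V 0).toScheme := hVa 0
    let l := IsOpenImmersion.lift (V 0).ι (j ≫ g)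
      (by rw [Scheme.Opens.range_ι]; rintro _ ⟨w, rfl⟩; exact hjV w)
    have hl : l ≫ (V 0).ι = j ≫ g := IsOpenImmersion.lift_fac _ _ _
    have h2 := congrArg (V 0).ι (apply_eq_of_affine l z (genericPoint _))
    rwa [← Scheme.Hom.comp_apply, ← Scheme.Hom.comp_apply, hl] at h2
  have hy : IsClosed ({y} : Set g₀.normalization) := by
    have h1 := g.isClosedMap _ j.isClosedEmbedding.isClosed_range
    rwa [← Set.range_comp, show Set.range (g ∘ j) = {y} from Set.eq_singleton_iff_nonempty_unique_mem.2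
      ⟨⟨_, genericPoint _, rfl⟩, by rintro _ ⟨z, rfl⟩; exact hjy z⟩] at h1
  have hout : ∀ i : Fin (Fintype.card T), ∀ x ∈ F.U i.succ, x ∉ Set.range j := fun i x hx => by
    rw [hFU, show sf i.succ = v' (eT i) from by simp [sf]] at hx
    exact ((hv' (eT i)).le hx).2
  have hin : ∀ x, x ∉ Set.range j → ∃ i : Fin (Fintype.card T), x ∈ F.U i.succ := fun x hx => by
    obtain ⟨i, hi⟩ := hoff x hx
    exact ⟨eT.symm i, by rw [hFU]; simpa [sf] using hi⟩
  have hfib : g ⁻¹' {y} = Set.range j := Set.ext fun x => ⟨fun hx => by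
    by_contra hxj
    obtain ⟨i, hi⟩ := hin x hxj
    rw [← hVU] at hi
    have h1 : j (genericPoint _) ∈ g ⁻¹ᵁ V i.succ := by
      show y ∈ V i.succ
      rw [← Set.mem_singleton_iff.1 hx]
      exact hi
    rw [hVU] at h1
    exact hout i _ h1 ⟨_, rfl⟩, by rintro ⟨z, rfl⟩; exact hjy z⟩
  have hiso : IsIso (g ∣_ (⟨{y}ᶜ, hy.isOpen_compl⟩ : g₀.normalization.Opens)) := by
    let U₀ : g₀.normalization.Opens := ⟨{y}ᶜ, hy.isOpen_compl⟩
    let W : Fin (Fintype.card T) → g₀.normalization.Opens := fun i => V i.succ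
    have hWle : ∀ i, W i ≤ U₀ := fun i v hv hvy => by
      have h1 : j (genericPoint _) ∈ g ⁻¹ᵁ W i := by
        show y ∈ W i
        exact Set.mem_singleton_iff.1 hvy ▸ hv
      rw [hVU] at h1
      exact hout i _ h1 ⟨_, rfl⟩
    refine (IsZariskiLocalAtTarget.iff_of_iSup_eq_top (P := MorphismProperty.isomorphisms Scheme)
      (fun i => U₀.ι ⁻¹ᵁ W i) (top_le_iff.1 fun v _ => ?_)).2 fun i => ?_
    · obtain ⟨x, hx⟩ := g.surjective (U₀.ι v)
      obtain ⟨i, hi⟩ := hin x fun hxj => v.2 (by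
        obtain ⟨z, rfl⟩ := hxj
        exact hx.symm.trans (hjy z))
      rw [← hVU] at hi
      exact Opens.mem_iSup.2 ⟨i, show U₀.ι v ∈ W i from hx ▸ hi⟩
    · show IsIso ((g ∣_ U₀) ∣_ (U₀.ι ⁻¹ᵁ W i))
      haveI : IsIso (g ∣_ W i) :=
        isIso_restrict_of_affine g (W i) (hVa _) (by rw [hVU]; exact haff i) (hO (W i))
      haveI : IsIso (g ∣_ (U₀.ι ''ᵁ (U₀.ι ⁻¹ᵁ W i))) := by
        rw [Scheme.Hom.image_preimage_eq_opensRange_inf, Scheme.Opens.opensRange_ι, inf_eq_right.2 (hWle i)]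
        infer_instance
      exact (MorphismProperty.arrow_mk_iso_iff (MorphismProperty.isomorphisms _)
        (morphismRestrictRestrict g U₀ (U₀.ι ⁻¹ᵁ W i))).2 ‹_›
  refine ⟨g₀.normalization, inferInstance, inferInstance, g, inferInstance, π ≫ CohB1.ProjSpace.toSpec _ A,
    inferInstance, y, hy, by rw [← Category.assoc, hgπ, hg₀s], hO, hfib, hiso,
    ⟨_, isAmple_pullback π (AmpleEmb.isAmple_twistOne (Fintype.card T) A)⟩,
    V 0, H, L, τ, r, hVa 0, hjV _, hr0, hHA, hL, hIL, ?_⟩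
  rw [hVU, hFU]
  exact le_rfl

end Groth.Agent.CastLib
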