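import Mathlib

/-!
# Semi-definite forms with a positive null vector
-/

set_option autoImplicit false

namespace Groth.Agent.CastLib

variable {ι : Type*} [Fintype ι] (M : ι → ι → ℤ) (m : ι → ℕ)

theorem two_mul_form_eq (hsymm : ∀ i j, i ≠ j → M i j = M j i) (hm : ∀ i, 0 < m i) (a : ι → ℤ) :
    2 * (∑ i, ∑ j, ((a i * a j * M i j : ℤ) : ℚ)) =
      2 * ∑ i, ((a i : ℚ) / m i) ^ 2 * (m i : ℚ) * (∑ j, ((m j * M i j : ℤ) : ℚ)) -
        ∑ i, ∑ j, (M i j : ℚ) * m i * m j * ((a i : ℚ) / m i - (a j : ℚ) / m j) ^ 2 := by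
  have hs : ∀ i j, (M i j : ℚ) = (M j i : ℚ) := fun i j => by
    by_cases h : i = j
    · rw [h]
    · rw [hsymm i j h]
  have hm' : ∀ i, (m i : ℚ) ≠ 0 := fun i => by exact_mod_cast (hm i).ne'
  have key : ∀ i j, (M i j : ℚ) * m i * m j * ((a i : ℚ) / m i - (a j : ℚ) / m j) ^ 2 =
      ((a i : ℚ) / m i) ^ 2 * m i * ((m j * M i j : ℤ) : ℚ) + ((a j : ℚ) / m j) ^ 2 * m j * ((m i * M j i : ℤ) : ℚ) -
        2 * ((a i * a j * M i j : ℤ) : ℚ) := by
    intro i j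
    push_cast
    rw [← hs i j]
    field_simp [hm' i, hm' j]
    ring
  simp only [key, Finset.sum_sub_distrib, Finset.sum_add_distrib]
  rw [Finset.sum_comm (f := fun i j => ((a j : ℚ) / m j) ^ 2 * m j * ((m i * M j i : ℤ) : ℚ))]
  simp only [← Finset.mul_sum]
  ring

/-- The form is nonpositive. -/
theorem form_nonpos (hsymm : ∀ i j, i ≠ j → M i j = M j i) (hoff : ∀ i j, i ≠ j → 0 ≤ M i j) (hm : ∀ i, 0 < m i)
    (hrow : ∀ i, ∑ j, (m j : ℤ) * M i j ≤ 0) (a : ι → ℤ) : ∑ i, ∑ j, a i * a j * M i j ≤ 0 := by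
  have h := two_mul_form_eq M m hsymm hm a
  have h1 : ∑ i, ((a i : ℚ) / m i) ^ 2 * (m i : ℚ) * (∑ j, ((m j * M i j : ℤ) : ℚ)) ≤ 0 := by
    refine Finset.sum_nonpos fun i _ => mul_nonpos_of_nonneg_of_nonpos (by positivity) ?_
    exact_mod_cast hrow i
  have h2 : 0 ≤ ∑ i, ∑ j, (M i j : ℚ) * m i * m j * ((a i : ℚ) / m i - (a j : ℚ) / m j) ^ 2 := by
    refine Finset.sum_nonneg fun i _ => Finset.sum_nonneg fun j _ => ?_
    by_cases hij : i = j
    · subst hij; simp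
    · have : (0 : ℚ) ≤ (M i j : ℚ) := by exact_mod_cast hoff i j hij
      positivity
  have h3 : ((∑ i, ∑ j, a i * a j * M i j : ℤ) : ℚ) ≤ 0 := by
    push_cast
    push_cast at h h1
    linarith
  exact_mod_cast h3

/-- Null vectors of a connected form are proportional to the positive one. -/
theorem proportional_of_form_eq_zero (hsymm : ∀ i j, i ≠ j → M i j = M j i) (hoff : ∀ i j, i ≠ j → 0 ≤ M i j)
    (hm : ∀ i, 0 < m i) (hrow : ∀ i, ∑ j, (m j : ℤ) * M i j = 0)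
    (hconn : ∀ I : Finset ι, I.Nonempty → I ≠ Finset.univ → ∃ i ∈ I, ∃ j ∉ I, M i j ≠ 0) (a : ι → ℤ)
    (h0 : ∑ i, ∑ j, a i * a j * M i j = 0) : ∃ c : ℚ, ∀ i, (a i : ℚ) = c * (m i : ℚ) := by
  classical
  rcases isEmpty_or_nonempty ι with he | ⟨⟨i₀⟩⟩
  · exact ⟨0, fun i => he.elim i⟩
  have h := two_mul_form_eq M m hsymm hm a
  have h0' : ∑ i, ∑ j, ((a i * a j * M i j : ℤ) : ℚ) = 0 := by exact_mod_cast h0
  have hrow' : ∀ i, ∑ j, ((m j * M i j : ℤ) : ℚ) = 0 := fun i => by exact_mod_cast hrow i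
  simp only [h0', hrow', mul_zero, Finset.sum_const_zero, zero_sub] at h
  have hnn : ∀ i j, 0 ≤ (M i j : ℚ) * m i * m j * ((a i : ℚ) / m i - (a j : ℚ) / m j) ^ 2 := fun i j => by
    by_cases hij : i = j
    · subst hij; simp
    · have : (0 : ℚ) ≤ (M i j : ℚ) := by exact_mod_cast hoff i j hij
      positivity
  have hsum : ∑ i, ∑ j, (M i j : ℚ) * m i * m j * ((a i : ℚ) / m i - (a j : ℚ) / m j) ^ 2 = 0 := by linarith
  have hz : ∀ i j, M i j ≠ 0 → (a i : ℚ) / m i = (a j : ℚ) / m j := fun i j hne => by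
    have h1 := (Finset.sum_eq_zero_iff_of_nonneg fun i _ => Finset.sum_nonneg fun j _ => hnn i j).1 hsum i
      (Finset.mem_univ i)
    have h2 := (Finset.sum_eq_zero_iff_of_nonneg fun j _ => hnn i j).1 h1 j (Finset.mem_univ j)
    have hi : (m i : ℚ) ≠ 0 := by exact_mod_cast (hm i).ne'
    have hj : (m j : ℚ) ≠ 0 := by exact_mod_cast (hm j).ne'
    have hM : (M i j : ℚ) ≠ 0 := by exact_mod_cast hne
    simp only [mul_eq_zero, hi, hj, hM, false_or, pow_eq_zero_iff two_ne_zero, sub_eq_zero] at h2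
    exact h2
  let c := (a i₀ : ℚ) / m i₀
  let I := Finset.univ.filter fun i => (a i : ℚ) / m i = c
  have hI : I = Finset.univ := by
    by_contra hne
    obtain ⟨i, hi, j, hj, hij⟩ := hconn I ⟨i₀, by simp [I, c]⟩ hne
    simp only [I, Finset.mem_filter, Finset.mem_univ, true_and] at hi hj
    exact hj ((hz i j hij).symm.trans hi)
  refine ⟨c, fun i => ?_⟩
  have hi : i ∈ I := hI ▸ Finset.mem_univ i
  simp only [I, Finset.mem_filter, Finset.mem_univ, true_and] at hi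
  rw [← hi, div_mul_cancel₀]
  exact_mod_cast (hm i).ne'

end Groth.Agent.CastLib
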