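import Groth.Agent.CastLib.InterFibreClass
import Groth.Agent.CastLib.InterLinAlg
import Groth.Agent.CurveP1Lib.Transport

/-!
# The intersection form of the closed fibre
-/

set_option autoImplicit false
set_option backward.isDefEq.respectTransparency false
set_option linter.style.haveILetI false
set_option maxHeartbeats 1000000

universe u

open CategoryTheory CategoryTheory.Limits AlgebraicGeometry TopologicalSpace IsLocalRing IntMult

noncomputable section

namespace Groth.Agent.CastLib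

open Groth.Agent.SurfPtBlow Groth.Agent.DivisorialLib

/-- Inverses are unique. -/
theorem nonempty_iso_inverse {Y : Scheme.{u}} {L L' J : Y.Modules} (h : ClSub.IsInverseOf L J)
    (h' : ClSub.IsInverseOf L' J) : Nonempty (L ≅ L') := by
  obtain ⟨e⟩ := h
  obtain ⟨e'⟩ := h'
  have h1 : IntLib.mk L * IntLib.mk J = 1 :=
    (IntLib.mk_tensor _ _).symm.trans ((IntLib.mk_congr e).trans IntLib.mk_structureModule)
  have h2 : IntLib.mk L' * IntLib.mk J = 1 :=
    (IntLib.mk_tensor _ _).symm.trans ((IntLib.mk_congr e').trans IntLib.mk_structureModule)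
  refine IntLib.mk_eq_mk.1 ?_
  calc IntLib.mk L = IntLib.mk L * (IntLib.mk L' * IntLib.mk J) := by rw [h2, mul_one]
    _ = IntLib.mk L' * (IntLib.mk L * IntLib.mk J) := mul_left_comm _ _ _
    _ = IntLib.mk L' := by rw [h1, mul_one]

variable {R : Type u} [CommRing R] [IsDomain R] [IsDiscreteValuationRing R]
variable {X : Over (Spec (CommRingCat.of R))}

theorem genPtOf_eq_of_range {Γ Γ' : ArSurf.VertComp R X} (hr : Set.range Γ.ι = Set.range Γ'.ι) :
    Models.genPtOf R X Γ = Models.genPtOf R X Γ' := by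
  rw [range_vertComp, range_vertComp] at hr
  exact ((specializes_iff_mem_closure.2 (hr.ge (subset_closure rfl))).antisymm
    (specializes_iff_mem_closure.2 (hr.le (subset_closure rfl)))).eq

/-- Intersection numbers only see the support of the curve. -/
theorem inter_congr_range [IsProper X.hom] {Γ Γ' : ArSurf.VertComp R X} (hr : Set.range Γ.ι = Set.range Γ'.ι)
    (L : X.left.Modules) (hL : PicF.IsInvertible L) : ArSurf.inter R X L Γ = ArSurf.inter R X L Γ' := by
  have hk : Γ.ι.ker = Γ'.ι.ker := by rw [ker_vertComp, ker_vertComp, genPtOf_eq_of_range hr]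
  let g : Γ'.curve.left ⟶ Γ.curve.left := IsClosedImmersion.lift Γ.ι Γ'.ι hk.le
  have hg : g ≫ Γ.ι = Γ'.ι := IsClosedImmersion.lift_fac _ _ _
  let g' : Γ.curve.left ⟶ Γ'.curve.left := IsClosedImmersion.lift Γ'.ι Γ.ι hk.ge
  have hg' : g' ≫ Γ'.ι = Γ.ι := IsClosedImmersion.lift_fac _ _ _
  haveI : IsIso g := ⟨g', by rw [← cancel_mono Γ'.ι, Category.assoc, hg', hg, Category.id_comp],
    by rw [← cancel_mono Γ.ι, Category.assoc, hg, hg', Category.id_comp]⟩
  haveI : IsClosedImmersion (Spec.map (CommRingCat.ofHom (IsLocalRing.residue R))) :=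
    IsClosedImmersion.spec_of_surjective _ Ideal.Quotient.mk_surjective
  have hgk : g ≫ (Γ.curve.left ↘ Spec (CommRingCat.of (ResidueField R))) =
      Γ'.curve.left ↘ Spec (CommRingCat.of (ResidueField R)) := by
    show g ≫ Γ.curve.hom = Γ'.curve.hom
    rw [← cancel_mono (Spec.map (CommRingCat.ofHom (IsLocalRing.residue R))), Category.assoc, ← Γ.w, ← Γ'.w,
      reassoc_of% hg]
  haveI := isProper_vertComp Γ
  haveI := isProper_vertComp Γ'
  let M := (Scheme.Modules.pullback Γ.ι).obj L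
  haveI : Coh.IsQCoh M := PicDegLib.isQCoh_invertible (AmpleLib.isInvertible_pullback Γ.ι hL)
  haveI : Coh.IsQCoh (Coh.structureModule Γ.curve.left) :=
    PicDegLib.isQCoh_invertible ParaFLib.isInvertible_structureModule
  have e : (Scheme.Modules.pullback g).obj M ≅ (Scheme.Modules.pullback Γ'.ι).obj L :=
    ((Scheme.Modules.pullbackComp g Γ.ι).app L) ≪≫ eqToIso (by rw [hg])
  show ArSurf.curveDeg (ResidueField R) Γ.curve.left M = ArSurf.curveDeg (ResidueField R) Γ'.curve.left _
  rw [← curveDeg_iso (k := ResidueField R) (dim_vertComp Γ') e, ArSurf.curveDeg, ArSurf.curveDeg,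
    eulerCharLE_eq_euler (dim_vertComp Γ), eulerCharLE_eq_euler (dim_vertComp Γ),
    eulerCharLE_eq_euler (dim_vertComp Γ'), eulerCharLE_eq_euler (dim_vertComp Γ'),
    CurveP1Lib.euler_pullback g hgk, ← CurveLib.euler_iso (K := ResidueField R) (AmpleLib.pullO g),
    CurveP1Lib.euler_pullback g hgk]

theorem VSurf.sum_mult_inter_list (h : VSurf X) {n : ℕ} {Γ : Fin n → ArSurf.VertComp R X}
    (hΓ : Models.IsComponentList R X Γ) {L : Fin n → X.left.Modules}
    (hL : ∀ j, ClSub.IsInverseOf (L j) (ClSub.idealMod (Γ j).ι.ker)) (Γ₀ : ArSurf.VertComp R X) :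
    ∑ j, (Models.mult R X (Γ j) : ℤ) * ArSurf.inter R X (L j) Γ₀ = 0 :=
  h.sum_mult_inter (h.toFibreGood.fibre_eq_prod hΓ).1 _ (h.toFibreGood.fibre_eq_prod hΓ).2 L hL Γ₀

/-- Listed curves which cover the fibre are all its components. -/
theorem VSurf.isComponentList_of_cover (h : VSurf X) {r : ℕ} (Γ : Fin r → ArSurf.VertComp R X)
    (hdist : Function.Injective fun i => Set.range (Γ i).ι)
    (hcov : ∀ x : X.left, X.hom x = closedPoint R → ∃ i, x ∈ Set.range (Γ i).ι) :
    Models.IsComponentList R X Γ := by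
  haveI := h.int
  haveI := h.noeth
  have hmax : ∀ i, Maximal (fun S : Set X.left => IsIrreducible S ∧ S ⊆ Models.specialFibreSet R X)
      (Set.range (Γ i).ι) := fun i => by
    have hin : IsIrreducible (Set.range (Γ i).ι) := by
      rw [range_vertComp]; exact isIrreducible_singleton.closure
    refine ⟨⟨hin, fun x ⟨c, hc⟩ => hc ▸ vertComp_vertical (Γ i) c⟩, fun S hS hle => ?_⟩
    obtain ⟨g, hg⟩ := QuasiSober.sober hS.1.closure isClosed_closure
    have hgF : g ∈ (fibreIdeal X.hom).support := FibreGood.mem_fibre.2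
      (closure_minimal hS.2 (Models.isClosed_specialFibreSet R X) hg.mem)
    have hsp : g ⤳ Models.genPtOf R X (Γ i) := hg.specializes (subset_closure (hle (Set.mem_range_self _)))
    have hgeq : g = Models.genPtOf R X (Γ i) := by
      by_contra hne
      have h3 := S8909.succ_le hsp hne
      rw [h.coheight_genPtOf] at h3
      exact absurd (h3.trans' (add_le_add (Order.one_le_iff_pos.2 (pos_iff_ne_zero.2
        (S8909.coheight_ne_zero h.isEffCartier_fibre hgF))) le_rfl)) (by decide)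
    rw [range_vertComp, ← hgeq, hg.def]
    exact subset_closure
  refine ⟨hdist, Set.Subset.antisymm (fun S ⟨i, hi⟩ => hi ▸ hmax i) fun S hS => ?_⟩
  obtain ⟨g, hg⟩ := QuasiSober.sober hS.1.1.closure isClosed_closure
  obtain ⟨i, hi⟩ := hcov g (closure_minimal hS.1.2 (Models.isClosed_specialFibreSet R X) hg.mem)
  refine ⟨i, ?_⟩
  have hle : S ⊆ Set.range (Γ i).ι := by
    refine subset_closure.trans ?_
    rw [← hg.def]
    exact closure_minimal (Set.singleton_subset_iff.2 hi) (Γ i).ι.isClosedEmbedding.isClosed_range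
  exact Set.Subset.antisymm (hS.2 (hmax i).1 hle) hle

/-- In a connected fibre no proper subfamily is separated from the rest. -/
theorem VSurf.exists_link (h : VSurf X) {n : ℕ} {Γ : Fin n → ArSurf.VertComp R X}
    (hΓ : Models.IsComponentList R X Γ) (hc : _root_.IsPreconnected (Models.specialFibreSet R X))
    {L : Fin n → X.left.Modules} (hL : ∀ j, ClSub.IsInverseOf (L j) (ClSub.idealMod (Γ j).ι.ker))
    (I : Finset (Fin n)) (hI : I.Nonempty) (hI' : I ≠ Finset.univ) :
    ∃ i ∈ I, ∃ j ∉ I, ArSurf.inter R X (L j) (Γ i) ≠ 0 := by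
  classical
  haveI := h.int
  haveI := h.noeth
  by_contra hall
  push Not at hall
  have hcover : Models.specialFibreSet R X ⊆ (⋃ i ∈ (I : Set (Fin n)), Set.range (Γ i).ι) ∪
      ⋃ i ∈ ((Iᶜ : Finset (Fin n)) : Set (Fin n)), Set.range (Γ i).ι := by
    obtain ⟨-, heq⟩ := h.toFibreGood.fibre_eq_prod hΓ
    intro x hx
    by_contra hx'
    have htop : IntMult.stalkIdeal (fibreIdeal X.hom) x = ⊤ := by
      rw [show fibreIdeal X.hom = ∏ j, (Γ j).ι.ker ^ Models.mult R X (Γ j) from heq, stalkIdeal_prod',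
        ← Ideal.one_eq_top]
      refine Finset.prod_eq_one fun j _ => ?_
      rw [IdealMulLib.stalkIdeal_eq_top _ (fun hmem => hx' ?_), ← Ideal.one_eq_top, one_pow]
      rw [← SetLike.mem_coe, support_ker] at hmem
      by_cases hj : j ∈ I
      · exact Or.inl (Set.mem_biUnion (Finset.mem_coe.2 hj) hmem)
      · exact Or.inr (Set.mem_biUnion (Finset.mem_coe.2 (Finset.mem_compl.2 hj)) hmem)
    exact (IsLocalRing.maximalIdeal.isMaximal _).ne_top (top_le_iff.1 (htop ▸
      IdealStalkLib.stalkIdeal_le_maximal (fibreIdeal X.hom) (FibreGood.mem_fibre.2 hx)))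
  obtain ⟨i₀, hi₀⟩ := hI
  obtain ⟨j₀, hj₀⟩ : ∃ j, j ∉ I := by
    by_contra hcon
    push Not at hcon
    exact hI' (Finset.eq_univ_iff_forall.2 hcon)
  obtain ⟨x, -, hx1, hx2⟩ := (isPreconnected_closed_iff.1 hc) _ _
    ((I.finite_toSet).isClosed_biUnion fun i _ => (Γ i).ι.isClosedEmbedding.isClosed_range)
    ((Iᶜ : Finset (Fin n)).finite_toSet.isClosed_biUnion fun i _ => (Γ i).ι.isClosedEmbedding.isClosed_range)
    hcover ⟨Models.genPtOf R X (Γ i₀), vertComp_vertical (Γ i₀) _,
      Set.mem_biUnion (Finset.mem_coe.2 hi₀) ⟨_, rfl⟩⟩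
    ⟨Models.genPtOf R X (Γ j₀), vertComp_vertical (Γ j₀) _,
      Set.mem_biUnion (Finset.mem_coe.2 (Finset.mem_compl.2 hj₀)) ⟨_, rfl⟩⟩
  simp only [Set.mem_iUnion, Finset.mem_coe, exists_prop] at hx1 hx2
  obtain ⟨i, hi, hxi⟩ := hx1
  obtain ⟨j, hj, hxj⟩ := hx2
  have hne : Set.range (Γ i).ι ≠ Set.range (Γ j).ι := fun e => Finset.mem_compl.1 hj (hΓ.1 e ▸ hi)
  exact Set.disjoint_left.1 ((h.inter_nonneg_of_ne hne (hL j)).2.1 (hall i hi j (Finset.mem_compl.1 hj))) hxi hxj

/-- **Zariski's lemma**: the form of any family of vertical curves is negative semi-definite. -/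
theorem VSurf.form_nonpos (h : VSurf X) {r : ℕ} (Γ : Fin r → ArSurf.VertComp R X) (L : Fin r → X.left.Modules)
    (hL : ∀ j, ClSub.IsInverseOf (L j) (ClSub.idealMod (Γ j).ι.ker)) (a : Fin r → ℤ) :
    ∑ q : Fin r × Fin r, a q.1 * a q.2 * ArSurf.inter R X (L q.2) (Γ q.1) ≤ 0 := by
  classical
  haveI := h.int
  haveI := h.noeth
  haveI := h.proper
  obtain ⟨n, ξ, e, hco, hinj, -, hall, hpos, hfib⟩ := h.toFibreGood.exists_fibre_decomp
  have hidx : ∀ i, ∃ t, ξ t = Models.genPtOf R X (Γ i) := fun i =>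
    hall _ (vertComp_vertical (Γ i) _) (h.coheight_genPtOf (Γ i))
  choose t ht using hidx
  let S : Finset (Fin n) := Finset.univ.image t
  have hrep : ∀ s : S, ∃ i, t i = s.1 := fun s => by
    obtain ⟨i, -, hi⟩ := Finset.mem_image.1 s.2
    exact ⟨i, hi⟩
  choose rep hrep' using hrep
  have hC : ∀ s : Fin n, BlowUp.IsEffCartierIdeal (cl (ξ s)) := fun s => isEffCartier_closure h.reg _ (hco s)
  choose N hN using fun s => exists_inverse_idealMod (hC s)
  let M : S → S → ℤ := fun s s' => ArSurf.inter R X (N s'.1) (Γ (rep s))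
  have hkerN : ∀ i, ClSub.IsInverseOf (N (t i)) (ClSub.idealMod (Γ i).ι.ker) := fun i => by
    rw [ker_vertComp, ← ht i]
    exact hN (t i)
  have hrange : ∀ i j, t i = t j → Set.range (Γ i).ι = Set.range (Γ j).ι := fun i j e' => by
    rw [range_vertComp, range_vertComp, ← ht i, ← ht j, e']
  have hkerS : ∀ s : S, ClSub.IsInverseOf (N s.1) (ClSub.idealMod (Γ (rep s)).ι.ker) := fun s => by
    have := hkerN (rep s)
    rwa [hrep' s] at this
  have hne : ∀ s s' : S, s ≠ s' → Set.range (Γ (rep s)).ι ≠ Set.range (Γ (rep s')).ι := fun s s' hss e' =>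
    hss (Subtype.ext ((hrep' s).symm.trans ((hinj ((ht _).trans ((genPtOf_eq_of_range e').trans (ht _).symm))).trans
      (hrep' s'))))
  have hsymm : ∀ s s', s ≠ s' → M s s' = M s' s := fun s s' hss =>
    h.inter_symm (hne s s' hss) (hkerS s) (hkerS s')
  have hoff : ∀ s s', s ≠ s' → 0 ≤ M s s' := fun s s' hss => (h.inter_nonneg_of_ne (hne s s' hss) (hkerS s')).1
  have hrow : ∀ s : S, ∑ s' : S, (e s'.1 : ℤ) * M s s' ≤ 0 := fun s => by
    have h0 := h.sum_mult_inter hC e hfib N hN (Γ (rep s))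
    rw [← Finset.sum_add_sum_compl S] at h0
    have hrest : 0 ≤ ∑ o ∈ Sᶜ, (e o : ℤ) * ArSurf.inter R X (N o) (Γ (rep s)) := Finset.sum_nonneg fun o ho => by
      refine mul_nonneg (Int.natCast_nonneg _) ?_
      refine (inter_nonneg (Γ (rep s)) (hC o) (fun hmem => ?_) (hN o)).1
      rw [mem_support_cl, ← ht] at hmem
      have heq : ξ o = ξ (t (rep s)) := by
        by_contra hne'
        have h3 := S8909.succ_le hmem hne'
        rw [hco, hco] at h3
        exact absurd h3 (by decide)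
      exact Finset.mem_compl.1 ho (by rw [hinj heq, hrep' s]; exact s.2)
    rw [← Finset.sum_coe_sort S] at h0
    show ∑ s' : S, (e s'.1 : ℤ) * ArSurf.inter R X (N s'.1) (Γ (rep s)) ≤ 0
    omega
  let b : S → ℤ := fun s => ∑ i ∈ Finset.univ.filter (fun i => t i = s.1), a i
  have hM : ∀ i j, ArSurf.inter R X (L j) (Γ i) =
      M ⟨t i, Finset.mem_image_of_mem t (Finset.mem_univ i)⟩ ⟨t j, Finset.mem_image_of_mem t (Finset.mem_univ j)⟩ := by
    intro i j
    obtain ⟨ej⟩ := nonempty_iso_inverse (hL j) (hkerN j)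
    rw [inter_congr (Γ i) ej]
    exact inter_congr_range (hrange _ _ (hrep' ⟨t i, Finset.mem_image_of_mem t (Finset.mem_univ i)⟩).symm) _
      (isInvertible_inverse_ideal (hkerN j))
  have hgroup : ∑ q : Fin r × Fin r, a q.1 * a q.2 * ArSurf.inter R X (L q.2) (Γ q.1) =
      ∑ s : S, ∑ s' : S, b s * b s' * M s s' := by
    let T : Fin r → S := fun i => ⟨t i, Finset.mem_image_of_mem t (Finset.mem_univ i)⟩
    have hb : ∀ s : S, b s = ∑ i ∈ Finset.univ.filter (fun i => T i = s), a i := fun s => by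
      refine Finset.sum_congr (Finset.filter_congr fun i _ => ?_) fun _ _ => rfl
      exact ⟨fun h => Subtype.ext h, fun h => congrArg Subtype.val h⟩
    simp only [hM, hb, Finset.sum_mul, Finset.mul_sum, Fintype.sum_prod_type]
    rw [← Finset.sum_fiberwise Finset.univ T]
    refine Finset.sum_congr rfl fun s _ => ?_
    rw [Finset.sum_comm, ← Finset.sum_fiberwise Finset.univ T]
    refine Finset.sum_congr rfl fun s' _ => Finset.sum_congr rfl fun j hj => Finset.sum_congr rfl fun i hi => ?_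
    rw [show s = T i from ((Finset.mem_filter.1 hi).2).symm, show s' = T j from ((Finset.mem_filter.1 hj).2).symm]
  rw [hgroup]
  exact Groth.Agent.CastLib.form_nonpos M (fun s => e s.1) hsymm hoff (fun s => hpos s.1) hrow b

end Groth.Agent.CastLib
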