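import Groth.Agent.CastLib.EulerLen
import Groth.Agent.CastLib.InterForm
import Groth.Agent.CohBase.Affine

/-!
# Euler characteristics of divisors in the closed fibre
-/

set_option autoImplicit false
set_option backward.isDefEq.respectTransparency false
set_option linter.style.haveILetI false
set_option maxHeartbeats 1000000

universe u

open CategoryTheory CategoryTheory.Limits AlgebraicGeometry TopologicalSpace IsLocalRing

noncomputable section

namespace Groth.Agent.CastLib

variable {R : Type u} [CommRing R] [IsDomain R] [IsDiscreteValuationRing R]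
variable {X : Over (Spec (CommRingCat.of R))}

/-- The empty divisor has no cohomology. -/
theorem finLen_top : letI : X.left.Over (Spec (CommRingCat.of R)) := ⟨X.hom⟩
    FinLen R (ClSub.quotMod (⊤ : X.left.IdealSheafData)) ∧
      chiLen R (ClSub.quotMod (⊤ : X.left.IdealSheafData)) = 0 := by
  letI : X.left.Over (Spec (CommRingCat.of R)) := ⟨X.hom⟩
  have hz : IsZero (ClSub.quotMod (⊤ : X.left.IdealSheafData)) := DCohLib.isZero_of_stalks fun x => by
    by_contra hns
    simpa using IntLib.support_quotMod_subset (⊤ : X.left.IdealSheafData) hns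
  have h : ∀ i, Module.length R (Coh.HH X.left (ClSub.quotMod (⊤ : X.left.IdealSheafData)) i) = 0 := fun i => by
    haveI : Subsingleton (Coh.HH X.left (ClSub.quotMod (⊤ : X.left.IdealSheafData)) i) := by
      refine CohBase.subsingleton_HH _ _ (subsingleton_of_forall_eq 0 fun z => ?_)
      have h0 : IsZero (Coh.toAb (ClSub.quotMod (⊤ : X.left.IdealSheafData))) := Functor.map_isZero (QCohLib.toAbF X.left) hz
      rw [← Abelian.Ext.comp_mk₀_id z, h0.eq_of_src (𝟙 _) 0, Abelian.Ext.mk₀_zero, Abelian.Ext.comp_zero]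
    exact Module.length_eq_zero
  exact ⟨fun i _ => by rw [h]; exact ENat.zero_ne_top, by rw [chiLen, h, h]; rfl⟩

/-- Intersections with the ideal of a combination of divisors. -/
theorem inter_idealMod_prod [IsProper X.hom] {n : ℕ} {J : Fin n → X.left.IdealSheafData}
    (hJ : ∀ i, BlowUp.IsEffCartierIdeal (J i)) (L : Fin n → X.left.Modules)
    (hL : ∀ i, ClSub.IsInverseOf (L i) (ClSub.idealMod (J i))) (a : Fin n → ℕ) (Γ : ArSurf.VertComp R X) :
    ArSurf.inter R X (ClSub.idealMod (∏ i, J i ^ a i)) Γ = -∑ i, (a i : ℤ) * ArSurf.inter R X (L i) Γ := by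
  obtain ⟨hP, hmk⟩ := mk_idealMod_prod J hJ a Finset.univ
  have h1 : ∀ i, IntLib.mk (L i) * IntLib.mk (ClSub.idealMod (J i)) = 1 := fun i => by
    obtain ⟨e'⟩ := hL i
    exact (IntLib.mk_tensor _ _).symm.trans ((IntLib.mk_congr e').trans IntLib.mk_structureModule)
  have hinv : ClSub.IsInverseOf (FGA.multiTwist L a) (ClSub.idealMod (∏ i, J i ^ a i)) := by
    refine IntLib.mk_eq_mk.1 ?_
    rw [IntLib.mk_tensor, IntLib.mk_structureModule, mk_multiTwist, hmk, ← Finset.prod_mul_distrib]
    exact Finset.prod_eq_one fun i _ => by rw [← mul_pow, h1, one_pow]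
  have h := inter_inverse Γ hinv ((S8914.result _).2 hP)
  rw [(inter_multiTwist L (fun i => isInvertible_inverse_ideal (hL i)) a Γ).2] at h
  omega

/-- Self-intersections and mutual intersections are symmetric. -/
theorem VSurf.inter_symm_list (h : VSurf X) {n : ℕ} {Γ : Fin n → ArSurf.VertComp R X}
    (hinj : Function.Injective fun i => Set.range (Γ i).ι) {L : Fin n → X.left.Modules}
    (hL : ∀ i, ClSub.IsInverseOf (L i) (ClSub.idealMod (Γ i).ι.ker)) (i j : Fin n) :
    ArSurf.inter R X (L j) (Γ i) = ArSurf.inter R X (L i) (Γ j) := by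
  rcases eq_or_ne i j with rfl | hne
  · rfl
  · exact h.inter_symm (fun e => hne (hinj e)) (hL i) (hL j)

theorem prod_pow_add_single {M : Type*} [CommMonoid M] {n : ℕ} (J : Fin n → M) (a : Fin n → ℕ) (i : Fin n) :
    ∏ j, J j ^ (a j + if j = i then 1 else 0) = J i * ∏ j, J j ^ a j := by
  simp only [pow_add, Finset.prod_mul_distrib, pow_ite, pow_one, pow_zero, Finset.prod_ite_eq', Finset.mem_univ, if_true]
  exact mul_comm _ _

/-- Combinations of vertical curves have finite cohomological lengths. -/
theorem finLen_prod (h : VSurf X) {n : ℕ} (Γ : Fin n → ArSurf.VertComp R X) (a : Fin n → ℕ) :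
    letI : X.left.Over (Spec (CommRingCat.of R)) := ⟨X.hom⟩
    FinLen R (ClSub.quotMod (∏ i, (Γ i).ι.ker ^ a i)) := by
  letI : X.left.Over (Spec (CommRingCat.of R)) := ⟨X.hom⟩
  haveI := h.proper
  generalize hm : ∑ i, a i = m
  induction m generalizing a with
  | zero =>
    have ha : ∀ i, a i = 0 := fun i => Finset.sum_eq_zero_iff.1 hm i (Finset.mem_univ i)
    simp only [ha, pow_zero, Finset.prod_const_one]
    exact finLen_top.1
  | succ m ih =>
    obtain ⟨i, -, hi⟩ := Finset.exists_ne_zero_of_sum_ne_zero (show ∑ j, a j ≠ 0 by omega)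
    let b : Fin n → ℕ := fun j => a j - if j = i then 1 else 0
    have hab : a = fun j => b j + if j = i then 1 else 0 := funext fun j => by
      show a j = (a j - _) + _
      split_ifs with hj
      · subst hj; omega
      · omega
    have hb : ∑ j, b j = m := by
      have h1 : ∑ j, a j = ∑ j, b j + 1 := by
        conv_lhs => rw [hab]
        simp [Finset.sum_add_distrib]
      omega
    rw [hab, prod_pow_add_single]
    exact (chiLen_peel (Γ i) (mk_idealMod_prod _ (fun j => h.isEffCartier_ker (Γ j)) b Finset.univ).1 (ih b hb)).1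

/-- **One step**: adding a component to a combination of components. -/
theorem chiLen_step (h : VSurf X) {n : ℕ} {Γ : Fin n → ArSurf.VertComp R X}
    (hinj : Function.Injective fun i => Set.range (Γ i).ι) {L : Fin n → X.left.Modules}
    (hL : ∀ i, ClSub.IsInverseOf (L i) (ClSub.idealMod (Γ i).ι.ker)) (a : Fin n → ℕ) (i : Fin n) :
    letI : X.left.Over (Spec (CommRingCat.of R)) := ⟨X.hom⟩
    chiLen R (ClSub.quotMod (∏ j, (Γ j).ι.ker ^ (a j + if j = i then 1 else 0))) -
        chiLen R (ClSub.quotMod (∏ j, (Γ j).ι.ker ^ a j)) =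
      -(∑ j, (a j : ℤ) * ArSurf.inter R X (L i) (Γ j)) +
        ((Models.wdeg R X (Γ i) : ℤ) - (Models.h1 R X (Γ i) : ℤ)) := by
  letI : X.left.Over (Spec (CommRingCat.of R)) := ⟨X.hom⟩
  haveI := h.proper
  have hJ := fun j => h.isEffCartier_ker (Γ j)
  rw [prod_pow_add_single, (chiLen_peel (Γ i) (mk_idealMod_prod _ hJ a Finset.univ).1 (finLen_prod h Γ a)).2,
    inter_idealMod_prod hJ L hL a (Γ i), Finset.sum_congr rfl fun j _ => by rw [h.inter_symm_list hinj hL i j]]
  ring

end Groth.Agent.CastLib
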