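import Groth.Agent.CastLib.Regular
import Groth.Agent.SurfPtBlow.Factor
import Groth.Agent.SurfPtBlow.Minimal

/-!
# Castelnuovo's contraction theorem
-/

set_option autoImplicit false
set_option backward.isDefEq.respectTransparency false
set_option linter.style.haveILetI false
set_option maxHeartbeats 1000000

universe u

open CategoryTheory CategoryTheory.Limits AlgebraicGeometry TopologicalSpace
open Groth.Agent.TwistShriek Groth.Agent.TwistShriek.PointBlow

noncomputable section

namespace Groth.Agent.CastLib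

open Groth.Agent.SurfPtBlow

variable {X Y : Scheme.{u}} [IsIntegral X] [AlgebraicGeometry.IsNoetherian X] [IsIntegral Y] [AlgebraicGeometry.IsNoetherian Y]

omit [IsIntegral X] [AlgebraicGeometry.IsNoetherian X] [IsIntegral Y] [AlgebraicGeometry.IsNoetherian Y] in
/-- A scheme which is isomorphic to a regular one outside a regular point is regular. -/
theorem regular_of_iso_compl (g : X ⟶ Y) (hX : ∀ x : X, IsRegularLocalRing (X.presheaf.stalk x)) {y : Y}
    (hy : IsClosed ({y} : Set Y)) (hiso : IsIso (g ∣_ (⟨{y}ᶜ, hy.isOpen_compl⟩ : Y.Opens)))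
    (hreg : IsRegularLocalRing (Y.presheaf.stalk y)) (q : Y) : IsRegularLocalRing (Y.presheaf.stalk q) := by
  by_cases hq : q = y
  · rw [hq]; exact hreg
  let U₀ : Y.Opens := ⟨{y}ᶜ, hy.isOpen_compl⟩
  haveI : IsIso (g ∣_ U₀) := hiso
  obtain ⟨⟨x, hx⟩, hxq⟩ := (g ∣_ U₀).surjective ⟨q, hq⟩
  have hgx : g x = q := by
    have h := congrArg U₀.ι hxq
    rw [← Scheme.Hom.comp_apply, morphismRestrict_ι, Scheme.Hom.comp_apply] at h
    exact h
  haveI : IsIso (g.stalkMap x) := by
    have h : IsIso ((g ∣_ U₀).stalkMap ⟨x, hx⟩) := inferInstance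
    exact (MorphismProperty.arrow_mk_iso_iff (MorphismProperty.isomorphisms CommRingCat)
      (morphismRestrictStalkMap g U₀ ⟨x, hx⟩)).1 h
  haveI := hX x
  subst hgx
  exact IsRegularLocalRing.of_ringEquiv (asIso (g.stalkMap x)).symm.commRingCatIsoToRingEquiv

/-- A map contracting only the line to a regular point is the blowing up of that point. -/
theorem isBlowUp_of_fibre (hX : ∀ x : X, IsRegularLocalRing (X.presheaf.stalk x))
    (hdX : topologicalKrullDim X ≤ 2) (hY : ∀ q : Y, IsRegularLocalRing (Y.presheaf.stalk q))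
    (g : X ⟶ Y) [IsProper g] [Surjective g] {k : Type u} [Field k] (j : CohB1.ProjSpace 1 k ⟶ X) [IsClosedImmersion j]
    (hC : BlowUp.IsEffCartierIdeal j.ker) {y : Y} (hy : IsClosed ({y} : Set Y))
    (hd : ringKrullDim (Y.presheaf.stalk y) = 2) (hfib : g ⁻¹' {y} = Set.range j)
    (hiso : IsIso (g ∣_ (⟨{y}ᶜ, hy.isOpen_compl⟩ : Y.Opens))) :
    BlowUp.IsBlowUp g (pointIdeal hy) := by
  have hdY : topologicalKrullDim Y ≤ 2 :=
    (topologicalKrullDim_le_of_isClosedMap g.continuous g.isClosedMap g.surjective).trans hdX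
  have hxne := genericPoint_notMem_range j hC
  have hbir : ∃ W : Y.Opens, (W : Set Y).Nonempty ∧ IsIso (g ∣_ W) :=
    ⟨⟨{y}ᶜ, hy.isOpen_compl⟩, ⟨g (genericPoint X), fun h => hxne (hfib.le h)⟩, hiso⟩
  haveI := isIntegral_P1 (k := k)
  let η := j (genericPoint (CohB1.ProjSpace 1 k))
  have hgen : IsGenericPoint η (Set.range j) := by
    have h := (genericPoint_spec (CohB1.ProjSpace 1 k)).image j.continuous
    rwa [Set.image_univ, j.isClosedEmbedding.isClosed_range.closure_eq] at h
  have hcontr : contracted g ⊆ {η} := fun ξ hξ => by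
    have hgξ : g ξ = y := by
      by_contra hne
      exact mem_not_iso_of_contracted g hξ _ (show g ξ ∈ (⟨{y}ᶜ, hy.isOpen_compl⟩ : Y.Opens) from hne) hiso
    exact eq_of_not_closed hdX hgen hxne (hfib.le hgξ) hξ.1
  have hnot : ∀ V : Y.Opens, y ∈ V → ¬ IsIso (g ∣_ V) := fun V hV hVi => by
    haveI := hVi
    haveI : Subsingleton (CohB1.ProjSpace 1 k) := ⟨fun p q => j.isClosedEmbedding.injective (by
      have hp : g (j p) = y := hfib.ge ⟨p, rfl⟩
      have hq : g (j q) = y := hfib.ge ⟨q, rfl⟩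
      exact congrArg Subtype.val ((g ∣_ V).homeomorph.injective (a₁ := ⟨j p, show g (j p) ∈ V from hp.symm ▸ hV⟩)
        (a₂ := ⟨j q, show g (j q) ∈ V from hq.symm ▸ hV⟩) (Subtype.ext (by
          rw [Scheme.Hom.homeomorph_apply, Scheme.Hom.homeomorph_apply, morphismRestrict_base]
          exact hp.trans hq.symm))))⟩
    have h1 := dim_P1 (k := k)
    have h0 := topologicalKrullDim_zero_of_discreteTopology (CohB1.ProjSpace 1 k)
    rw [h1] at h0
    exact absurd h0 (by decide)
  obtain ⟨_, _, Y', π, hπ, g', hg'⟩ := exists_factor_step hX hdX hY hdY g hbir y hnot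
  obtain ⟨hN, hint, hprop, hbg, hsurj⟩ := factor_props g hbir hd π hπ g' hg'
  haveI := hN
  haveI := hint
  haveI := hprop
  haveI := PointBlow.isProper hπ
  have hY' := regular_blowUp hπ hY hd
  have hdY' : topologicalKrullDim Y' ≤ 2 :=
    (topologicalKrullDim_le_of_isClosedMap g'.continuous g'.isClosedMap hsurj).trans hdX
  obtain ⟨ξ₀, hξ₀, hξ₀'⟩ := exists_contracted_sdiff hY g hd π hπ g' hg' hsurj
  haveI : IsIso g' := by
    by_contra hni
    obtain ⟨y', hy'⟩ : ∃ y' : Y', ∀ W : Y'.Opens, y' ∈ W → ¬ IsIso (g' ∣_ W) := by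
      by_contra hall
      push Not at hall
      choose W hW hWi using hall
      exact hni ((IsZariskiLocalAtTarget.iff_of_iSup_eq_top (P := MorphismProperty.isomorphisms Scheme) W
        (top_le_iff.1 fun z _ => Opens.mem_iSup.2 ⟨z, hW z⟩)).2 hWi)
    obtain ⟨hy'c, -⟩ := closed_of_not_iso hY' hdY' g' hbg y' hy'
    haveI := hY' y'
    obtain ⟨ξ, hξ, -⟩ := exists_contracted g' hbg y' hy'c (PurityLib.isIntegrallyClosed_of_regular _).2 hsurj hy'
    have hξg : ξ ∈ contracted g := ⟨hξ.1, by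
      rw [← hg', Scheme.Hom.comp_apply, ← Set.image_singleton]
      exact π.isClosedMap _ hξ.2⟩
    exact hξ₀' ((hcontr hξ₀).trans (hcontr hξg).symm ▸ hξ)
  rw [← hg']
  exact AlmostBlowLib.isBlowUp_of_iso hπ (asIso g')

end Groth.Agent.CastLib

namespace Groth.Agent.CastLib

open Groth.Agent.SurfPtBlow

/-- **Castelnuovo's theorem**: an exceptional curve of the first kind on a regular projective surface can be contracted. -/
theorem exists_contraction {A : Type u} [CommRing A] [IsNoetherianRing A] {X : Scheme.{u}} [IsIntegral X]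
    [AlgebraicGeometry.IsNoetherian X] (hX : ∀ x : X, IsRegularLocalRing (X.presheaf.stalk x))
    (hdX : topologicalKrullDim X ≤ 2) (s : X ⟶ Spec (CommRingCat.of A)) [IsProper s] {H₀ : X.Modules}
    (hH₀ : CohB1.IsAmple H₀) {E : Scheme.{u}} (ι : E ⟶ X) [IsClosedImmersion ι] (hE : Models.IsExcCurve ι) :
    ∃ (Y : Scheme.{u}) (_ : IsIntegral Y) (_ : AlgebraicGeometry.IsNoetherian Y) (g : X ⟶ Y) (_ : IsProper g)
      (t : Y ⟶ Spec (CommRingCat.of A)) (_ : IsProper t) (y : Y) (hy : IsClosed ({y} : Set Y)),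
      g ≫ t = s ∧ Models.IsContractionOf ι g ∧ (∀ q : Y, IsRegularLocalRing (Y.presheaf.stalk q)) ∧
      topologicalKrullDim Y ≤ 2 ∧ RigidLib.BijApp g ∧ g ⁻¹' {y} = Set.range ι ∧
      IsIso (g ∣_ (⟨{y}ᶜ, hy.isOpen_compl⟩ : Y.Opens)) ∧ ∃ M : Y.Modules, CohB1.IsAmple M := by
  obtain ⟨k, _, j, _, hrange, hC, ⟨e⟩⟩ := exists_line ι hE
  obtain ⟨Y, _, _, g, _, t, _, y, hy, hgt, hO, hfib, hiso, hM, V, H, L, τ, r, hV, hyV, hr, hH, hL, hIL, hτ⟩ :=
    exists_contraction_map s hH₀ j hC e
  haveI : Surjective g := SteinConn.surjective_of_bijApp g hO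
  have hXn : Pi1.IsNormalScheme X := fun x => by
    haveI := hX x
    exact PurityLib.isIntegrallyClosed_of_regular _
  obtain ⟨hreg, hd⟩ := regular_at_point g hXn hO j hC e hV hyV hy hfib hiso hH hL hr hIL hτ
  have hY := regular_of_iso_compl g hX hy hiso hreg
  have hb := isBlowUp_of_fibre hX hdX hY g j hC hy hd hfib hiso
  refine ⟨Y, inferInstance, inferInstance, g, inferInstance, t, inferInstance, y, hy, hgt,
    ⟨inferInstance, inferInstance, y, hy, ?_, hreg, hd, hb⟩, hY,
    (topologicalKrullDim_le_of_isClosedMap g.continuous g.isClosedMap g.surjective).trans hdX, hO,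
    hfib.trans hrange, hiso, hM⟩
  rw [Scheme.Hom.comp_base, TopCat.coe_comp, Set.range_comp, ← hrange, ← hfib]
  exact Set.image_preimage_eq _ g.surjective

end Groth.Agent.CastLib
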