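import Groth.Agent.CastLib.ExcPoint
import Groth.Agent.CastLib.ExcCriterion
import Groth.Agent.CastLib.InterSymm
import Groth.Agent.CastLib.Contraction

/-!
# The exceptional curve of a blown up arithmetic surface
-/

set_option autoImplicit false
set_option backward.isDefEq.respectTransparency false
set_option linter.style.haveILetI false
set_option maxHeartbeats 1000000

universe u

open CategoryTheory CategoryTheory.Limits AlgebraicGeometry TopologicalSpace IsLocalRing
open Groth.Agent.TwistShriek Groth.Agent.TwistShriek.PointBlow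

noncomputable section

namespace Groth.Agent.CastLib

open Groth.Agent.SurfPtBlow

/-- A reduced closed subscheme is determined by its support. -/
theorem ker_eq_of_range_eq {Z Z' X : Scheme.{u}} [IsReduced Z] [IsReduced Z'] (i : Z ⟶ X) (i' : Z' ⟶ X)
    [IsClosedImmersion i] [IsClosedImmersion i'] (h : Set.range i = Set.range i') : i.ker = i'.ker := by
  have aux : ∀ {W : Scheme.{u}} [IsReduced W] (j : W ⟶ X) [IsClosedImmersion j],
      j.ker = Scheme.IdealSheafData.vanishingIdeal ⟨Set.range j, j.isClosedEmbedding.isClosed_range⟩ := by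
    intro W _ j _
    have h1 : j.ker = Scheme.IdealSheafData.vanishingIdeal j.ker.support := by
      rw [Scheme.IdealSheafData.vanishingIdeal_support]
      refine le_antisymm (Scheme.IdealSheafData.le_radical _) fun U a ha => ?_
      rw [Scheme.Hom.ker_apply, RingHom.mem_ker]
      obtain ⟨n, hn⟩ := ha
      rw [Scheme.Hom.ker_apply, RingHom.mem_ker, map_pow] at hn
      exact IsReduced.eq_zero _ ⟨n, hn⟩
    rw [h1]
    congr 1
    apply TopologicalSpace.Closeds.ext
    rw [Scheme.Hom.support_ker, j.isClosedEmbedding.isClosed_range.closure_eq]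
    rfl
  rw [aux i, aux i']
  congr 1
  exact TopologicalSpace.Closeds.ext h

/-- Blowing up a Cartier divisor does nothing. -/
theorem isIso_of_isBlowUp_cartier {X' X : Scheme.{u}} {b : X' ⟶ X} {I : X.IdealSheafData}
    (hb : BlowUp.IsBlowUp b I) (hI : BlowUp.IsEffCartierIdeal I) : IsIso b := by
  obtain ⟨s, hs, -⟩ := hb.2 X (𝟙 X) (by rwa [Scheme.IdealSheafData.comap_id])
  obtain ⟨t, ht, huniq⟩ := hb.2 X' b hb.1
  refine ⟨s, ?_, hs⟩
  rw [huniq (b ≫ s) (show (b ≫ s) ≫ b = b by rw [Category.assoc, hs, Category.comp_id]), ← huniq (𝟙 _) (Category.id_comp b)]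

variable {R : Type u} [CommRing R] [IsDomain R] [IsDiscreteValuationRing R]
variable {Y : Over (Spec (CommRingCat.of R))}

/-- A closed point whose fibre under a blow-up contains a curve has codimension two. -/
theorem VSurf.dim_two (h : VSurf Y) {y : Y.left} (hy : IsClosed ({y} : Set Y.left))
    (hys : Y.hom y = closedPoint R) {X : Scheme.{u}} {f : X ⟶ Y.left} (hf : BlowUp.IsBlowUp f (pointIdeal hy))
    {Z : Scheme.{u}} (ι : Z ⟶ X) [IsClosedImmersion ι] (hZ : ¬ Subsingleton Z) (hι : ∀ z, f (ι z) = y) :
    ringKrullDim (Y.left.presheaf.stalk y) = 2 := by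
  haveI := h.int
  haveI := h.noeth
  rw [ringKrullDim_stalk_eq_coheight]
  have h0 : Order.krullDim Y.left ≤ 2 := by rw [← ASp.topologicalKrullDim_eq_krullDim]; exact h.dim
  have hle : Order.coheight y ≤ 2 := WithBot.coe_le_coe.1 (((Order.coheight_le_krullDim y).trans h0).trans_eq rfl)
  have hne0 : Order.coheight y ≠ 0 := fun h' => by
    have hmax := Order.coheight_eq_zero.1 h'
    have hη : genericPoint Y.left ⤳ y := genericPoint_specializes y
    have := hmax (Scheme.le_iff_specializes.2 hη)
    exact h.genPt_not_fibre (show Y.hom _ = _ from (hη.antisymm (Scheme.le_iff_specializes.1 this)).eq ▸ hys)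
  have hne1 : Order.coheight y ≠ 1 := fun h' => by
    have hC := isEffCartier_closure h.reg y h'
    have he : (⟨closure {y}, isClosed_closure⟩ : Closeds Y.left) = ⟨{y}, hy⟩ :=
      TopologicalSpace.Closeds.ext hy.closure_eq
    rw [he] at hC
    haveI := isIso_of_isBlowUp_cartier hf hC
    exact hZ ⟨fun a b => ι.isClosedEmbedding.injective (f.homeomorph.injective ((hι a).trans (hι b).symm))⟩
  have hco : Order.coheight y = 2 := by
    revert hle hne0 hne1
    cases Order.coheight y with
    | top => intro h _ _; simp at h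
    | coe n =>
      intro hle h0 h1
      norm_cast at hle h0 h1 ⊢
      omega
  rw [hco]
  rfl

/-- Scalars of the residue field of a point of the closed fibre. -/
theorem fromSpecResidueField_hom (y : Y.left) :
    Y.left.fromSpecResidueField y ≫ Y.hom =
      Spec.map (CommRingCat.ofHom ((Y.left.residue y).hom.comp (Models.stalkHom R Y y))) := by
  apply ext_of_isAffine
  apply CommRingCat.hom_ext
  apply RingHom.ext
  intro a
  rw [Scheme.fromSpecResidueField, Category.assoc]
  simp only [Scheme.Hom.comp_appTop, CommRingCat.hom_comp, RingHom.coe_comp, Function.comp_apply,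
    Scheme.fromSpecStalk_appTop]
  obtain ⟨r, rfl⟩ := (ConcreteCategory.bijective_of_isIso (Scheme.ΓSpecIso (CommRingCat.of R)).inv).2 a
  erw [← ConcreteCategory.congr_hom (Scheme.ΓSpecIso_inv_naturality
    (CommRingCat.ofHom ((Y.left.residue y).hom.comp (Models.stalkHom R Y y)))) r]
  erw [← ConcreteCategory.congr_hom (Scheme.ΓSpecIso_inv_naturality (Y.left.residue y))]
  rfl

/-- **The exceptional curve of a blown up arithmetic surface.** -/
theorem VSurf.exc_blowUp (h : VSurf Y) {y : Y.left} (hy : IsClosed ({y} : Set Y.left))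
    (hys : Y.hom y = closedPoint R) {X : Scheme.{u}} (f : X ⟶ Y.left)
    (hf : BlowUp.IsBlowUp f (pointIdeal hy)) (E : ArSurf.VertComp R (Over.mk (f ≫ Y.hom)))
    (hE : ∀ x, (∃ c, E.ι c = x) ↔ f x = y)
    {L : X.Modules} (hL : ClSub.IsInverseOf L (ClSub.idealMod E.ι.ker)) :
    Models.IsExcCurve E.ι ∧
      (∃ e : CohB1.ProjSpace 1 (Y.left.residueField y) ≅ E.curve.left,
        e.hom ≫ E.ι ≫ f = CohB1.ProjSpace.toSpec 1 (Y.left.residueField y) ≫ Y.left.fromSpecResidueField y) ∧
      (letI : Algebra R (Y.left.residueField y) := ((Y.left.residue y).hom.comp (Models.stalkHom R Y y)).toAlgebra;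
        Module.length R (Y.left.residueField y) = (Models.wdeg R (Over.mk (f ≫ Y.hom)) E : ℕ∞)) ∧
      ArSurf.inter R (Over.mk (f ≫ Y.hom)) L E = -(Models.wdeg R (Over.mk (f ≫ Y.hom)) E : ℤ) := by
  haveI := h.int
  haveI := h.noeth
  haveI := h.proper
  let j : E.curve.left ⟶ X := E.ι
  have hsub : ¬ Subsingleton E.curve.left := fun hs => by
    have h1 : (1 : WithBot ℕ∞) ≤ 0 := E.dim_eq.ge.trans (by
      rw [ASp.topologicalKrullDim_eq_krullDim]
      exact Order.krullDim_nonpos_of_subsingleton)
    exact absurd h1 (by decide)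
  have hd := h.dim_two hy hys hf j hsub fun c => (hE _).1 ⟨c, rfl⟩
  obtain ⟨P⟩ := exists_pointParams hy (h.reg y) hd
  haveI := PointBlow.isProper hf
  haveI := isIntegral_E hf P
  have hrange : Set.range j = Set.range (jE f hy) := by
    rw [range_jE_eq]
    ext x
    exact hE x
  have hk : j.ker = (jE f hy).ker := ker_eq_of_range_eq j (jE f hy) hrange
  have hexc : Models.IsExcCurve j := isExcCurve_of_ker_eq hk.symm (SurfPtBlow.isExcCurve hf P)
  obtain ⟨e₀, he₀⟩ := exists_P1_residue hf P
  let g : PointBlow.E f hy ⟶ E.curve.left := IsClosedImmersion.lift j (jE f hy) hk.le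
  have hg : g ≫ j = jE f hy := IsClosedImmersion.lift_fac _ _ _
  let g' : E.curve.left ⟶ PointBlow.E f hy := IsClosedImmersion.lift (jE f hy) j hk.ge
  have hg' : g' ≫ jE f hy = j := IsClosedImmersion.lift_fac _ _ _
  let φ : PointBlow.E f hy ≅ E.curve.left := ⟨g, g', by rw [← cancel_mono (jE f hy), Category.assoc, hg', hg, Category.id_comp],
    by rw [← cancel_mono j, Category.assoc, hg, hg', Category.id_comp]⟩
  let e := e₀ ≪≫ φ
  have he : e.hom ≫ j ≫ f = CohB1.ProjSpace.toSpec 1 (Y.left.residueField y) ≫ Y.left.fromSpecResidueField y := by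
    rw [← he₀, Iso.trans_hom, Category.assoc, ← Category.assoc φ.hom, hg]
  haveI : IsProper (Over.mk (f ≫ Y.hom)).hom := inferInstanceAs (IsProper (f ≫ Y.hom))
  haveI := isProper_vertComp E
  have hC : BlowUp.IsEffCartierIdeal j.ker := by
    rw [hk, Scheme.IdealSheafData.ker_subschemeι]
    exact hf.1
  obtain ⟨-, hself⟩ := (isExcCurve_iff (k := ResidueField R) E.dim_eq j hC hL).1 hexc
  refine ⟨hexc, ⟨e, he⟩, ?_, hself⟩
  letI algR : Algebra R (Y.left.residueField y) := ((Y.left.residue y).hom.comp (Models.stalkHom R Y y)).toAlgebra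
  haveI : IsLocalHom (algebraMap R (Y.left.residueField y)) := by
    refine (IsLocalRing.local_hom_TFAE _ |>.out 0 4).2 ?_
    have h1 := congrArg (fun q : Spec (CommRingCat.of (Y.left.residueField y)) ⟶ Spec (CommRingCat.of R) =>
      q (closedPoint (Y.left.residueField y))) (fromSpecResidueField_hom (R := R) y)
    simp only [Scheme.Hom.comp_apply] at h1
    have h2 : Y.left.fromSpecResidueField y (closedPoint (Y.left.residueField y)) = y :=
      Scheme.fromSpecResidueField_apply _ _
    have h3 : Y.hom (Y.left.fromSpecResidueField y (closedPoint (Y.left.residueField y))) = closedPoint R :=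
      (congrArg Y.hom h2).trans hys
    exact congrArg PrimeSpectrum.asIdeal (h1.symm.trans h3)
  let ψ : ResidueField R →+* Y.left.residueField y := Ideal.Quotient.lift _ (algebraMap R (Y.left.residueField y))
    fun a ha => by
      by_contra hne
      exact (IsLocalRing.mem_maximalIdeal a).1 ha (isUnit_of_map_unit (algebraMap R (Y.left.residueField y)) a (Ne.isUnit hne))
  letI algk : Algebra (ResidueField R) (Y.left.residueField y) := ψ.toAlgebra
  haveI : IsScalarTower R (ResidueField R) (Y.left.residueField y) := IsScalarTower.of_algebraMap_eq fun _ => rfl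
  have hek : e.symm.hom ≫ (CohB1.ProjSpace 1 (Y.left.residueField y) ↘ Spec (CommRingCat.of (Y.left.residueField y))) ≫
      Spec.map (CommRingCat.ofHom (algebraMap (ResidueField R) (Y.left.residueField y))) =
      E.curve.left ↘ Spec (CommRingCat.of (ResidueField R)) := by
    haveI : IsClosedImmersion (Spec.map (CommRingCat.ofHom (IsLocalRing.residue R))) :=
      IsClosedImmersion.spec_of_surjective _ IsLocalRing.residue_surjective
    rw [Iso.symm_hom, Iso.inv_comp_eq, ← cancel_mono (Spec.map (CommRingCat.ofHom (IsLocalRing.residue R))),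
      Category.assoc, Category.assoc, ← Spec.map_comp]
    show _ = e.hom ≫ E.curve.hom ≫ _
    rw [← E.w]
    show _ = e.hom ≫ j ≫ f ≫ Y.hom
    rw [← Category.assoc j, ← Category.assoc e.hom, he, Category.assoc, fromSpecResidueField_hom]
    rfl
  letI ov : E.curve.left.Over (Spec (CommRingCat.of (Y.left.residueField y))) :=
    ⟨e.inv ≫ (CohB1.ProjSpace 1 (Y.left.residueField y) ↘ Spec (CommRingCat.of (Y.left.residueField y)))⟩
  haveI := EulerIneqLib.isNoetherian_proper (X := E.curve.left) (ResidueField R)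
  haveI : Coh.IsQCoh (Coh.structureModule E.curve.left) :=
    (CurveLib.isCoh_of_isInvertible ParaFLib.isInvertible_structureModule).1
  have hg₂ : e.hom ≫ (E.curve.left ↘ Spec (CommRingCat.of (Y.left.residueField y))) =
      CohB1.ProjSpace 1 (Y.left.residueField y) ↘ Spec (CommRingCat.of (Y.left.residueField y)) := e.hom_inv_id_assoc _
  have h0 : Models.wdeg R (Over.mk (f ≫ Y.hom)) E =
      Module.finrank (ResidueField R) (Y.left.residueField y) := by
    rw [Models.wdeg, finrank_restrict (k := ResidueField R) (k' := Y.left.residueField y) E.curve.left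
      ((Category.assoc _ _ _).trans hek) _ 0, ← CurveP1Lib.finrank_HH_pullback (k := Y.left.residueField y) e.hom hg₂
      (Coh.structureModule E.curve.left) 0, ShBCLib.finrank_HH_iso (K := Y.left.residueField y) (AmpleLib.pullO e.hom) 0,
      (finrank_HH_P1 (Y.left.residueField y)).1, mul_one]
  have hpos : 0 < Models.wdeg R (Over.mk (f ≫ Y.hom)) E := by
    haveI := EulerIneqLib.finite_HH (k := ResidueField R) (CurveLib.isCoh_of_isInvertible
      (ParaFLib.isInvertible_structureModule (X := E.curve.left))) 0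
    haveI : Nontrivial (Coh.HH E.curve.left (Coh.structureModule E.curve.left) 0) :=
      haveI : Nonempty (⊤ : E.curve.left.Opens) := ⟨⟨genericPoint E.curve.left, trivial⟩⟩
      haveI : Nontrivial Γ(Coh.structureModule E.curve.left, ⊤) := show Nontrivial Γ(E.curve.left, ⊤) from inferInstance
      (CurveLib.secOf (Coh.structureModule E.curve.left)).toEquiv.nontrivial
    exact Module.finrank_pos
  haveI : Module.Finite (ResidueField R) (Y.left.residueField y) := Module.finite_of_finrank_pos (h0 ▸ hpos)
  rw [Module.length_eq_of_surjective (R := ResidueField R) IsLocalRing.residue_surjective, Module.length_eq_finrank, h0]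

end Groth.Agent.CastLib

namespace Groth.Agent.CastLib

open Groth.Agent.SurfPtBlow

section Fibre

variable {X Y : Scheme.{u}} [IsIntegral X] [AlgebraicGeometry.IsNoetherian X] [IsIntegral Y] [AlgebraicGeometry.IsNoetherian Y]

/-- A map contracting only the line to a regular point is the blowing up of that point. -/
theorem isBlowUp_of_fibre_curve (hX : ∀ x : X, IsRegularLocalRing (X.presheaf.stalk x))
    (hdX : topologicalKrullDim X ≤ 2) (hY : ∀ q : Y, IsRegularLocalRing (Y.presheaf.stalk q))
    (g : X ⟶ Y) [IsProper g] [Surjective g] {Z : Scheme.{u}} [IsIntegral Z] (hZ : ¬ Subsingleton Z) (j : Z ⟶ X) [IsClosedImmersion j]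
    (hC : BlowUp.IsEffCartierIdeal j.ker) {y : Y} (hy : IsClosed ({y} : Set Y))
    (hfib : g ⁻¹' {y} = Set.range j)
    (hiso : IsIso (g ∣_ (⟨{y}ᶜ, hy.isOpen_compl⟩ : Y.Opens))) :
    BlowUp.IsBlowUp g (pointIdeal hy) := by
  have hdY : topologicalKrullDim Y ≤ 2 :=
    (topologicalKrullDim_le_of_isClosedMap g.continuous g.isClosedMap g.surjective).trans hdX
  have hxne : genericPoint X ∉ Set.range j := fun hx => by
    have hs : genericPoint X ∈ j.ker.support := by
      show _ ∈ (j.ker.support : Set X)
      rw [Scheme.Hom.support_ker, j.isClosedEmbedding.isClosed_range.closure_eq]; exact hx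
    refine S8909.coheight_ne_zero hC hs (Order.coheight_eq_zero.2 fun q hq => ?_)
    exact Scheme.le_iff_specializes.2 (genericPoint_specializes q)
  have hbir : ∃ W : Y.Opens, (W : Set Y).Nonempty ∧ IsIso (g ∣_ W) :=
    ⟨⟨{y}ᶜ, hy.isOpen_compl⟩, ⟨g (genericPoint X), fun h => hxne (hfib.le h)⟩, hiso⟩
  let η := j (genericPoint Z)
  have hgen : IsGenericPoint η (Set.range j) := by
    have h := (genericPoint_spec Z).image j.continuous
    rwa [Set.image_univ, j.isClosedEmbedding.isClosed_range.closure_eq] at h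
  have hcontr : contracted g ⊆ {η} := fun ξ hξ => by
    have hgξ : g ξ = y := by
      by_contra hne
      exact mem_not_iso_of_contracted g hξ _ (show g ξ ∈ (⟨{y}ᶜ, hy.isOpen_compl⟩ : Y.Opens) from hne) hiso
    exact eq_of_not_closed hdX hgen hxne (hfib.le hgξ) hξ.1
  have hnot : ∀ V : Y.Opens, y ∈ V → ¬ IsIso (g ∣_ V) := fun V hV hVi => by
    haveI := hVi
    haveI : Subsingleton Z := ⟨fun p q => j.isClosedEmbedding.injective (by
      have hp : g (j p) = y := hfib.ge ⟨p, rfl⟩
      have hq : g (j q) = y := hfib.ge ⟨q, rfl⟩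
      exact congrArg Subtype.val ((g ∣_ V).homeomorph.injective (a₁ := ⟨j p, show g (j p) ∈ V from hp.symm ▸ hV⟩)
        (a₂ := ⟨j q, show g (j q) ∈ V from hq.symm ▸ hV⟩) (Subtype.ext (by
          rw [Scheme.Hom.homeomorph_apply, Scheme.Hom.homeomorph_apply, morphismRestrict_base]
          exact hp.trans hq.symm))))⟩
    exact hZ inferInstance
  obtain ⟨_, hd, Y', π, hπ, g', hg'⟩ := exists_factor_step hX hdX hY hdY g hbir y hnot
  obtain ⟨hN, hint, hprop, hbg, hsurj⟩ := factor_props g hbir hd π hπ g' hg'
  haveI := hN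
  haveI := hint
  haveI := hprop
  haveI := PointBlow.isProper hπ
  have hY' := regular_blowUp hπ hY hd
  have hdY' : topologicalKrullDim Y' ≤ 2 :=
    (topologicalKrullDim_le_of_isClosedMap g'.continuous g'.isClosedMap hsurj).trans hdX
  obtain ⟨ξ₀, hξ₀, hξ₀'⟩ := exists_contracted_sdiff hY g hd π hπ g' hg' hsurj
  haveI : IsIso g' := by
    by_contra hni
    obtain ⟨y', hy'⟩ : ∃ y' : Y', ∀ W : Y'.Opens, y' ∈ W → ¬ IsIso (g' ∣_ W) := by
      by_contra hall
      push Not at hall
      choose W hW hWi using hall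
      exact hni ((IsZariskiLocalAtTarget.iff_of_iSup_eq_top (P := MorphismProperty.isomorphisms Scheme) W
        (top_le_iff.1 fun z _ => Opens.mem_iSup.2 ⟨z, hW z⟩)).2 hWi)
    obtain ⟨hy'c, -⟩ := closed_of_not_iso hY' hdY' g' hbg y' hy'
    haveI := hY' y'
    obtain ⟨ξ, hξ, -⟩ := exists_contracted g' hbg y' hy'c (PurityLib.isIntegrallyClosed_of_regular _).2 hsurj hy'
    have hξg : ξ ∈ contracted g := ⟨hξ.1, by
      rw [← hg', Scheme.Hom.comp_apply, ← Set.image_singleton]
      exact π.isClosedMap _ hξ.2⟩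
    exact hξ₀' ((hcontr hξ₀).trans (hcontr hξg).symm ▸ hξ)
  rw [← hg']
  exact AlmostBlowLib.isBlowUp_of_iso hπ (asIso g')

end Fibre

end Groth.Agent.CastLib
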