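import Groth.Agent.CastLib.Models
import Groth.Agent.CastLib.InterForm
import Groth.Agent.CastLib.EulerFibre
import Groth.Agent.CastLib.ExcBlowUp
import Groth.Agent.CastLib.NegDef
import Groth.Agent.CastLib.BlowPic
import Groth.Agent.DeltaBCLib.DegBirat
import Groth.Agent.SurfPtBlow.Contraction
import Mathlib

/-!
# Intersection numbers after contracting an exceptional curve of a model
-/

set_option autoImplicit false
set_option backward.isDefEq.respectTransparency false
set_option backward.isDefEq.respectTransparency.types false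
set_option linter.style.haveILetI false
set_option maxHeartbeats 1000000

universe u

open CategoryTheory CategoryTheory.Limits AlgebraicGeometry TopologicalSpace IsLocalRing IntMult
open Groth.Agent.TwistShriek Groth.Agent.TwistShriek.PointBlow Groth.Agent.SurfPtBlow Groth.Agent.DivisorialLib

noncomputable section

namespace Groth.Agent.CastLib.ContractInter

section Restrict

variable {A B : Scheme.{u}} (b : A ⟶ B) (U : B.Opens) [IsIso (b ∣_ U)]

theorem exists_preimage {z : B} (hz : z ∈ U) : ∃ a : A, b a = z := by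
  obtain ⟨⟨a, ha⟩, h⟩ := (b ∣_ U).surjective ⟨z, hz⟩
  refine ⟨a, ?_⟩
  rw [morphismRestrict_base] at h
  exact congrArg Subtype.val h

theorem specializes_lift {a a' : A} (ha : b a ∈ U) (ha' : b a' ∈ U) (h : b a ⤳ b a') : a ⤳ a' := by
  have h1 : ((b ∣_ U) ⟨a, ha⟩ : (U : Scheme.{u})) ⤳ (b ∣_ U) ⟨a', ha'⟩ := by
    rw [morphismRestrict_base, subtype_specializes_iff]
    exact h
  have h2 : (⟨a, ha⟩ : (b ⁻¹ᵁ U : A.Opens)) ⤳ ⟨a', ha'⟩ :=
    (b ∣_ U).homeomorph.isInducing.specializes_iff.1 h1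
  rwa [subtype_specializes_iff] at h2

theorem eq_lift {a a' : A} (ha : b a ∈ U) (h : b a = b a') : a = a' := by
  have ha' : b a' ∈ U := h ▸ ha
  exact ((specializes_lift b U ha ha' (Inseparable.of_eq h).specializes).antisymm
    (specializes_lift b U ha' ha (Inseparable.of_eq h.symm).specializes)).eq

theorem isIso_stalkMap {a : A} (ha : b a ∈ U) : IsIso (b.stalkMap a) := by
  have h : IsIso ((b ∣_ U).stalkMap ⟨a, ha⟩) := inferInstance
  exact (MorphismProperty.arrow_mk_iso_iff (MorphismProperty.isomorphisms CommRingCat)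
    (morphismRestrictStalkMap b U ⟨a, ha⟩)).1 h

/-- A reduced closed subscheme and its image correspond over the open where the map is an isomorphism. -/
theorem isIso_curve {P Q : Scheme.{u}} [IsReduced Q] (i : P ⟶ A) (j : Q ⟶ B) [IsClosedImmersion i] [IsClosedImmersion j]
    (h : P ⟶ Q) (w : h ≫ j = i ≫ b) (hs : Function.Surjective h) : IsIso (h ∣_ (j ⁻¹ᵁ U)) := by
  have hpre : h ⁻¹ᵁ (j ⁻¹ᵁ U) = i ⁻¹ᵁ (b ⁻¹ᵁ U) := by
    rw [← Scheme.Hom.comp_preimage, ← Scheme.Hom.comp_preimage, w]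
  have hc : IsClosedImmersion ((h ∣_ (j ⁻¹ᵁ U)) ≫ (j ∣_ U)) := by
    rw [← morphismRestrict_comp]
    have hib : IsClosedImmersion ((i ∣_ (b ⁻¹ᵁ U)) ≫ (b ∣_ U)) := by
      haveI : IsClosedImmersion (i ∣_ (b ⁻¹ᵁ U)) := IsZariskiLocalAtTarget.restrict ‹IsClosedImmersion i› _
      infer_instance
    rw [← morphismRestrict_comp] at hib
    have key : ∀ f g : P ⟶ B, f = g → IsClosedImmersion (g ∣_ U) → IsClosedImmersion (f ∣_ U) := by
      rintro f _ rfl h; exact h
    exact key _ _ w hib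
  haveI := hc
  haveI : IsClosedImmersion (j ∣_ U) := IsZariskiLocalAtTarget.restrict ‹IsClosedImmersion j› _
  haveI : IsClosedImmersion (h ∣_ (j ⁻¹ᵁ U)) := IsClosedImmersion.of_comp _ (j ∣_ U)
  haveI : Surjective (h ∣_ (j ⁻¹ᵁ U)) := ⟨fun ⟨q, hq⟩ => by
    obtain ⟨p, hp⟩ := hs q
    refine ⟨⟨p, show h p ∈ j ⁻¹ᵁ U from hp ▸ hq⟩, ?_⟩
    rw [morphismRestrict_base]
    exact Subtype.ext hp⟩
  exact isIso_of_isClosedImmersion_of_surjective _

end Restrict

/-- Lengths of quotients transported along an isomorphism. -/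
theorem length_quot_equiv {A B : Type u} [CommRing A] [CommRing B] (e : A ≃+* B) (I : Ideal A) (J : Ideal B)
    (h : J = I.map (e : A →+* B)) : Module.length A (A ⧸ I) = Module.length B (B ⧸ J) := by
  let q := Ideal.quotientEquiv I J e h
  rw [Module.length_eq_of_surjective (R := A ⧸ I) (Ideal.Quotient.mk_surjective (I := I)),
    Module.length_eq_of_surjective (R := B ⧸ J) (Ideal.Quotient.mk_surjective (I := J))]
  letI : Algebra (A ⧸ I) (B ⧸ J) := q.toRingHom.toAlgebra
  rw [← Module.length_eq_of_surjective (R := B ⧸ J) (S := A ⧸ I) (M := B ⧸ J) q.surjective]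
  exact (LinearEquiv.ofBijective (Algebra.linearMap (A ⧸ I) (B ⧸ J)) q.bijective).length_eq

variable {R : Type u} [CommRing R] [IsDomain R] [IsDiscreteValuationRing R]
variable {X X' : Over (Spec (CommRingCat.of R))} (b : X ⟶ X') {y : X'.left} (hy : IsClosed ({y} : Set X'.left))
variable (hV : VSurf X) (hV' : VSurf X') (hb : BlowUp.IsBlowUp b.left (pointIdeal hy))
variable (hd : ringKrullDim (X'.left.presheaf.stalk y) = 2)
variable {E : ArSurf.VertComp R X} (hE : Set.range E.ι = b.left ⁻¹' {y})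

/-- The open where the contraction is an isomorphism. -/
abbrev U : X'.left.Opens := ⟨{y}ᶜ, hy.isOpen_compl⟩

include hb in
theorem isIso_off : IsIso (b.left ∣_ U hy) := isIso_restrict_compl hb _ fun h => h rfl

include hE in
theorem mem_exc {x : X.left} (hx : b.left x = y) : Models.genPtOf R X E ⤳ x := by
  have h : x ∈ Set.range E.ι := hE.ge hx
  rw [range_vertComp] at h
  exact specializes_iff_mem_closure.2 h

include hV hE in
theorem eq_exc {x : X.left} (hx : b.left x = y) (h1 : Order.coheight x = 1) : x = Models.genPtOf R X E := by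
  haveI := hV.int
  by_contra hne
  have h3 := S8909.succ_le (mem_exc b hE hx) (Ne.symm hne)
  rw [hV.coheight_genPtOf, h1] at h3
  exact absurd h3 (by decide)

section Curve

variable {Γ : ArSurf.VertComp R X} {Γ' : ArSurf.VertComp R X'}
variable (hne : Set.range Γ.ι ≠ Set.range E.ι) (hΓ' : Set.range Γ'.ι = b.left '' Set.range Γ.ι)

include hV hE hne in
theorem genPt_not_y : b.left (Models.genPtOf R X Γ) ≠ y := fun h => hne (by
  rw [range_vertComp, range_vertComp, eq_exc b hV hE h (hV.coheight_genPtOf Γ)])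

include hV hV' hΓ' in
theorem genPt_image : b.left (Models.genPtOf R X Γ) = Models.genPtOf R X' Γ' := by
  haveI := hV.proper
  haveI := hV'.proper
  haveI : IsProper (b.left ≫ X'.hom) := (Over.w b).symm ▸ hV.proper
  haveI : IsProper b.left := IsProper.of_comp b.left X'.hom
  have h1 : Models.genPtOf R X' Γ' ⤳ b.left (Models.genPtOf R X Γ) := by
    refine specializes_iff_mem_closure.2 ?_
    rw [← range_vertComp, hΓ']
    exact ⟨_, ⟨_, rfl⟩, rfl⟩
  have h2 : Models.genPtOf R X' Γ' ∈ b.left '' Set.range Γ.ι := hΓ'.le ⟨_, rfl⟩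
  obtain ⟨a, ha, ha'⟩ := h2
  rw [range_vertComp] at ha
  exact (((specializes_iff_mem_closure.2 ha).map b.left.continuous).trans (by rw [ha'])).antisymm h1 |>.eq

include hV hV' hb hE hne hΓ' in
theorem mult_image : Models.mult R X' Γ' = Models.mult R X Γ := by
  haveI := isIso_off b hy hb
  have hU : b.left (Models.genPtOf R X Γ) ∈ U hy := genPt_not_y b hV hE hne
  haveI := isIso_stalkMap b.left (U hy) hU
  unfold Models.mult
  rw [← genPt_image b hV hV' hΓ']
  congr 1
  refine length_quot_equiv (asIso (b.left.stalkMap (Models.genPtOf R X Γ))).commRingCatIsoToRingEquiv _ _ ?_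
  rw [Ideal.map_map]
  congr 1
  refine RingHom.ext fun r => ?_
  show (X.left.presheaf.germ ⊤ _ trivial).hom (Coh.toGlobal X.hom r) =
    (b.left.stalkMap _).hom ((X'.left.presheaf.germ ⊤ _ trivial).hom (Coh.toGlobal X'.hom r))
  rw [Scheme.Hom.germ_stalkMap_apply]
  refine congrArg (X.left.presheaf.germ ⊤ _ trivial).hom ?_
  rw [← Over.w b]
  simp only [Coh.toGlobal, RingHom.coe_comp, Function.comp_apply, Scheme.Hom.comp_appTop, CommRingCat.hom_comp]
  rfl

include hV hV' hb hE hne hΓ' in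
/-- Degrees on a curve not contracted are those on its image. -/
theorem inter_image {L : X'.left.Modules} (hL : PicF.IsInvertible L) :
    ArSurf.inter R X ((Scheme.Modules.pullback b.left).obj L) Γ = ArSurf.inter R X' L Γ' := by
  haveI := hV.proper
  haveI := hV'.proper
  haveI := isIso_off b hy hb
  haveI := isProper_vertComp Γ
  haveI := isProper_vertComp Γ'
  obtain ⟨h, hh⟩ := DVRCrit.exists_factor_closed Γ'.ι (Γ.ι ≫ b.left) (by
    rintro _ ⟨c, rfl⟩
    rw [hΓ']
    exact ⟨Γ.ι c, ⟨c, rfl⟩, rfl⟩)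
  have hs : Function.Surjective h := fun q => by
    obtain ⟨_, ⟨c, rfl⟩, hc⟩ : Γ'.ι q ∈ b.left '' Set.range Γ.ι := hΓ'.le ⟨q, rfl⟩
    exact ⟨c, Γ'.ι.isClosedEmbedding.injective (by rw [← Scheme.Hom.comp_apply, hh, Scheme.Hom.comp_apply, hc])⟩
  let k := ResidueField R
  have hk : h ≫ (Γ'.curve.left ↘ Spec (CommRingCat.of k)) = Γ.curve.left ↘ Spec (CommRingCat.of k) := by
    haveI : IsClosedImmersion (Spec.map (CommRingCat.ofHom (IsLocalRing.residue R))) :=
      IsClosedImmersion.spec_of_surjective _ Ideal.Quotient.mk_surjective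
    show h ≫ Γ'.curve.hom = Γ.curve.hom
    rw [← cancel_mono (Spec.map (CommRingCat.ofHom (IsLocalRing.residue R))), Category.assoc, ← Γ.w, ← Γ'.w,
      reassoc_of% hh, Over.w b]
  let V : Γ'.curve.left.Opens := Γ'.ι ⁻¹ᵁ U hy
  haveI hiso : IsIso (h ∣_ V) := isIso_curve b.left (U hy) Γ.ι Γ'.ι h hh hs
  have hη : genericPoint Γ'.curve.left ∈ V := by
    show Γ'.ι (genericPoint Γ'.curve.left) ≠ y
    rw [show Γ'.ι (genericPoint Γ'.curve.left) = Models.genPtOf R X' Γ' from rfl, ← genPt_image b hV hV' hΓ']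
    exact genPt_not_y b hV hE hne
  have hVd : Dense (V : Set Γ'.curve.left) := V.isOpen.dense ⟨_, hη⟩
  have hVd' : Dense ((h ⁻¹ᵁ V : Γ.curve.left.Opens) : Set Γ.curve.left) :=
    (h ⁻¹ᵁ V).isOpen.dense (by obtain ⟨c, hc⟩ := hs (genericPoint Γ'.curve.left); exact ⟨c, show h c ∈ V from hc ▸ hη⟩)
  haveI : IsFinite h := DeltaBC.isFinite_of_birat k (dim_vertComp Γ) h hk V hVd' hiso
  have h1 := DeltaBC.deg_pullback_birat k (dim_vertComp Γ') h hk V hVd hiso 1
    ((Scheme.Modules.pullback Γ'.ι).obj L) (CurveLib.isFinLocFreeOfRank_one (AmpleLib.isInvertible_pullback _ hL))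
  have e : (Scheme.Modules.pullback h).obj ((Scheme.Modules.pullback Γ'.ι).obj L) ≅
      (Scheme.Modules.pullback Γ.ι).obj ((Scheme.Modules.pullback b.left).obj L) :=
    (Scheme.Modules.pullbackComp h Γ'.ι).app L ≪≫ eqToIso (by rw [hh]) ≪≫
      ((Scheme.Modules.pullbackComp Γ.ι b.left).app L).symm
  show ArSurf.curveDeg k Γ.curve.left _ = ArSurf.curveDeg k Γ'.curve.left _
  rw [← curveDeg_iso (k := k) (dim_vertComp Γ) e, curveDeg_eq_deg (dim_vertComp Γ), curveDeg_eq_deg (dim_vertComp Γ')]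
  exact h1

include hV hV' hb hE hne hΓ' in
/-- The pull-back of the image of a curve. -/
theorem exists_comap_eq : ∃ c : ℕ, Γ'.ι.ker.comap b.left = Γ.ι.ker * E.ι.ker ^ c := by
  haveI := hV.int
  haveI := hV.noeth
  haveI := isIso_off b hy hb
  have hC := hV.isEffCartier_ker E
  have hJ : BlowUp.IsEffCartierIdeal (Γ'.ι.ker.comap b.left) :=
    SurfPtBlow.isEffCartier_comap hb (hV'.isEffCartier_ker Γ')
  have hE0 : ∃ z, z ∈ E.ι.ker.support := ⟨Models.genPtOf R X E, by rw [ker_vertComp, mem_support_cl]⟩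
  have hne0 : Γ'.ι.ker.comap b.left ≠ ⊥ := fun h0 => by
    obtain ⟨U₀, hU₀, g, hg, hI⟩ := hJ (genericPoint X.left)
    haveI : Nonempty U₀.1 := ⟨⟨_, hU₀⟩⟩
    rw [h0, Scheme.IdealSheafData.ideal_bot, Pi.bot_apply, eq_comm, Ideal.span_singleton_eq_bot] at hI
    exact nonZeroDivisors.ne_zero hg hI
  obtain ⟨c, K, hK, hKE⟩ := exists_max_pow hC hne0 hE0
  refine ⟨c, hK.trans ?_⟩
  congr 1
  have hKc : BlowUp.IsEffCartierIdeal K := BlowCompLib.isEffCartier_of_mul (hK ▸ hJ)
  have hξ := genPt_not_y b hV hE hne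
  have hp := eq_prod_cl hV.reg (n := 1) (fun _ => Models.genPtOf R X Γ) (fun _ => hV.coheight_genPtOf Γ)
    (fun i j _ => Subsingleton.elim i j) 1 (fun _ => 1) (by simp) K hKc ?_ ?_
  · rw [hp, Finset.prod_const, ker_vertComp]
    simp
  · intro η hη h1
    refine ⟨0, ?_⟩
    have hηy : b.left η ≠ y := fun he => hKE (by
      rw [eq_exc b hV hE he h1] at hη
      rw [ker_vertComp]
      exact Scheme.IdealSheafData.le_support_iff_le_vanishingIdeal.1
        (closure_minimal (Set.singleton_subset_iff.2 hη) K.support.isClosed))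
    have hηJ : η ∈ (Γ'.ι.ker.comap b.left).support := mem_support_of_ne_top fun htop => by
      refine (maximalIdeal.isMaximal (X.left.presheaf.stalk η)).ne_top (top_le_iff.1 ?_)
      rw [← htop, hK, stalkIdeal_mul]
      exact Ideal.mul_le_left.trans (IdealStalkLib.stalkIdeal_le_maximal K hη)
    rw [Scheme.IdealSheafData.support_comap] at hηJ
    have h2 : Models.genPtOf R X' Γ' ⤳ b.left η := by
      rw [← mem_support_cl, ← ker_vertComp]; exact hηJ
    rw [← genPt_image b hV hV' hΓ'] at h2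
    have h3 : Models.genPtOf R X Γ ⤳ η := specializes_lift b.left (U hy) hξ hηy h2
    by_contra hne'
    have h4 := S8909.succ_le h3 hne'
    rw [hV.coheight_genPtOf, h1] at h4
    exact absurd h4 (by decide)
  · intro i
    rw [pow_one]
    haveI := isIso_stalkMap b.left (U hy) hξ
    have hEtop : stalkIdeal E.ι.ker (Models.genPtOf R X Γ) = ⊤ := by
      rw [ker_vertComp]
      exact stalkIdeal_cl_of_ne (hV.coheight_genPtOf E) (hV.coheight_genPtOf Γ)
        fun he => hne (by rw [range_vertComp, range_vertComp, he])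
    have h1 : stalkIdeal (Γ'.ι.ker.comap b.left) (Models.genPtOf R X Γ) = maximalIdeal _ := by
      rw [IdealStalkLib.stalkIdeal_comap, ker_vertComp, ← genPt_image b hV hV' hΓ', stalkIdeal_cl_self]
      exact IsLocalRing.map_maximalIdeal_of_surjective (b.left.stalkMap _).hom
        (ConcreteCategory.bijective_of_isIso (b.left.stalkMap _)).2
    rw [hK, stalkIdeal_mul, InfNbhdLib.stalkIdeal_pow, hEtop, Ideal.top_pow, Ideal.mul_top] at h1
    exact h1

end Curve

include hV hE in
/-- A class from below has degree zero on the contracted curve. -/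
theorem inter_exc {L : X'.left.Modules} (hL : PicF.IsInvertible L) :
    ArSurf.inter R X ((Scheme.Modules.pullback b.left).obj L) E = 0 := by
  obtain ⟨V, hyV, ⟨φ⟩⟩ := hL y
  let j : E.curve.left ⟶ V.toScheme := IsOpenImmersion.lift V.ι (E.ι ≫ b.left) (by
    rw [Scheme.Opens.range_ι]
    rintro _ ⟨c, rfl⟩
    rw [Scheme.Hom.comp_apply, show b.left (E.ι c) = y from hE.le ⟨c, rfl⟩]
    exact hyV)
  have hj : j ≫ V.ι = E.ι ≫ b.left := IsOpenImmersion.lift_fac _ _ _
  have h1 : IntLib.pullCls V.ι (IntLib.mk L) = 1 := by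
    rw [← BlowPic.mk_restrict]
    exact BlowPic.mk_eq_one.2 ⟨φ⟩
  have h2 : IntLib.pullCls E.ι (IntLib.mk ((Scheme.Modules.pullback b.left).obj L)) = 1 := by
    rw [← IntLib.pullCls_mk, BlowPic.pullCls_comp, ← hj, ← BlowPic.pullCls_comp, h1, map_one]
  obtain ⟨e⟩ := BlowPic.mk_eq_one.1 h2
  haveI := hV.proper
  haveI := isProper_vertComp E
  show ArSurf.curveDeg _ E.curve.left _ = 0
  rw [curveDeg_iso (k := ResidueField R) (dim_vertComp E) e]
  exact curveDeg_one

include hV hV' hb hE in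
/-- **Intersection numbers after the contraction.** -/
theorem inter_formula {Γ₁ Γ₂ : ArSurf.VertComp R X} {Δ₁ Δ₂ : ArSurf.VertComp R X'}
    (h₁ : Set.range Γ₁.ι ≠ Set.range E.ι) (h₂ : Set.range Γ₂.ι ≠ Set.range E.ι)
    (hr₁ : Set.range Δ₁.ι = b.left '' Set.range Γ₁.ι) (hr₂ : Set.range Δ₂.ι = b.left '' Set.range Γ₂.ι)
    {LE L₂ : X.left.Modules} (hLE : ClSub.IsInverseOf LE (ClSub.idealMod E.ι.ker))
    (hL₂ : ClSub.IsInverseOf L₂ (ClSub.idealMod Γ₂.ι.ker))
    {M₂ : X'.left.Modules} (hM₂ : ClSub.IsInverseOf M₂ (ClSub.idealMod Δ₂.ι.ker)) :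
    ArSurf.inter R X' M₂ Δ₁ * ArSurf.inter R X LE E =
      ArSurf.inter R X L₂ Γ₁ * ArSurf.inter R X LE E - ArSurf.inter R X LE Γ₁ * ArSurf.inter R X LE Γ₂ := by
  haveI := hV.noeth
  haveI := hV.proper
  obtain ⟨c, hc⟩ := exists_comap_eq b hy hV hV' hb hE h₂ hr₂
  have hC := hV.isEffCartier_ker E
  have hC₂ := hV.isEffCartier_ker Γ₂
  have hD₂ := hV'.isEffCartier_ker Δ₂
  have hJ : BlowUp.IsEffCartierIdeal (Δ₂.ι.ker.comap b.left) := SurfPtBlow.isEffCartier_comap hb hD₂
  obtain ⟨e⟩ := JacLib.nonempty_iso_pullback_idealMod b.left Δ₂.ι.ker hD₂ hJ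
  have hI : IntLib.pullCls b.left (IntLib.mk (ClSub.idealMod Δ₂.ι.ker)) =
      IntLib.mk (ClSub.idealMod Γ₂.ι.ker) * IntLib.mk (ClSub.idealMod E.ι.ker) ^ c := by
    rw [IntLib.pullCls_mk, IntLib.mk_congr e, hc]
    obtain ⟨h3, h4⟩ := mk_idealMod_pow (X := X.left) hC c
    obtain ⟨e'⟩ := nonempty_idealMod_mul_iso ((S8914.result _).2 hC₂) ((S8914.result _).2 h3)
      ((S8914.result _).2 (BlowCompLib.isEffCartier_mul hC₂ h3))
    rw [IntLib.mk_congr e', IntLib.mk_tensor, h4]
  have hM : PicF.IsInvertible M₂ := isInvertible_inverse_ideal hM₂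
  have hP : IntLib.mk ((Scheme.Modules.pullback b.left).obj M₂) = IntLib.mk L₂ * IntLib.mk LE ^ c := by
    have u₁ := mk_mul_of_isInverseOf hL₂
    have u₂ := mk_mul_of_isInverseOf hLE
    have u₃ := congrArg (IntLib.pullCls b.left) (mk_mul_of_isInverseOf hM₂)
    rw [map_mul, map_one, hI, IntLib.pullCls_mk] at u₃
    calc IntLib.mk ((Scheme.Modules.pullback b.left).obj M₂)
        = IntLib.mk ((Scheme.Modules.pullback b.left).obj M₂) * ((IntLib.mk L₂ * IntLib.mk (ClSub.idealMod Γ₂.ι.ker)) *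
            (IntLib.mk LE * IntLib.mk (ClSub.idealMod E.ι.ker)) ^ c) := by rw [u₁, u₂, one_pow, mul_one, mul_one]
      _ = (IntLib.mk ((Scheme.Modules.pullback b.left).obj M₂) *
            (IntLib.mk (ClSub.idealMod Γ₂.ι.ker) * IntLib.mk (ClSub.idealMod E.ι.ker) ^ c)) *
            (IntLib.mk L₂ * IntLib.mk LE ^ c) := by rw [mul_pow]; ac_rfl
      _ = _ := by rw [u₃, one_mul]
  have hLEi : PicF.IsInvertible LE := isInvertible_inverse_ideal hLE
  have hL₂i : PicF.IsInvertible L₂ := isInvertible_inverse_ideal hL₂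
  have key : ∀ Γ : ArSurf.VertComp R X, ArSurf.inter R X ((Scheme.Modules.pullback b.left).obj M₂) Γ =
      ArSurf.inter R X L₂ Γ + c * ArSurf.inter R X LE Γ := fun Γ => by
    have hpow : ∀ n : ℕ, ArSurf.inter R X (CohB1.tensorPow LE n) Γ = n * ArSurf.inter R X LE Γ := fun n => by
      induction n with
      | zero => rw [show CohB1.tensorPow LE 0 = Coh.structureModule X.left from rfl, inter_one]; simp
      | succ n ih =>
        rw [show CohB1.tensorPow LE (n + 1) = CohB1.tensorMod (CohB1.tensorPow LE n) LE from rfl,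
          inter_tensor Γ (AmpleLib.isInvertible_tensorPow hLEi n) hLEi, ih]
        push_cast; ring
    rw [← IntLib.mk_tensorPow, ← IntLib.mk_tensor, IntLib.mk_eq_mk] at hP
    obtain ⟨eP⟩ := hP
    rw [inter_congr Γ eP, inter_tensor Γ hL₂i (AmpleLib.isInvertible_tensorPow hLEi c), hpow]
  have h0 := key E
  rw [inter_exc b hV hE hM] at h0
  have h1 := key Γ₁
  rw [inter_image b hy hV hV' hb hE h₁ hr₁ hM] at h1
  have hsymm : ArSurf.inter R X L₂ E = ArSurf.inter R X LE Γ₂ := hV.inter_symm (Ne.symm h₂) hLE hL₂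
  rw [hsymm] at h0
  rw [h1]
  linear_combination (ArSurf.inter R X LE Γ₁) * (-h0)

end Groth.Agent.CastLib.ContractInter
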