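import Groth.Agent.SurfPtBlow.Factor
import Groth.Agent.NormUPLib.Char
import Groth.Agent.ModPairLib.FiniteExt
import Groth.Agent.FibreComp.DimSpace
import Groth.Agent.S1297
import Groth.Agent.S9683
import Groth.Agent.S9800
import Groth.Agent.H6CurveCorr
import Groth.Agent.S2348
import Groth.Agent.S8859

/-!
# Resolution of singularities of curves by blowing up closed points
-/

set_option autoImplicit false
set_option backward.isDefEq.respectTransparency false
set_option linter.style.haveILetI false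

universe u

open CategoryTheory CategoryTheory.Limits AlgebraicGeometry TopologicalSpace
open Groth.Agent.TwistShriek Groth.Agent.TwistShriek.PointBlow Groth.Agent.SurfPtBlow

noncomputable section

namespace Groth.Agent.CastLib.CurveRes

theorem isNormal_of_regular {X : Scheme.{u}} (h : ∀ x : X, IsRegularLocalRing (X.presheaf.stalk x)) :
    Pi1.IsNormalScheme X := fun x => by
  haveI := h x
  haveI := RegLocal.isDomain (X.presheaf.stalk x)
  exact ⟨inferInstance, (PurityLib.isIntegrallyClosed_of_regular (X.presheaf.stalk x)).2⟩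

theorem app_injective {X Y : Scheme.{u}} (f : X ⟶ Y) [IsDominant f] [QuasiCompact f] [IsReduced Y] (U : Y.Opens) :
    Function.Injective (f.app U).hom :=
  haveI := IsSchemeTheoreticallyDominant.of_isDominant f
  f.app_injective U

/-- The normalization is finite as soon as a normal integral scheme maps properly and dominantly. -/
theorem finite_normalization {X Y : Scheme.{u}} [IsIntegral Y] [IsLocallyNoetherian Y]
    [QuasiCompact (Y.fromSpecStalk (genericPoint Y))] [QuasiSeparated (Y.fromSpecStalk (genericPoint Y))]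
    (g : X ⟶ Y) [IsProper g] [IsIntegral X] [IsDominant g] (hn : Pi1.IsNormalScheme X) :
    IsFinite (Curv2.normalizationι Y) := by
  obtain ⟨hN, -, hpre, -⟩ := NormUPLib.generic_facts (X := Y)
  haveI := hN
  have hg : g (genericPoint X) = genericPoint Y :=
    (IsGenericPoint.eq (genericPoint_spec Y)
      (by simpa [g.denseRange.closure_range] using (genericPoint_spec X).image g.continuous)).symm
  obtain ⟨h, hh, -⟩ := NormUPLib.existsUnique_lift g hn fun z hz => by
    rw [irreducibleComponents_eq_singleton, Set.mem_singleton_iff] at hz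
    rw [show z = genericPoint ↥X from (IsGenericPoint.eq (genericPoint_spec ↥X) hz).symm, hg]
  haveI : IsAffineHom (Curv2.normalizationι Y) :=
    inferInstanceAs (IsAffineHom (Y.fromSpecStalk (genericPoint Y)).fromNormalization)
  haveI : IsProper (h ≫ Curv2.normalizationι Y) := hh ▸ ‹IsProper g›
  haveI : IsProper h := IsProper.of_comp h (Curv2.normalizationι Y)
  haveI : IsDominant h := by
    refine ⟨?_⟩
    rw [DenseRange, dense_iff_closure_eq, Set.eq_univ_iff_forall]
    intro z
    have h1 : h (genericPoint X) ∈ ({genericPoint (Curv2.normalization Y)} : Set _) := by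
      rw [← hpre]
      show Curv2.normalizationι Y (h (genericPoint X)) = _
      rw [← Scheme.Hom.comp_apply, hh, hg]
    have h2 : z ∈ closure ({h (genericPoint X)} : Set (Curv2.normalization Y)) := by
      rw [show h (genericPoint X) = genericPoint (Curv2.normalization Y) from h1]
      exact (genericPoint_specializes z).mem_closure
    exact closure_mono (Set.singleton_subset_iff.2 (Set.mem_range_self (genericPoint X))) h2
  refine ⟨fun W hW => ?_⟩
  haveI := QCohLib.isNoetherianRing_section hW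
  subst hh
  have hfin := S1297.finite_app (h ≫ Curv2.normalizationι Y) hW
  have hinj := app_injective h (Curv2.normalizationι Y ⁻¹ᵁ W)
  rw [Scheme.Hom.comp_app] at hfin
  letI := ((Curv2.normalizationι Y).app W).hom.toAlgebra
  letI := ((Curv2.normalizationι Y).app W ≫ h.app (Curv2.normalizationι Y ⁻¹ᵁ W)).hom.toAlgebra
  haveI : Module.Finite Γ(Y, W) Γ(X, h ⁻¹ᵁ Curv2.normalizationι Y ⁻¹ᵁ W) := hfin
  let L : Γ(Curv2.normalization Y, Curv2.normalizationι Y ⁻¹ᵁ W) →ₗ[Γ(Y, W)]
      Γ(X, h ⁻¹ᵁ Curv2.normalizationι Y ⁻¹ᵁ W) :=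
    { toFun := fun a => (h.app _).hom a
      map_add' := map_add _
      map_smul' := fun a b => by
        simp only [RingHom.id_apply, Algebra.smul_def, map_mul]
        rfl }
  exact Module.Finite.of_injective L hinj

/-- A normal finite cover of a curve is regular. -/
theorem regular_of_finite {N Y : Scheme.{u}} [IsLocallyNoetherian Y] (ν : N ⟶ Y) [IsFinite ν]
    (hn : Pi1.IsNormalScheme N) (hd : topologicalKrullDim Y ≤ 1) :
    ∀ x : N, IsRegularLocalRing (N.presheaf.stalk x) := by
  haveI : IsLocallyNoetherian N := LocallyOfFiniteType.isLocallyNoetherian ν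
  exact fun x => S9800.result N hn ((S9683.result ν).1.trans hd) x

/-- On a regular curve every nonzero ideal is invertible. -/
theorem isEffCartier_of_dimLE_one {N : Scheme.{u}} [IsIntegral N] [IsNoetherian N]
    (hreg : ∀ x : N, IsRegularLocalRing (N.presheaf.stalk x)) (hd : topologicalKrullDim N ≤ 1)
    (I : N.IdealSheafData) (hI : I ≠ ⊥) : BlowUp.IsEffCartierIdeal I := by
  obtain ⟨D, K, hD, hIK, -, hpts⟩ :=
    exists_cartier_mul hreg (hd.trans (by exact_mod_cast (one_le_two : (1 : ℕ) ≤ 2))) I hI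
  have hK : K = ⊤ := (Scheme.IdealSheafData.support_eq_bot_iff K).1
    (SetLike.ext' (Set.eq_empty_iff_forall_notMem.2 fun x hx => by
      have h2 := (FibreComp.ringKrullDim_stalk_le_topologicalKrullDim x).trans hd
      rw [(hpts x hx).2.2] at h2
      norm_cast at h2))
  rwa [hIK, hK, ← Scheme.IdealSheafData.one_eq_top, one_mul]

/-- The blow-up of a singular closed point of an integral scheme is not an isomorphism. -/
theorem not_isIso_blowUp {X X' : Scheme.{u}} [IsIntegral X] [AlgebraicGeometry.IsNoetherian X] {x : X}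
    (hx : IsClosed ({x} : Set X)) (hns : ¬ IsRegularLocalRing (X.presheaf.stalk x)) (b : X' ⟶ X)
    (hb : BlowUp.IsBlowUp b (pointIdeal hx)) : ¬ IsIso b := by
  intro hiso
  have h1 := BlowCompLib.isEffCartier_comap_openImmersion hb.1 (inv b)
  rw [← Scheme.IdealSheafData.comap_comp, IsIso.inv_hom_id, Scheme.IdealSheafData.comap_id] at h1
  obtain ⟨U, hxU, e, -, hU⟩ := h1 x
  apply hns
  by_cases hF : IsField (X.presheaf.stalk x)
  · letI := hF.toField
    infer_instance
  refine IsRegularLocalRing.of_spanFinrank_maximalIdeal_le (R := X.presheaf.stalk x) ?_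
  have hm : IsLocalRing.maximalIdeal (X.presheaf.stalk x) = Ideal.span {X.presheaf.germ U.1 x hxU e} := by
    rw [← SurfPtBlow.stalkIdeal_pointIdeal hx, IdealStalkLib.stalkIdeal_eq _ U x hxU, hU, Ideal.map_span, Set.image_singleton]
  have h2 : (IsLocalRing.maximalIdeal (X.presheaf.stalk x)).spanFinrank ≤ 1 := by
    rw [hm, ← Set.ncard_singleton (X.presheaf.germ U.1 x hxU e)]
    exact Submodule.spanFinrank_span_le_ncard_of_finite (Set.finite_singleton _)
  refine le_trans (show ((IsLocalRing.maximalIdeal (X.presheaf.stalk x)).spanFinrank : WithBot ℕ∞) ≤ ((1 : ℕ) : WithBot ℕ∞) from by exact_mod_cast h2) ?_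
  rw [← not_lt]
  intro hlt
  haveI : Ring.KrullDimLE 0 (X.presheaf.stalk x) := by
    rw [Ring.krullDimLE_iff]
    obtain ⟨d, hd⟩ := WithBot.ne_bot_iff_exists.1 (ringKrullDim_ne_bot (R := X.presheaf.stalk x))
    rw [← hd] at hlt ⊢
    norm_cast at hlt ⊢
    exact (ENat.lt_one_iff_eq_zero.1 hlt).le
  exact hF Ring.KrullDimLE.isField_of_isDomain

variable {N Y : Scheme.{u}} (ν : N ⟶ Y)

/-- The sections of an intermediate scheme inside the sections of the cover. -/
def sub {Y' : Scheme.{u}} (r : Y' ⟶ Y) (h : N ⟶ Y') (hr : h ≫ r = ν) (U : Y.Opens) :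
    letI := (ν.app U).hom.toAlgebra
    Submodule Γ(Y, U) Γ(N, ν ⁻¹ᵁ U) :=
  letI := (ν.app U).hom.toAlgebra
  { carrier := Set.range (h.appLE (r ⁻¹ᵁ U) (ν ⁻¹ᵁ U) (by subst hr; exact le_rfl)).hom
    zero_mem' := ⟨0, map_zero _⟩
    add_mem' := by
      rintro _ _ ⟨a, rfl⟩ ⟨b, rfl⟩
      exact ⟨a + b, map_add _ _ _⟩
    smul_mem' := by
      rintro c _ ⟨a, rfl⟩
      refine ⟨(r.app U).hom c * a, ?_⟩
      rw [map_mul, Algebra.smul_def]
      congr 1
      subst hr
      show (r.app U ≫ h.appLE (r ⁻¹ᵁ U) ((h ≫ r) ⁻¹ᵁ U) le_rfl).hom c = ((h ≫ r).app U).hom c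
      rw [Scheme.Hom.comp_app, Scheme.Hom.app_eq_appLE h]
      rfl }

variable [AlgebraicGeometry.IsNoetherian Y] [IsFinite ν]

/-- Induction on the finite intermediate schemes below a finite dominant cover. -/
theorem stage_induction (P : ∀ {Y' : Scheme.{u}}, (Y' ⟶ Y) → Prop)
    (step : ∀ {Y' : Scheme.{u}} (r : Y' ⟶ Y) (h : N ⟶ Y') [IsFinite r] [IsIntegral Y'] [IsDominant h],
      h ≫ r = ν → (∀ {Y'' : Scheme.{u}} (b : Y'' ⟶ Y') (h' : N ⟶ Y'') [IsProper b] [IsIntegral Y'']
        [IsDominant h'], h' ≫ b = h → ¬ IsIso b → P (b ≫ r)) → P r)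
    {Y' : Scheme.{u}} (r : Y' ⟶ Y) (h : N ⟶ Y') [IsFinite r] [IsIntegral Y'] [IsDominant h] (hr : h ≫ r = ν) :
    P r := by
  classical
  obtain ⟨s, hs⟩ := CompactSpace.elim_nhds_subcover (X := Y)
    (fun y => ((exists_isAffineOpen_mem_and_subset (X := Y) (x := y) (U := ⊤) trivial).choose : Set Y))
    (fun y => (Opens.isOpen _).mem_nhds
      (exists_isAffineOpen_mem_and_subset (X := Y) (x := y) (U := ⊤) trivial).choose_spec.2.1)
  let U : s → Y.Opens := fun y => (exists_isAffineOpen_mem_and_subset (X := Y) (x := y.1) (U := ⊤) trivial).choose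
  have hU : ∀ y, IsAffineOpen (U y) := fun y =>
    (exists_isAffineOpen_mem_and_subset (X := Y) (x := y.1) (U := ⊤) trivial).choose_spec.1
  have hcov : ∀ y : Y, ∃ i, y ∈ U i := fun y => by
    have h1 : y ∈ (⊤ : Set Y) := trivial
    rw [← hs] at h1
    obtain ⟨z, hz, hyz⟩ := Set.mem_iUnion₂.1 h1
    exact ⟨⟨z, hz⟩, hyz⟩
  letI alg : ∀ i, Algebra Γ(Y, U i) Γ(N, ν ⁻¹ᵁ U i) := fun i => (ν.app (U i)).hom.toAlgebra
  haveI : ∀ i, _root_.IsNoetherian Γ(Y, U i) Γ(N, ν ⁻¹ᵁ U i) := fun i => by
    haveI := QCohLib.isNoetherianRing_section (X := Y) (hU i)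
    haveI : Module.Finite Γ(Y, U i) Γ(N, ν ⁻¹ᵁ U i) := ν.finite_app (U i) (hU i)
    infer_instance
  let A := ∀ i : s, Submodule Γ(Y, U i) Γ(N, ν ⁻¹ᵁ U i)
  haveI : WellFoundedGT A :=
    ⟨(inferInstance : WellFoundedLT ((i : s) → (Submodule Γ(Y, U i) Γ(N, ν ⁻¹ᵁ U i))ᵒᵈ)).wf⟩
  suffices key : ∀ (a : A) {Y' : Scheme.{u}} (r : Y' ⟶ Y) (h : N ⟶ Y') [IsFinite r] [IsIntegral Y'] [IsDominant h]
      (hr : h ≫ r = ν), (fun i => sub ν r h hr (U i)) = a → P r from key _ r h hr rfl
  intro a
  induction a using (WellFoundedGT.induction (α := A)) with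
  | _ a ih =>
  intro Y' r h _ _ _ hr ha
  refine step r h hr fun {Y''} b h' _ _ _ hb hiso => ?_
  have hr' : h' ≫ b ≫ r = ν := by rw [← Category.assoc, hb, hr]
  haveI : IsFinite (h' ≫ b ≫ r) := hr' ▸ ‹IsFinite ν›
  haveI : IsFinite h' := IsFinite.of_comp h' (b ≫ r)
  haveI : Surjective h' := ⟨fun z => by
    have h1 : Set.range h' = Set.univ := by
      rw [← h'.isClosedMap.isClosed_range.closure_eq]
      exact h'.denseRange.closure_range
    exact (h1.symm ▸ Set.mem_univ z : z ∈ Set.range h')⟩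
  haveI : LocallyQuasiFinite (b ≫ r) := by
    refine LocallyQuasiFinite.of_finite_preimage_singleton (b ≫ r) fun y => ?_
    refine ((ν.finite_preimage_singleton y).image h').subset fun z hz => ?_
    obtain ⟨w, rfl⟩ := h'.surjective z
    refine ⟨w, ?_, rfl⟩
    show ν w = y
    rw [← hr', Scheme.Hom.comp_apply]
    exact hz
  haveI : IsFinite (b ≫ r) := IsFinite.of_isProper_of_locallyQuasiFinite _
  haveI : IsFinite b := IsFinite.of_comp b r
  refine ih (fun i => sub ν (b ≫ r) h' hr' (U i)) ?_ (b ≫ r) h' hr' rfl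
  rw [← ha]
  refine lt_of_le_of_ne (fun i => ?_) fun heq => hiso ?_
  · rintro _ ⟨x, rfl⟩
    refine ⟨(b.app (r ⁻¹ᵁ U i)).hom x, ?_⟩
    subst hb
    show (b.app (r ⁻¹ᵁ U i) ≫ h'.appLE (b ⁻¹ᵁ r ⁻¹ᵁ U i) _ _).hom x = _
    rw [Scheme.Hom.app_eq_appLE, Scheme.Hom.appLE_comp_appLE]
  · haveI : IsDominant b := by
      haveI : IsDominant (h' ≫ b) := hb ▸ ‹IsDominant h›
      exact IsDominant.of_comp h' b
    have hloc : ∀ i, IsIso (b ∣_ r ⁻¹ᵁ U i) := fun i => by
      refine ModPairLib.isIso_restrict_of_app_bijective b ((hU i).preimage r) ⟨app_injective b _, fun z => ?_⟩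
      have hle : ν ⁻¹ᵁ U i ≤ h' ⁻¹ᵁ b ⁻¹ᵁ r ⁻¹ᵁ U i := fun w hw => by
        show (h' ≫ b ≫ r) w ∈ U i
        rw [hr']
        exact hw
      have hmem : (h'.appLE (b ⁻¹ᵁ r ⁻¹ᵁ U i) (ν ⁻¹ᵁ U i) hle).hom z ∈ sub ν r h hr (U i) := by
        rw [congrFun heq i]
        exact ⟨z, rfl⟩
      obtain ⟨x, hx⟩ := hmem
      refine ⟨x, ?_⟩
      subst hb
      subst hr'
      have hinj := app_injective h' (b ⁻¹ᵁ r ⁻¹ᵁ U i)
      rw [Scheme.Hom.app_eq_appLE] at hinj
      refine hinj ?_
      refine Eq.trans ?_ hx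
      show (b.app (r ⁻¹ᵁ U i) ≫ h'.appLE (b ⁻¹ᵁ r ⁻¹ᵁ U i) _ _).hom x = _
      rw [Scheme.Hom.app_eq_appLE, Scheme.Hom.appLE_comp_appLE]
      rfl
    show MorphismProperty.isomorphisms Scheme b
    refine (IsZariskiLocalAtTarget.iff_of_iSup_eq_top (P := MorphismProperty.isomorphisms Scheme)
      (fun i => r ⁻¹ᵁ U i) (eq_top_iff.2 fun z _ => ?_)).2 hloc
    obtain ⟨i, hi⟩ := hcov (r z)
    exact Opens.mem_iSup.2 ⟨i, hi⟩

omit [AlgebraicGeometry.IsNoetherian Y] [IsFinite ν] in
/-- A dominant map from a regular curve lifts to the blow-up of a closed point. -/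
theorem exists_lift [IsIntegral N] [IsNoetherian N] (hreg : ∀ x : N, IsRegularLocalRing (N.presheaf.stalk x))
    (hd : topologicalKrullDim N ≤ 1) {Y' X' : Scheme.{u}} [IsIntegral Y'] [IsNoetherian Y'] (h : N ⟶ Y') [IsDominant h] {y : Y'}
    (hy : IsClosed ({y} : Set Y')) (hne : y ≠ genericPoint Y') (b : X' ⟶ Y') (hb : BlowUp.IsBlowUp b (pointIdeal hy)) :
    ∃ (_ : IsProper b) (_ : IsIntegral X') (h' : N ⟶ X'), IsDominant h' ∧ h' ≫ b = h ∧
      ∃ V : Y'.Opens, (V : Set Y').Nonempty ∧ IsIso (b ∣_ V) := by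
  haveI := TwistShriek.PointBlow.isProper hb
  have hgenh : h (genericPoint N) = genericPoint Y' :=
    (IsGenericPoint.eq (genericPoint_spec Y')
      (by simpa [h.denseRange.closure_range] using (genericPoint_spec N).image h.continuous)).symm
  have hsupp : ∀ z : Y', z ∈ (pointIdeal hy).support ↔ z = y := fun z => by
    rw [← SetLike.mem_coe, Scheme.IdealSheafData.coe_support_vanishingIdeal]
    exact Iff.rfl
  have hI : pointIdeal hy ≠ ⊥ := fun h0 => hne ((hsupp _).1 (by rw [h0, Scheme.IdealSheafData.support_bot]; trivial)).symm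
  have hI' : (pointIdeal hy).comap h ≠ ⊥ := fun h0 => hne (by
    have h1 : genericPoint N ∈ ((pointIdeal hy).comap h).support := by rw [h0, Scheme.IdealSheafData.support_bot]; trivial
    rw [← SetLike.mem_coe, Scheme.IdealSheafData.support_comap, Closeds.coe_preimage] at h1
    exact ((hsupp _).1 h1).symm.trans hgenh)
  obtain ⟨h', hh', -⟩ := hb.2 N h (isEffCartier_of_dimLE_one hreg hd _ hI')
  obtain ⟨hX', hgen, -⟩ := S2348.result _ hI b hb
  haveI := hX'
  let V : Y'.Opens := (pointIdeal hy).support.compl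
  have hV : genericPoint Y' ∈ V := fun h0 => hne ((hsupp _).1 h0).symm
  have hiso : IsIso (b ∣_ V) := BlowCompLib.isIso_restrict _ b hb
  refine ⟨inferInstance, hX', h', ⟨?_⟩, hh', V, ⟨_, hV⟩, hiso⟩
  have h1 : h' (genericPoint N) = genericPoint X' := by
    have hb1 : b (h' (genericPoint N)) = genericPoint Y' := by rw [← Scheme.Hom.comp_apply, hh', hgenh]
    have ha : h' (genericPoint N) ∈ b ⁻¹ᵁ V := by show b _ ∈ V; rw [hb1]; exact hV
    have hc : genericPoint X' ∈ b ⁻¹ᵁ V := by show b _ ∈ V; rw [show b (genericPoint X') = _ from hgen]; exact hV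
    have h2 : (b ∣_ V) ⟨_, ha⟩ = (b ∣_ V) ⟨_, hc⟩ := by
      apply Subtype.ext
      rw [morphismRestrict_base]
      exact hb1.trans hgen.symm
    exact congrArg Subtype.val ((b ∣_ V).homeomorph.injective h2)
  rw [DenseRange, dense_iff_closure_eq, Set.eq_univ_iff_forall]
  intro z
  have h3 : ({genericPoint X'} : Set X') ⊆ Set.range h' := Set.singleton_subset_iff.2 (h1 ▸ Set.mem_range_self _)
  exact closure_mono h3 (genericPoint_specializes z).mem_closure

/-- A finite cover by a regular curve gives a resolution by point blow-ups. -/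
theorem exists_seq [IsIntegral N] [IsIntegral Y] [IsDominant ν] (hdim : topologicalKrullDim Y ≤ 1)
    (hN : ∀ x : N, IsRegularLocalRing (N.presheaf.stalk x)) :
    ∃ (Y' : Scheme.{u}) (g : Y' ⟶ Y), Resolve.IsPtBlowupSeq g ∧ ∀ y : Y', IsRegularLocalRing (Y'.presheaf.stalk y) := by
  haveI : IsLocallyNoetherian N := LocallyOfFiniteType.isLocallyNoetherian ν
  haveI : CompactSpace N := QuasiCompact.compactSpace_of_compactSpace ν
  haveI : IsNoetherian N := {}
  have hdN : topologicalKrullDim N ≤ 1 := (S9683.result ν).1.trans hdim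
  refine stage_induction ν
    (fun {Y'} r => Resolve.IsPtBlowupSeq r →
      ∃ (Z : Scheme.{u}) (g : Z ⟶ Y), Resolve.IsPtBlowupSeq g ∧ ∀ y : Z, IsRegularLocalRing (Z.presheaf.stalk y))
    (fun {Y'} r h _ _ _ hr ih hseq => by
      by_cases hreg : ∀ y : Y', IsRegularLocalRing (Y'.presheaf.stalk y)
      · exact ⟨Y', r, hseq, hreg⟩
      push Not at hreg
      obtain ⟨y, hy⟩ := hreg
      haveI : IsLocallyNoetherian Y' := LocallyOfFiniteType.isLocallyNoetherian r
      haveI : CompactSpace Y' := QuasiCompact.compactSpace_of_compactSpace r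
      haveI : IsNoetherian Y' := {}
      have hdY' : topologicalKrullDim Y' ≤ 1 := (S9683.result r).1.trans hdim
      have hne : y ≠ genericPoint Y' := by
        rintro rfl
        apply hy
        letI : Field (Y'.presheaf.stalk (genericPoint Y')) := inferInstanceAs (Field Y'.functionField)
        infer_instance
      have hyc : IsClosed ({y} : Set Y') :=
        H6CurveCorr.isClosed_singleton hdY' (fun x => genericPoint_specializes x) hne
      obtain ⟨Y'', b, hb⟩ := S8859.result Y' (pointIdeal hyc)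
      obtain ⟨_, _, h', hh'd, hh', -⟩ := exists_lift hN hdN h hyc hne b hb
      haveI := hh'd
      exact ih b h' hh' (not_isIso_blowUp hyc hy b hb) (Resolve.IsPtBlowupSeq.step b r y hyc hb hseq))
    (Y' := Y) (𝟙 Y) ν (Category.comp_id ν) (Resolve.IsPtBlowupSeq.iso (Iso.refl Y))

/-- A composite of point blow-ups of a curve is proper and birational. -/
theorem props_of_seq {Y' Y : Scheme.{u}} {g : Y' ⟶ Y} (hseq : Resolve.IsPtBlowupSeq g) :
    ∀ [IsIntegral Y] [AlgebraicGeometry.IsNoetherian Y], topologicalKrullDim Y ≤ 1 →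
      ¬ IsClosed ({genericPoint Y} : Set Y) →
      IsProper g ∧ IsIntegral Y' ∧ ∃ V : Y.Opens, (V : Set Y).Nonempty ∧ IsIso (g ∣_ V) := by
  induction hseq with
  | @iso A B e =>
    intro _ _ _ _
    haveI : Nonempty A := ⟨e.inv (genericPoint B)⟩
    haveI : IsIntegral A := isIntegral_of_isOpenImmersion e.hom
    exact ⟨inferInstance, inferInstance, ⊤, ⟨genericPoint B, trivial⟩, inferInstance⟩
  | @step A Z B b r z hz hb hr ih =>
    intro _ _ hd hnc
    obtain ⟨hp, hZ, V, hV, hiso⟩ := ih hd hnc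
    haveI := hp
    haveI := hZ
    haveI : IsLocallyNoetherian Z := LocallyOfFiniteType.isLocallyNoetherian r
    haveI : CompactSpace Z := QuasiCompact.compactSpace_of_compactSpace r
    haveI : AlgebraicGeometry.IsNoetherian Z := {}
    obtain ⟨hgen, -⟩ := BirQFLib.birational_of_isIso_restrict r V hV hiso
    have hzne : z ≠ genericPoint Z := by
      rintro rfl
      refine hnc ?_
      have h1 := r.isClosedMap _ hz
      rwa [Set.image_singleton, show r (genericPoint Z) = _ from hgen] at h1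
    haveI := TwistShriek.PointBlow.isProper hb
    have hI : pointIdeal hz ≠ ⊥ := fun h0 => hzne (by
      have h1 : genericPoint Z ∈ (pointIdeal hz).support := by rw [h0, Scheme.IdealSheafData.support_bot]; trivial
      rw [← SetLike.mem_coe, Scheme.IdealSheafData.coe_support_vanishingIdeal] at h1
      exact (show genericPoint Z = z from h1).symm)
    obtain ⟨hA, -⟩ := S2348.result _ hI b hb
    have hgenV : genericPoint B ∈ V := by
      obtain ⟨v, hv⟩ := hV
      exact (genericPoint_specializes v).mem_open V.2 hv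
    let W : B.Opens := V ⊓ ⟨{r z}ᶜ, (by
      have h1 := r.isClosedMap _ hz
      rw [Set.image_singleton] at h1
      exact h1.isOpen_compl)⟩
    have hW : genericPoint B ∈ W := by
      refine ⟨hgenV, fun h1 => hnc ?_⟩
      have h2 := r.isClosedMap _ hz
      rw [Set.image_singleton] at h2
      rwa [← (show genericPoint B = r z from h1)] at h2
    refine ⟨inferInstance, hA, W, ⟨_, hW⟩, ?_⟩
    haveI := hiso
    haveI : IsIso (r ∣_ W) := BMCohLib.isIso_restrict_le r inf_le_left
    haveI : IsIso (b ∣_ r ⁻¹ᵁ W) := isIso_restrict_compl hb _ (fun h => h.2 rfl)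
    rw [morphismRestrict_comp]
    infer_instance

theorem not_isClosed_generic {Y : Scheme.{u}} [IsIntegral Y] (hdim : topologicalKrullDim Y = 1) :
    ¬ IsClosed ({genericPoint Y} : Set Y) := by
  intro hc
  have h1 : ∀ y : Y, y = genericPoint Y := fun y =>
    (genericPoint_specializes y).mem_closed hc rfl
  haveI : Subsingleton Y := ⟨fun a b => (h1 a).trans (h1 b).symm⟩
  haveI : Subsingleton (IrreducibleCloseds Y) := ⟨fun s t => IrreducibleCloseds.ext (by
    obtain ⟨a, ha⟩ := s.2.nonempty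
    obtain ⟨b, hb⟩ := t.2.nonempty
    show (s : Set Y) = (t : Set Y)
    rw [Set.eq_univ_of_forall (s := (s : Set Y)) fun y => (Subsingleton.elim a y) ▸ ha,
      Set.eq_univ_of_forall (s := (t : Set Y)) fun y => (Subsingleton.elim b y) ▸ hb])⟩
  have h2 : topologicalKrullDim Y ≤ 0 := Order.krullDim_nonpos_of_subsingleton
  rw [hdim] at h2
  exact absurd h2 (by decide)

end Groth.Agent.CastLib.CurveRes

end
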