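import Groth.Agent.CastLib.Arith
import Groth.Agent.SurfPtBlow.PointPush

/-!
# Contracting the curves over a normal surface
-/

set_option autoImplicit false
set_option backward.isDefEq.respectTransparency false
set_option linter.style.haveILetI false
set_option maxHeartbeats 1000000

universe u

open CategoryTheory CategoryTheory.Limits AlgebraicGeometry TopologicalSpace

noncomputable section

namespace Groth.Agent.CastLib

open Groth.Agent.SurfPtBlow

variable {R : Type u} [CommRing R] [IsDomain R] [IsDiscreteValuationRing R]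

/-- Every desingularisation contracts onto one without contracted exceptional curves. -/
theorem exists_no_contracted {Y : Over (Spec (CommRingCat.of R))} [IsSeparated Y.hom] (U : Y.left.Opens)
    (hU : (U : Set Y.left).Nonempty) :
    ∀ (n : ℕ) (X : Over (Spec (CommRingCat.of R))) (_ : ArSurf.IsArithSurface R X) (g : X ⟶ Y)
      (_ : IsIso (g.left ∣_ U)),
      {z | z ∈ g.left ⁻¹' (U : Set Y.left)ᶜ ∧ ¬ IsClosed ({z} : Set X.left)}.ncard ≤ n →
      ∃ (Z : Over (Spec (CommRingCat.of R))) (g' : Z ⟶ Y), ArSurf.IsArithSurface R Z ∧ IsIso (g'.left ∣_ U) ∧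
        ∀ (E : Scheme.{u}) (ι : E ⟶ Z.left) [IsClosedImmersion ι], Models.IsExcCurve ι →
          ¬ ∃ y : Y.left, Set.range (ι ≫ g'.left) = {y} := by
  intro n
  induction n using Nat.strong_induction_on with
  | _ n ih =>
  intro X hX g hg hn
  by_cases h : ∀ (E : Scheme.{u}) (ι : E ⟶ X.left) [IsClosedImmersion ι], Models.IsExcCurve ι →
      ¬ ∃ y : Y.left, Set.range (ι ≫ g.left) = {y}
  · exact ⟨X, g, hX, hg, h⟩
  push Not at h
  obtain ⟨E, ι, hι, hE, y₀, hy₀⟩ := h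
  haveI := hι
  haveI := hX.2.1
  haveI := (arSurf_facts hX).2
  haveI := hg
  obtain ⟨Z, f, z, hz, hZ, hcontr, hrange, hpre, hiso⟩ := exists_contraction_arith hX ι hE
  obtain ⟨-, hfp, z', hz', hr', hreg, hd, hb⟩ := id hcontr
  haveI := hfp
  have hzz : z' = z := by
    have h1 : z' ∈ ({z} : Set Z.left) := hrange ▸ hr'.ge rfl
    exact h1
  subst hzz
  have hfib : f.left ⁻¹' {z'} = Set.range ι := by
    refine compl_injective ?_
    rw [← Set.preimage_compl]
    exact hpre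
  have hconst : ∀ w, f.left w = z' → g.left w = y₀ := fun w hw => by
    obtain ⟨c, rfl⟩ := hfib.le hw
    exact hy₀.le ⟨c, rfl⟩
  haveI := (arSurf_facts hZ).2
  haveI := hZ.2.1
  obtain ⟨ψ, hψ, huniq⟩ := SurfPtBlow.existsUnique_desc hb hreg hd g.left y₀ hconst
  have hψZ : ψ ≫ Y.hom = Z.hom := by
    obtain ⟨_, _, hu⟩ := SurfPtBlow.existsUnique_desc hb hreg hd X.hom (Y.hom y₀) fun w hw => by
      rw [← Over.w g, Scheme.Hom.comp_apply, hconst w hw]
    exact (hu (ψ ≫ Y.hom) (by show f.left ≫ ψ ≫ Y.hom = X.hom; rw [reassoc_of% hψ, Over.w g])).trans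
      (hu Z.hom (Over.w f)).symm
  -- the exceptional curve lies outside `U`
  obtain ⟨k, _, j, _, hjr, hjC, -⟩ := exists_line ι hE
  haveI := isIntegral_P1 (k := k)
  let η := j (genericPoint (CohB1.ProjSpace 1 k))
  have hsub : ∀ w, w ∈ Set.range j → g.left w = y₀ := fun w hw => by
    obtain ⟨c, rfl⟩ := hjr.le hw
    exact hy₀.le ⟨c, rfl⟩
  have hy₀U : y₀ ∉ U := fun hyU => by
    haveI : Subsingleton (CohB1.ProjSpace 1 k) := ⟨fun p q => j.isClosedEmbedding.injective (by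
      have hp := hsub _ ⟨p, rfl⟩
      have hq := hsub _ ⟨q, rfl⟩
      exact congrArg Subtype.val ((g.left ∣_ U).homeomorph.injective (a₁ := ⟨j p, show g.left (j p) ∈ U from hp.symm ▸ hyU⟩)
        (a₂ := ⟨j q, show g.left (j q) ∈ U from hq.symm ▸ hyU⟩) (Subtype.ext (by
          rw [Scheme.Hom.homeomorph_apply, Scheme.Hom.homeomorph_apply, morphismRestrict_base]
          exact hp.trans hq.symm))))⟩
    have h0 := topologicalKrullDim_zero_of_discreteTopology (CohB1.ProjSpace 1 k)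
    rw [dim_P1] at h0
    exact absurd h0 (by decide)
  have hψz : ψ z' = y₀ := by
    obtain ⟨c, hc⟩ : z' ∈ Set.range (ι ≫ f.left) := hrange.ge rfl
    rw [← hc, ← Scheme.Hom.comp_apply, Category.assoc, hψ]
    exact hy₀.le ⟨c, rfl⟩
  have hle : ψ ⁻¹ᵁ U ≤ (⟨{z'}ᶜ, hz.isOpen_compl⟩ : Z.left.Opens) := fun w hw (hwz : w = z') =>
    hy₀U (hψz ▸ hwz ▸ hw)
  haveI := hiso
  haveI : IsIso (f.left ∣_ (ψ ⁻¹ᵁ U)) := BMCohLib.isIso_restrict_le f.left hle
  have hψU : IsIso (ψ ∣_ U) := by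
    have h1 : IsIso ((f.left ≫ ψ) ∣_ U) := by rw [hψ]; exact hg
    rw [morphismRestrict_comp] at h1
    exact IsIso.of_isIso_comp_left (f.left ∣_ (ψ ⁻¹ᵁ U)) (ψ ∣_ U)
  -- fewer curves
  let S : Set X.left := {w | w ∈ g.left ⁻¹' (U : Set Y.left)ᶜ ∧ ¬ IsClosed ({w} : Set X.left)}
  have hgU : genericPoint X.left ∈ g.left ⁻¹ᵁ U := by
    obtain ⟨u, hu⟩ := hU
    obtain ⟨⟨w, hw⟩, -⟩ := (g.left ∣_ U).surjective ⟨u, hu⟩
    exact (genericPoint_specializes w).mem_open (g.left ⁻¹ᵁ U).2 hw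
  have hfin : S.Finite :=
    finite_not_closed hX.2.2.1.le (U.2.isClosed_compl.preimage g.left.continuous) fun hη => hη hgU
  have hηb : f.left η = z' := hfib.ge (hjr ▸ ⟨_, rfl⟩)
  have hηS : η ∈ S := by
    refine ⟨fun hη => hy₀U (hsub η ⟨_, rfl⟩ ▸ hη), fun h => ?_⟩
    have hc : IsClosed ({genericPoint (CohB1.ProjSpace 1 k)} : Set (CohB1.ProjSpace 1 k)) := by
      have e : j ⁻¹' {η} = {genericPoint (CohB1.ProjSpace 1 k)} := Set.eq_singleton_iff_unique_mem.2
        ⟨rfl, fun w hw => j.isClosedEmbedding.injective hw⟩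
      exact e ▸ h.preimage j.continuous
    have hu := (genericPoint_spec (CohB1.ProjSpace 1 k)).def
    rw [hc.closure_eq] at hu
    haveI : Subsingleton (CohB1.ProjSpace 1 k) := Set.subsingleton_univ_iff.1 (hu ▸ Set.subsingleton_singleton)
    have h0 := topologicalKrullDim_zero_of_discreteTopology (CohB1.ProjSpace 1 k)
    rw [dim_P1] at h0
    exact absurd h0 (by decide)
  have hsurj : Function.Surjective f.left := fun w => by
    by_cases hw : w = z'
    · exact ⟨η, hηb.trans hw.symm⟩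
    · obtain ⟨x, hx⟩ := (f.left ∣_ (⟨{z'}ᶜ, hz.isOpen_compl⟩ : Z.left.Opens)).surjective ⟨w, hw⟩
      refine ⟨Scheme.Opens.ι (f.left ⁻¹ᵁ (⟨{z'}ᶜ, hz.isOpen_compl⟩ : Z.left.Opens)) x, ?_⟩
      have h' := congrArg (Scheme.Opens.ι (⟨{z'}ᶜ, hz.isOpen_compl⟩ : Z.left.Opens)) hx
      rw [← Scheme.Hom.comp_apply, morphismRestrict_ι, Scheme.Hom.comp_apply] at h'
      exact h'
  let g₁ : Z ⟶ Y := Over.homMk ψ hψZ
  let S₁ : Set Z.left := {w | w ∈ g₁.left ⁻¹' (U : Set Y.left)ᶜ ∧ ¬ IsClosed ({w} : Set Z.left)}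
  have hsub₁ : S₁ ⊆ f.left '' (S \ {η}) := fun w hw => by
    obtain ⟨x, rfl⟩ := hsurj w
    refine ⟨x, ⟨⟨?_, fun hx => hw.2 ?_⟩, fun hxη => hw.2 ?_⟩, rfl⟩
    · show g.left x ∈ (U : Set Y.left)ᶜ
      rw [← hψ]
      exact hw.1
    · rw [← Set.image_singleton]
      exact f.left.isClosedMap _ hx
    · rw [show x = η from hxη, hηb]
      exact hz
  refine ih S₁.ncard ?_ Z hZ g₁ hψU le_rfl
  refine lt_of_lt_of_le ?_ hn
  calc S₁.ncard ≤ (f.left '' (S \ {η})).ncard :=
        Set.ncard_le_ncard hsub₁ ((hfin.subset Set.sdiff_subset).image _)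
    _ ≤ (S \ {η}).ncard := Set.ncard_image_le (hfin.subset Set.sdiff_subset)
    _ < S.ncard := Set.ncard_sdiff_singleton_lt_of_mem hηS hfin

end Groth.Agent.CastLib
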