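import Groth.Agent.TwistShriek.SurfCurve
import Groth.Agent.CurveLib.Euler
import Groth.Agent.CastLib.InterDeg
import Groth.Agent.TwistShriek.SurfPeel

/-!
# Euler characteristics by lengths, and peeling off a vertical curve
-/

set_option autoImplicit false
set_option backward.isDefEq.respectTransparency false
set_option backward.isDefEq.respectTransparency.types false
set_option linter.style.haveILetI false
set_option maxHeartbeats 1000000

universe u

open CategoryTheory CategoryTheory.Limits AlgebraicGeometry TopologicalSpace IsLocalRing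
open Groth.Agent.PullbackMod Groth.Agent.DCohLib Groth.Agent.CurveLib Groth.Agent.H1ZeroLib

noncomputable section

namespace Groth.Agent.CastLib

section Len

variable (R : Type u) [CommRing R] {X : Scheme.{u}} [X.Over (Spec (CommRingCat.of R))]

/-- Finite cohomological lengths. -/
def FinLen (M : X.Modules) : Prop := ∀ i ≤ 1, Module.length R (Coh.HH X M i) ≠ ⊤

/-- The Euler characteristic by lengths. -/
def chiLen (M : X.Modules) : ℤ :=
  ((Module.length R (Coh.HH X M 0)).toNat : ℤ) - (Module.length R (Coh.HH X M 1)).toNat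

theorem length_iso {M N : X.Modules} (e : M ≅ N) (i : ℕ) :
    Module.length R (Coh.HH X M i) = Module.length R (Coh.HH X N i) :=
  LinearEquiv.length_eq (LinearEquiv.ofLinearMap (CurveLib.hMap (k := R) e.hom i) (CurveLib.hMap e.inv i)
      (LinearMap.ext fun x => by
        show Sheaf.H.map _ i (Sheaf.H.map _ i x) = x
        rw [← Sheaf.H.map_comp_apply, ← Functor.map_comp, e.inv_hom_id, CategoryTheory.Functor.map_id,
          Sheaf.H.map_id_apply])
      (LinearMap.ext fun x => by
        show Sheaf.H.map _ i (Sheaf.H.map _ i x) = x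
        rw [← Sheaf.H.map_comp_apply, ← Functor.map_comp, e.hom_inv_id, CategoryTheory.Functor.map_id,
          Sheaf.H.map_id_apply]))

theorem length_ker_range {A B : Type*} [AddCommGroup A] [Module R A] [AddCommGroup B] [Module R B] (f : A →ₗ[R] B) :
    Module.length R A = Module.length R (LinearMap.ker f) + Module.length R (LinearMap.range f) :=
  Module.length_eq_add_of_exact (LinearMap.ker f).subtype f.rangeRestrict Subtype.val_injective
    f.surjective_rangeRestrict (LinearMap.exact_iff.2 (by rw [LinearMap.ker_rangeRestrict, Submodule.range_subtype]))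

/-- **Additivity.** -/
theorem chiLen_add {S : ShortComplex X.Modules} (hS : S.ShortExact) (h1 : FinLen R S.X₁) (h3 : FinLen R S.X₃)
    (h2 : Subsingleton (Coh.HH X S.X₁ 2)) :
    FinLen R S.X₂ ∧ chiLen R S.X₂ = chiLen R S.X₁ + chiLen R S.X₃ := by
  have hsurj : LinearMap.range (CurveLib.hMap (k := R) S.g 1) = ⊤ := by
    rw [CurveLib.range_hMap_g hS 1, LinearMap.ker_eq_top]
    exact LinearMap.ext fun x => Subsingleton.elim _ _
  have hinj : LinearMap.ker (CurveLib.hMap (k := R) S.f 0) = ⊥ :=
    LinearMap.ker_eq_bot.2 (CurveLib.hMap_f_zero_injective hS)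
  have a0 := length_ker_range R (CurveLib.hMap (k := R) S.f 0)
  have b0 := length_ker_range R (CurveLib.hMap (k := R) S.g 0)
  have c0 := length_ker_range R (CurveLib.hδ (k := R) hS 0)
  have a1 := length_ker_range R (CurveLib.hMap (k := R) S.f 1)
  have b1 := length_ker_range R (CurveLib.hMap (k := R) S.g 1)
  have hbot : Module.length R (⊥ : Submodule R (Coh.HH X S.X₁ 0)) = 0 := Module.length_eq_zero
  rw [hinj, hbot, zero_add] at a0
  rw [← CurveLib.range_hMap_f hS 0] at b0
  rw [← CurveLib.range_hMap_g hS 0] at c0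
  rw [← CurveLib.range_hδ hS 0] at a1
  rw [← CurveLib.range_hMap_f hS 1, hsurj, Module.length_top] at b1
  have hA0 := h1 0 (by omega)
  have hA1 := h1 1 (by omega)
  have hC0 := h3 0 (by omega)
  have hC1 := h3 1 (by omega)
  have hg0 : Module.length R (LinearMap.range (CurveLib.hMap (k := R) S.g 0)) ≠ ⊤ := fun e => hC0 (by rw [c0, e, top_add])
  have hd0 : Module.length R (LinearMap.range (CurveLib.hδ (k := R) hS 0)) ≠ ⊤ := fun e => hC0 (by rw [c0, e, add_top])
  have hf1 : Module.length R (LinearMap.range (CurveLib.hMap (k := R) S.f 1)) ≠ ⊤ := fun e => hA1 (by rw [a1, e, add_top])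
  have hB0 : Module.length R (Coh.HH X S.X₂ 0) ≠ ⊤ := by
    rw [b0, ← a0, WithTop.add_ne_top]; exact ⟨hA0, hg0⟩
  have hB1 : Module.length R (Coh.HH X S.X₂ 1) ≠ ⊤ := by
    rw [b1, WithTop.add_ne_top]; exact ⟨hf1, hC1⟩
  refine ⟨fun i hi => ?_, ?_⟩
  · interval_cases i
    exacts [hB0, hB1]
  simp only [chiLen]
  rw [b0, ← a0, c0, a1, b1, ENat.toNat_add hA0 hg0, ENat.toNat_add hg0 hd0, ENat.toNat_add hd0 hf1,
    ENat.toNat_add hf1 hC1]
  push_cast
  ring

end Len

variable {R : Type u} [CommRing R] [IsDomain R] [IsDiscreteValuationRing R]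
variable {X : Over (Spec (CommRingCat.of R))} [IsProper X.hom]

/-- Cohomology of a direct image from a vertical curve. -/
theorem length_push_vertComp (Γ : ArSurf.VertComp R X) (M : Γ.curve.left.Modules) (hM : Coh.IsCoh M) (i : ℕ) :
    Module.length R (Coh.HH X.left ((Scheme.Modules.pushforward Γ.ι).obj M) i) =
      (Module.finrank (ResidueField R) (Coh.HH Γ.curve.left M i) : ℕ∞) := by
  haveI := isProper_vertComp Γ
  haveI := hM.1
  obtain ⟨e, he⟩ := ProperFin.exists_pushEquiv Γ.ι (M := M)
    (fun _ hV m => CohBase.affine_vanishing M (hV.preimage Γ.ι) m) i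
  letI : Module R (Coh.HH Γ.curve.left M i) := Module.compHom _ (IsLocalRing.residue R)
  haveI : IsScalarTower R (ResidueField R) (Coh.HH Γ.curve.left M i) :=
    IsScalarTower.of_algebraMap_smul fun r m => rfl
  let L : Coh.HH Γ.curve.left M i ≃ₗ[R] Coh.HH X.left ((Scheme.Modules.pushforward Γ.ι).obj M) i :=
    { e with
      map_smul' := fun a x => by
        show e (Coh.toGlobal Γ.curve.hom (IsLocalRing.residue R a) • x) = Coh.toGlobal X.hom a • e x
        rw [← toGlobal_w Γ.w a]
        exact he _ x }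
  haveI := EulerIneqLib.isNoetherian_proper (X := Γ.curve.left) (ResidueField R)
  haveI := EulerIneqLib.finite_HH (k := ResidueField R) hM i
  rw [← L.length_eq, Module.length_eq_of_surjective (R := ResidueField R) IsLocalRing.residue_surjective,
    Module.length_eq_finrank]

theorem subsingleton_push_two (Γ : ArSurf.VertComp R X) (M : Γ.curve.left.Modules) (hM : Coh.IsCoh M) :
    Subsingleton (Coh.HH X.left ((Scheme.Modules.pushforward Γ.ι).obj M) 2) := by
  haveI := isProper_vertComp Γ
  haveI := hM.1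
  haveI := EulerIneqLib.isNoetherian_proper (X := Γ.curve.left) (ResidueField R)
  obtain ⟨e, -⟩ := ProperFin.exists_pushEquiv Γ.ι (M := M)
    (fun _ hV m => CohBase.affine_vanishing M (hV.preimage Γ.ι) m) 2
  haveI : Subsingleton (Coh.HH Γ.curve.left M 2) :=
    CurveLib.subsingleton_HH_of_support M isClosed_univ (Set.subset_univ _) (d := 1)
      (by
        refine le_trans ?_ (dim_vertComp Γ)
        exact Topology.IsInducing.subtypeVal.topologicalKrullDim_le) (by omega)
  exact e.symm.toEquiv.subsingleton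

open TwistShriek in
/-- **Peeling off a vertical curve.** -/
theorem chiLen_peel (Γ : ArSurf.VertComp R X) {B : X.left.IdealSheafData} (hB : BlowUp.IsEffCartierIdeal B)
    (hfin : @FinLen R _ X.left ⟨X.hom⟩ (ClSub.quotMod B)) :
    letI : X.left.Over (Spec (CommRingCat.of R)) := ⟨X.hom⟩
    FinLen R (ClSub.quotMod (Γ.ι.ker * B)) ∧
      chiLen R (ClSub.quotMod (Γ.ι.ker * B)) = chiLen R (ClSub.quotMod B) +
        (ArSurf.inter R X (ClSub.idealMod B) Γ +
          ((Models.wdeg R X Γ : ℤ) - (Models.h1 R X Γ : ℤ))) := by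
  letI : X.left.Over (Spec (CommRingCat.of R)) := ⟨X.hom⟩
  haveI := isProper_vertComp Γ
  haveI : IsLocallyNoetherian X.left := LocallyOfFiniteType.isLocallyNoetherian X.hom
  haveI := EulerIneqLib.isNoetherian_proper (X := Γ.curve.left) (ResidueField R)
  let O := Coh.structureModule X.left
  have hO : PicF.IsInvertible O := ParaFLib.isInvertible_structureModule
  have hI : PicF.IsInvertible (ClSub.idealMod B) := (S8914.result B).2 hB
  let g := qmapL (mul_le_right' Γ.ι.ker B) O
  haveI : Epi g := (epi_iff_stalk g).2 fun x z => by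
    obtain ⟨e, he⟩ := ParaFLib.exists_stalk_gen hO x
    obtain ⟨r, hr⟩ := tq_surjective he B z
    exact ⟨tq (Γ.ι.ker * B) x e r, by rw [stalk_qmapL]; exact hr⟩
  let S := ShortComplex.mk (kernel.ι g) g (kernel.condition g)
  have hS : S.ShortExact := ShortComplex.ShortExact.mk'
    (ShortComplex.exact_of_f_is_kernel _ (kernelIsKernel g)) inferInstance inferInstance
  let M' := (Scheme.Modules.pullback Γ.ι).obj (ClSub.idealMod B)
  have hM' : PicF.IsInvertible M' := AmpleLib.isInvertible_pullback _ hI
  have hM'c := CurveLib.isCoh_of_isInvertible hM'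
  obtain ⟨q⟩ := nonempty_quotMod_ker_iso Γ.ι
  let e₁ : kernel g ≅ (Scheme.Modules.pushforward Γ.ι).obj M' :=
    (peelIso (C := Γ.ι.ker) (B := B) hO).symm ≪≫
      ((DCoh.tensorBi (X := X.left)).obj (ClSub.quotMod Γ.ι.ker)).mapIso (AmpleLib.unitR (ClSub.idealMod B)) ≪≫
      ((DCoh.tensorBi (X := X.left)).mapIso q).app (ClSub.idealMod B) ≪≫
      projIso Γ.ι (Coh.structureModule Γ.curve.left) (ClSub.idealMod B) ≪≫
      (Scheme.Modules.pushforward Γ.ι).mapIso (CurveLib.tmodUnit M')
  let eB : S.X₃ ≅ ClSub.quotMod B := AmpleLib.unitR (ClSub.quotMod B)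
  let eCB : S.X₂ ≅ ClSub.quotMod (Γ.ι.ker * B) := AmpleLib.unitR (ClSub.quotMod (Γ.ι.ker * B))
  have hl1 : ∀ i, Module.length R (Coh.HH X.left S.X₁ i) =
      (Module.finrank (ResidueField R) (Coh.HH Γ.curve.left M' i) : ℕ∞) :=
    fun i => (length_iso R e₁ i).trans (length_push_vertComp Γ M' hM'c i)
  have hf1 : FinLen R S.X₁ := fun i _ => by rw [hl1]; exact ENat.natCast_ne_top _
  have hf3 : FinLen R S.X₃ := fun i hi => by rw [length_iso R eB]; exact hfin i hi
  have h2 : Subsingleton (Coh.HH X.left S.X₁ 2) := by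
    haveI := subsingleton_push_two Γ M' hM'c
    refine Function.Injective.subsingleton (f := CurveLib.hMap (k := R) e₁.hom 2) fun a b h => ?_
    have h' := congrArg (CurveLib.hMap (k := R) e₁.inv 2) h
    simpa [CurveLib.hMap, ← Sheaf.H.map_comp_apply, ← Functor.map_comp] using h'
  obtain ⟨hfin2, hchi⟩ := chiLen_add R hS hf1 hf3 h2
  refine ⟨fun i hi => by rw [← length_iso R eCB]; exact hfin2 i hi, ?_⟩
  simp only [chiLen] at hchi ⊢
  rw [← length_iso R eCB, ← length_iso R eCB, hchi, length_iso R eB, length_iso R eB, hl1, hl1, ENat.toNat_natCast,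
    ENat.toNat_natCast]
  show _ = _ + (ArSurf.curveDeg (ResidueField R) Γ.curve.left M' + _)
  simp only [ArSurf.curveDeg, FGA.eulerCharLE, Finset.sum_range_succ, Finset.sum_range_zero, zero_add, pow_zero,
    pow_one, one_mul, Models.wdeg, Models.h1]
  ring

end Groth.Agent.CastLib
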