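import Groth.Agent.CastLib.EulerFlat
import Groth.Agent.CastLib.PicTors
import Groth.Agent.CurveLib.MaxSections
import Groth.Prelude.Def_Lef

/-!
# The chain of divisors with a field of global functions
-/

set_option autoImplicit false
set_option backward.isDefEq.respectTransparency false
set_option backward.isDefEq.respectTransparency.types false
set_option linter.style.haveILetI false
set_option maxHeartbeats 1000000

universe u

open CategoryTheory CategoryTheory.Limits AlgebraicGeometry TopologicalSpace IsLocalRing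
open Groth.Agent.SurfPtBlow Groth.Agent.PullbackMod Groth.Agent.DCohLib Groth.Agent.CurveLib Groth.Agent.H1ZeroLib Groth.Agent.TwistShriek

noncomputable section

namespace Groth.Agent.CastLib

theorem subsingleton_HH_of_neg {k : Type u} [Field k] {Z : Scheme.{u}} [Z.Over (Spec (CommRingCat.of k))]
    [IsProper (Z ↘ Spec (CommRingCat.of k))] [IsIntegral Z] (hdim : topologicalKrullDim Z ≤ 1) {L : Z.Modules}
    (hL : PicF.IsInvertible L) (hdeg : ArSurf.curveDeg k Z L < 0) : Subsingleton (Coh.HH Z L 0) := by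
  by_contra hne
  rw [not_subsingleton_iff_nontrivial] at hne
  obtain ⟨s, hs⟩ := CurveLib.exists_hom_ne_zero L
  have h := (CurveLib.deg_le_of_ne_zero (k := k) hdim ParaFLib.isInvertible_structureModule hL hs).1
  rw [CurveLib.deg_structureModule, ← curveDeg_eq_deg hdim] at h
  omega

theorem secOf_hMap' {A : Type u} [CommRing A] {Z : Scheme.{u}} [Z.Over (Spec (CommRingCat.of A))] {M N : Z.Modules}
    (f : M ⟶ N) (c : Coh.HH Z M 0) :
    CurveLib.secOf N (CurveLib.hMap (k := A) f 0 c) = f.app ⊤ (CurveLib.secOf M c) := by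
  show CohBase.H0Equiv (⊤ : Z.Opens) (Coh.toAb N) (CohBase.HEquiv _ 0 (Sheaf.H.map _ 0 c)) = _
  rw [CohBase.HEquiv_map, CohBase.H0Equiv_hmap]
  rfl

theorem toSubscheme_quotMap {V : Scheme.{u}} {I J : V.IdealSheafData} (h : I ≤ J) :
    ClSub.toSubscheme I ≫ Lef.quotMap h = ClSub.toSubscheme J := by
  ext U s
  simp only [Lef.quotMap, Scheme.Modules.Hom.comp_app, ConcreteCategory.comp_apply]
  have h1 := ConcreteCategory.congr_hom
    (Scheme.Hom.congr_app (Scheme.IdealSheafData.inclusion_subschemeι h).symm U) s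
  refine Eq.trans ?_ h1.symm
  rfl

theorem qmap_top {V : Scheme.{u}} {I J : V.IdealSheafData} (h : I ≤ J) (s : Γ(I.subscheme, ⊤)) :
    (qmap h).app ⊤ s = (Scheme.IdealSheafData.inclusion h).app ⊤ s := by
  haveI : Epi (ClSub.toSubscheme I) := HilbObsLib.epi_toSubscheme I
  rw [show qmap h = Lef.quotMap h from (cancel_epi (ClSub.toSubscheme I)).1
    ((toSubscheme_qmap h).trans (toSubscheme_quotMap h).symm)]
  simp only [Lef.quotMap, Scheme.Modules.Hom.comp_app, ConcreteCategory.comp_apply]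
  show ((Coh.structureModule J.subscheme).presheaf.map _) _ = _
  exact (ConcreteCategory.congr_hom (congrArg J.subscheme.presheaf.map (Subsingleton.elim _ (𝟙 _))) _).trans
    (ConcreteCategory.congr_hom (J.subscheme.presheaf.map_id _) _)

variable {R : Type u} [CommRing R] [IsDomain R] [IsDiscreteValuationRing R]
variable {X : Over (Spec (CommRingCat.of R))} [IsProper X.hom]

/-- **Restriction of global functions is injective across a peeled curve of negative degree.** -/
theorem injective_inclusion_peel (Γ : ArSurf.VertComp R X) {B : X.left.IdealSheafData}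
    (hB : BlowUp.IsEffCartierIdeal B) (hneg : ArSurf.inter R X (ClSub.idealMod B) Γ < 0) :
    Function.Injective (Scheme.IdealSheafData.inclusion (mul_le_right' Γ.ι.ker B)).appTop := by
  letI : X.left.Over (Spec (CommRingCat.of R)) := ⟨X.hom⟩
  haveI := isProper_vertComp Γ
  haveI : IsLocallyNoetherian X.left := LocallyOfFiniteType.isLocallyNoetherian X.hom
  haveI := EulerIneqLib.isNoetherian_proper (X := Γ.curve.left) (ResidueField R)
  let O := Coh.structureModule X.left
  have hO : PicF.IsInvertible O := ParaFLib.isInvertible_structureModule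
  have hI : PicF.IsInvertible (ClSub.idealMod B) := (S8914.result B).2 hB
  have hle := mul_le_right' Γ.ι.ker B
  let g := qmapL hle O
  haveI : Epi g := (epi_iff_stalk g).2 fun x z => by
    obtain ⟨e, he⟩ := ParaFLib.exists_stalk_gen hO x
    obtain ⟨r, hr⟩ := tq_surjective he B z
    exact ⟨tq (Γ.ι.ker * B) x e r, by rw [stalk_qmapL]; exact hr⟩
  let S := ShortComplex.mk (kernel.ι g) g (kernel.condition g)
  have hS : S.ShortExact := ShortComplex.ShortExact.mk'
    (ShortComplex.exact_of_f_is_kernel _ (kernelIsKernel g)) inferInstance inferInstance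
  let M' := (Scheme.Modules.pullback Γ.ι).obj (ClSub.idealMod B)
  have hM' : PicF.IsInvertible M' := AmpleLib.isInvertible_pullback _ hI
  have hM'c := CurveLib.isCoh_of_isInvertible hM'
  obtain ⟨q⟩ := nonempty_quotMod_ker_iso Γ.ι
  let e₁ : kernel g ≅ (Scheme.Modules.pushforward Γ.ι).obj M' :=
    (peelIso (C := Γ.ι.ker) (B := B) hO).symm ≪≫
      ((DCoh.tensorBi (X := X.left)).obj (ClSub.quotMod Γ.ι.ker)).mapIso (AmpleLib.unitR (ClSub.idealMod B)) ≪≫
      ((DCoh.tensorBi (X := X.left)).mapIso q).app (ClSub.idealMod B) ≪≫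
      projIso Γ.ι (Coh.structureModule Γ.curve.left) (ClSub.idealMod B) ≪≫
      (Scheme.Modules.pushforward Γ.ι).mapIso (CurveLib.tmodUnit M')
  haveI : Subsingleton (Coh.HH Γ.curve.left M' 0) := subsingleton_HH_of_neg (dim_vertComp Γ) hM' hneg
  haveI : Subsingleton (Coh.HH X.left S.X₁ 0) := Module.length_eq_zero_iff.1
    ((length_iso R e₁ 0).trans ((length_push_vertComp Γ M' hM'c 0).trans
      (by rw [Module.finrank_zero_of_subsingleton]; rfl)))
  have hker : ∀ c, CurveLib.hMap (k := R) g 0 c = 0 → c = 0 := fun c hc => by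
    have h1 : c ∈ LinearMap.range (CurveLib.hMap (k := R) S.f 0) := by
      rw [CurveLib.range_hMap_f hS 0]; exact hc
    obtain ⟨d, rfl⟩ := h1
    rw [Subsingleton.elim d 0, map_zero]
  refine (injective_iff_map_eq_zero (Scheme.IdealSheafData.inclusion hle).appTop.hom).2 fun s hs => ?_
  let ρ₁ := AmpleLib.unitR (ClSub.quotMod (Γ.ι.ker * B))
  let ρ₂ := AmpleLib.unitR (ClSub.quotMod B)
  have hnat : g ≫ ρ₂.hom = ρ₁.hom ≫ qmap hle :=
    (Groth.Agent.ModTensor.tensorUnitRight X.left.sheaf).hom.naturality (qmap hle)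
  let c := (CurveLib.secOf _).symm (ρ₁.inv.app ⊤ s)
  have hc : CurveLib.secOf _ c = ρ₁.inv.app ⊤ s := AddEquiv.apply_symm_apply _ _
  have hz : g.app ⊤ (ρ₁.inv.app ⊤ s) = 0 := by
    have h1 : g = ρ₁.hom ≫ qmap hle ≫ ρ₂.inv := by rw [← Category.assoc, ← hnat, Category.assoc, Iso.hom_inv_id, Category.comp_id]
    rw [h1, Scheme.Modules.Hom.comp_app, Scheme.Modules.Hom.comp_app]
    show ρ₂.inv.app ⊤ ((qmap hle).app ⊤ (ρ₁.hom.app ⊤ (ρ₁.inv.app ⊤ s))) = 0
    have h2 : ρ₁.hom.app ⊤ (ρ₁.inv.app ⊤ s) = s := by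
      rw [← ConcreteCategory.comp_apply, ← Scheme.Modules.Hom.comp_app, ρ₁.inv_hom_id, Scheme.Modules.Hom.id_app]
      rfl
    rw [h2, qmap_top]
    exact (congrArg _ hs).trans (map_zero _)
  have hc0 : c = 0 := hker c ((CurveLib.secOf _).injective
    (((secOf_hMap' g c).trans ((congrArg (g.app ⊤) hc).trans hz)).trans (map_zero _).symm))
  have h3 : ρ₁.inv.app ⊤ s = 0 := by rw [← hc, hc0, map_zero]
  have h4 := congrArg (ρ₁.hom.app ⊤) h3
  rw [← ConcreteCategory.comp_apply, ← Scheme.Modules.Hom.comp_app, ρ₁.inv_hom_id, map_zero] at h4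
  exact h4

/-- The global functions of the subscheme form a field which is finite over the base ring. -/
def FieldFin (I : X.left.IdealSheafData) : Prop :=
  IsField ↑(Γ(I.subscheme, ⊤)) ∧
    ((I.subschemeι ≫ X.hom).appTop.hom.comp (Scheme.ΓSpecIso (CommRingCat.of R)).inv.hom).Finite

omit [IsProper X.hom] in
/-- A subring of such a field is again one. -/
theorem FieldFin.of_injective {I J : X.left.IdealSheafData} (h : I ≤ J) (hJ : FieldFin J)
    (hinj : Function.Injective (Scheme.IdealSheafData.inclusion h).appTop) : FieldFin I := by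
  let φ : Γ(I.subscheme, ⊤) →+* Γ(J.subscheme, ⊤) := (Scheme.IdealSheafData.inclusion h).appTop.hom
  let aI := (I.subschemeι ≫ X.hom).appTop.hom.comp (Scheme.ΓSpecIso (CommRingCat.of R)).inv.hom
  let aJ := (J.subschemeι ≫ X.hom).appTop.hom.comp (Scheme.ΓSpecIso (CommRingCat.of R)).inv.hom
  have hφ : ∀ r, φ (aI r) = aJ r := fun r => by
    show (Scheme.IdealSheafData.inclusion h).appTop ((I.subschemeι ≫ X.hom).appTop _) = (J.subschemeι ≫ X.hom).appTop _
    rw [← ConcreteCategory.comp_apply, ← Scheme.Hom.comp_appTop, ← Category.assoc,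
      Scheme.IdealSheafData.inclusion_subschemeι]
  letI : Algebra R Γ(I.subscheme, ⊤) := aI.toAlgebra
  letI : Algebra R Γ(J.subscheme, ⊤) := aJ.toAlgebra
  letI : Algebra Γ(I.subscheme, ⊤) Γ(J.subscheme, ⊤) := φ.toAlgebra
  haveI : IsScalarTower R Γ(I.subscheme, ⊤) Γ(J.subscheme, ⊤) := IsScalarTower.of_algebraMap_eq fun r => (hφ r).symm
  haveI : Module.Finite R Γ(J.subscheme, ⊤) := hJ.2
  haveI : IsNoetherian R Γ(J.subscheme, ⊤) := isNoetherian_of_isNoetherianRing_of_finite R _
  have hfin : Module.Finite R Γ(I.subscheme, ⊤) :=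
    Module.Finite.of_injective (IsScalarTower.toAlgHom R Γ(I.subscheme, ⊤) Γ(J.subscheme, ⊤)).toLinearMap hinj
  letI := hJ.1.toField
  haveI : IsDomain Γ(I.subscheme, ⊤) := hinj.isDomain
  haveI : Algebra.IsIntegral Γ(I.subscheme, ⊤) Γ(J.subscheme, ⊤) :=
    Algebra.IsIntegral.tower_top R
  exact ⟨isField_of_isIntegral_of_isField hinj hJ.1, hfin⟩

/-- The reduced curve itself. -/
theorem fieldFin_ker (Γ : ArSurf.VertComp R X) : FieldFin Γ.ι.ker := by
  haveI := isProper_vertComp Γ
  haveI : IsIso Γ.ι.toImage := inferInstance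
  haveI : IsProper Γ.curve.hom := isProper_vertComp Γ
  let e := CategoryTheory.asIso Γ.ι.toImage.appTop
  have hF : IsField Γ(Γ.curve.left, ⊤) := isField_of_universallyClosed (K := ResidueField R) Γ.curve.hom
  refine ⟨e.commRingCatIsoToRingEquiv.toMulEquiv.isField hF, ?_⟩
  have h1 : ((Γ.ι ≫ X.hom).appTop.hom.comp (Scheme.ΓSpecIso (CommRingCat.of R)).inv.hom).Finite := by
    have h2 : (Γ.ι ≫ X.hom).appTop.hom.comp (Scheme.ΓSpecIso (CommRingCat.of R)).inv.hom =
        (Γ.curve.hom.appTop.hom.comp (Scheme.ΓSpecIso (CommRingCat.of (ResidueField R))).inv.hom).comp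
          (IsLocalRing.residue R) := RingHom.ext fun r => by
      rw [Scheme.Hom.comp_appTop]
      exact toGlobal_w Γ.w r
    rw [h2]
    refine RingHom.Finite.comp (RingHom.Finite.comp ?_ ?_) (RingHom.Finite.of_surjective _ IsLocalRing.residue_surjective)
    · exact finite_appTop_of_universallyClosed (ResidueField R) Γ.curve.hom
    · exact RingHom.Finite.of_surjective _
        (ConcreteCategory.bijective_of_isIso (Scheme.ΓSpecIso (CommRingCat.of (ResidueField R))).inv).2
  have h3 : (Γ.ι.ker.subschemeι ≫ X.hom).appTop.hom.comp (Scheme.ΓSpecIso (CommRingCat.of R)).inv.hom =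
      e.inv.hom.comp ((Γ.ι ≫ X.hom).appTop.hom.comp (Scheme.ΓSpecIso (CommRingCat.of R)).inv.hom) := by
    refine RingHom.ext fun r => ?_
    show _ = e.inv ((Γ.ι ≫ X.hom).appTop _)
    have h4 : (Γ.ι ≫ X.hom).appTop = (Γ.ι.imageι ≫ X.hom).appTop ≫ Γ.ι.toImage.appTop := by
      rw [← Scheme.Hom.comp_appTop, ← Category.assoc, Γ.ι.toImage_imageι]
    rw [h4]
    exact (e.hom_inv_id_apply _).symm
  rw [h3]
  exact RingHom.Finite.comp (RingHom.Finite.of_surjective _ (ConcreteCategory.bijective_of_isIso e.inv).2) h1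

section Model

variable {C Y : Scheme.{u}} {f : C ⟶ Spec (CommRingCat.of (FractionRing R))} {p : Y ⟶ Spec (CommRingCat.of R)}

theorem exists_index (hC : Curve.IsSmoothProperCurve (FractionRing R) C f) (hH0 : IsIso f.appTop)
    (hY : Models.IsRegularProperModel R Y p C f) {n : ℕ} {Γ : Fin n → ArSurf.VertComp R (Over.mk p)}
    (hΓ : Models.IsComponentList R (Over.mk p) Γ) : Nonempty (Fin n) := by
  have hV := VSurf.of_model hC hY
  haveI : IsIntegral Y := hV.int
  haveI : IsProper p := hY.2.1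
  obtain ⟨-, hfib⟩ := hV.toFibreGood.fibre_eq_prod hΓ
  by_contra h0
  rw [not_nonempty_iff] at h0
  rw [Finset.univ_eq_empty, Finset.prod_empty] at hfib
  obtain ⟨x, hx⟩ : ∃ x, p x = closedPoint R := by
    have hc := p.isClosedMap _ (isClosed_univ (X := Y))
    have hsp : p (genericPoint Y) ⤳ closedPoint R := IsLocalRing.specializes_closedPoint _
    obtain ⟨x, -, hx⟩ := hc.stableUnderSpecialization hsp ⟨_, trivial, rfl⟩
    exact ⟨x, hx⟩
  have h := (FibreGood.mem_fibre (X := Over.mk p)).2 hx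
  rw [show SurfPtBlow.fibreIdeal (Over.mk p).hom = 1 from hfib] at h
  simp at h; exact h.elim

theorem inter_idealMod_pow (hC : Curve.IsSmoothProperCurve (FractionRing R) C f)
    (hY : Models.IsRegularProperModel R Y p C f) {n : ℕ} {Γ : Fin n → ArSurf.VertComp R (Over.mk p)}
    (hΓ : Models.IsComponentList R (Over.mk p) Γ) {L : Fin n → Y.Modules}
    (hL : ∀ i, ClSub.IsInverseOf (L i) (ClSub.idealMod (Γ i).ι.ker)) (a : Fin n → ℕ)
    (Δ : ArSurf.VertComp R (Over.mk p)) :
    BlowUp.IsEffCartierIdeal (∏ j, (Γ j).ι.ker ^ a j) ∧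
      ArSurf.inter R (Over.mk p) (ClSub.idealMod (∏ j, (Γ j).ι.ker ^ a j)) Δ =
        -∑ l, (a l : ℤ) * ArSurf.inter R (Over.mk p) (L l) Δ := by
  obtain ⟨hK, -⟩ := (VSurf.of_model hC hY).toFibreGood.fibre_eq_prod hΓ
  obtain ⟨hD, hmk⟩ := mk_idealMod_prod (fun j => (Γ j).ι.ker) hK a Finset.univ
  haveI : IsProper (Over.mk p).hom := hY.2.1
  have h1 := inter_of_pcls hY hL (M := ClSub.idealMod (∏ j, (Γ j).ι.ker ^ a j)) ((S8914.result _).2 hD)
    ParaFLib.isInvertible_structureModule a (fun _ => 0) (by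
      have h0 : pcls L (fun _ => (0 : ℕ)) = 1 := Finset.prod_eq_one fun i _ => pow_zero _
      rw [IntLib.mk_structureModule, one_mul, h0, mul_comm]
      exact (congrArg (pcls L a * ·) hmk).trans (pcls_mul_ker hL a)) Δ
  rw [inter_O] at h1
  simp only [Nat.cast_zero, zero_mul, Finset.sum_const_zero, add_zero] at h1
  exact ⟨hD, by linarith⟩

theorem fieldFin_step (hC : Curve.IsSmoothProperCurve (FractionRing R) C f)
    (hY : Models.IsRegularProperModel R Y p C f) {n : ℕ} {Γ : Fin n → ArSurf.VertComp R (Over.mk p)}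
    (hΓ : Models.IsComponentList R (Over.mk p) Γ) {L : Fin n → Y.Modules}
    (hL : ∀ i, ClSub.IsInverseOf (L i) (ClSub.idealMod (Γ i).ι.ker)) {a : Fin n → ℕ} {i : Fin n}
    (hi : 0 < ∑ l, (a l : ℤ) * ArSurf.inter R (Over.mk p) (L l) (Γ i))
    (ha : FieldFin (X := Over.mk p) (∏ j, (Γ j).ι.ker ^ a j)) :
    FieldFin (X := Over.mk p) (∏ j, (Γ j).ι.ker ^ (a + Pi.single i 1 : Fin n → ℕ) j) := by
  haveI : IsProper (Over.mk p).hom := hY.2.1
  obtain ⟨hD, hint⟩ := inter_idealMod_pow hC hY hΓ hL a (Γ i)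
  have heq : ∏ j, (Γ j).ι.ker ^ (a + Pi.single i 1 : Fin n → ℕ) j = (Γ i).ι.ker * ∏ j, (Γ j).ι.ker ^ a j := by
    simp only [Pi.add_apply, pow_add, Finset.prod_mul_distrib]
    rw [mul_comm, Finset.prod_eq_single i]
    · rw [Pi.single_eq_same, pow_one]
    · exact fun j _ hj => by rw [Pi.single_eq_of_ne hj, pow_zero]
    · exact fun h => absurd (Finset.mem_univ i) h
  rw [heq]
  exact FieldFin.of_injective _ ha (injective_inclusion_peel (Γ i) hD (by rw [hint]; omega))

theorem fieldFin_ones (hC : Curve.IsSmoothProperCurve (FractionRing R) C f) (hH0 : IsIso f.appTop)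
    (hY : Models.IsRegularProperModel R Y p C f) {n : ℕ} {Γ : Fin n → ArSurf.VertComp R (Over.mk p)}
    (hΓ : Models.IsComponentList R (Over.mk p) Γ) (i₀ : Fin n) :
    FieldFin (X := Over.mk p) (∏ j, (Γ j).ι.ker ^ (fun _ => 1 : Fin n → ℕ) j) := by
  classical
  have hV := VSurf.of_model hC hY
  haveI : IsProper (Over.mk p).hom := hV.proper
  haveI : IsProper p := hY.2.1
  haveI : Flat p := hY.1.1
  obtain ⟨g, hg⟩ := hY.1.2.2.2
  obtain ⟨L, hL⟩ := exists_inverse_list hC hY Γ
  have hconn : _root_.IsPreconnected (Models.specialFibreSet R (Over.mk p)) :=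
    SteinConn.isPreconnected_closedFibre p (SurfPtBlow.toGlobal_surjective hg hH0)
  let e : Finset (Fin n) → Fin n → ℕ := fun I j => if j ∈ I then 1 else 0
  have key : ∀ k, ∀ I : Finset (Fin n), I.Nonempty → Iᶜ.card = k →
      FieldFin (X := Over.mk p) (∏ j, (Γ j).ι.ker ^ e I j) →
      FieldFin (X := Over.mk p) (∏ j, (Γ j).ι.ker ^ (fun _ => 1 : Fin n → ℕ) j) := by
    intro k
    induction k with
    | zero =>
      intro I _ hI h
      have hu : I = Finset.univ := by rwa [Finset.card_eq_zero, Finset.compl_eq_empty_iff] at hI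
      rwa [show e I = fun _ => 1 from funext fun j => if_pos (hu ▸ Finset.mem_univ j)] at h
    | succ k ih =>
      intro I hne hI h
      obtain ⟨i, hi, j, hj, hA⟩ := hV.exists_link hΓ hconn hL I hne
        (fun hu => by rw [hu, Finset.compl_univ, Finset.card_empty] at hI; omega)
      have hij : i ≠ j := fun h => hj (h ▸ hi)
      have hnn : ∀ l ∈ (Finset.univ : Finset (Fin n)),
          0 ≤ (e I l : ℤ) * ArSurf.inter R (Over.mk p) (L l) (Γ j) := fun l _ => by
        by_cases hl : l ∈ I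
        · exact mul_nonneg (Int.natCast_nonneg _)
            (hV.inter_nonneg_of_ne (fun e' => hj (by have h := hΓ.1 e'; rwa [h])) (hL l)).1
        · simp [e, hl]
      have hpos : 0 < ∑ l, (e I l : ℤ) * ArSurf.inter R (Over.mk p) (L l) (Γ j) := by
        refine lt_of_lt_of_le ?_ (Finset.single_le_sum hnn (Finset.mem_univ i))
        rw [show e I i = 1 from if_pos hi, Nat.cast_one, one_mul]
        refine lt_of_le_of_ne (hV.inter_nonneg_of_ne (fun e' => hij (hΓ.1 e').symm) (hL i)).1 (Ne.symm ?_)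
        rwa [hV.inter_symm (fun e' => hij (hΓ.1 e').symm) (hL j) (hL i)]
      refine ih (insert j I) (Finset.insert_nonempty _ _) ?_ ?_
      · rw [Finset.compl_insert, Finset.card_erase_of_mem (Finset.mem_compl.2 hj), hI]; omega
      · have heq : e (insert j I) = e I + Pi.single j 1 := funext fun l => by
          by_cases hl : l = j
          · subst hl; simp [e, hj]
          · simp [e, hl]
        rw [heq]
        exact fieldFin_step hC hY hΓ hL hpos h
  refine key _ {i₀} (Finset.singleton_nonempty _) rfl ?_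
  have heq : ∏ j, (Γ j).ι.ker ^ e {i₀} j = (Γ i₀).ι.ker := by
    rw [Finset.prod_eq_single i₀]
    · simp [e]
    · exact fun j _ hj => by simp [e, hj]
    · exact fun h => absurd (Finset.mem_univ i₀) h
  rw [heq]
  exact fieldFin_ker (Γ i₀)

/-- **The chain of fields from the reduced fibre to the fibre divided by the gcd.** -/
theorem exists_field_chain (hC : Curve.IsSmoothProperCurve (FractionRing R) C f) (hH0 : IsIso f.appTop)
    (hY : Models.IsRegularProperModel R Y p C f) {n : ℕ} {Γ : Fin n → ArSurf.VertComp R (Over.mk p)}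
    (hΓ : Models.IsComponentList R (Over.mk p) Γ) :
    ∃ (s : ℕ) (a : Fin (s + 1) → Fin n → ℕ), (a 0 = fun _ => 1) ∧
      (a (Fin.last s) = fun i => Models.mult R (Over.mk p) (Γ i) / Models.multGcd R (Over.mk p) Γ) ∧
      (∀ j : Fin s, ∃ i, a j.succ = a j.castSucc + Pi.single i 1) ∧
      ∀ j, FieldFin (X := Over.mk p) (∏ i, (Γ i).ι.ker ^ a j i) := by
  classical
  have hV := VSurf.of_model hC hY
  haveI : IsProper (Over.mk p).hom := hV.proper
  haveI : IsProper p := hY.2.1
  haveI : Flat p := hY.1.1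
  haveI : IsIntegral Y := hV.int
  obtain ⟨g, hg⟩ := hY.1.2.2.2
  obtain ⟨L, hL⟩ := exists_inverse_list hC hY Γ
  have hconn : _root_.IsPreconnected (Models.specialFibreSet R (Over.mk p)) :=
    SteinConn.isPreconnected_closedFibre p (SurfPtBlow.toGlobal_surjective hg hH0)
  obtain ⟨i₀⟩ : Nonempty (Fin n) := exists_index hC hH0 hY hΓ
  let m : Fin n → ℕ := fun i => Models.mult R (Over.mk p) (Γ i)
  let d := Models.multGcd R (Over.mk p) Γ
  let t : Fin n → ℕ := fun i => m i / d
  have hdm : ∀ i, d ∣ m i := fun i => Finset.gcd_dvd (Finset.mem_univ i)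
  have hmt : ∀ i, m i = d * t i := fun i => (Nat.mul_div_cancel' (hdm i)).symm
  have ht1 : ∀ i, 1 ≤ t i := fun i => Nat.one_le_iff_ne_zero.2 fun h => by
    have := hmt i
    rw [h, mul_zero] at this
    exact (hV.mult_pos hΓ i).ne' this
  have hd : 0 < d := Nat.pos_of_ne_zero fun h => by
    have := hmt i₀
    rw [h, zero_mul] at this
    exact (hV.mult_pos hΓ i₀).ne' this
  let A : Fin n → Fin n → ℤ := fun i j => ArSurf.inter R (Over.mk p) (L j) (Γ i)
  have hsymm : ∀ i j, i ≠ j → A i j = A j i := fun i j hij =>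
    hV.inter_symm (fun e => hij (hΓ.1 e)) (hL i) (hL j)
  have hoff : ∀ i j, i ≠ j → 0 ≤ A i j := fun i j hij => (hV.inter_nonneg_of_ne (fun e => hij (hΓ.1 e)) (hL j)).1
  have hrow : ∀ i, ∑ j, (m j : ℤ) * A i j = 0 := fun i => hV.sum_mult_inter_list hΓ hL (Γ i)
  have hrowt : ∀ i, ∑ j, (t j : ℤ) * A i j = 0 := fun i => by
    have h := hrow i
    simp only [hmt, Nat.cast_mul, mul_assoc, ← Finset.mul_sum] at h
    exact (mul_eq_zero.1 h).resolve_left (by exact_mod_cast hd.ne')
  have hgcd : Finset.univ.gcd t = 1 := by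
    have h1 : d = d * Finset.univ.gcd t :=
      (show d = Finset.univ.gcd m from rfl).trans
        ((Finset.gcd_congr rfl fun i _ => hmt i).trans (by rw [Finset.gcd_mul_left, normalize_eq]))
    exact (mul_right_eq_self₀.1 h1.symm).resolve_right hd.ne'
  have hfind : ∀ a : Fin n → ℕ, (∀ i, 1 ≤ a i) → (∀ i, a i ≤ t i) → a ≠ t →
      ∃ i, a i < t i ∧ 0 < ∑ l, (a l : ℤ) * A i l := by
    intro a ha1 hat hne
    by_contra hno
    push Not at hno
    let c : Fin n → ℤ := fun i => (t i : ℤ) - a i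
    have hAc : ∀ i, ∑ l, c l * A i l = -∑ l, (a l : ℤ) * A i l := fun i => by
      simp only [c, sub_mul, Finset.sum_sub_distrib, hrowt i, zero_sub]
    have hge : 0 ≤ ∑ i, ∑ j, c i * c j * A i j := Finset.sum_nonneg fun i _ => by
      simp only [mul_assoc, ← Finset.mul_sum, hAc i]
      rcases (hat i).lt_or_eq with hlt | heq
      · exact mul_nonneg (by simp only [c]; omega) (by have := hno i hlt; omega)
      · simp [c, heq]
    obtain ⟨q, hq⟩ := proportional_of_form_eq_zero A m hsymm hoff (hV.mult_pos hΓ) hrow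
      (fun I hI hI' => hV.exists_link hΓ hconn hL I hI hI') c
      (le_antisymm (CastLib.form_nonpos A m hsymm hoff (hV.mult_pos hΓ) (fun i => (hrow i).le) c) hge)
    obtain ⟨x, hx⟩ := Finset.gcd_eq_sum_mul (Finset.univ : Finset (Fin n)) (fun i => (t i : ℤ))
    let G : ℤ := Finset.univ.gcd fun i => (t i : ℤ)
    have hG : G.natAbs = 1 := Nat.eq_one_of_dvd_one (hgcd ▸ Finset.dvd_gcd fun i hi =>
      Int.natCast_dvd_natCast.1 (Int.natAbs_dvd.2 (Finset.gcd_dvd hi)))
    have hG0 : 0 ≤ G := by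
      show 0 ≤ Finset.univ.gcd fun i => (t i : ℤ)
      rw [← Finset.normalize_gcd]; exact Int.nonneg_of_normalize_eq_self (normalize_idem _)
    have hG1 : (1 : ℤ) = ∑ i, (t i : ℤ) * x i := hx ▸ (by omega : (1 : ℤ) = G)
    let v : ℤ := ∑ i, c i * x i
    have hv : ∀ i, c i = v * (t i : ℤ) := fun i => by
      refine Int.cast_injective (α := ℚ) ?_
      have h1 : ((1 : ℤ) : ℚ) = ((∑ l, (t l : ℤ) * x l : ℤ) : ℚ) := by rw [← hG1]
      push_cast at h1
      simp only [v]
      push_cast
      simp only [hq, hmt, Nat.cast_mul]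
      calc q * (d * (t i : ℚ)) = q * (d * (t i : ℚ)) * 1 := (mul_one _).symm
        _ = _ := by
          rw [h1, Finset.mul_sum, Finset.sum_mul]
          exact Finset.sum_congr rfl fun l _ => by ring
    rcases le_or_gt v 0 with hv0 | hv0
    · exact hne (funext fun i => le_antisymm (hat i) (by
        have h1 := hv i
        have h2 : v * (t i : ℤ) ≤ 0 := mul_nonpos_of_nonpos_of_nonneg hv0 (Int.natCast_nonneg _)
        simp only [c] at h1
        omega))
    · have h1 := hv i₀
      have h2 : (t i₀ : ℤ) ≤ v * (t i₀ : ℤ) := le_mul_of_one_le_left (Int.natCast_nonneg _) hv0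
      have := ha1 i₀
      simp only [c] at h1
      omega
  have key : ∀ k, ∀ a : Fin n → ℕ, (∀ i, 1 ≤ a i) → (∀ i, a i ≤ t i) → ∑ i, (t i - a i) = k →
      FieldFin (X := Over.mk p) (∏ i, (Γ i).ι.ker ^ a i) →
      ∃ (s : ℕ) (b : Fin (s + 1) → Fin n → ℕ), b 0 = a ∧ b (Fin.last s) = t ∧
        (∀ j : Fin s, ∃ i, b j.succ = b j.castSucc + Pi.single i 1) ∧
        ∀ j, FieldFin (X := Over.mk p) (∏ i, (Γ i).ι.ker ^ b j i) := by
    intro k
    induction k with
    | zero =>
      intro a ha1 hat hsum hF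
      refine ⟨0, fun _ => a, rfl, funext fun i => le_antisymm (hat i) ?_, fun j => j.elim0, fun _ => hF⟩
      exact Nat.sub_eq_zero_iff_le.1 (Finset.sum_eq_zero_iff.1 hsum i (Finset.mem_univ i))
    | succ k ih =>
      intro a ha1 hat hsum hF
      have hne : a ≠ t := fun h => by simp [h] at hsum
      obtain ⟨i, hit, hpos⟩ := hfind a ha1 hat hne
      have hF' := fieldFin_step hC hY hΓ hL hpos hF
      obtain ⟨s, b, hb0, hbt, hbs, hbF⟩ := ih (a + Pi.single i 1)
        (fun l => (ha1 l).trans (by simp))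
        (fun l => by
          by_cases hl : l = i
          · subst hl; simp only [Pi.add_apply, Pi.single_eq_same]; omega
          · simp only [Pi.add_apply, Pi.single_eq_of_ne hl, add_zero]; exact hat l)
        (by
          rw [← Finset.sum_erase_add _ _ (Finset.mem_univ i)] at hsum ⊢
          rw [Finset.sum_congr rfl fun l hl => by
            rw [Pi.add_apply, Pi.single_eq_of_ne (Finset.ne_of_mem_erase hl), add_zero]]
          simp only [Pi.add_apply, Pi.single_eq_same]
          omega) hF'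
      refine ⟨s + 1, Fin.cons a b, Fin.cons_zero _ _, ?_, fun j => ?_, fun j => ?_⟩
      · rw [← Fin.succ_last, Fin.cons_succ]; exact hbt
      · refine Fin.cases ⟨i, ?_⟩ (fun j => ?_) j
        · rw [Fin.cons_succ, Fin.castSucc_zero, Fin.cons_zero, hb0]
        · rw [Fin.cons_succ, ← Fin.succ_castSucc, Fin.cons_succ]; exact hbs j
      · exact Fin.cases (by rw [Fin.cons_zero]; exact hF) (fun j => by rw [Fin.cons_succ]; exact hbF j) j
  exact key _ _ (fun _ => le_rfl) ht1 rfl (fieldFin_ones hC hH0 hY hΓ i₀)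

/-- The Euler characteristic of the fibre divided by the gcd. -/
theorem euler_fibre_div_gcd (hC : Curve.IsSmoothProperCurve (FractionRing R) C f) (hH0 : IsIso f.appTop)
    (hY : Models.IsRegularProperModel R Y p C f) {n : ℕ} {Γ : Fin n → ArSurf.VertComp R (Over.mk p)}
    (hΓ : Models.IsComponentList R (Over.mk p) Γ) :
    letI : Y.Over (Spec (CommRingCat.of R)) := ⟨p⟩
    (1 : ℤ) - (Models.curveGenus (FractionRing R) C f : ℤ) = (Models.multGcd R (Over.mk p) Γ : ℤ) *
      chiLen R (ClSub.quotMod (∏ i, (Γ i).ι.ker ^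
        (Models.mult R (Over.mk p) (Γ i) / Models.multGcd R (Over.mk p) Γ))) := by
  letI : Y.Over (Spec (CommRingCat.of R)) := ⟨p⟩
  have hV := VSurf.of_model hC hY
  haveI : IsProper (Over.mk p).hom := hV.proper
  obtain ⟨L, hL⟩ := exists_inverse_list hC hY Γ
  let d := Models.multGcd R (Over.mk p) Γ
  let t : Fin n → ℕ := fun i => Models.mult R (Over.mk p) (Γ i) / d
  have hmt : ∀ i, (Models.mult R (Over.mk p) (Γ i) : ℤ) = (d : ℤ) * (t i : ℤ) := fun i => by
    exact_mod_cast (Nat.mul_div_cancel'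
      (Finset.gcd_dvd (f := fun i => Models.mult R (Over.mk p) (Γ i)) (Finset.mem_univ i))).symm
  obtain ⟨hK, hfib⟩ := hV.toFibreGood.fibre_eq_prod hΓ
  have h1 := chiLen_prod hV hΓ.1 hL t
  have h2 := genus_formula hC hH0 hY hΓ hL
  have h3 : ∀ j, (d : ℤ) * ∑ l, (t l : ℤ) * ArSurf.inter R (Over.mk p) (L j) (Γ l) = 0 := fun j => by
    rw [Finset.mul_sum, Finset.sum_congr rfl fun l _ => by rw [← mul_assoc, ← hmt, hV.inter_symm_list hΓ.1 hL l j]]
    exact hV.sum_mult_inter hK _ hfib L hL (Γ j)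
  have h5 : ∀ i : Fin n, (Models.mult R (Over.mk p) (Γ i) : ℤ) *
      (2 * ((Models.h1 R (Over.mk p) (Γ i) : ℤ) - (Models.wdeg R (Over.mk p) (Γ i) : ℤ)) -
        ArSurf.inter R (Over.mk p) (L i) (Γ i)) = -((d : ℤ) * ((t i : ℤ) *
      (2 * ((Models.wdeg R (Over.mk p) (Γ i) : ℤ) - (Models.h1 R (Over.mk p) (Γ i) : ℤ)) +
        ArSurf.inter R (Over.mk p) (L i) (Γ i)))) := fun i => by rw [hmt]; ring
  rw [Finset.sum_congr rfl fun i _ => h5 i, Finset.sum_neg_distrib] at h2
  have h6 := congrArg (fun z : ℤ => (d : ℤ) * z) h1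
  rw [mul_sub (d : ℤ)] at h6
  have h7 : (d : ℤ) * ∑ j, (t j : ℤ) * ∑ l, (t l : ℤ) * ArSurf.inter R (Over.mk p) (L j) (Γ l) = 0 := by
    rw [Finset.mul_sum]
    exact Finset.sum_eq_zero fun j _ => by rw [mul_left_comm, h3, mul_zero]
  rw [h7, sub_zero, Finset.mul_sum] at h6
  show _ = (d : ℤ) * chiLen R (ClSub.quotMod (∏ i, (Γ i).ι.ker ^ t i))
  linarith

end Model

end Groth.Agent.CastLib
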