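import Groth.Agent.CastLib.EulerFlat
import Groth.Agent.CastLib.NumType
import Groth.Agent.CastLib.PicTors
import Groth.Agent.CastLib.FieldChain
import Groth.Agent.CastLib.ExcCriterion
import Groth.Agent.CurveP1Lib.DegOne

/-!
# Two exceptional curves which meet
-/

set_option autoImplicit false
set_option backward.isDefEq.respectTransparency false
set_option backward.isDefEq.respectTransparency.types false
set_option linter.style.haveILetI false
set_option maxHeartbeats 1000000
set_option synthInstance.maxHeartbeats 200000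

universe u

open CategoryTheory CategoryTheory.Limits AlgebraicGeometry TopologicalSpace IsLocalRing

noncomputable section

namespace Groth.Agent.CastLib

open Groth.Agent.SurfPtBlow

variable {R : Type u} [CommRing R] [IsDomain R] [IsDiscreteValuationRing R]
variable {X : Over (Spec (CommRingCat.of R))}

/-- A curve of genus zero with a module of degree one over the residue field. -/
theorem exists_iso_P1_vertComp [IsProper X.hom] (Γ : ArSurf.VertComp R X) (h1 : Models.h1 R X Γ = 0)
    {L : X.left.Modules} (hL : PicF.IsInvertible L) (hdeg : ArSurf.inter R X L Γ = 1) :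
    ∃ e : Γ.curve.left ≅ CohB1.ProjSpace 1 (ResidueField R),
      e.hom ≫ CohB1.ProjSpace.toSpec 1 (ResidueField R) = Γ.curve.hom := by
  haveI := isProper_vertComp Γ
  exact CurveP1Lib.exists_iso_P1_of_genus_zero (k := ResidueField R) Γ.dim_eq h1
    (AmpleLib.isInvertible_pullback Γ.ι hL) ((curveDeg_eq_deg (dim_vertComp Γ) _).symm.trans hdeg)

/-- **Two vertical curves of intersection number one meet in a reduced rational point.** -/
theorem VSurf.meet_point (h : VSurf X) {Γ₁ Γ₂ : ArSurf.VertComp R X} (hne : Set.range Γ₁.ι ≠ Set.range Γ₂.ι)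
    {L₂ : X.left.Modules} (h₂ : ClSub.IsInverseOf L₂ (ClSub.idealMod Γ₂.ι.ker))
    (hone : ArSurf.inter R X L₂ Γ₁ = 1) :
    ∃ x : X.left, Set.range Γ₁.ι ∩ Set.range Γ₂.ι = {x} ∧
      Γ₁.ι.ker ⊔ Γ₂.ι.ker = Scheme.IdealSheafData.vanishingIdeal ⟨closure {x}, isClosed_closure⟩ ∧
      Function.Surjective ((X.left.residue x).hom.comp (Models.stalkHom R X x)) := by
  haveI := h.int
  haveI := h.noeth
  haveI := h.proper
  haveI := isProper_vertComp Γ₁
  haveI := EulerIneqLib.isNoetherian_proper (X := Γ₁.curve.left) (ResidueField R)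
  rw [inter_eq_lengthH Γ₁ (h.isEffCartier_ker Γ₂) (h.genPt_notMem hne) h₂, sup_comm] at hone
  let J := Γ₁.ι.ker ⊔ Γ₂.ι.ker
  let jW : J.subscheme ⟶ X.left := J.subschemeι
  haveI : IsLocallyNoetherian J.subscheme := LocallyOfFiniteType.isLocallyNoetherian jW
  let c : J.subscheme ⟶ Γ₁.curve.left := IsClosedImmersion.lift Γ₁.ι jW
    (by rw [Scheme.IdealSheafData.ker_subschemeι]; exact le_sup_left)
  have hc : c ≫ Γ₁.ι = jW := IsClosedImmersion.lift_fac _ _ _
  haveI : IsClosedImmersion c := by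
    haveI : IsClosedImmersion (c ≫ Γ₁.ι) := hc ▸ inferInstance
    exact IsClosedImmersion.of_comp c Γ₁.ι
  let D := Γ₂.ι.ker.comap Γ₁.ι
  have hD : BlowUp.IsEffCartierIdeal D := isEffCartier_comap_integral Γ₁.ι (h.isEffCartier_ker Γ₂) (h.genPt_notMem hne)
  have hrangeJ : Set.range jW = Set.range Γ₁.ι ∩ Set.range Γ₂.ι := by
    rw [Scheme.IdealSheafData.range_subschemeι, Scheme.IdealSheafData.support_sup, Closeds.coe_inf, support_ker,
      support_ker]
  have hin : ∀ w, c w ∈ (D.support : Set Γ₁.curve.left) := fun w => by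
    rw [Scheme.IdealSheafData.support_comap, Closeds.coe_preimage, Set.mem_preimage, support_ker]
    have hw : jW w ∈ Set.range Γ₁.ι ∩ Set.range Γ₂.ι := hrangeJ ▸ ⟨w, rfl⟩
    exact (congrArg (fun φ : J.subscheme ⟶ X.left => φ w) hc).trans rfl ▸ hw.2
  have hdim : topologicalKrullDim J.subscheme ≤ 0 :=
    ((c.isClosedEmbedding.isEmbedding.codRestrict _ hin).isInducing.topologicalKrullDim_le).trans
      (IntLib.dim_support_le hD (e := 0) (by simpa using dim_vertComp Γ₁))
  haveI := IsLocallyArtinian.of_topologicalKrullDim_le_zero hdim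
  haveI : CompactSpace J.subscheme := by
    haveI : CompactSpace X.left := QuasiCompact.compactSpace_of_compactSpace X.hom
    exact jW.isClosedEmbedding.compactSpace
  haveI : IsArtinianScheme J.subscheme := { }
  haveI : IsAffine J.subscheme := inferInstance
  let ψ : R →+* Γ(J.subscheme, ⊤) := jW.appTop.hom.comp (Coh.toGlobal X.hom)
  let e := CurveLib.secOf (ClSub.quotMod J)
  have hlen : Module.length R (Coh.HH X.left (ClSub.quotMod J) 0) = 1 := by
    have h1 : (Models.lengthH R X (ClSub.quotMod J) 0 : ℤ) = 1 := hone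
    rw [Models.lengthH, Nat.cast_eq_one] at h1
    rcases ENat.ne_top_iff_exists.1 (show Module.length R (Coh.HH X.left (ClSub.quotMod J) 0) ≠ ⊤ from
      fun ht => by rw [ht] at h1; exact Nat.zero_ne_one h1) with ⟨k, hk⟩
    rw [← hk, ENat.toNat_natCast] at h1
    rw [← hk, h1]; rfl
  haveI := Module.length_eq_one_iff.1 hlen
  haveI : Nontrivial (Coh.HH X.left (ClSub.quotMod J) 0) := IsSimpleModule.nontrivial R _
  haveI : Nontrivial Γ(J.subscheme, ⊤) := e.toEquiv.symm.nontrivial
  have hψ : Function.Surjective ψ := fun a => by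
    have h0 : e.symm (1 : Γ(J.subscheme, ⊤)) ≠ 0 := fun h0 => one_ne_zero (α := Γ(J.subscheme, ⊤))
      (e.symm.map_eq_zero_iff.1 h0)
    obtain ⟨r, hr⟩ := IsSimpleModule.toSpanSingleton_surjective R h0 (e.symm a)
    refine ⟨r, ?_⟩
    have h1 := congrArg e hr
    rw [LinearMap.toSpanSingleton_apply, e.apply_symm_apply] at h1
    rw [← h1]
    refine Eq.symm ((ModelDual.secOf_smulAb (ClSub.quotMod J) _ _).trans ?_)
    rw [e.apply_symm_apply]
    exact mul_one (ψ r)
  have hmax : (RingHom.ker ψ).IsMaximal := by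
    have hk0 : maximalIdeal R ≤ RingHom.ker ψ := fun r hr => by
      rw [RingHom.mem_ker]
      show jW.appTop (Coh.toGlobal X.hom r) = 0
      rw [← hc, Scheme.Hom.comp_appTop, CommRingCat.comp_apply]
      have h1 : Γ₁.ι.appTop (Coh.toGlobal X.hom r) = 0 := by
        rw [toGlobal_w Γ₁.w r, (IsLocalRing.residue_eq_zero_iff r).2 hr, map_zero]
      exact (congrArg _ h1).trans (map_zero _)
    have heq := (IsLocalRing.maximalIdeal.isMaximal R).eq_of_le (RingHom.ker_ne_top ψ) hk0
    exact heq ▸ IsLocalRing.maximalIdeal.isMaximal R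
  have hF : IsField Γ(J.subscheme, ⊤) :=
    (RingHom.quotientKerEquivOfSurjective hψ).symm.toMulEquiv.isField
      ((Ideal.Quotient.maximal_ideal_iff_isField_quotient _).1 hmax)
  letI := hF.toField
  haveI : Subsingleton J.subscheme :=
    ((isAffineOpen_top J.subscheme).isoSpec.hom.homeomorph.toEquiv.subsingleton_congr.2
      (inferInstanceAs (Subsingleton (PrimeSpectrum _)))).elim |> fun h => ⟨fun a b => congrArg Subtype.val (h ⟨a, trivial⟩ ⟨b, trivial⟩)⟩
  haveI : _root_.IsReduced Γ(J.subscheme, ⊤) := inferInstance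
  haveI : IsReduced J.subscheme := isReduced_of_isOpenImmersion J.subscheme.isoSpec.hom
  obtain ⟨w⟩ : Nonempty J.subscheme := by
    by_contra hh
    rw [not_nonempty_iff] at hh
    haveI : Subsingleton Γ(J.subscheme, ⊤) := by
      rw [show (⊤ : J.subscheme.Opens) = ⊥ from Opens.ext (Set.eq_empty_of_isEmpty (α := J.subscheme) _ |>.trans
        (Set.eq_empty_of_isEmpty _).symm)]
      infer_instance
    exact false_of_nontrivial_of_subsingleton Γ(J.subscheme, ⊤)
  have hrange : Set.range jW = {jW w} :=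
    Set.eq_singleton_iff_unique_mem.2 ⟨⟨w, rfl⟩, fun _ ⟨z, hz⟩ => hz ▸ congrArg jW (Subsingleton.elim z w)⟩
  refine ⟨jW w, hrangeJ ▸ hrange, ?_, ?_⟩
  · have h1 : jW.ker = Scheme.IdealSheafData.vanishingIdeal jW.ker.support := by
      rw [Scheme.IdealSheafData.vanishingIdeal_support]
      refine le_antisymm (Scheme.IdealSheafData.le_radical _) fun U a ha ↦ ?_
      rw [Scheme.Hom.ker_apply, RingHom.mem_ker]
      obtain ⟨n, hn⟩ := ha
      rw [Scheme.Hom.ker_apply, RingHom.mem_ker, map_pow] at hn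
      exact IsReduced.eq_zero _ ⟨n, hn⟩
    rw [show Γ₁.ι.ker ⊔ Γ₂.ι.ker = jW.ker from (Scheme.IdealSheafData.ker_subschemeι J).symm, h1]
    congr 1
    apply Closeds.ext
    show (jW.ker.support : Set X.left) = closure {jW w}
    rw [Scheme.Hom.support_ker, hrange]
  · intro a
    obtain ⟨z, rfl⟩ := X.left.residue_surjective (jW w) a
    letI alg : Algebra Γ(J.subscheme, ⊤) (J.subscheme.presheaf.stalk w) :=
      (J.subscheme.presheaf.germ ⊤ w trivial).hom.toAlgebra
    haveI hloc : IsLocalization.AtPrime (J.subscheme.presheaf.stalk w)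
        ((isAffineOpen_top J.subscheme).primeIdealOf ⟨w, trivial⟩).asIdeal :=
      (isAffineOpen_top J.subscheme).isLocalization_stalk ⟨w, trivial⟩
    obtain ⟨⟨b, s⟩, hbs⟩ := IsLocalization.surj ((isAffineOpen_top J.subscheme).primeIdealOf ⟨w, trivial⟩).asIdeal.primeCompl (jW.stalkMap w z)
    have hs0 : (s : Γ(J.subscheme, ⊤)) ≠ 0 := fun h0 => s.2 (h0 ▸ zero_mem _)
    obtain ⟨r, hr⟩ := hψ (b * (s : Γ(J.subscheme, ⊤))⁻¹)
    refine ⟨r, ?_⟩
    show X.left.residue (jW w) (Models.stalkHom R X (jW w) r) = X.left.residue (jW w) z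
    rw [← sub_eq_zero, ← map_sub]
    refine (IsLocalRing.residue_eq_zero_iff _).2 ((IsLocalRing.mem_maximalIdeal _).2 fun hu => ?_)
    have h2 := hu.map (jW.stalkMap w).hom
    rw [map_sub] at h2
    have h3 : (jW.stalkMap w).hom (Models.stalkHom R X (jW w) r) = algebraMap _ (J.subscheme.presheaf.stalk w) (ψ r) :=
      Scheme.Hom.germ_stalkMap_apply jW ⊤ w trivial (Coh.toGlobal X.hom r)
    have hsu : IsUnit (algebraMap _ (J.subscheme.presheaf.stalk w) (s : Γ(J.subscheme, ⊤))) :=
      IsLocalization.map_units (J.subscheme.presheaf.stalk w) s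
    have h4 : algebraMap _ (J.subscheme.presheaf.stalk w) (ψ r) = (jW.stalkMap w).hom z := by
      refine hsu.mul_right_cancel ?_
      rw [← map_mul, hr, inv_mul_cancel_right₀ hs0]
      exact hbs.symm
    rw [h3, h4, sub_self] at h2
    exact not_isUnit_zero h2

/-- **Two exceptional curves which meet exhaust the closed fibre.** -/
theorem excCurves_meet {C Y : Scheme.{u}} {f : C ⟶ Spec (CommRingCat.of (FractionRing R))}
    {p : Y ⟶ Spec (CommRingCat.of R)} (hC : Curve.IsSmoothProperCurve (FractionRing R) C f) (hH0 : IsIso f.appTop)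
    (hY : Models.IsRegularProperModel R Y p C f) {n : ℕ} {Γ : Fin n → ArSurf.VertComp R (Over.mk p)}
    (hΓ : Models.IsComponentList R (Over.mk p) Γ) {i j : Fin n} (hij : i ≠ j) (hi : Models.IsExcCurve (Γ i).ι)
    (hj : Models.IsExcCurve (Γ j).ι) (hmeet : ¬ Disjoint (Set.range (Γ i).ι) (Set.range (Γ j).ι)) :
    n = 2 ∧ (∀ l, Models.mult R (Over.mk p) (Γ l) = 1) ∧
      (∀ l, ∃ e : (Γ l).curve.left ≅ CohB1.ProjSpace 1 (ResidueField R),
        e.hom ≫ CohB1.ProjSpace.toSpec 1 (ResidueField R) = (Γ l).curve.hom) ∧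
      (∃ x : Y, Set.range (Γ i).ι ∩ Set.range (Γ j).ι = {x} ∧
        (Γ i).ι.ker ⊔ (Γ j).ι.ker = Scheme.IdealSheafData.vanishingIdeal ⟨closure {x}, isClosed_closure⟩ ∧
        Function.Surjective ((Y.residue x).hom.comp (Models.stalkHom R (Over.mk p) x))) ∧
      Models.curveGenus (FractionRing R) C f = 0 := by
  classical
  have hV := VSurf.of_model hC hY
  haveI : IsProper (Over.mk p).hom := hV.proper
  haveI : IsProper p := hY.2.1
  haveI : Flat p := hY.1.1
  obtain ⟨g, hg⟩ := hY.1.2.2.2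
  obtain ⟨L, hL⟩ := exists_inverse_list hC hY Γ
  have hconn : _root_.IsPreconnected (Models.specialFibreSet R (Over.mk p)) :=
    SteinConn.isPreconnected_closedFibre p (SurfPtBlow.toGlobal_surjective hg hH0)
  let m : Fin n → ℕ := fun l => Models.mult R (Over.mk p) (Γ l)
  let A : Fin n → Fin n → ℤ := fun a b => ArSurf.inter R (Over.mk p) (L b) (Γ a)
  have hsymm : ∀ a b, a ≠ b → A a b = A b a := fun a b hab =>
    hV.inter_symm (fun e => hab (hΓ.1 e)) (hL a) (hL b)
  have hoff : ∀ a b, a ≠ b → 0 ≤ A a b := fun a b hab => (hV.inter_nonneg_of_ne (fun e => hab (hΓ.1 e)) (hL b)).1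
  have hrow : ∀ a, ∑ b, (m b : ℤ) * A a b = 0 := fun a => hV.sum_mult_inter_list hΓ hL (Γ a)
  have hexc : ∀ l, Models.IsExcCurve (Γ l).ι → Models.h1 R (Over.mk p) (Γ l) = 0 ∧
      A l l = -(Models.wdeg R (Over.mk p) (Γ l) : ℤ) := fun l hl =>
    haveI := isProper_vertComp (Γ l)
    (isExcCurve_iff (k := ResidueField R) (Γ l).dim_eq (Γ l).ι (hV.isEffCartier_ker (Γ l)) (hL l)).1 hl
  obtain ⟨hi1, hAi⟩ := hexc i hi
  obtain ⟨hj1, hAj⟩ := hexc j hj
  have hpos : 0 < A i j := by
    obtain ⟨h0, h0'⟩ := hV.inter_nonneg_of_ne (fun e => hij (hΓ.1 e)) (hL j)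
    exact lt_of_le_of_ne h0 fun e => hmeet (h0'.1 e.symm)
  have hji := hsymm i j hij
  have hwi : (Models.wdeg R (Over.mk p) (Γ i) : ℤ) ≤ A i j :=
    Int.le_of_dvd hpos ((wdeg_dvd (Γ i)).2.2 (L j) (isInvertible_inverse_ideal (hL j)))
  have hwj : (Models.wdeg R (Over.mk p) (Γ j) : ℤ) ≤ A i j := by
    rw [hji]
    exact Int.le_of_dvd (hji ▸ hpos) ((wdeg_dvd (Γ j)).2.2 (L i) (isInvertible_inverse_ideal (hL i)))
  let a : Fin n → ℤ := fun l => if l = i ∨ l = j then 1 else 0
  have hsum : ∀ F : Fin n → ℤ, ∑ l, a l * F l = F i + F j := fun F => by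
    have hs : ∀ l, a l * F l = if l ∈ ({i, j} : Finset (Fin n)) then F l else 0 := fun l => by
      by_cases hl : l = i ∨ l = j <;> simp [a, hl]
    rw [Finset.sum_congr rfl fun l _ => hs l, Finset.sum_ite_mem, Finset.univ_inter, Finset.sum_pair hij]
  have hform : ∑ p', ∑ q, a p' * a q * A p' q = A i i + A i j + (A j i + A j j) := by
    simp only [mul_assoc, ← Finset.mul_sum, hsum]
  have hle : ∑ p', ∑ q, a p' * a q * A p' q ≤ 0 :=
    CastLib.form_nonpos A m hsymm hoff (hV.mult_pos hΓ) (fun l => (hrow l).le) a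
  have hzero : ∑ p', ∑ q, a p' * a q * A p' q = 0 := by omega
  obtain ⟨c, hc⟩ := proportional_of_form_eq_zero A m hsymm hoff (hV.mult_pos hΓ) hrow
    (fun I hI hI' => hV.exists_link hΓ hconn hL I hI hI') a hzero
  have hci : (1 : ℚ) = c * m i := by simpa [a] using hc i
  have hc0 : c ≠ 0 := fun h => by simp [h] at hci
  have hall : ∀ l, l = i ∨ l = j := fun l => by
    by_contra hl
    have h1 := hc l
    simp [a, hl, hc0, (hV.mult_pos hΓ l).ne', m] at h1
  have hmeq : m j = m i := by
    have hcj : (1 : ℚ) = c * m j := by simpa [a] using hc j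
    exact_mod_cast mul_left_cancel₀ hc0 (hcj.symm.trans hci)
  have huniv : (Finset.univ : Finset (Fin n)) = {i, j} :=
    Finset.ext fun l => by simpa using hall l
  have hn : n = 2 := by
    rw [← Fintype.card_fin n, ← Finset.card_univ, huniv, Finset.card_pair hij]
  have hgen := genus_formula hC hH0 hY hΓ hL
  rw [huniv, Finset.sum_pair hij] at hgen
  have hx : (Models.wdeg R (Over.mk p) (Γ i) : ℤ) = A i j ∧ (Models.wdeg R (Over.mk p) (Γ j) : ℤ) = A i j := by
    constructor <;> omega
  have hmx : 2 * (Models.curveGenus (FractionRing R) C f : ℤ) = 2 - 2 * ((m i : ℤ) * A i j) := by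
    rw [hgen, hi1, hj1, show ArSurf.inter R (Over.mk p) (L i) (Γ i) = A i i from rfl,
      show ArSurf.inter R (Over.mk p) (L j) (Γ j) = A j j from rfl,
      show (Models.mult R (Over.mk p) (Γ j) : ℤ) = (m i : ℤ) from by exact_mod_cast hmeq,
      show (Models.mult R (Over.mk p) (Γ i) : ℤ) = (m i : ℤ) from rfl, hAi, hAj, hx.1, hx.2]
    push_cast
    ring
  have hm1 : (1 : ℤ) ≤ (m i : ℤ) := by exact_mod_cast hV.mult_pos hΓ i
  have hprod : (m i : ℤ) * A i j = 1 := by
    have h1 : (0 : ℤ) < (m i : ℤ) * A i j := mul_pos (by omega) hpos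
    omega
  have hmi : m i = 1 := by exact_mod_cast Int.eq_one_of_mul_eq_one_right (Int.natCast_nonneg _) hprod
  have hx1 : A i j = 1 := by rwa [hmi, Nat.cast_one, one_mul] at hprod
  refine ⟨hn, fun l => ?_, fun l => ?_, ?_, by omega⟩
  · rcases hall l with rfl | rfl
    · exact hmi
    · exact hmeq.trans hmi
  · rcases hall l with rfl | rfl
    · exact exists_iso_P1_vertComp (Γ l) hi1 (isInvertible_inverse_ideal (hL j)) hx1
    · exact exists_iso_P1_vertComp (Γ l) hj1 (isInvertible_inverse_ideal (hL i)) (hji.symm.trans hx1)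
  · exact hV.meet_point (fun e => hij (hΓ.1 e)) (hL j) hx1

end Groth.Agent.CastLib
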