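import Groth.Agent.CastLib.EulerMultiple
import Mathlib

/-!
# Multiplication by a uniformiser on a flat scheme over a discrete valuation ring
-/

set_option autoImplicit false
set_option backward.isDefEq.respectTransparency false
set_option backward.isDefEq.respectTransparency.types false
set_option linter.style.haveILetI false
set_option maxHeartbeats 800000

universe u

open CategoryTheory CategoryTheory.Limits AlgebraicGeometry TopologicalSpace IsLocalRing
open Groth.Agent.PullbackMod Groth.Agent.DCohLib Groth.Agent.H1ZeroLib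

noncomputable section

namespace Groth.Agent.CastLib

variable {R : Type u} [CommRing R] [IsDomain R] [IsDiscreteValuationRing R] {Y : Scheme.{u}}
  (p : Y ⟶ Spec (CommRingCat.of R)) [Flat p] {π : R}

/-- A non-zero element of the base is a non-zero-divisor in every local ring of a flat scheme over it. -/
theorem injective_mul_germ_toGlobal (hπ : π ≠ 0) (z : Y) :
    Function.Injective fun a : Y.presheaf.stalk z => (Y.presheaf.germ ⊤ z trivial).hom (Coh.toGlobal p π) * a := by
  let S := Spec (CommRingCat.of R)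
  algebraize [(p.stalkMap z).hom]
  haveI : Module.Flat (S.presheaf.stalk (p z)) (Y.presheaf.stalk z) := Flat.stalkMap p z
  let g : S.presheaf.stalk (p z) :=
    (S.presheaf.germ ⊤ (p z) trivial).hom ((Scheme.ΓSpecIso (CommRingCat.of R)).inv.hom π)
  have hg : g ≠ 0 := fun h0 => hπ (by
    have h1 := germ_injective_of_isIntegral S (U := ⊤) (p z) trivial (h0.trans (map_zero _).symm)
    exact (ConcreteCategory.bijective_of_isIso (Scheme.ΓSpecIso (CommRingCat.of R)).inv).1
      (h1.trans (map_zero _).symm))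
  have he : (p.stalkMap z).hom g = (Y.presheaf.germ ⊤ z trivial).hom (Coh.toGlobal p π) :=
    (Scheme.Hom.germ_stalkMap_apply p ⊤ z trivial _).trans rfl
  intro a b h
  refine smul_right_injective (Y.presheaf.stalk z) hg ?_
  show g • a = g • b
  rw [Algebra.smul_def, Algebra.smul_def, RingHom.algebraMap_toAlgebra, he]
  exact h

/-- `0 → O →π O → O_s → 0`. -/
theorem shortExact_uniformizer (hπ : Irreducible π) :
    ∃ w : Formal.smulModΓ (Coh.structureModule Y) (Coh.toGlobal p π) ≫
        ClSub.toSubscheme (SurfPtBlow.fibreIdeal p) = 0,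
      (ShortComplex.mk _ (ClSub.toSubscheme (SurfPtBlow.fibreIdeal p)) w).ShortExact := by
  let c := Coh.toGlobal p π
  let J := SurfPtBlow.fibreIdeal p
  have hJ : ∀ z : Y, IntMult.stalkIdeal J z = Ideal.span {(Y.presheaf.germ ⊤ z trivial).hom c} := fun z => by
    show IntMult.stalkIdeal ((Curv2.idealSheaf R (IsLocalRing.maximalIdeal R)).comap p) z = _
    rw [hπ.maximalIdeal_eq, SurfPtBlow.stalkIdeal_comap_principal p π z]
  have hst : ∀ z m, PullbackMod.stalkLin (Formal.smulModΓ (Coh.structureModule Y) c) z m =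
      (Y.presheaf.germ ⊤ z trivial).hom c • m := fun z m => BCLib.stalkLin_smulModΓ _ _ z m
  have w : Formal.smulModΓ (Coh.structureModule Y) c ≫ ClSub.toSubscheme J = 0 :=
    PullbackMod.hom_ext_stalk fun z => LinearMap.ext fun m => by
      obtain ⟨r, rfl⟩ := (ParaFLib.bijective_oneG z).2 m
      rw [PullbackMod.stalkLin_comp, LinearMap.comp_apply, hst, DevLib.stalkLin_zero, LinearMap.zero_apply, smul_smul]
      exact (H1ZeroLib.qv_eq_zero_iff J z _).2 ((hJ z).symm ▸ Ideal.mul_mem_right _ _ (Ideal.mem_span_singleton_self _))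
  refine ⟨w, ShortComplex.ShortExact.mk' ?_ ?_ (HilbObsLib.epi_toSubscheme J)⟩
  · rw [ShortComplex.exact_iff_epi_kernel_lift]
    refine (PullbackMod.epi_iff_stalk _).2 fun z m => ?_
    have hinj := (PullbackMod.mono_iff_stalk (kernel.ι (ClSub.toSubscheme J))).1 inferInstance z
    obtain ⟨r, hr⟩ := (ParaFLib.bijective_oneG z).2 (PullbackMod.stalkLin (kernel.ι (ClSub.toSubscheme J)) z m)
    replace hr : r • ParaFLib.oneG z = _ := hr
    obtain ⟨a, rfl⟩ := Ideal.mem_span_singleton'.1 ((hJ z).le ((HilbObsLib.mem_range_idealModι J z r).1 ⟨m, hr.symm⟩))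
    refine ⟨a • ParaFLib.oneG z, hinj ?_⟩
    rw [← LinearMap.comp_apply, ← PullbackMod.stalkLin_comp, kernel.lift_ι]
    refine (hst z _).trans ?_
    rw [smul_smul, mul_comm, hr]
  · refine (PullbackMod.mono_iff_stalk _).2 fun z m m' h => ?_
    obtain ⟨r, rfl⟩ := (ParaFLib.bijective_oneG z).2 m
    obtain ⟨r', rfl⟩ := (ParaFLib.bijective_oneG z).2 m'
    rw [hst, hst, smul_smul, smul_smul] at h
    exact congrArg (· • _) (injective_mul_germ_toGlobal p hπ.ne_zero z ((ParaFLib.bijective_oneG z).1 h))

/-- **Restriction to the closed fibre is surjective on `H⁰` iff `π` is injective on `H¹`.** -/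
theorem surjective_H0_fibre_iff (hπ : Irreducible π) :
    letI : Y.Over (Spec (CommRingCat.of R)) := ⟨p⟩
    Function.Surjective (Sheaf.H.map ((SheafOfModules.toSheaf Y.ringCatSheaf).map
      (ClSub.toSubscheme (SurfPtBlow.fibreIdeal p))) 0) ↔
      ∀ x : Coh.HH Y (Coh.structureModule Y) 1, π • x = 0 → x = 0 := by
  letI : Y.Over (Spec (CommRingCat.of R)) := ⟨p⟩
  obtain ⟨w, hS⟩ := shortExact_uniformizer p hπ
  let G := CurveLib.hMap (k := R) (ClSub.toSubscheme (SurfPtBlow.fibreIdeal p)) 0
  let D := CurveLib.hδ (k := R) hS 0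
  let F := CurveLib.hMap (k := R) (Formal.smulModΓ (Coh.structureModule Y) (Coh.toGlobal p π)) 1
  have hF : ∀ x, F x = π • x := fun x => rfl
  have h1 : Function.Surjective G ↔ D = 0 := by
    rw [← LinearMap.range_eq_top, CurveLib.range_hMap_g hS 0, LinearMap.ker_eq_top]
  have h2 : D = 0 ↔ LinearMap.ker F = ⊥ := by
    rw [← LinearMap.range_eq_bot, CurveLib.range_hδ hS 0]
  refine (h1.trans h2).trans ⟨fun h x hx => ?_, fun h => ?_⟩
  · exact LinearMap.ker_eq_bot'.1 h x ((hF x).trans hx)
  · exact LinearMap.ker_eq_bot'.2 fun x hx => h x ((hF x).symm.trans hx)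

/-- Torsion freeness is checked at a uniformiser. -/
theorem noZeroSMulDivisors_iff_uniformizer (hπ : Irreducible π) (M : Type u) [AddCommGroup M] [Module R M] :
    NoZeroSMulDivisors R M ↔ ∀ x : M, π • x = 0 → x = 0 := by
  refine ⟨fun h x hx => (h.eq_zero_or_eq_zero_of_smul_eq_zero hx).resolve_left hπ.ne_zero, fun h => ⟨fun {c x} hcx => ?_⟩⟩
  rcases eq_or_ne c 0 with hc | hc
  · exact Or.inl hc
  obtain ⟨n, w, rfl⟩ := IsDiscreteValuationRing.eq_unit_mul_pow_irreducible hc hπ
  right
  rw [mul_smul, ← Units.smul_def, smul_eq_zero_iff_eq] at hcx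
  clear hc
  induction n with
  | zero => simpa using hcx
  | succ n ih =>
    rw [pow_succ', mul_smul] at hcx
    exact ih (h _ hcx)

end Groth.Agent.CastLib
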