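import Groth.Agent.CastLib.FieldVert
import Groth.Agent.SteinConn.General
import Mathlib.RingTheory.Unramified.Field
import Mathlib.RingTheory.Etale.Field

/-!
# The field of functions of a geometrically connected fibre
-/

set_option autoImplicit false
set_option backward.isDefEq.respectTransparency false
set_option backward.isDefEq.respectTransparency.types false
set_option linter.style.haveILetI false
set_option maxHeartbeats 1000000

universe u

open CategoryTheory CategoryTheory.Limits AlgebraicGeometry TopologicalSpace IsLocalRing TensorProduct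

noncomputable section

namespace Groth.Agent.CastLib

/-- Connectedness passes through a surjective closed immersion. -/
theorem connectedSpace_of_surjective_closed {A B : Scheme.{u}} (f : A ⟶ B) [IsClosedImmersion f] [Surjective f]
    [ConnectedSpace B] : ConnectedSpace A := by
  let e := (isHomeomorph_iff_isEmbedding_surjective.2 ⟨f.isClosedEmbedding.isEmbedding, f.surjective⟩).homeomorph
  exact e.symm.surjective.connectedSpace e.symm.continuous

section Tensor

variable {l F Ω : Type u} [Field l] [Field F] [Field Ω] [Algebra l F] [Algebra l Ω] [FiniteDimensional l F]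
variable {W : Scheme.{u}} (t : W ⟶ Spec (CommRingCat.of F)) [Surjective t]

/-- If a scheme over `F` stays connected over `Ω`, then `Ω ⊗ F` is local. -/
theorem isLocalRing_tensor_of_connected
    [ConnectedSpace ↥(pullback (t ≫ Spec.map (CommRingCat.ofHom (algebraMap l F)))
      (Spec.map (CommRingCat.ofHom (algebraMap l Ω))))] : IsLocalRing (Ω ⊗[l] F) := by
  let s := Spec.map (CommRingCat.ofHom (algebraMap l F))
  let o := Spec.map (CommRingCat.ofHom (algebraMap l Ω))
  let e := pullbackRightPullbackFstIso s o t
  haveI : ConnectedSpace ↥(pullback t (pullback.fst s o)) :=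
    e.inv.surjective.connectedSpace e.inv.continuous
  let φ : pullback t (pullback.fst s o) ⟶ Spec (CommRingCat.of (Ω ⊗[l] F)) :=
    pullback.snd t (pullback.fst s o) ≫ (pullbackSymmetry s o).hom ≫ (pullbackSpecIso l Ω F).hom
  haveI : Surjective φ := inferInstance
  haveI : ConnectedSpace (PrimeSpectrum (Ω ⊗[l] F)) := φ.surjective.connectedSpace φ.continuous
  haveI : IsArtinianRing (Ω ⊗[l] F) := isArtinian_of_tower Ω inferInstance
  haveI : Subsingleton (PrimeSpectrum (Ω ⊗[l] F)) := PreconnectedSpace.trivial_of_discrete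
  obtain ⟨⟨P, hP⟩⟩ := (inferInstance : Nonempty (PrimeSpectrum (Ω ⊗[l] F)))
  haveI : Nontrivial (Ω ⊗[l] F) := nontrivial_of_ne 0 1 fun h => hP.ne_top (by
    rw [Ideal.eq_top_iff_one, ← h]; exact P.zero_mem)
  refine IsLocalRing.of_unique_max_ideal ?_
  obtain ⟨M, hM⟩ := Ideal.exists_maximal (Ω ⊗[l] F)
  exact ⟨M, hM, fun N hN => congrArg PrimeSpectrum.asIdeal
    (Subsingleton.elim (⟨N, hN.isPrime⟩ : PrimeSpectrum (Ω ⊗[l] F)) ⟨M, hM.isPrime⟩)⟩

/-- A separable constant field of a geometrically connected scheme is trivial. -/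
theorem surjective_algebraMap_of_connected [IsAlgClosed Ω] [Algebra.IsSeparable l F]
    [ConnectedSpace ↥(pullback (t ≫ Spec.map (CommRingCat.ofHom (algebraMap l F)))
      (Spec.map (CommRingCat.ofHom (algebraMap l Ω))))] : Function.Surjective (algebraMap l F) := by
  haveI := isLocalRing_tensor_of_connected (l := l) (Ω := Ω) t
  haveI : Algebra.FormallyUnramified l F := Algebra.FormallyUnramified.of_isSeparable l F
  have hb := Algebra.FormallyUnramified.bijective_of_isAlgClosed_of_isLocalRing Ω (Ω ⊗[l] F)
  have h1 : Module.finrank Ω (Ω ⊗[l] F) = 1 :=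
    ((LinearEquiv.ofBijective (Algebra.linearMap Ω (Ω ⊗[l] F)) hb).finrank_eq).symm.trans (Module.finrank_self Ω)
  rw [Module.finrank_tensorProduct, Module.finrank_self, one_mul] at h1
  have h2 := (Algebra.linearMap l F).injective_iff_surjective_of_finrank_eq_finrank
    (by rw [Module.finrank_self, h1])
  exact h2.1 (algebraMap l F).injective

end Tensor

variable {R : Type u} [CommRing R] [IsDomain R] [IsDiscreteValuationRing R]
variable {X : Over (Spec (CommRingCat.of R))}

/-- The closed fibre is a scheme over the residue field. -/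
theorem exists_fibre_structure (X : Over (Spec (CommRingCat.of R))) :
    ∃ z : (Models.specialFibreIdeal R X).subscheme ⟶ Spec (CommRingCat.of (ResidueField R)),
      IsPullback (Models.specialFibreIdeal R X).subschemeι z X.hom
        (Spec.map (CommRingCat.ofHom (IsLocalRing.residue R))) := by
  let s := Spec.map (CommRingCat.ofHom (IsLocalRing.residue R))
  haveI : IsClosedImmersion s := IsClosedImmersion.spec_of_surjective _ IsLocalRing.residue_surjective
  let i := pullback.fst X.hom s
  have hker : i.ker = Models.specialFibreIdeal R X := by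
    rw [Models.specialFibreIdeal, ← IsLocalRing.ker_residue (R := R), ← TwistShriek.ker_specMap]
    exact Scheme.IdealSheafData.ker_fst_of_isClosedImmersion s X.hom
  let ι := (Models.specialFibreIdeal R X).subschemeι
  let a : (Models.specialFibreIdeal R X).subscheme ⟶ pullback X.hom s :=
    IsClosedImmersion.lift i ι (by rw [Scheme.IdealSheafData.ker_subschemeι, hker])
  let b : pullback X.hom s ⟶ (Models.specialFibreIdeal R X).subscheme :=
    IsClosedImmersion.lift ι i (by rw [Scheme.IdealSheafData.ker_subschemeι, hker])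
  have ha : a ≫ i = ι := IsClosedImmersion.lift_fac _ _ _
  have hb : b ≫ ι = i := IsClosedImmersion.lift_fac _ _ _
  let e : (Models.specialFibreIdeal R X).subscheme ≅ pullback X.hom s :=
    ⟨a, b, by rw [← cancel_mono ι, Category.assoc, hb, ha, Category.id_comp],
      by rw [← cancel_mono i, Category.assoc, ha, hb, Category.id_comp]⟩
  exact ⟨a ≫ pullback.snd X.hom s, (IsPullback.of_hasPullback X.hom s).of_iso e.symm (Iso.refl _) (Iso.refl _)
    (Iso.refl _) (by simpa [e] using hb.symm) (by simp [e, ← Category.assoc, show b ≫ a = 𝟙 _ from e.inv_hom_id]) (by simp [i]) (by simp [s])⟩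

/-- **A field of functions separable over the constants comes from global functions.** -/
theorem surjective_subschemeι_fibre [PerfectField (ResidueField R)] (hV : VSurf X)
    (hF : FieldFin (X := X) (Models.specialFibreIdeal R X)) :
    Function.Surjective (Models.specialFibreIdeal R X).subschemeι.appTop := by
  classical
  haveI := hV.proper
  let J := Models.specialFibreIdeal R X
  let W := J.subscheme
  let ι : W ⟶ X.left := J.subschemeι
  obtain ⟨z, hz⟩ := exists_fibre_structure X
  let k := ResidueField R
  letI : Field Γ(W, ⊤) := hF.1.toField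
  let φ : k →+* Γ(W, ⊤) := Coh.toGlobal z
  let ψ : Γ(X.left, ⊤) →+* Γ(W, ⊤) := ι.appTop.hom
  let l : Subring Γ(W, ⊤) := ψ.range
  have hR : ∀ r, φ (IsLocalRing.residue R r) = (ι ≫ X.hom).appTop ((Scheme.ΓSpecIso (CommRingCat.of R)).inv r) :=
    fun r => (toGlobal_w hz.w r).symm
  have hφl : ∀ a, φ a ∈ l := fun a => by
    obtain ⟨r, rfl⟩ := IsLocalRing.residue_surjective a
    rw [hR, Scheme.Hom.comp_appTop]
    exact ⟨_, rfl⟩
  letI : Algebra k Γ(W, ⊤) := φ.toAlgebra
  letI : Algebra R Γ(W, ⊤) := (φ.comp (IsLocalRing.residue R)).toAlgebra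
  haveI : IsScalarTower R k Γ(W, ⊤) := IsScalarTower.of_algebraMap_eq fun r => rfl
  haveI : Module.Finite R Γ(W, ⊤) := by
    have h : ((ι ≫ X.hom).appTop.hom.comp (Scheme.ΓSpecIso (CommRingCat.of R)).inv.hom) = φ.comp (IsLocalRing.residue R) :=
      RingHom.ext fun r => (hR r).symm
    have h2 := hF.2
    rw [show (J.subschemeι ≫ X.hom).appTop.hom.comp (Scheme.ΓSpecIso (CommRingCat.of R)).inv.hom = _ from h] at h2
    exact h2
  haveI : FiniteDimensional k Γ(W, ⊤) := Module.Finite.of_restrictScalars_finite R k _
  letI : Algebra k l := (φ.codRestrict l hφl).toAlgebra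
  haveI : IsScalarTower k l Γ(W, ⊤) := IsScalarTower.of_algebraMap_eq fun r => rfl
  haveI : Algebra.IsIntegral l Γ(W, ⊤) := Algebra.IsIntegral.tower_top k
  have hl : IsField l := isField_of_isIntegral_of_isField Subtype.val_injective hF.1
  letI : Field l := hl.toField
  haveI : FiniteDimensional l Γ(W, ⊤) := Module.Finite.of_restrictScalars_finite k l _
  haveI : FiniteDimensional k l := FiniteDimensional.left k l Γ(W, ⊤)
  haveI : PerfectField l := Algebra.IsAlgebraic.perfectField (K := k) (L := l)
  haveI : Algebra.IsSeparable l Γ(W, ⊤) := inferInstance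
  -- the Stein factorisation
  let q := X.hom.toNormalization
  haveI : GeometricallyConnected q := SteinConn.geometricallyConnected_toNormalization' X.hom
  haveI : IsAffine X.hom.normalization := isAffine_of_isAffineHom X.hom.fromNormalization
  have hq : Function.Bijective q.appTop := SteinConn.bijApp_toNormalization X.hom ⊤
  let χ : Γ(X.hom.normalization, ⊤) →+* l := ψ.rangeRestrict.comp q.appTop.hom
  have hχ : Function.Surjective χ := ψ.rangeRestrict_surjective.comp hq.2
  let sl : Spec (CommRingCat.of l) ⟶ Spec Γ(X.hom.normalization, ⊤) := Spec.map (CommRingCat.ofHom χ)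
  haveI : IsClosedImmersion sl := IsClosedImmersion.spec_of_surjective _ hχ
  let c : Spec (CommRingCat.of l) ⟶ X.hom.normalization := sl ≫ X.hom.normalization.isoSpec.inv
  let s : Spec (CommRingCat.of Γ(W, ⊤)) ⟶ Spec (CommRingCat.of l) := Spec.map (CommRingCat.ofHom (algebraMap l Γ(W, ⊤)))
  let t : W ⟶ Spec (CommRingCat.of Γ(W, ⊤)) := W.toSpecΓ
  haveI : Subsingleton (Spec (CommRingCat.of Γ(W, ⊤))) :=
    inferInstanceAs (Subsingleton (PrimeSpectrum Γ(W, ⊤)))
  haveI : Nonempty W := by
    by_contra h
    rw [not_nonempty_iff] at h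
    exact zero_ne_one (α := Γ(W, ⊤)) (Subsingleton.elim _ _)
  haveI : Surjective t := ⟨fun y => ⟨Classical.arbitrary W, Subsingleton.elim _ _⟩⟩
  have heq : ι ≫ q = t ≫ s ≫ c := by
    have h1 : CommRingCat.ofHom χ ≫ CommRingCat.ofHom (algebraMap l Γ(W, ⊤)) = (ι ≫ q).appTop := by
      ext b; rfl
    show ι ≫ q = W.toSpecΓ ≫ Spec.map _ ≫ Spec.map _ ≫ X.hom.normalization.isoSpec.inv
    rw [← Spec.map_comp_assoc, h1, ← Scheme.toSpecΓ_naturality_assoc]
    simp [Scheme.isoSpec]
  let P := pullback q c
  let u : W ⟶ P := pullback.lift ι (t ≫ s) (by rw [Category.assoc]; exact heq)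
  haveI : IsClosedImmersion (u ≫ pullback.fst q c) := by rw [pullback.lift_fst]; infer_instance
  haveI : IsClosedImmersion u := IsClosedImmersion.of_comp u (pullback.fst q c)
  haveI : Surjective u := ⟨fun y => by
    have hy : pullback.fst q c y ∈ Set.range ι := by
      rw [Scheme.IdealSheafData.range_subschemeι]
      refine (FibreGood.mem_fibre (X := X)).2 ?_
      have h2 : q (pullback.fst q c y) = q (ι (Classical.arbitrary W)) := by
        rw [← Scheme.Hom.comp_apply, pullback.condition, Scheme.Hom.comp_apply,
          ← Scheme.Hom.comp_apply ι q, heq, Scheme.Hom.comp_apply, Scheme.Hom.comp_apply]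
        exact congrArg c (Subsingleton.elim (α := PrimeSpectrum l) _ _)
      have h3 : ∀ x, X.hom.fromNormalization (q x) = X.hom x := fun x =>
        congrArg (fun g : X.left ⟶ Spec (CommRingCat.of R) => g x) X.hom.toNormalization_fromNormalization
      rw [← h3, h2, h3]
      exact (FibreGood.mem_fibre (X := X)).1 (J.range_subschemeι.le ⟨_, rfl⟩)
    obtain ⟨w, hw⟩ := hy
    refine ⟨w, (pullback.fst q c).isClosedEmbedding.injective ?_⟩
    rw [← Scheme.Hom.comp_apply, pullback.lift_fst]
    exact hw⟩
  let o : Spec (CommRingCat.of (AlgebraicClosure l)) ⟶ Spec (CommRingCat.of l) :=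
    Spec.map (CommRingCat.ofHom (algebraMap l (AlgebraicClosure l)))
  haveI : ConnectedSpace ↥(pullback (pullback.snd q c) o) :=
    GeometricallyConnected.geometrically_connectedSpace _ _ _ (IsPullback.of_hasPullback _ o)
  haveI : ConnectedSpace ↥(pullback u (pullback.fst (pullback.snd q c) o)) :=
    connectedSpace_of_surjective_closed (pullback.snd u (pullback.fst (pullback.snd q c) o))
  haveI : ConnectedSpace ↥(pullback (t ≫ s) o) := by
    let e := pullbackRightPullbackFstIso (pullback.snd q c) o u ≪≫
      pullback.congrHom (show u ≫ pullback.snd q c = t ≫ s from pullback.lift_snd _ _ _) (rfl : o = o)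
    exact e.hom.surjective.connectedSpace e.hom.continuous
  intro y
  obtain ⟨a, ha⟩ := surjective_algebraMap_of_connected (l := l) (F := Γ(W, ⊤)) (Ω := AlgebraicClosure l) t y
  obtain ⟨x, hx⟩ := (a : l).2
  exact ⟨x, hx.trans ha⟩

end Groth.Agent.CastLib
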