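import Groth.Agent.CastLib.FieldChain
import Groth.Agent.CastLib.CompList
import Groth.Agent.CastLib.PicTors
import Groth.Agent.CurveLib.MaxSections
import Groth.Prelude.Def_Lef

/-!
# Fields of functions and components on vertical surfaces over a discrete valuation ring
-/

set_option autoImplicit false
set_option backward.isDefEq.respectTransparency false
set_option backward.isDefEq.respectTransparency.types false
set_option linter.style.haveILetI false
set_option maxHeartbeats 1000000

universe u

open CategoryTheory CategoryTheory.Limits AlgebraicGeometry TopologicalSpace IsLocalRing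
open Groth.Agent.SurfPtBlow Groth.Agent.PullbackMod Groth.Agent.DCohLib Groth.Agent.CurveLib Groth.Agent.H1ZeroLib Groth.Agent.TwistShriek

noncomputable section

namespace Groth.Agent.CastLib

variable {R : Type u} [CommRing R] [IsDomain R] [IsDiscreteValuationRing R]
variable {X : Over (Spec (CommRingCat.of R))}

theorem VSurf.exists_mem_fibre (hV : VSurf X) (y : X.left) : ∃ x, y ⤳ x ∧ X.hom x = closedPoint R := by
  haveI := hV.proper
  have hsp : X.hom y ⤳ closedPoint R := IsLocalRing.specializes_closedPoint _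
  obtain ⟨x, hx, hxe⟩ := (X.hom.isClosedMap _ (isClosed_closure (s := ({y} : Set X.left)))).stableUnderSpecialization hsp
    ⟨y, subset_closure rfl, rfl⟩
  exact ⟨x, specializes_iff_mem_closure.2 hx, hxe⟩

theorem VSurf.nonempty_index (hV : VSurf X) {n : ℕ} {Γ : Fin n → ArSurf.VertComp R X}
    (hΓ : Models.IsComponentList R X Γ) : Nonempty (Fin n) := by
  haveI := hV.int
  obtain ⟨-, hfib⟩ := hV.toFibreGood.fibre_eq_prod hΓ
  by_contra h0
  rw [not_nonempty_iff] at h0
  rw [Finset.univ_eq_empty, Finset.prod_empty] at hfib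
  obtain ⟨x, -, hx⟩ := hV.exists_mem_fibre (genericPoint X.left)
  have h := (FibreGood.mem_fibre (X := X)).2 hx
  rw [show SurfPtBlow.fibreIdeal X.hom = 1 from hfib] at h
  simp at h; exact h.elim

/-- Before the full fibre there is always a component to add in negative degree. -/
theorem VSurf.exists_add_step (hV : VSurf X) (hconn : _root_.IsPreconnected (Models.specialFibreSet R X))
    {n : ℕ} {Γ : Fin n → ArSurf.VertComp R X}
    (hΓ : Models.IsComponentList R X Γ) {L : Fin n → X.left.Modules}
    (hL : ∀ i, ClSub.IsInverseOf (L i) (ClSub.idealMod (Γ i).ι.ker))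
    (hgcd : Models.multGcd R X Γ = 1) (a : Fin n → ℕ) (ha1 : ∀ i, 1 ≤ a i)
    (hat : ∀ i, a i ≤ Models.mult R X (Γ i)) (hne : a ≠ fun i => Models.mult R X (Γ i)) :
    ∃ i, a i < Models.mult R X (Γ i) ∧
      0 < ∑ l, (a l : ℤ) * ArSurf.inter R X (L l) (Γ i) := by
  classical
  haveI : IsProper X.hom := hV.proper
  let m : Fin n → ℕ := fun i => Models.mult R X (Γ i)
  have hgcd' : Finset.univ.gcd m = 1 := hgcd
  let A : Fin n → Fin n → ℤ := fun i j => ArSurf.inter R X (L j) (Γ i)
  have hsymm : ∀ i j, i ≠ j → A i j = A j i := fun i j hij =>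
    hV.inter_symm (fun e => hij (hΓ.1 e)) (hL i) (hL j)
  have hoff : ∀ i j, i ≠ j → 0 ≤ A i j := fun i j hij => (hV.inter_nonneg_of_ne (fun e => hij (hΓ.1 e)) (hL j)).1
  have hrow : ∀ i, ∑ j, (m j : ℤ) * A i j = 0 := fun i => hV.sum_mult_inter_list hΓ hL (Γ i)
  by_contra hno
  push Not at hno
  let c : Fin n → ℤ := fun i => (m i : ℤ) - a i
  have hAc : ∀ i, ∑ l, c l * A i l = -∑ l, (a l : ℤ) * A i l := fun i => by
    simp only [c, sub_mul, Finset.sum_sub_distrib, hrow i, zero_sub]
  have hge : 0 ≤ ∑ i, ∑ j, c i * c j * A i j := Finset.sum_nonneg fun i _ => by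
    simp only [mul_assoc, ← Finset.mul_sum, hAc i]
    rcases (hat i).lt_or_eq with hlt | heq
    · exact mul_nonneg (by simp only [c, m]; omega)
        (by have : ∑ l, (a l : ℤ) * A i l ≤ 0 := hno i hlt; omega)
    · simp [c, m, heq]
  obtain ⟨q, hq⟩ := proportional_of_form_eq_zero A m hsymm hoff (hV.mult_pos hΓ) hrow
    (fun I hI hI' => hV.exists_link hΓ hconn hL I hI hI') c
    (le_antisymm (CastLib.form_nonpos A m hsymm hoff (hV.mult_pos hΓ) (fun i => (hrow i).le) c) hge)
  obtain ⟨x, hx⟩ := Finset.gcd_eq_sum_mul (Finset.univ : Finset (Fin n)) (fun i => (m i : ℤ))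
  let G : ℤ := Finset.univ.gcd fun i => (m i : ℤ)
  have hG : G.natAbs = 1 := Nat.eq_one_of_dvd_one (hgcd' ▸ Finset.dvd_gcd fun i hi =>
    Int.natCast_dvd_natCast.1 (Int.natAbs_dvd.2 (Finset.gcd_dvd hi)))
  have hG0 : 0 ≤ G := by
    show 0 ≤ Finset.univ.gcd fun i => (m i : ℤ)
    rw [← Finset.normalize_gcd]; exact Int.nonneg_of_normalize_eq_self (normalize_idem _)
  have hG1 : (1 : ℤ) = ∑ i, (m i : ℤ) * x i := hx ▸ (by omega : (1 : ℤ) = G)
  let v : ℤ := ∑ i, c i * x i
  have hv : ∀ i, c i = v * (m i : ℤ) := fun i => by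
    refine Int.cast_injective (α := ℚ) ?_
    have h1 : ((1 : ℤ) : ℚ) = ((∑ l, (m l : ℤ) * x l : ℤ) : ℚ) := by rw [← hG1]
    push_cast at h1
    simp only [v]
    push_cast
    simp only [hq]
    calc q * (m i : ℚ) = q * (m i : ℚ) * 1 := (mul_one _).symm
      _ = _ := by
        rw [h1, Finset.mul_sum, Finset.sum_mul]
        exact Finset.sum_congr rfl fun l _ => by ring
  obtain ⟨i₀⟩ := hV.nonempty_index hΓ
  rcases le_or_gt v 0 with hv0 | hv0
  · exact hne (funext fun i => le_antisymm (hat i) (by
      have h1 := hv i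
      have h2 : v * (m i : ℤ) ≤ 0 := mul_nonpos_of_nonpos_of_nonneg hv0 (Int.natCast_nonneg _)
      simp only [c, m] at h1 h2
      omega))
  · have h1 := hv i₀
    have h2 : (m i₀ : ℤ) ≤ v * (m i₀ : ℤ) := le_mul_of_one_le_left (Int.natCast_nonneg _) hv0
    have := ha1 i₀
    simp only [c, m] at h1 h2
    omega


/-- A step of the chain of fields. -/
theorem VSurf.fieldFin_step' (hV : VSurf X) {n : ℕ} {Γ : Fin n → ArSurf.VertComp R X} {L : Fin n → X.left.Modules}
    (hL : ∀ i, ClSub.IsInverseOf (L i) (ClSub.idealMod (Γ i).ι.ker)) {a : Fin n → ℕ} {i : Fin n}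
    (hi : 0 < ∑ l, (a l : ℤ) * ArSurf.inter R X (L l) (Γ i))
    (ha : FieldFin (X := X) (∏ j, (Γ j).ι.ker ^ a j)) :
    FieldFin (X := X) (∏ j, (Γ j).ι.ker ^ (a + Pi.single i 1 : Fin n → ℕ) j) := by
  haveI := hV.proper
  have hJ := fun j => hV.isEffCartier_ker (Γ j)
  have hint := inter_idealMod_prod hJ L hL a (Γ i)
  have heq : ∏ j, (Γ j).ι.ker ^ (a + Pi.single i 1 : Fin n → ℕ) j = (Γ i).ι.ker * ∏ j, (Γ j).ι.ker ^ a j := by
    simp only [Pi.add_apply, pow_add, Finset.prod_mul_distrib]
    rw [mul_comm, Finset.prod_eq_single i]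
    · rw [Pi.single_eq_same, pow_one]
    · exact fun j _ hj => by rw [Pi.single_eq_of_ne hj, pow_zero]
    · exact fun h => absurd (Finset.mem_univ i) h
  rw [heq]
  exact FieldFin.of_injective _ ha (injective_inclusion_peel (Γ i) (mk_idealMod_prod _ hJ a Finset.univ).1
    (by rw [hint]; omega))

/-- The reduced fibre has a field of global functions. -/
theorem VSurf.fieldFin_ones (hV : VSurf X) (hconn : _root_.IsPreconnected (Models.specialFibreSet R X))
    {n : ℕ} {Γ : Fin n → ArSurf.VertComp R X}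
    (hΓ : Models.IsComponentList R X Γ) (i₀ : Fin n) :
    FieldFin (X := X) (∏ j, (Γ j).ι.ker ^ (fun _ => 1 : Fin n → ℕ) j) := by
  classical
  haveI : IsProper X.hom := hV.proper
  choose L hL using fun i => exists_inverse_idealMod (hV.isEffCartier_ker (Γ i))
  let e : Finset (Fin n) → Fin n → ℕ := fun I j => if j ∈ I then 1 else 0
  have key : ∀ k, ∀ I : Finset (Fin n), I.Nonempty → Iᶜ.card = k →
      FieldFin (X := X) (∏ j, (Γ j).ι.ker ^ e I j) →
      FieldFin (X := X) (∏ j, (Γ j).ι.ker ^ (fun _ => 1 : Fin n → ℕ) j) := by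
    intro k
    induction k with
    | zero =>
      intro I _ hI h
      have hu : I = Finset.univ := by rwa [Finset.card_eq_zero, Finset.compl_eq_empty_iff] at hI
      rwa [show e I = fun _ => 1 from funext fun j => if_pos (hu ▸ Finset.mem_univ j)] at h
    | succ k ih =>
      intro I hne hI h
      obtain ⟨i, hi, j, hj, hA⟩ := hV.exists_link hΓ hconn hL I hne
        (fun hu => by rw [hu, Finset.compl_univ, Finset.card_empty] at hI; omega)
      have hij : i ≠ j := fun h => hj (h ▸ hi)
      have hnn : ∀ l ∈ (Finset.univ : Finset (Fin n)),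
          0 ≤ (e I l : ℤ) * ArSurf.inter R X (L l) (Γ j) := fun l _ => by
        by_cases hl : l ∈ I
        · exact mul_nonneg (Int.natCast_nonneg _)
            (hV.inter_nonneg_of_ne (fun e' => hj (by have h := hΓ.1 e'; rwa [h])) (hL l)).1
        · simp [e, hl]
      have hpos : 0 < ∑ l, (e I l : ℤ) * ArSurf.inter R X (L l) (Γ j) := by
        refine lt_of_lt_of_le ?_ (Finset.single_le_sum hnn (Finset.mem_univ i))
        rw [show e I i = 1 from if_pos hi, Nat.cast_one, one_mul]
        refine lt_of_le_of_ne (hV.inter_nonneg_of_ne (fun e' => hij (hΓ.1 e').symm) (hL i)).1 (Ne.symm ?_)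
        rwa [hV.inter_symm (fun e' => hij (hΓ.1 e').symm) (hL j) (hL i)]
      refine ih (insert j I) (Finset.insert_nonempty _ _) ?_ ?_
      · rw [Finset.compl_insert, Finset.card_erase_of_mem (Finset.mem_compl.2 hj), hI]; omega
      · have heq : e (insert j I) = e I + Pi.single j 1 := funext fun l => by
          by_cases hl : l = j
          · subst hl; simp [e, hj]
          · simp [e, hl]
        rw [heq]
        exact hV.fieldFin_step' hL hpos h
  refine key _ {i₀} (Finset.singleton_nonempty _) rfl ?_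
  have heq : ∏ j, (Γ j).ι.ker ^ e {i₀} j = (Γ i₀).ι.ker := by
    rw [Finset.prod_eq_single i₀]
    · simp [e]
    · exact fun j _ hj => by simp [e, hj]
    · exact fun h => absurd (Finset.mem_univ i₀) h
  rw [heq]
  exact fieldFin_ker (Γ i₀)

/-- **Multiplicities without common factor: the closed fibre has a field of global functions.** -/
theorem VSurf.fieldFin_fibre (hV : VSurf X) (hconn : _root_.IsPreconnected (Models.specialFibreSet R X))
    {n : ℕ} {Γ : Fin n → ArSurf.VertComp R X} (hΓ : Models.IsComponentList R X Γ)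
    (hgcd : Models.multGcd R X Γ = 1) : FieldFin (X := X) (Models.specialFibreIdeal R X) := by
  classical
  choose L hL using fun i => exists_inverse_idealMod (hV.isEffCartier_ker (Γ i))
  obtain ⟨i₀⟩ := hV.nonempty_index hΓ
  let m : Fin n → ℕ := fun i => Models.mult R X (Γ i)
  have key : ∀ k, ∀ a : Fin n → ℕ, (∀ i, 1 ≤ a i) → (∀ i, a i ≤ m i) → ∑ i, (m i - a i) = k →
      FieldFin (X := X) (∏ i, (Γ i).ι.ker ^ a i) → FieldFin (X := X) (∏ i, (Γ i).ι.ker ^ m i) := by
    intro k
    induction k with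
    | zero =>
      intro a ha1 hat hsum hF
      rwa [show m = a from funext fun i => le_antisymm
        (Nat.sub_eq_zero_iff_le.1 (Finset.sum_eq_zero_iff.1 hsum i (Finset.mem_univ i))) (hat i)]
    | succ k ih =>
      intro a ha1 hat hsum hF
      have hne : a ≠ m := fun h => by simp [h] at hsum
      obtain ⟨i, hit₀, hA⟩ := hV.exists_add_step hconn hΓ hL hgcd a ha1 hat hne
      have hit : a i < m i := hit₀
      refine ih (a + Pi.single i 1) (fun j => (ha1 j).trans (by simp)) (fun j => ?_) ?_ (hV.fieldFin_step' hL hA hF)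
      · by_cases hj : j = i
        · subst hj; simp only [Pi.add_apply, Pi.single_eq_same]; exact hit
        · simp only [Pi.add_apply, Pi.single_eq_of_ne hj, add_zero]; exact hat j
      · rw [← Finset.sum_erase_add _ _ (Finset.mem_univ i)] at hsum ⊢
        rw [Finset.sum_congr rfl fun j hj => by
          rw [Pi.add_apply, Pi.single_eq_of_ne (Finset.ne_of_mem_erase hj), add_zero]]
        simp only [Pi.add_apply, Pi.single_eq_same]
        omega
  rw [show Models.specialFibreIdeal R X = ∏ i, (Γ i).ι.ker ^ m i from (hV.toFibreGood.fibre_eq_prod hΓ).2]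
  exact key _ (fun _ => 1) (fun _ => le_rfl) (hV.mult_pos hΓ) rfl (hV.fieldFin_ones hconn hΓ i₀)

/-- In a connected closed fibre the points of codimension one are not closed. -/
theorem VSurf.not_isClosed_of_coheight_one (hV : VSurf X) (hdim : topologicalKrullDim X.left = 2)
    (hconn : _root_.IsPreconnected (Models.specialFibreSet R X)) {ξ : X.left} (hξ : X.hom ξ = closedPoint R)
    (h1 : Order.coheight ξ = 1) : ¬ IsClosed ({ξ} : Set X.left) := by
  intro hcl
  haveI := hV.int
  haveI := hV.noeth
  obtain ⟨n, ζ, a, hco, -, -, hall, -, hfib⟩ := hV.toFibreGood.exists_fibre_decomp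
  let G : Set X.left := ⋃ i ∈ {i | ζ i ≠ ξ}, closure {ζ i}
  have hGc : IsClosed G := (Set.toFinite _).isClosed_biUnion fun _ _ => isClosed_closure
  have hξG : ξ ∉ G := fun h => by
    simp only [G, Set.mem_iUnion, exists_prop, Set.mem_setOf_eq] at h
    obtain ⟨i, hi, hmem⟩ := h
    have h3 := S8909.succ_le (specializes_iff_mem_closure.2 hmem) hi
    rw [h1, hco i] at h3
    exact absurd h3 (by decide)
  have hcov : ∀ y, X.hom y = closedPoint R → y = ξ ∨ y ∈ G := fun y hy => by
    by_contra hcon
    rw [not_or] at hcon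
    have htop : IntMult.stalkIdeal (SurfPtBlow.fibreIdeal X.hom) y = ⊤ := by
      rw [show SurfPtBlow.fibreIdeal X.hom = ∏ i, cl (ζ i) ^ a i from hfib, stalkIdeal_prod', ← Ideal.one_eq_top]
      refine Finset.prod_eq_one fun i _ => ?_
      rw [IdealMulLib.stalkIdeal_eq_top _ (fun hmem => ?_), ← Ideal.one_eq_top, one_pow]
      rw [mem_support_cl] at hmem
      by_cases hi : ζ i = ξ
      · rw [hi, specializes_iff_mem_closure, hcl.closure_eq] at hmem
        exact hcon.1 hmem
      · exact hcon.2 (Set.mem_biUnion (show i ∈ {i | ζ i ≠ ξ} from hi) (specializes_iff_mem_closure.1 hmem))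
    exact (IsLocalRing.maximalIdeal.isMaximal _).ne_top (top_le_iff.1 (htop ▸
      IdealStalkLib.stalkIdeal_le_maximal (SurfPtBlow.fibreIdeal X.hom) ((FibreGood.mem_fibre (X := X)).2 hy)))
  have honly : ∀ y, X.hom y = closedPoint R → y = ξ := fun y hy => by
    by_contra hne
    have hyG := (hcov y hy).resolve_left hne
    obtain ⟨z, -, hz1, hz2⟩ := isPreconnected_closed_iff.1 hconn {ξ} G hcl hGc (fun z hz => hcov z hz)
      ⟨ξ, hξ, rfl⟩ ⟨y, hy, hyG⟩
    exact hξG (Set.mem_singleton_iff.1 hz1 ▸ hz2)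
  have hbot : ∀ y : X.left, ξ ≤ y := fun y => by
    obtain ⟨x, hyx, hx⟩ := hV.exists_mem_fibre y
    exact Scheme.le_iff_specializes.2 (honly x hx ▸ hyx)
  obtain ⟨l, hl⟩ := Order.le_krullDim_iff.1 (show ((2 : ℕ) : WithBot ℕ∞) ≤ Order.krullDim X.left by
    rw [← ASp.topologicalKrullDim_eq_krullDim, hdim]; rfl)
  have h2 := Order.length_le_coheight (p := l) (hbot l.head)
  rw [hl, h1] at h2
  exact absurd h2 (by decide)

/-- **A connected closed fibre has a list of components.** -/
theorem VSurf.exists_componentList_of_not_isClosed (hV : VSurf X)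
    (hncl : ∀ ξ : X.left, X.hom ξ = closedPoint R → Order.coheight ξ = 1 → ¬ IsClosed ({ξ} : Set X.left)) :
    ∃ (n : ℕ) (Γ : Fin n → ArSurf.VertComp R X), Models.IsComponentList R X Γ := by
  haveI := hV.int
  haveI := hV.noeth
  obtain ⟨n, ξ, a, hco, hinj, hvert, -, -, hfib⟩ := hV.toFibreGood.exists_fibre_decomp
  have hvc : ∀ i, ∃ Γ : ArSurf.VertComp R X, Set.range Γ.ι = closure {ξ i} := fun i => by
    let j := (cl (ξ i)).subschemeι
    haveI hint : IsIntegral (cl (ξ i)).subscheme :=
      CurveLib.isIntegral_vanishingIdeal isClosed_closure isIrreducible_singleton.closure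
    have hr : Set.range j = closure {ξ i} := by
      rw [Scheme.IdealSheafData.range_subschemeι, cl, Scheme.IdealSheafData.coe_support_vanishingIdeal]
      rfl
    have hv : ∀ z, X.hom (j z) = closedPoint R := fun z => by
      have hsub : closure {ξ i} ⊆ X.hom ⁻¹' {closedPoint R} :=
        closure_minimal (Set.singleton_subset_iff.2 (hvert i))
          ((IsLocalRing.isClosed_singleton_closedPoint R).preimage X.hom.continuous)
      exact hsub (hr.le ⟨z, rfl⟩)
    let res := Spec.map (CommRingCat.ofHom (IsLocalRing.residue R))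
    haveI : IsClosedImmersion res := IsClosedImmersion.spec_of_surjective _ IsLocalRing.residue_surjective
    obtain ⟨t, ht⟩ := DVRCrit.exists_factor_closed res (j ≫ X.hom) (by
      rintro _ ⟨c, rfl⟩
      exact ⟨IsLocalRing.closedPoint _, (IsLocalRing.comap_closedPoint (IsLocalRing.residue R)).trans (hv c).symm⟩)
    have hd : topologicalKrullDim (cl (ξ i)).subscheme = 1 := by
      refine le_antisymm (VSurf.dim_fibre (Y := X.left) (p := X.hom) hV j hv) ?_
      obtain ⟨z, hz⟩ := hr.ge (subset_closure (Set.mem_singleton (ξ i)))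
      obtain ⟨y, hy, hne⟩ : ∃ y, ξ i ⤳ y ∧ y ≠ ξ i := by
        by_contra hcon
        push Not at hcon
        refine hncl _ (hvert i) (hco i) ?_
        rw [← closure_eq_iff_isClosed]
        exact Set.Subset.antisymm (fun y hy => hcon y (specializes_iff_mem_closure.2 hy)) subset_closure
      obtain ⟨w, hw⟩ := hr.ge (specializes_iff_mem_closure.1 hy)
      have hsp : z ⤳ w := (j.isClosedEmbedding.isInducing.specializes_iff).1 (by rw [hz, hw]; exact hy)
      have hlt : w < z := lt_of_le_not_ge (Scheme.le_iff_specializes.2 hsp) fun h =>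
        hne (hw.symm.trans ((congrArg j ((Scheme.le_iff_specializes.1 h).antisymm hsp).eq).trans hz))
      rw [ASp.topologicalKrullDim_eq_krullDim]
      exact Order.le_krullDim_iff.2 ⟨(RelSeries.singleton _ w).snoc z hlt, by simp [RelSeries.snoc]⟩
    exact ⟨⟨Over.mk t, j, inferInstance, hint, hd, ht.symm⟩, hr⟩
  choose Γ hΓ using hvc
  refine ⟨n, Γ, hV.isComponentList_of_cover Γ (fun i j h => hinj ?_) fun x hx => ?_⟩
  · have h' : closure {ξ i} = closure {ξ j} := (hΓ i).symm.trans (h.trans (hΓ j))
    exact ((specializes_iff_mem_closure.2 (h' ▸ subset_closure (Set.mem_singleton (ξ j)))).antisymm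
      (specializes_iff_mem_closure.2 (h'.symm ▸ subset_closure (Set.mem_singleton (ξ i))))).eq
  · by_contra hcon
    have htop : IntMult.stalkIdeal (SurfPtBlow.fibreIdeal X.hom) x = ⊤ := by
      rw [show SurfPtBlow.fibreIdeal X.hom = ∏ i, cl (ξ i) ^ a i from hfib, stalkIdeal_prod', ← Ideal.one_eq_top]
      refine Finset.prod_eq_one fun i _ => ?_
      rw [IdealMulLib.stalkIdeal_eq_top _ (fun hmem => ?_), ← Ideal.one_eq_top, one_pow]
      rw [mem_support_cl] at hmem
      exact hcon ⟨i, (hΓ i).ge (specializes_iff_mem_closure.1 hmem)⟩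
    exact (IsLocalRing.maximalIdeal.isMaximal _).ne_top (top_le_iff.1 (htop ▸
      IdealStalkLib.stalkIdeal_le_maximal (SurfPtBlow.fibreIdeal X.hom) (FibreGood.mem_fibre.2 hx)))

/-- The list of components, for a connected closed fibre. -/
theorem VSurf.exists_componentList (hV : VSurf X) (hdim : topologicalKrullDim X.left = 2)
    (hconn : _root_.IsPreconnected (Models.specialFibreSet R X)) :
    ∃ (n : ℕ) (Γ : Fin n → ArSurf.VertComp R X), Models.IsComponentList R X Γ :=
  hV.exists_componentList_of_not_isClosed fun _ hξ h1 => hV.not_isClosed_of_coheight_one hdim hconn hξ h1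

/-- Surjectivity on `H⁰` of the restriction to a closed subscheme is surjectivity on global functions. -/
theorem surjective_H0_toSubscheme {Y : Scheme.{u}} (I : Y.IdealSheafData)
    (h : Function.Surjective I.subschemeι.appTop) :
    Function.Surjective (Sheaf.H.map ((SheafOfModules.toSheaf Y.ringCatSheaf).map (ClSub.toSubscheme I)) 0) := by
  intro c
  obtain ⟨s, hs⟩ := h (CurveLib.secOf (ClSub.quotMod I) c)
  refine ⟨(CurveLib.secOf (Coh.structureModule Y)).symm s, (CurveLib.secOf (ClSub.quotMod I)).injective ?_⟩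
  show CohBase.H0Equiv (⊤ : Y.Opens) (Coh.toAb (ClSub.quotMod I))
    (CohBase.HEquiv _ 0 (Sheaf.H.map _ 0 ((CurveLib.secOf (Coh.structureModule Y)).symm s))) = _
  rw [CohBase.HEquiv_map, CohBase.H0Equiv_hmap]
  refine Eq.trans ?_ hs
  exact congrArg ((ClSub.toSubscheme I).app ⊤) (AddEquiv.apply_symm_apply (CurveLib.secOf (Coh.structureModule Y)) s)

end Groth.Agent.CastLib
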