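import Groth.Agent.NormalSch.Basic
import Mathlib

/-!
# Going down for finite surjective morphisms to normal integral schemes
-/

set_option autoImplicit false

universe u

open CategoryTheory AlgebraicGeometry TopologicalSpace Opposite

namespace Groth.Agent.CastLib.FinGoing

/-- Generisations lift along an integral surjective morphism of integral schemes with normal target. -/
theorem generalizingMap_of_normal {X Y : Scheme.{u}} [IsIntegral X] [IsIntegral Y] (f : X ⟶ Y)
    [IsFinite f] [Surjective f] (hY : Pi1.IsNormalScheme Y) : GeneralizingMap f.base := by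
  intro x y' hy'
  obtain ⟨V, hV, hxV, -⟩ :=
    exists_isAffineOpen_mem_and_subset (X := Y) (x := f.base x) (U := ⊤) trivial
  have hy'V : y' ∈ V := hy'.mem_open V.isOpen hxV
  have hU : IsAffineOpen (f ⁻¹ᵁ V) := hV.preimage f
  haveI : Nonempty V := ⟨⟨_, hxV⟩⟩
  haveI : Nonempty (f ⁻¹ᵁ V : X.Opens) := ⟨⟨x, hxV⟩⟩
  algebraize [(f.app V).hom]
  haveI : Module.Finite Γ(Y, V) Γ(X, f ⁻¹ᵁ V) := f.finite_app V hV
  haveI : IsIntegrallyClosed Γ(Y, V) := NormalSch.isIntegrallyClosed_section hY V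
  haveI : FaithfulSMul Γ(Y, V) Γ(X, f ⁻¹ᵁ V) :=
    (faithfulSMul_iff_algebraMap_injective _ _).mpr (by
      haveI : IsSchemeTheoreticallyDominant f := .of_isDominant f
      exact f.app_injective V)
  haveI : Algebra.HasGoingDown Γ(Y, V) Γ(X, f ⁻¹ᵁ V) := inferInstance
  have hcomm : ∀ p : Spec Γ(X, f ⁻¹ᵁ V),
      f.base (hU.fromSpec.base p) = hV.fromSpec.base ((Spec.map (f.app V)).base p) := by
    intro p
    rw [← Scheme.Hom.comp_apply, ← Scheme.Hom.comp_apply, Scheme.Hom.app_eq_appLE f,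
      IsAffineOpen.SpecMap_appLE_fromSpec f hV hU]
  have hgen : GeneralizingMap (PrimeSpectrum.comap (algebraMap Γ(Y, V) Γ(X, f ⁻¹ᵁ V))) :=
    Algebra.HasGoingDown.iff_generalizingMap_primeSpectrumComap.mp this
  obtain ⟨p, hp⟩ : x ∈ Set.range hU.fromSpec.base := by rw [hU.range_fromSpec]; exact hxV
  obtain ⟨q', hq'⟩ : y' ∈ Set.range hV.fromSpec.base := by rw [hV.range_fromSpec]; exact hy'V
  have hspec : q' ⤳ (Spec.map (f.app V)).base p := by
    rw [← hV.fromSpec.isOpenEmbedding.isInducing.specializes_iff, hq', ← hcomm, hp]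
    exact hy'
  obtain ⟨p', hp', hpq⟩ := hgen hspec
  refine ⟨hU.fromSpec.base p', ?_, ?_⟩
  · rw [← hp]
    exact hp'.map hU.fromSpec.continuous
  · rw [hcomm, ← hq']
    exact congrArg hV.fromSpec.base hpq

end Groth.Agent.CastLib.FinGoing
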