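import Groth.Agent.CastLib.FieldChain

/-!
# The fundamental divisor has a field of global functions
-/

set_option autoImplicit false
set_option backward.isDefEq.respectTransparency false
set_option linter.style.haveILetI false
set_option maxHeartbeats 1000000

universe u

open CategoryTheory CategoryTheory.Limits AlgebraicGeometry TopologicalSpace IsLocalRing

noncomputable section

namespace Groth.Agent.CastLib

variable {R : Type u} [CommRing R] [IsDomain R] [IsDiscreteValuationRing R]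
variable {X : Over (Spec (CommRingCat.of R))}

theorem VSurf.fieldFin_step (h : VSurf X) {r : ℕ} {Γ : Fin r → ArSurf.VertComp R X} {L : Fin r → X.left.Modules}
    (hL : ∀ i, ClSub.IsInverseOf (L i) (ClSub.idealMod (Γ i).ι.ker)) {a : Fin r → ℕ} {i : Fin r}
    (hi : 0 < ∑ l, (a l : ℤ) * ArSurf.inter R X (L l) (Γ i))
    (ha : FieldFin (∏ j, (Γ j).ι.ker ^ a j)) :
    FieldFin (∏ j, (Γ j).ι.ker ^ (a + Pi.single i 1 : Fin r → ℕ) j) := by
  haveI := h.proper
  have hJ := fun j => h.isEffCartier_ker (Γ j)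
  have heq : ∏ j, (Γ j).ι.ker ^ (a + Pi.single i 1 : Fin r → ℕ) j = (Γ i).ι.ker * ∏ j, (Γ j).ι.ker ^ a j := by
    simp only [Pi.add_apply, pow_add, Finset.prod_mul_distrib]
    rw [mul_comm, Finset.prod_eq_single i]
    · rw [Pi.single_eq_same, pow_one]
    · exact fun j _ hj => by rw [Pi.single_eq_of_ne hj, pow_zero]
    · exact fun h => absurd (Finset.mem_univ i) h
  rw [heq]
  exact FieldFin.of_injective _ ha (injective_inclusion_peel (Γ i) (mk_idealMod_prod _ hJ a Finset.univ).1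
    (by rw [inter_idealMod_prod hJ L hL a (Γ i)]; omega))

theorem VSurf.isField_fundamental (h : VSurf X) {r : ℕ} {Γ : Fin r → ArSurf.VertComp R X}
    (hinj : Function.Injective fun i => Set.range (Γ i).ι)
    (hconn : _root_.IsConnected (⋃ i, Set.range (Γ i).ι)) {L : Fin r → X.left.Modules}
    (hL : ∀ i, ClSub.IsInverseOf (L i) (ClSub.idealMod (Γ i).ι.ker)) (z : Fin r → ℕ) (hz1 : ∀ i, 1 ≤ z i)
    (hz : ∀ i, ∑ j, (z j : ℤ) * ArSurf.inter R X (L j) (Γ i) ≤ 0)
    (hmin : ∀ z' : Fin r → ℕ, (∀ i, 1 ≤ z' i) → (∀ i, ∑ j, (z' j : ℤ) * ArSurf.inter R X (L j) (Γ i) ≤ 0) →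
      ∀ i, z i ≤ z' i) :
    IsField ↑(Γ((∏ j, (Γ j).ι.ker ^ z j).subscheme, ⊤)) := by
  classical
  haveI := h.proper
  obtain ⟨x, hx⟩ := hconn.nonempty
  obtain ⟨i₀, -⟩ := Set.mem_iUnion.1 hx
  have hA0 : ∀ i l, i ≠ l → 0 ≤ ArSurf.inter R X (L l) (Γ i) := fun i l hil =>
    (h.inter_nonneg_of_ne (fun e => hil (hinj e)) (hL l)).1
  have hfind : ∀ a : Fin r → ℕ, (∀ i, a i ≤ z i) → a ≠ z → (∃ i, a i ≠ 0) →
      ∃ i, a i < z i ∧ 0 < ∑ l, (a l : ℤ) * ArSurf.inter R X (L l) (Γ i) := by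
    intro a haz hne ⟨i₁, hi₁⟩
    obtain ⟨i, hi⟩ : ∃ i, 0 < ∑ l, (a l : ℤ) * ArSurf.inter R X (L l) (Γ i) := by
      by_contra hall
      push Not at hall
      by_cases ha1 : ∀ i, 1 ≤ a i
      · exact hne (funext fun i => le_antisymm (haz i) (hmin a ha1 hall i))
      · push Not at ha1
        obtain ⟨j₁, hj₁⟩ := ha1
        let U : Set X.left := ⋃ i ∈ {i | a i ≠ 0}, Set.range (Γ i).ι
        let V : Set X.left := ⋃ i ∈ {i | a i = 0}, Set.range (Γ i).ι
        obtain ⟨y, -, hyU, hyV⟩ := (isPreconnected_closed_iff.1 hconn.isPreconnected) U V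
          ((Set.toFinite _).isClosed_biUnion fun i _ => (Γ i).ι.isClosedEmbedding.isClosed_range)
          ((Set.toFinite _).isClosed_biUnion fun i _ => (Γ i).ι.isClosedEmbedding.isClosed_range)
          (fun y hy => by
            obtain ⟨i, hi⟩ := Set.mem_iUnion.1 hy
            by_cases hai : a i = 0
            · exact Or.inr (Set.mem_biUnion (show i ∈ {i | a i = 0} from hai) hi)
            · exact Or.inl (Set.mem_biUnion (show i ∈ {i | a i ≠ 0} from hai) hi))
          ⟨Models.genPtOf R X (Γ i₁), Set.mem_iUnion.2 ⟨i₁, _, rfl⟩,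
            Set.mem_biUnion (show i₁ ∈ {i | a i ≠ 0} from hi₁) ⟨_, rfl⟩⟩
          ⟨Models.genPtOf R X (Γ j₁), Set.mem_iUnion.2 ⟨j₁, _, rfl⟩,
            Set.mem_biUnion (show j₁ ∈ {i | a i = 0} by show a j₁ = 0; omega) ⟨_, rfl⟩⟩
        simp only [U, V, Set.mem_iUnion, exists_prop, Set.mem_setOf_eq] at hyU hyV
        obtain ⟨l, hl, hyl⟩ := hyU
        obtain ⟨j, hj, hyj⟩ := hyV
        have hjl : j ≠ l := fun e => hl (e ▸ hj)
        have hnn : ∀ l ∈ (Finset.univ : Finset (Fin r)), 0 ≤ (a l : ℤ) * ArSurf.inter R X (L l) (Γ j) := fun l _ => by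
          by_cases hlj : j = l
          · subst hlj; rw [hj]; simp
          · exact mul_nonneg (Int.natCast_nonneg _) (hA0 j l hlj)
        have h1 := (Finset.single_le_sum hnn (Finset.mem_univ l)).trans (hall j)
        obtain ⟨hA, hA'⟩ := h.inter_nonneg_of_ne (Γ₁ := Γ j) (fun e => hjl (hinj e)) (hL l)
        have hpos : 0 < ArSurf.inter R X (L l) (Γ j) :=
          lt_of_le_of_ne hA fun e => Set.disjoint_left.1 (hA'.1 e.symm) hyj hyl
        have : 0 < (a l : ℤ) * ArSurf.inter R X (L l) (Γ j) := mul_pos (by omega) hpos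
        omega
    refine ⟨i, lt_of_le_of_ne (haz i) fun he => ?_, hi⟩
    have hle : ∑ l, (a l : ℤ) * ArSurf.inter R X (L l) (Γ i) ≤ ∑ l, (z l : ℤ) * ArSurf.inter R X (L l) (Γ i) :=
      Finset.sum_le_sum fun l _ => by
        by_cases hil : i = l
        · subst hil; rw [he]
        · exact mul_le_mul_of_nonneg_right (by exact_mod_cast haz l) (hA0 i l hil)
    have := hz i
    omega
  have key : ∀ k, ∀ a : Fin r → ℕ, (∀ i, a i ≤ z i) → (∃ i, a i ≠ 0) → ∑ i, (z i - a i) = k →
      FieldFin (∏ i, (Γ i).ι.ker ^ a i) → FieldFin (∏ i, (Γ i).ι.ker ^ z i) := by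
    intro k
    induction k with
    | zero =>
      intro a haz _ hsum hF
      rwa [show a = z from funext fun i => le_antisymm (haz i)
        (Nat.sub_eq_zero_iff_le.1 (Finset.sum_eq_zero_iff.1 hsum i (Finset.mem_univ i)))] at hF
    | succ k ih =>
      intro a haz hne0 hsum hF
      have hne : a ≠ z := fun e => by simp [e] at hsum
      obtain ⟨i, hit, hpos⟩ := hfind a haz hne hne0
      refine ih (a + Pi.single i 1) (fun l => ?_) ⟨i, by simp⟩ ?_ (h.fieldFin_step hL hpos hF)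
      · by_cases hl : l = i
        · subst hl; simp only [Pi.add_apply, Pi.single_eq_same]; omega
        · simp only [Pi.add_apply, Pi.single_eq_of_ne hl, add_zero]; exact haz l
      · rw [← Finset.sum_erase_add _ _ (Finset.mem_univ i)] at hsum ⊢
        rw [Finset.sum_congr rfl fun l hl => by
          rw [Pi.add_apply, Pi.single_eq_of_ne (Finset.ne_of_mem_erase hl), add_zero]]
        simp only [Pi.add_apply, Pi.single_eq_same]
        omega
  refine (key _ (Pi.single i₀ 1) (fun l => ?_) ⟨i₀, by simp⟩ rfl ?_).1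
  · by_cases hl : l = i₀
    · subst hl; simpa using hz1 l
    · simp [hl]
  · have heq : ∏ i, (Γ i).ι.ker ^ (Pi.single i₀ 1 : Fin r → ℕ) i = (Γ i₀).ι.ker := by
      rw [Finset.prod_eq_single i₀]
      · rw [Pi.single_eq_same, pow_one]
      · exact fun j _ hj => by rw [Pi.single_eq_of_ne hj, pow_zero]
      · exact fun h => absurd (Finset.mem_univ i₀) h
    rw [heq]
    exact fieldFin_ker (Γ i₀)

end Groth.Agent.CastLib
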