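import Groth.Agent.CastLib.FieldConst
import Groth.Agent.InjHullLib.BaseChange
import Groth.Agent.IdealStalkLib.Cartier
import Groth.Agent.S12708

/-!
# Multiplicities on the geometric closed fibre
-/

set_option autoImplicit false
set_option backward.isDefEq.respectTransparency false
set_option backward.isDefEq.respectTransparency.types false
set_option linter.style.haveILetI false
set_option maxHeartbeats 1000000

universe u

open CategoryTheory CategoryTheory.Limits AlgebraicGeometry TopologicalSpace IsLocalRing TensorProduct IntMult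

noncomputable section

namespace Groth.Agent.CastLib

/-- The length of the local ring below a point of a flat morphism divides the length above. -/
theorem length_stalk_dvd {Y Z : Scheme.{u}} (g : Y ⟶ Z) [Flat g] (y : Y)
    (h : Module.length (Z.presheaf.stalk (g y)) (Z.presheaf.stalk (g y)) ≠ ⊤) :
    (Module.length (Z.presheaf.stalk (g y)) (Z.presheaf.stalk (g y))).toNat ∣
      (Module.length (Y.presheaf.stalk y) (Y.presheaf.stalk y)).toNat := by
  letI : Algebra (Z.presheaf.stalk (g y)) (Y.presheaf.stalk y) := (g.stalkMap y).hom.toAlgebra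
  haveI : Module.Flat (Z.presheaf.stalk (g y)) (Y.presheaf.stalk y) := Flat.stalkMap g y
  have h2 := InjHullLib.length_baseChange (Y.presheaf.stalk y) (M := Z.presheaf.stalk (g y))
    (Module.length_ne_top_iff.1 h)
  rw [(Algebra.TensorProduct.rid (Z.presheaf.stalk (g y)) (Y.presheaf.stalk y)
    (Y.presheaf.stalk y)).toLinearEquiv.length_eq] at h2
  rw [h2, ENat.toNat_mul]
  exact dvd_mul_right _ _

/-- Isomorphisms preserve the lengths of local rings. -/
theorem length_stalk_iso {Y Z : Scheme.{u}} (e : Y ≅ Z) (y : Y) :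
    Module.length (Y.presheaf.stalk y) (Y.presheaf.stalk y) =
      Module.length (Z.presheaf.stalk (e.hom y)) (Z.presheaf.stalk (e.hom y)) := by
  let r := (CategoryTheory.asIso (e.hom.stalkMap y)).commRingCatIsoToRingEquiv
  letI : Algebra (Z.presheaf.stalk (e.hom y)) (Y.presheaf.stalk y) := r.toRingHom.toAlgebra
  rw [← Module.length_eq_of_surjective (R := Y.presheaf.stalk y) (S := Z.presheaf.stalk (e.hom y))
    (M := Y.presheaf.stalk y) r.surjective]
  exact (LinearEquiv.ofBijective (Algebra.linearMap (Z.presheaf.stalk (e.hom y)) (Y.presheaf.stalk y))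
    r.bijective).length_eq.symm

/-- The local ring of a closed subscheme has the length of the quotient. -/
theorem length_stalk_subscheme {Y : Scheme.{u}} (I : Y.IdealSheafData) (w : I.subscheme) :
    Module.length (I.subscheme.presheaf.stalk w) (I.subscheme.presheaf.stalk w) =
      Module.length (Y.presheaf.stalk (I.subschemeι w))
        (Y.presheaf.stalk (I.subschemeι w) ⧸ stalkIdeal I (I.subschemeι w)) := by
  let φ := (I.subschemeι.stalkMap w).hom
  letI : Algebra (Y.presheaf.stalk (I.subschemeι w)) (I.subscheme.presheaf.stalk w) := φ.toAlgebra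
  have hs : Function.Surjective φ := I.subschemeι.stalkMap_surjective w
  rw [← Module.length_eq_of_surjective (R := I.subscheme.presheaf.stalk w)
    (S := Y.presheaf.stalk (I.subschemeι w)) (M := I.subscheme.presheaf.stalk w) hs]
  refine ((Submodule.quotEquivOfEq _ _ ?_).trans
    ((Algebra.linearMap (Y.presheaf.stalk (I.subschemeι w)) (I.subscheme.presheaf.stalk w)).quotKerEquivOfSurjective
      hs)).length_eq.symm
  rw [← IdealStalkLib.ker_stalkMap_subschemeι I w]
  rfl

variable {R : Type u} [CommRing R] [IsDomain R] [IsDiscreteValuationRing R]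
variable {X : Over (Spec (CommRingCat.of R))}

/-- The ideal of the closed fibre at a point. -/
theorem stalkIdeal_fibre (ξ : X.left) :
    stalkIdeal (Models.specialFibreIdeal R X) ξ = (maximalIdeal R).map (Models.stalkHom R X ξ) := by
  obtain ⟨π, hπ⟩ := IsDiscreteValuationRing.exists_irreducible R
  rw [Models.specialFibreIdeal, hπ.maximalIdeal_eq, SurfPtBlow.stalkIdeal_comap_principal X.hom π ξ,
    Ideal.map_span, Set.image_singleton]
  rfl

/-- A finite local algebra over an algebraically closed field has length its dimension. -/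
theorem length_eq_finrank_of_isAlgClosed (Ω A : Type u) [Field Ω] [IsAlgClosed Ω] [CommRing A] [Algebra Ω A]
    [Module.Finite Ω A] [IsLocalRing A] : Module.length A A = (Module.finrank Ω A : ℕ∞) := by
  let k := A ⧸ maximalIdeal A
  letI : Field k := Ideal.Quotient.field _
  haveI : Module.Finite Ω k := Module.Finite.of_surjective (Ideal.Quotient.mkₐ Ω (maximalIdeal A)).toLinearMap
    Ideal.Quotient.mk_surjective
  have hb := IsAlgClosed.algebraMap_bijective_of_isIntegral (k := Ω) (K := k)
  have h := Groth.Agent.S12708.result (Λ := Ω) (k := k) A Ideal.Quotient.mk_surjective A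
  rw [← (LinearEquiv.ofBijective (Algebra.linearMap Ω k) hb).length_eq, Module.length_eq_finrank Ω Ω,
    Module.finrank_self, Nat.cast_one, one_mul] at h
  rw [h, Module.length_eq_finrank]

/-- **Geometric multiplicities without common factor.** -/
theorem bijective_residueField_of_geom_gcd_one {X : Scheme.{u}} (f : X ⟶ Spec (CommRingCat.of R)) [IsProper f]
    [Flat f] [IsIntegral X] (hreg : ∀ x : X, IsRegularLocalRing (X.presheaf.stalk x))
    (hdim : topologicalKrullDim X = 2)
    (hconn : ∀ (K : Type u) [Field K] [Algebra (ResidueField R) K],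
      ConnectedSpace ↥(pullback f (Spec.map (CommRingCat.ofHom
        ((algebraMap (ResidueField R) K).comp (IsLocalRing.residue R))))))
    (hd : ∀ ℓ : ℕ, ℓ.Prime → ∃ x : ↥(pullback f (Spec.map (CommRingCat.ofHom
        ((algebraMap (ResidueField R) (AlgebraicClosure (ResidueField R))).comp (IsLocalRing.residue R))))),
      (∀ y, y ⤳ x → y = x) ∧ ¬ (ℓ ∣ (Module.length
        ((pullback f (Spec.map (CommRingCat.ofHom ((algebraMap (ResidueField R)
          (AlgebraicClosure (ResidueField R))).comp (IsLocalRing.residue R))))).presheaf.stalk x)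
        ((pullback f (Spec.map (CommRingCat.ofHom ((algebraMap (ResidueField R)
          (AlgebraicClosure (ResidueField R))).comp (IsLocalRing.residue R))))).presheaf.stalk x)).toNat)) :
    Function.Bijective
      (pullback.snd f (Spec.map (CommRingCat.ofHom (IsLocalRing.residue R)))).appTop.hom := by
  classical
  haveI : IsLocallyNoetherian X := LocallyOfFiniteType.isLocallyNoetherian f
  haveI : CompactSpace X := QuasiCompact.compactSpace_of_compactSpace f
  haveI : AlgebraicGeometry.IsNoetherian X := {}
  let XX : Over (Spec (CommRingCat.of R)) := Over.mk f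
  haveI : IsIntegral XX.left := ‹IsIntegral X›
  haveI : AlgebraicGeometry.IsNoetherian XX.left := ‹AlgebraicGeometry.IsNoetherian X›
  have hV : VSurf XX := ⟨⟨hreg, ‹_›, ‹_›, ‹_›⟩, ‹_›, hdim.le⟩
  let k := ResidueField R
  let Ω := AlgebraicClosure k
  let s := Spec.map (CommRingCat.ofHom (IsLocalRing.residue R))
  let o := Spec.map (CommRingCat.ofHom (algebraMap k Ω))
  let J := Models.specialFibreIdeal R XX
  let W := J.subscheme
  let ι : W ⟶ X := J.subschemeι
  obtain ⟨z, hz⟩ := exists_fibre_structure XX
  change IsPullback ι z f s at hz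
  -- the geometric fibre over the closed fibre
  have hos : o ≫ s = Spec.map (CommRingCat.ofHom ((algebraMap k Ω).comp (IsLocalRing.residue R))) := by
    rw [← Spec.map_comp]; rfl
  have hbig : IsPullback (pullback.fst z o ≫ ι) (pullback.snd z o) f
      (Spec.map (CommRingCat.ofHom ((algebraMap k Ω).comp (IsLocalRing.residue R)))) :=
    hos ▸ (IsPullback.of_hasPullback z o).paste_horiz hz
  let e := hbig.isoPullback
  have hmult : ∀ x : ↥(pullback z o), (∀ y, y ⤳ x → y = x) →
      (∀ w, w ⤳ pullback.fst z o x → w = pullback.fst z o x) := fun x hx w hw => by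
    obtain ⟨y, hy, hyw⟩ := Flat.generalizingMap (pullback.fst z o) hw
    rw [← hyw, hx y hy]
  -- connectedness
  have hconn' : _root_.IsPreconnected (Models.specialFibreSet R XX) := by
    haveI := hconn k
    haveI : ConnectedSpace W := by
      have h1 : IsPullback ι z f (Spec.map (CommRingCat.ofHom ((algebraMap k k).comp (IsLocalRing.residue R)))) := hz
      exact h1.isoPullback.inv.surjective.connectedSpace h1.isoPullback.inv.continuous
    have hr : Set.range ι = Models.specialFibreSet R XX := by
      rw [Scheme.IdealSheafData.range_subschemeι]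
      exact Set.ext fun x => FibreGood.mem_fibre (X := XX)
    rw [← hr]
    exact isPreconnected_range ι.continuous
  obtain ⟨n, Γ, hΓ⟩ := hV.exists_componentList hdim hconn'
  obtain ⟨hco, -, hall⟩ := hV.toFibreGood.componentList hΓ
  have hgcd : Models.multGcd R XX Γ = 1 := by
    by_contra hne
    obtain ⟨ℓ, hℓ, hdvd⟩ := Nat.exists_prime_and_dvd hne
    obtain ⟨x₀, hx₀, hndvd⟩ := hd ℓ hℓ
    let x := e.inv x₀
    have hex : e.hom x = x₀ := by
      show e.hom (e.inv x₀) = x₀
      rw [← Scheme.Hom.comp_apply, e.inv_hom_id]; rfl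
    have hx : ∀ y, y ⤳ x → y = x := fun y hy => e.hom.isClosedEmbedding.injective
      (by rw [hex]; exact hx₀ _ (hex ▸ hy.map e.hom.continuous))
    let w := pullback.fst z o x
    have hξF : ι w ∈ (SurfPtBlow.fibreIdeal f).support := J.range_subschemeι.le ⟨w, rfl⟩
    have h1 : Order.coheight (ι w) = 1 := coheight_eq_one_of_maximal hV.toFibreGood.isEffCartier_fibre hξF
      fun ζ hζ hsp => by
        obtain ⟨w', hw'⟩ : ζ ∈ Set.range ι := J.range_subschemeι.ge hζ
        subst hw'
        rw [hmult x hx w' ((ι.isClosedEmbedding.isInducing.specializes_iff).1 hsp)]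
    obtain ⟨i, hi⟩ := hall (ι w) ((FibreGood.mem_fibre (X := XX)).1 hξF) h1
    have hlen : Module.length (W.presheaf.stalk w) (W.presheaf.stalk w) ≠ ⊤ ∧
        (Module.length (W.presheaf.stalk w) (W.presheaf.stalk w)).toNat = Models.mult R XX (Γ i) := by
      have hm : (Module.length (W.presheaf.stalk w) (W.presheaf.stalk w)).toNat = Models.mult R XX (Γ i) := by
        rw [length_stalk_subscheme J w, stalkIdeal_fibre (X := XX), Models.mult, hi]
        rfl
      refine ⟨fun htop => ?_, hm⟩
      rw [htop, ENat.toNat_top] at hm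
      exact (hV.mult_pos hΓ i).ne hm
    refine hndvd ?_
    rw [← hex, ← length_stalk_iso e x]
    exact (hdvd.trans (Finset.gcd_dvd (Finset.mem_univ i))).trans
      (hlen.2 ▸ length_stalk_dvd (pullback.fst z o) x hlen.1)
  have hF := hV.fieldFin_fibre hconn' hΓ hgcd
  letI : Field Γ(W, ⊤) := hF.1.toField
  let φ : k →+* Γ(W, ⊤) := Coh.toGlobal z
  letI : Algebra k Γ(W, ⊤) := φ.toAlgebra
  letI : Algebra R Γ(W, ⊤) := (φ.comp (IsLocalRing.residue R)).toAlgebra
  haveI : IsScalarTower R k Γ(W, ⊤) := IsScalarTower.of_algebraMap_eq fun r => rfl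
  haveI : Module.Finite R Γ(W, ⊤) := by
    have h : ((ι ≫ f).appTop.hom.comp (Scheme.ΓSpecIso (CommRingCat.of R)).inv.hom) = φ.comp (IsLocalRing.residue R) :=
      RingHom.ext fun r => toGlobal_w hz.w r
    have h2 := hF.2
    rw [show (J.subschemeι ≫ XX.hom).appTop.hom.comp (Scheme.ΓSpecIso (CommRingCat.of R)).inv.hom = _ from h] at h2
    exact h2
  haveI : FiniteDimensional k Γ(W, ⊤) := Module.Finite.of_restrictScalars_finite R k _
  let t : W ⟶ Spec (CommRingCat.of Γ(W, ⊤)) := W.toSpecΓ
  let sF : Spec (CommRingCat.of Γ(W, ⊤)) ⟶ Spec (CommRingCat.of k) := Spec.map (CommRingCat.ofHom (algebraMap k Γ(W, ⊤)))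
  haveI : Subsingleton (Spec (CommRingCat.of Γ(W, ⊤))) :=
    inferInstanceAs (Subsingleton (PrimeSpectrum Γ(W, ⊤)))
  haveI : IsIntegral (Spec (CommRingCat.of Γ(W, ⊤))) := inferInstance
  haveI : Nonempty W := by
    by_contra h
    rw [not_nonempty_iff] at h
    exact zero_ne_one (α := Γ(W, ⊤)) (Subsingleton.elim _ _)
  haveI : Surjective t := ⟨fun y => ⟨Classical.arbitrary W, Subsingleton.elim _ _⟩⟩
  have hts : t ≫ sF = z := by
    refine ext_of_isAffine ?_
    have h1 : CommRingCat.ofHom (algebraMap k Γ(W, ⊤)) =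
        (Scheme.ΓSpecIso (CommRingCat.of k)).inv ≫ z.appTop := by ext a; rfl
    show (W.toSpecΓ ≫ Spec.map (CommRingCat.ofHom (algebraMap k Γ(W, ⊤)))).appTop = z.appTop
    rw [h1, Scheme.Hom.comp_appTop, Scheme.toSpecΓ_appTop, Scheme.ΓSpecIso_naturality, Iso.hom_inv_id_assoc]
  let e₂ : pullback t (pullback.fst sF o) ≅ pullback z o :=
    pullbackRightPullbackFstIso sF o t ≪≫ pullback.congrHom hts (rfl : o = o)
  haveI : ConnectedSpace ↥(pullback (t ≫ sF) o) := by
    haveI : ConnectedSpace ↥(pullback z o) := by
      haveI := hconn Ω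
      exact e.inv.surjective.connectedSpace e.inv.continuous
    exact (pullback.congrHom hts (rfl : o = o)).inv.surjective.connectedSpace
      (pullback.congrHom hts (rfl : o = o)).inv.continuous
  haveI : IsLocalRing (Ω ⊗[k] Γ(W, ⊤)) := isLocalRing_tensor_of_connected t
  let D := Ω ⊗[k] Γ(W, ⊤)
  haveI : IsArtinianRing D := isArtinian_of_tower Ω inferInstance
  haveI : Subsingleton (PrimeSpectrum D) := by
    refine ⟨fun P Q => PrimeSpectrum.ext ?_⟩
    rw [IsLocalRing.eq_maximalIdeal (IsArtinianRing.isMaximal_of_isPrime P.asIdeal),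
      IsLocalRing.eq_maximalIdeal (IsArtinianRing.isMaximal_of_isPrime Q.asIdeal)]
  let g : pullback t (pullback.fst sF o) ⟶ Spec (CommRingCat.of D) :=
    pullback.snd t (pullback.fst sF o) ≫ (pullbackSymmetry sF o).hom ≫ (pullbackSpecIso k Ω Γ(W, ⊤)).hom
  haveI : Flat g := inferInstance
  have hfin : Module.finrank k Γ(W, ⊤) = 1 := by
    by_contra hne
    obtain ⟨ℓ, hℓ, hdvd⟩ := Nat.exists_prime_and_dvd hne
    obtain ⟨x₀, -, hndvd⟩ := hd ℓ hℓ
    let y := e₂.inv (e.inv x₀)
    have hy : g y = IsLocalRing.closedPoint D := Subsingleton.elim (α := PrimeSpectrum D) _ _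
    have hlen : Module.length ((Spec (CommRingCat.of D)).presheaf.stalk (g y))
        ((Spec (CommRingCat.of D)).presheaf.stalk (g y)) = (Module.finrank k Γ(W, ⊤) : ℕ∞) := by
      rw [hy]
      let r := (stalkClosedPointIso (CommRingCat.of D)).commRingCatIsoToRingEquiv
      letI : Algebra ((Spec (CommRingCat.of D)).presheaf.stalk (IsLocalRing.closedPoint D)) D := r.toRingHom.toAlgebra
      rw [(LinearEquiv.ofBijective (Algebra.linearMap
          ((Spec (CommRingCat.of D)).presheaf.stalk (IsLocalRing.closedPoint D)) D) r.bijective).length_eq,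
        Module.length_eq_of_surjective (R := D) (M := D) r.surjective, length_eq_finrank_of_isAlgClosed Ω D]
      congr 1
      rw [Module.finrank_tensorProduct, Module.finrank_self, one_mul]
    refine hndvd (hdvd.trans ?_)
    have hdv := length_stalk_dvd g y (by rw [hlen]; exact ENat.natCast_ne_top _)
    rw [hlen, ENat.toNat_natCast, length_stalk_iso e₂ y, length_stalk_iso e (e₂.hom y)] at hdv
    rwa [show e₂.hom y = e.inv x₀ by
        show e₂.hom (e₂.inv _) = _; rw [← Scheme.Hom.comp_apply, e₂.inv_hom_id]; rfl,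
      show e.hom (e.inv x₀) = x₀ by rw [← Scheme.Hom.comp_apply, e.inv_hom_id]; rfl] at hdv
  have hb : Function.Bijective (algebraMap k Γ(W, ⊤)) := by
    refine ⟨(algebraMap k Γ(W, ⊤)).injective, ?_⟩
    exact ((Algebra.linearMap k Γ(W, ⊤)).injective_iff_surjective_of_finrank_eq_finrank
      (by rw [Module.finrank_self, hfin])).1 (algebraMap k Γ(W, ⊤)).injective
  have hzb : Function.Bijective z.appTop := by
    have h1 : ⇑(algebraMap k Γ(W, ⊤)) = ⇑z.appTop ∘ ⇑(Scheme.ΓSpecIso (CommRingCat.of k)).inv := rfl
    rw [h1] at hb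
    exact (Function.Bijective.of_comp_iff _ (ConcreteCategory.bijective_of_isIso _)).1 hb
  have hsnd : pullback.snd f s = hz.isoPullback.inv ≫ z := (hz.isoPullback_inv_snd).symm
  show Function.Bijective (pullback.snd f s).appTop
  rw [hsnd, Scheme.Hom.comp_appTop]
  exact (ConcreteCategory.bijective_of_isIso hz.isoPullback.inv.appTop).comp hzb

end Groth.Agent.CastLib
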