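import Groth.Agent.CastLib.GlobalMeet
import Groth.Agent.HLocLib.Main
import Groth.Agent.DCohLib.Restrict
import Groth.Agent.SurfPtBlow.DvrMinimal
import Groth.Agent.SurfPtBlow.RelMin

/-!
# Relatively minimal surfaces with torsion-free-rank positive `H¹` receive all maps
-/

set_option autoImplicit false
set_option backward.isDefEq.respectTransparency false
set_option linter.style.haveILetI false
set_option maxHeartbeats 1000000

universe u

open CategoryTheory CategoryTheory.Limits AlgebraicGeometry TopologicalSpace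
open Groth.Agent.TwistShriek Groth.Agent.TwistShriek.PointBlow

noncomputable section

namespace Groth.Agent.CastLib

open Groth.Agent.SurfPtBlow

/-- Birational proper morphisms onto normal schemes reflect vanishing of `H¹`. -/
theorem subsingleton_H1_of_birational {Z X : Scheme.{u}} [IsIntegral X] [IsIntegral Z]
    (hX : ∀ x : X, IsIntegrallyClosed (X.presheaf.stalk x)) (g : Z ⟶ X) [IsProper g]
    (hg : ∃ V : X.Opens, (V : Set X).Nonempty ∧ IsIso (g ∣_ V))
    (hs : Subsingleton (Coh.HH Z (Coh.structureModule Z) 1)) :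
    Subsingleton (Coh.HH X (Coh.structureModule X) 1) := by
  haveI := isIso_unitToPush g hg hX
  haveI := hs
  let u := (SheafOfModules.toSheaf X.ringCatSheaf).map (ClSub.unitToPush g)
  have hsub : Subsingleton (Sheaf.H ((CohTop.push g.base).obj (Coh.toAb (Coh.structureModule Z))) 1) :=
    (injective_edgeH_one g.base (Coh.toAb (Coh.structureModule Z))).subsingleton
  have hinj : Function.Injective (Sheaf.H.map u 1) := fun a b e => by
    have e' := congrArg (Sheaf.H.map (inv u) 1) e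
    rwa [← Sheaf.H.map_comp_apply, ← Sheaf.H.map_comp_apply,
      show Sheaf.H.map (u ≫ inv u) 1 = Sheaf.H.map (𝟙 _) 1 from congrArg (fun k => Sheaf.H.map k 1) (IsIso.hom_inv_id u),
      Sheaf.H.map_id_apply, Sheaf.H.map_id_apply] at e'
  exact @Function.Injective.subsingleton _ _ (Sheaf.H.map u 1) hinj hsub

/-- `H¹` is not torsion over the global functions. -/
def NT (Z : Scheme.{u}) : Prop :=
  ∀ t : Γ(Z, ⊤), t ≠ 0 → ¬ Subsingleton (Coh.HHon Z (Coh.structureModule Z) (Z.basicOpen t) 1)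

theorem not_NT_of_smul {Z : Scheme.{u}} [CompactSpace Z] [Z.IsSeparated] {t : Γ(Z, ⊤)} (ht : t ≠ 0)
    (h : ∀ x : Coh.HH Z (Coh.structureModule Z) 1, (show Coh.Γtop Z from t) • x = 0) : ¬ NT Z := fun hNT => by
  obtain ⟨ψ, hψ, hsurj, -⟩ := HLocLib.exists_locMap t (Coh.structureModule Z) 1
  refine hNT t ht (subsingleton_of_forall_eq 0 fun y => ?_)
  obtain ⟨n, x, hx⟩ := hsurj y
  have h1 := congrArg ψ (h x)
  rw [hψ, hx, map_zero, smul_smul, ← map_mul] at h1
  have hu : IsUnit (HLocLib.resFun (Z.basicOpen t) ((show Γ(Z, ⊤) from t) * t ^ n)) := by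
    rw [← pow_succ', map_pow]
    exact (HLocLib.isUnit_resFun t).pow _
  exact hu.smul_eq_zero.1 h1

/-- Positive rank `H¹` passes to birational models. -/
theorem NT.of_birational {Z X : Scheme.{u}} [IsIntegral X] [IsIntegral Z]
    (hX : ∀ x : X, IsIntegrallyClosed (X.presheaf.stalk x)) (g : Z ⟶ X) [IsProper g]
    (hg : ∃ V : X.Opens, (V : Set X).Nonempty ∧ IsIso (g ∣_ V)) (h : NT X) : NT Z := by
  intro t ht hsub
  obtain ⟨t₀, ht₀⟩ := (bijective_app_of_normal g hg hX ⊤).2 t
  have ht₀0 : t₀ ≠ 0 := fun h0 => ht (by rw [← ht₀, h0, map_zero])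
  refine h t₀ ht₀0 ?_
  let U := X.basicOpen t₀
  have hU : g ⁻¹ᵁ U = Z.basicOpen t := by
    rw [Scheme.preimage_basicOpen, ← ht₀]
  rw [← hU] at hsub
  have hgenU : genericPoint X ∈ U := (Scheme.mem_basicOpen (U := ⊤) X t₀ (genericPoint X) trivial).2
    (isUnit_iff_ne_zero (G₀ := X.functionField).2 fun h0 => ht₀0
      (germ_injective_of_isIntegral X (U := ⊤) (genericPoint X) trivial (h0.trans (map_zero _).symm)))
  obtain ⟨V, hV, hVi⟩ := id hg
  obtain ⟨hgen, -⟩ := BirQFLib.birational_of_isIso_restrict g V hV hVi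
  haveI : Nonempty U.toScheme := ⟨⟨genericPoint X, hgenU⟩⟩
  haveI : Nonempty (g ⁻¹ᵁ U).toScheme := ⟨⟨genericPoint Z, show g (genericPoint Z) ∈ U from hgen.symm ▸ hgenU⟩⟩
  have hX' : ∀ x : U.toScheme, IsIntegrallyClosed (U.toScheme.presheaf.stalk x) := fun x => by
    haveI := hX x.1
    exact IsIntegrallyClosed.of_equiv (U.stalkIso x).commRingCatIsoToRingEquiv.symm
  have hbir : ∃ W : U.toScheme.Opens, (W : Set U.toScheme).Nonempty ∧ IsIso ((g ∣_ U) ∣_ W) := by
    refine ⟨U.ι ⁻¹ᵁ V, ⟨⟨genericPoint X, hgenU⟩,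
      show genericPoint X ∈ V from (genericPoint_specializes hV.some).mem_open V.2 hV.some_mem⟩, ?_⟩
    haveI := hVi
    haveI : IsIso (g ∣_ (U.ι ''ᵁ (U.ι ⁻¹ᵁ V))) := BMCohLib.isIso_restrict_le g
      (show U.ι ''ᵁ (U.ι ⁻¹ᵁ V) ≤ V from fun z ⟨w, hw, hwz⟩ => hwz ▸ hw)
    exact (MorphismProperty.arrow_mk_iso_iff (MorphismProperty.isomorphisms _)
      (morphismRestrictRestrict g U (U.ι ⁻¹ᵁ V))).2 ‹_›
  have h1 : Subsingleton (Coh.HH (g ⁻¹ᵁ U).toScheme (Coh.structureModule (g ⁻¹ᵁ U).toScheme) 1) :=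
    CurveLib.subsingleton_HH_iso (DCohLib.restrictUnit (g ⁻¹ᵁ U).ι) 1 hsub
  exact CurveLib.subsingleton_HH_iso (DCohLib.restrictUnit U.ι).symm 1
    (subsingleton_H1_of_birational hX' (g ∣_ U) hbir h1)

/-- A surface fibred over a Dedekind ring of functions with `H¹` of positive rank. -/
structure GoodTop (Z : Scheme.{u}) : Prop where
  ded : IsDedekindDomain Γ(Z, ⊤)
  notField : ¬ IsField Γ(Z, ⊤)
  nt : NT Z

theorem isDedekindDomain_of_ringEquiv {A B : Type u} [CommRing A] [CommRing B] (e : A ≃+* B) [IsDedekindDomain A] :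
    IsDedekindDomain B := by
  haveI : IsDomain B := e.symm.toMulEquiv.isDomain A
  refine (isDedekindDomain_iff B (FractionRing B)).2 ⟨inferInstance, isNoetherianRing_of_ringEquiv A e, ⟨?_⟩, ?_⟩
  · intro P hP hPp
    haveI := hPp
    have h1 : P.comap e ≠ ⊥ := fun h => hP (Ideal.comap_injective_of_surjective e e.surjective
      (h.trans (Ideal.comap_bot_of_injective e e.injective).symm))
    haveI : (P.comap e).IsMaximal := (Ideal.IsPrime.comap e : (P.comap e).IsPrime).isMaximal h1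
    rw [← Ideal.map_comap_of_surjective e e.surjective P]
    exact Ideal.map_isMaximal_of_equiv e
  · haveI := IsIntegrallyClosed.of_equiv e
    exact fun {x} h => IsIntegrallyClosed.isIntegral_iff.1 h

theorem GoodTop.of_birational {Z X : Scheme.{u}} [IsIntegral X] [IsIntegral Z]
    (hX : ∀ x : X, IsIntegrallyClosed (X.presheaf.stalk x)) (g : Z ⟶ X) [IsProper g]
    (hg : ∃ V : X.Opens, (V : Set X).Nonempty ∧ IsIso (g ∣_ V)) (h : GoodTop X) : GoodTop Z := by
  let e : Γ(X, ⊤) ≃+* Γ(Z, ⊤) := RingEquiv.ofBijective (g.app ⊤).hom (bijective_app_of_normal g hg hX ⊤)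
  haveI := h.ded
  exact ⟨isDedekindDomain_of_ringEquiv e, fun hf => h.notField (e.toMulEquiv.isField hf),
    h.nt.of_birational hX g hg⟩

variable {A : Type u} [CommRing A]

theorem isProper_toSpecΓ_of_proper {Z : Scheme.{u}} (p : Z ⟶ Spec (CommRingCat.of A)) [IsProper p] :
    IsProper Z.toSpecΓ := by
  haveI : IsProper (Z.toSpecΓ ≫ Spec.map p.appTop ≫ (Spec (CommRingCat.of A)).isoSpec.inv) := by
    rw [← Scheme.toSpecΓ_naturality_assoc]
    simpa [Scheme.isoSpec] using ‹IsProper p›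
  exact IsProper.of_comp Z.toSpecΓ (Spec.map p.appTop ≫ (Spec (CommRingCat.of A)).isoSpec.inv)

/-- Exceptional lines on such surfaces are disjoint. -/
theorem disjoint_global {Z : Scheme.{u}} [IsIntegral Z] [AlgebraicGeometry.IsNoetherian Z]
    (p : Z ⟶ Spec (CommRingCat.of A)) [IsProper p] (h : GoodTop Z) {C₁ C₂ : Scheme.{u}} (ι₁ : C₁ ⟶ Z) (ι₂ : C₂ ⟶ Z)
    [IsClosedImmersion ι₁] [IsClosedImmersion ι₂]
    (h₁ : Models.IsExcCurve ι₁) (h₂ : Models.IsExcCurve ι₂) (hne : Set.range ι₁ ≠ Set.range ι₂) :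
    Disjoint (Set.range ι₁) (Set.range ι₂) := by
  obtain ⟨k₁, hk₁, j₁, hj₁, hr₁, hC₁, ⟨e₁⟩⟩ := exists_line ι₁ h₁
  obtain ⟨k₂, hk₂, j₂, hj₂, hr₂, hC₂, ⟨e₂⟩⟩ := exists_line ι₂ h₂
  haveI := hj₁
  haveI := hj₂
  rw [← hr₁, ← hr₂] at hne ⊢
  by_contra hmeet
  haveI := isProper_toSpecΓ_of_proper p
  haveI : IsSeparated p := inferInstance
  haveI : Z.IsSeparated := ⟨by
    rw [← terminal.comp_from p]
    infer_instance⟩
  haveI := h.ded
  obtain ⟨t, ht, hkill⟩ := exists_smul_eq_zero_of_meet h.notField j₁ j₂ hC₁ hC₂ e₁ e₂ hne hmeet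
  exact not_NT_of_smul ht hkill h.nt

/-- An exceptional curve not contracted by point blow-ups has exceptional image. -/
theorem exists_exc_global {Z W : Scheme.{u}} {q : Z ⟶ W} (hq : PtSeq q) [hWi : IsIntegral W]
    [hWn : AlgebraicGeometry.IsNoetherian W]
    (hreg : ∀ w : W, IsRegularLocalRing (W.presheaf.stalk w)) {g : W ⟶ Spec (CommRingCat.of A)} [hgp : IsProper g]
    (hg : GoodTop W) {C : Scheme.{u}} (ι : C ⟶ Z) [hι : IsClosedImmersion ι] (hE : Models.IsExcCurve ι)
    (hne : ∀ w, ∃ c, q (ι c) ≠ w) :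
    ∃ (C' : Scheme.{u}) (ι' : C' ⟶ W), IsClosedImmersion ι' ∧ Models.IsExcCurve ι' := by
  revert hWi hWn hreg g hgp hg ι hι hE hne
  induction hq with
  | refl W =>
    intro hWi hWn hreg g hgp hg ι hι hE hne
    exact ⟨C, ι, hι, hE⟩
  | @step Z Z₁ W b r z hz hzreg hd hb hr ih =>
    intro hWi hWn hreg g hgp hg ι hι hE hne
    obtain ⟨hint₁, hreg₁, hbir₁, -⟩ := hr.invariants hreg
    haveI := hint₁
    haveI := hr.isNoetherian.1
    haveI := hr.isNoetherian.2
    haveI := PointBlow.isProper hb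
    haveI := isNoetherian_blowUp hb
    obtain ⟨hint, hbirb⟩ := integral_blowUp hb hd
    haveI := hint
    obtain ⟨P⟩ := exists_pointParams hz hzreg hd
    have hgood : GoodTop Z :=
      (hg.of_birational (normal_of_regular hreg) r hbir₁).of_birational (normal_of_regular hreg₁) b hbirb
    have hrne : Set.range ι ≠ Set.range (jE b hz) := fun h => by
      obtain ⟨c, hc⟩ := hne (r z)
      refine hc ?_
      have hc' : b (ι c) = z := (range_jE_eq (π := b) (hw := hz)).le (h.le ⟨c, rfl⟩)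
      show r (b (ι c)) = r z
      rw [hc']
    have hdis : Disjoint (Set.range ι) (Set.range (jE b hz)) :=
      disjoint_global (b ≫ r ≫ g) hgood ι (jE b hz) hE (isExcCurve hb P) hrne
    let U : Z₁.Opens := ⟨{z}ᶜ, hz.isOpen_compl⟩
    haveI : IsIso (b ∣_ U) := isIso_restrict_compl hb U fun h => h rfl
    have hU : Set.range ι ⊆ b ⁻¹ᵁ U := by
      rintro _ ⟨c, rfl⟩ hcz
      exact Set.disjoint_left.1 hdis ⟨c, rfl⟩ ((range_jE_eq (π := b) (hw := hz)).ge hcz)
    obtain ⟨hci, hexc⟩ := exc_transport ι hE b U hU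
    exact ih hreg (g := g) hg (ι ≫ b) hexc (by simpa using hne)

variable {X : Scheme.{u}} [IsIntegral X] [AlgebraicGeometry.IsNoetherian X]

/-- Morphisms through point blow-ups descend to a surface without exceptional curves. -/
theorem exists_descend_global (hX : ∀ x : X, IsRegularLocalRing (X.presheaf.stalk x))
    (hdX : topologicalKrullDim X ≤ 2) {g : X ⟶ Spec (CommRingCat.of A)} [IsProper g] (hg : GoodTop X)
    (hexc : ∀ (C : Scheme.{u}) (ι : C ⟶ X) [IsClosedImmersion ι], ¬ Models.IsExcCurve ι)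
    {Z X' : Scheme.{u}} {p : Z ⟶ X'} (hp : PtSeq p) [hi : IsIntegral X'] [hn : AlgebraicGeometry.IsNoetherian X']
    [hZi : IsIntegral Z]
    (hX' : ∀ x : X', IsRegularLocalRing (X'.presheaf.stalk x)) {g' : X' ⟶ Spec (CommRingCat.of A)} [hgp : IsProper g']
    (hdZ : topologicalKrullDim Z ≤ 2) (q : Z ⟶ X) (hq : q ≫ g = p ≫ g') (hqgen : q (genericPoint Z) = genericPoint X)
    (hqst : IsIso (q.stalkMap (genericPoint Z))) :
    ∃ h : X' ⟶ X, h ≫ g = g' ∧ p ≫ h = q ∧ h (genericPoint X') = genericPoint X ∧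
      IsIso (h.stalkMap (genericPoint X')) := by
  revert hi hn hZi hX' g' hgp hdZ q hq hqgen hqst
  induction hp with
  | refl X' =>
    intro hi hn hZi hX' g' hgp hdZ q hq hqgen hqst
    exact ⟨q, by rwa [Category.id_comp] at hq, Category.id_comp q, hqgen, hqst⟩
  | @step Z Z₁ X' b r z hz hzreg hd hb hr ih =>
    intro hi hn hZi hX' g' hgp hdZ q hq hqgen hqst
    obtain ⟨hint₁, hreg₁, hbir₁, -⟩ := hr.invariants hX'
    haveI := hint₁
    haveI := hr.isNoetherian.1
    haveI := hr.isNoetherian.2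
    haveI := PointBlow.isProper hb
    haveI := isNoetherian_blowUp hb
    obtain ⟨-, hbirb⟩ := integral_blowUp hb hd
    obtain ⟨P⟩ := exists_pointParams hz hzreg hd
    have hq' : q ≫ g = b ≫ r ≫ g' := by rw [hq, Category.assoc]
    haveI : IsProper (q ≫ g) := hq' ▸ inferInstance
    haveI : IsProper q := IsProper.of_comp q g
    have hregZ := regular_blowUp hb hreg₁ hd
    have hqbir := exists_iso_open (normal_of_regular hX) q hqgen hqst
    -- the exceptional curve is contracted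
    have hconst : ∃ x, ∀ w, b w = z → q w = x := by
      by_contra hcon
      push Not at hcon
      have hne : ∀ x, ∃ c, q (jE b hz c) ≠ x := fun x => by
        obtain ⟨w, hw, hw'⟩ := hcon x
        obtain ⟨c, rfl⟩ := (range_jE_eq (π := b) (hw := hz)).ge hw
        exact ⟨c, hw'⟩
      rcases isIso_or_ptSeq hregZ hdZ _ hX hdX q hqbir le_rfl with h | h
      · haveI := h
        haveI : IsIso (q ∣_ ⊤) := inferInstance
        obtain ⟨hci, hexc'⟩ := exc_transport (jE b hz) (isExcCurve hb P) q ⊤ (fun _ _ => trivial)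
        exact hexc _ (jE b hz ≫ q) hexc'
      · obtain ⟨C', ι', hι', hexc'⟩ := exists_exc_global h hX (g := g) hg (jE b hz) (isExcCurve hb P) hne
        haveI := hι'
        exact hexc C' ι' hexc'
    obtain ⟨x, hx⟩ := hconst
    obtain ⟨q₁, hq₁, -⟩ := existsUnique_desc hb hzreg hd q x hx
    obtain ⟨hgen₁, hst₁⟩ := birational_snd b hbirb q q₁ hq₁ hqgen hqst
    have hq₁g : q₁ ≫ g = r ≫ g' := by
      obtain ⟨ψ, -, huniq⟩ := existsUnique_desc hb hzreg hd (b ≫ r ≫ g') (g' (r z))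
        fun w hw => by simp [hw]
      refine (huniq (q₁ ≫ g) ?_).trans (huniq (r ≫ g') rfl).symm
      show b ≫ q₁ ≫ g = b ≫ r ≫ g'
      rw [reassoc_of% hq₁, hq']
    obtain ⟨h, h1, h2, h3, h4⟩ := ih hX' ((topologicalKrullDim_le_of_isClosedMap b.continuous b.isClosedMap
      (surjective_of_birational b hbirb)).trans hdZ) q₁ hq₁g hgen₁ hst₁
    exact ⟨h, h1, by rw [Category.assoc, h2, hq₁], h3, h4⟩

/-- **Isomorphisms of generic points extend to morphisms into surfaces without exceptional curves.** -/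
theorem exists_extend_global (hX : ∀ x : X, IsRegularLocalRing (X.presheaf.stalk x))
    (hdX : topologicalKrullDim X ≤ 2) {g : X ⟶ Spec (CommRingCat.of A)} [IsProper g] (hg : GoodTop X)
    (hexc : ∀ (C : Scheme.{u}) (ι : C ⟶ X) [IsClosedImmersion ι], ¬ Models.IsExcCurve ι)
    {Y : Scheme.{u}} [IsIntegral Y] [AlgebraicGeometry.IsNoetherian Y]
    (hY : ∀ y : Y, IsRegularLocalRing (Y.presheaf.stalk y)) (hdY : topologicalKrullDim Y ≤ 2)
    (g' : Y ⟶ Spec (CommRingCat.of A)) [IsProper g'] (θ : X.functionField ⟶ Y.functionField) [IsIso θ]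
    (hθ : Spec.map θ ≫ X.fromSpecStalk (genericPoint X) ≫ g = Y.fromSpecStalk (genericPoint Y) ≫ g') :
    ∃ b : Y ⟶ X, b ≫ g = g' ∧
      Y.fromSpecStalk (genericPoint Y) ≫ b = Spec.map θ ≫ X.fromSpecStalk (genericPoint X) := by
  let zK : Spec Y.functionField ⟶ X := Spec.map θ ≫ X.fromSpecStalk (genericPoint X)
  obtain ⟨Z, hZi, π, hπη, q', hπ, hq', hq'K⟩ := exists_ptSeq_extend hY hdY g' g zK (by
    rw [Category.assoc]; exact hθ)
  haveI := hZi
  obtain ⟨-, -, hπbir, -⟩ := hπ.invariants hY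
  haveI : IsIso (funMap π hπη) := by
    obtain ⟨V, hV, hVi⟩ := hπbir
    obtain ⟨hgen, hst⟩ := BirQFLib.birational_of_isIso_restrict π V hV hVi
    haveI := hst
    haveI : IsIso (Y.presheaf.stalkSpecializes (specializes_of_eq hπη)) :=
      ⟨Y.presheaf.stalkSpecializes (specializes_of_eq hπη.symm), by simp, by simp⟩
    exact IsIso.comp_isIso' inferInstance inferInstance
  let θ₁ : X.functionField ⟶ Z.functionField := θ ≫ funMap π hπη
  have hθ₁ : Z.fromSpecStalk (genericPoint Z) ≫ q' = Spec.map θ₁ ≫ X.fromSpecStalk (genericPoint X) := by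
    rw [hq'K, Spec.map_comp, Category.assoc]
  have hqgen : q' (genericPoint Z) = genericPoint X := by
    have h1 := congrArg (fun m => m (IsLocalRing.closedPoint Z.functionField)) hθ₁
    simp only [Scheme.Hom.comp_apply, Scheme.fromSpecStalk_closedPoint] at h1
    rw [h1, Subsingleton.elim (α := PrimeSpectrum X.functionField)
      (Spec.map θ₁ (IsLocalRing.closedPoint Z.functionField)) (IsLocalRing.closedPoint _), Scheme.fromSpecStalk_closedPoint]
  have hθ' : funMap q' hqgen = θ₁ := Spec.map_injective ((cancel_mono (X.fromSpecStalk (genericPoint X))).1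
    ((fromSpecStalk_funMap q' hqgen).trans hθ₁))
  have hqst : IsIso (q'.stalkMap (genericPoint Z)) := by
    haveI : IsIso (funMap q' hqgen) := by rw [hθ']; infer_instance
    haveI : IsIso (X.presheaf.stalkSpecializes (specializes_of_eq hqgen)) :=
      ⟨X.presheaf.stalkSpecializes (specializes_of_eq hqgen.symm), by simp, by simp⟩
    haveI : IsIso (X.presheaf.stalkSpecializes (specializes_of_eq hqgen) ≫ q'.stalkMap (genericPoint Z)) :=
      ‹IsIso (funMap q' hqgen)›
    exact IsIso.of_isIso_comp_left (X.presheaf.stalkSpecializes (specializes_of_eq hqgen))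
      (q'.stalkMap (genericPoint Z))
  obtain ⟨b, hb, hπb, -, -⟩ := exists_descend_global hX hdX hg hexc hπ hY (hπ.dim_le hdY) q' hq' hqgen hqst
  refine ⟨b, hb, ?_⟩
  rw [← cancel_epi (Spec.map (funMap π hπη)), reassoc_of% (fromSpecStalk_funMap π hπη), hπb, hq'K]

end Groth.Agent.CastLib
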