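import Groth.Agent.CastLib.ToSpec
import Groth.Agent.CastLib.Contract
import Groth.Agent.SurfPtBlow.DvrMeet

/-!
# Meeting exceptional curves make the first cohomology torsion
-/

set_option autoImplicit false
set_option backward.isDefEq.respectTransparency false
set_option linter.style.haveILetI false
set_option maxHeartbeats 1000000

universe u

open CategoryTheory CategoryTheory.Limits AlgebraicGeometry TopologicalSpace
open Groth.Agent.TwistShriek Groth.Agent.TwistShriek.PointBlow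
open Groth.Agent.IntLib (mk pullCls)

noncomputable section

namespace Groth.Agent.CastLib

open Groth.Agent.SurfPtBlow

/-- A local equation of a maximal ideal of a Dedekind domain. -/
theorem exists_local_equation {A : Type u} [CommRing A] [IsDedekindDomain A] (m : Ideal A) [m.IsMaximal]
    (hm : m ≠ ⊥) : ∃ ϖ s : A, ϖ ∈ m ∧ ϖ ≠ 0 ∧ s ∉ m ∧ ∀ x ∈ m, s * x ∈ Ideal.span {ϖ} := by
  classical
  let L := Localization.AtPrime m
  haveI : IsDiscreteValuationRing L :=
    IsLocalization.AtPrime.isDiscreteValuationRing_of_dedekind_domain A hm L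
  obtain ⟨π, hπ⟩ := IsDiscreteValuationRing.exists_irreducible L
  obtain ⟨a, b, hab⟩ := IsLocalization.exists_mk'_eq m.primeCompl π
  have hspan : IsLocalRing.maximalIdeal L = Ideal.span {algebraMap A L a} := by
    rw [hπ.maximalIdeal_eq, ← IsLocalization.mk'_spec L a b, hab]
    exact (Ideal.span_singleton_mul_right_unit (IsLocalization.map_units L b) π).symm
  have ha : a ∈ m := by
    rw [← IsLocalization.AtPrime.comap_maximalIdeal L m, Ideal.mem_comap, hspan]
    exact Ideal.mem_span_singleton_self _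
  have ha0 : a ≠ 0 := fun h => hπ.ne_zero (by rw [← hab, h, IsLocalization.mk'_zero])
  have key : ∀ x : A, ∃ c : A, c ∉ m ∧ (x ∈ m → c * x ∈ Ideal.span {a}) := fun x => by
    by_cases hx : x ∈ m
    · have h1 : algebraMap A L x ∈ (Ideal.span {a}).map (algebraMap A L) := by
        rw [Ideal.map_span, Set.image_singleton, ← hspan, ← Ideal.mem_comap]
        exact (IsLocalization.AtPrime.comap_maximalIdeal L m).ge hx
      obtain ⟨c, hc, h2⟩ := (IsLocalization.algebraMap_mem_map_algebraMap_iff m.primeCompl L (Ideal.span {a}) x).1 h1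
      exact ⟨c, hc, fun _ => h2⟩
    · exact ⟨1, (Ideal.ne_top_iff_one m).1 (Ideal.IsMaximal.ne_top ‹_›), fun h => absurd h hx⟩
  choose c hc hcx using key
  obtain ⟨S, hS⟩ := (IsNoetherian.noetherian m : m.FG)
  refine ⟨a, ∏ x ∈ S, c x, ha, ha0, fun h => ?_, fun x hx => ?_⟩
  · obtain ⟨x, -, hx⟩ := (Ideal.IsPrime.prod_mem_iff (hp := Ideal.IsMaximal.isPrime ‹_›)).1 h
    exact hc x hx
  · rw [← hS] at hx
    induction hx using Submodule.span_induction with
    | mem y hy =>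
      obtain ⟨d, hd⟩ := Finset.dvd_prod_of_mem c (Finset.mem_coe.1 hy)
      rw [hd, mul_comm (c y) d, mul_assoc]
      exact Ideal.mul_mem_left _ _ (hcx y (hS ▸ Ideal.subset_span hy))
    | zero => simp
    | add y z _ _ h1 h2 => rw [mul_add]; exact add_mem h1 h2
    | smul r y _ h1 => rw [smul_eq_mul, mul_left_comm]; exact Ideal.mul_mem_left _ _ h1

variable {Z : Scheme.{u}} [IsIntegral Z] [AlgebraicGeometry.IsNoetherian Z] [IsProper Z.toSpecΓ]

omit [IsIntegral Z] [AlgebraicGeometry.IsNoetherian Z] [IsProper Z.toSpecΓ] in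
theorem toGlobal_toSpecΓ (a : Γ(Z, ⊤)) : Coh.toGlobal (A := Γ(Z, ⊤)) Z.toSpecΓ a = a := by
  show Z.toSpecΓ.appTop ((Scheme.ΓSpecIso Γ(Z, ⊤)).inv a) = a
  rw [Scheme.toSpecΓ_appTop]
  exact Iso.inv_hom_id_apply (C := CommRingCat) _ _

omit [IsIntegral Z] [AlgebraicGeometry.IsNoetherian Z] [IsProper Z.toSpecΓ] in
theorem mem_basicOpen_iff (a : Γ(Z, ⊤)) (z : Z) :
    z ∈ Z.basicOpen a ↔ a ∉ (Z.toSpecΓ z : PrimeSpectrum Γ(Z, ⊤)).asIdeal := by
  rw [← Scheme.toSpecΓ_preimage_basicOpen]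
  exact Iff.rfl

/-- **Two meeting lines make `H¹` torsion.** -/
theorem exists_smul_eq_zero_of_meet [IsDedekindDomain Γ(Z, ⊤)] (hnf : ¬ IsField Γ(Z, ⊤)) {k₁ k₂ : Type u}
    [Field k₁] [Field k₂]
    (j₁ : CohB1.ProjSpace 1 k₁ ⟶ Z) [IsClosedImmersion j₁] (j₂ : CohB1.ProjSpace 1 k₂ ⟶ Z) [IsClosedImmersion j₂]
    (hC₁ : BlowUp.IsEffCartierIdeal j₁.ker) (hC₂ : BlowUp.IsEffCartierIdeal j₂.ker)
    (e₁ : (Scheme.Modules.pullback j₁).obj (ClSub.idealMod j₁.ker) ≅ Twist.twistProjSpace 1 k₁ 1)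
    (e₂ : (Scheme.Modules.pullback j₂).obj (ClSub.idealMod j₂.ker) ≅ Twist.twistProjSpace 1 k₂ 1)
    (hne : Set.range j₁ ≠ Set.range j₂) (hmeet : ¬ Disjoint (Set.range j₁) (Set.range j₂)) :
    ∃ t : Γ(Z, ⊤), t ≠ 0 ∧ ∀ x : Coh.HH Z (Coh.structureModule Z) 1, (show Coh.Γtop Z from t) • x = 0 := by
  classical
  haveI := isIntegral_P1 (k := k₁)
  haveI := isIntegral_P1 (k := k₂)
  let A : Type u := Γ(Z, ⊤)
  let p : Z ⟶ Spec (CommRingCat.of A) := Z.toSpecΓ
  haveI : IsProper p := ‹IsProper Z.toSpecΓ›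
  haveI : IsAffine (Spec (CommRingCat.of A)) := inferInstance
  let η₁ := j₁ (genericPoint (CohB1.ProjSpace 1 k₁))
  let η₂ := j₂ (genericPoint (CohB1.ProjSpace 1 k₂))
  let t₀ := p η₁
  have h₁ : ∀ z, p (j₁ z) = t₀ := fun z => by
    have h := apply_eq_of_affine (j₁ ≫ p) z (genericPoint _)
    simpa using h
  have h₂ : ∀ z, p (j₂ z) = t₀ := fun z => by
    obtain ⟨w, ⟨a, ha⟩, ⟨b, hb⟩⟩ := Set.not_disjoint_iff.1 hmeet
    have h : p (j₂ z) = p (j₂ b) := by
      have h := apply_eq_of_affine (j₂ ≫ p) z b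
      simpa using h
    rw [h, hb, ← ha, h₁]
  let m : Ideal A := (t₀ : PrimeSpectrum A).asIdeal
  have hclosed : IsClosed ({t₀} : Set (Spec (CommRingCat.of A))) := by
    have h := p.isClosedMap _ j₁.isClosedEmbedding.isClosed_range
    rwa [← Set.range_comp, show Set.range (p ∘ j₁) = {t₀} from Set.eq_singleton_iff_nonempty_unique_mem.2
      ⟨⟨_, genericPoint _, rfl⟩, by rintro _ ⟨z, rfl⟩; exact h₁ z⟩] at h
  haveI hmax : m.IsMaximal := (PrimeSpectrum.isClosed_singleton_iff_isMaximal _).1 hclosed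
  have hm0 : m ≠ ⊥ := fun h => hnf ((RingEquiv.quotientBot A).symm.toMulEquiv.isField
    ((Ideal.Quotient.maximal_ideal_iff_isField_quotient (⊥ : Ideal A)).1 (h ▸ hmax)))
  obtain ⟨ϖ, s, hϖm, hϖ0, hsm, hs⟩ := exists_local_equation m hm0
  let D : (Spec (CommRingCat.of A)).IdealSheafData := Curv2.idealSheaf A (Ideal.span {ϖ})
  have hD : BlowUp.IsEffCartierIdeal D :=
    isEffCartierIdeal_of_cover (B := fun _ : Unit => (A : Type u)) (fun _ => 𝟙 _)
      (fun y => ⟨(), y, rfl⟩) fun _ => ⟨ϖ, mem_nonZeroDivisors_of_ne_zero hϖ0, by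
        rw [Scheme.IdealSheafData.comap_id]⟩
  let J : Z.IdealSheafData := D.comap p
  have hJst : ∀ z : Z, IntMult.stalkIdeal J z = Ideal.span {(Z.presheaf.germ ⊤ z trivial).hom ϖ} := fun z => by
    rw [stalkIdeal_comap_principal p ϖ z, toGlobal_toSpecΓ]
  have hbas : ∀ (a : A) (z : Z), IsUnit ((Z.presheaf.germ ⊤ z trivial).hom a) ↔ a ∉ (p z : PrimeSpectrum A).asIdeal :=
    fun a z => (Z.mem_basicOpen (U := ⊤) a z trivial).symm.trans (mem_basicOpen_iff a z)
  have hsJ : ∀ z, z ∈ J.support ↔ ϖ ∈ (p z : PrimeSpectrum A).asIdeal := fun z => by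
    rw [H1ZeroLib.mem_support_iff_stalk, hJst, ne_eq, Ideal.span_singleton_eq_top, hbas, not_not]
  have hϖgen : (Z.presheaf.germ ⊤ (genericPoint Z) trivial).hom ϖ ≠ 0 := fun h0 =>
    hϖ0 (germ_injective_of_isIntegral Z (U := ⊤) (genericPoint Z) trivial (h0.trans (map_zero _).symm))
  have hηJ : genericPoint Z ∉ J.support := fun hh => (hsJ _).1 hh |> fun h => (hbas ϖ _).1
    (isUnit_iff_ne_zero (G₀ := Z.functionField).2 hϖgen) h
  have hJc : BlowUp.IsEffCartierIdeal J := S8862.result p D hD fun ξ hξ => by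
    rw [← hξ _ (genericPoint_specializes ξ)]
    intro hh
    refine hηJ ?_
    show genericPoint Z ∈ (J.support : Set Z)
    rw [Scheme.IdealSheafData.support_comap]
    exact hh
  have hJ0 : J ≠ ⊥ := fun hb => hηJ (by rw [hb, Scheme.IdealSheafData.support_bot]; trivial)
  have hJd : ∀ {k : Type u} [Field k] (j : CohB1.ProjSpace 1 k ⟶ Z), degOn j (ClSub.idealMod J) = 0 := fun {k} _ j => by
    obtain ⟨e⟩ := JacLib.nonempty_iso_pullback_idealMod p D hD hJc
    refine Eq.trans (degP_congr ?_) degP_one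
    rw [IntLib.mk_structureModule, ← IntLib.pullCls_mk, ← IntLib.mk_congr e, ← IntLib.pullCls_mk,
      mk_idealMod_principal (mem_nonZeroDivisors_of_ne_zero hϖ0), map_one, map_one]
  -- decompose the divisor
  have hsup : ∀ {k : Type u} [Field k] (j : CohB1.ProjSpace 1 k ⟶ Z) [IsClosedImmersion j],
      (j.ker.support : Set Z) = Set.range j := fun j _ => by
    rw [Scheme.Hom.support_ker, j.isClosedEmbedding.isClosed_range.closure_eq]
  have hη₁ : η₁ ∉ j₂.ker.support := fun hh => hne (range_eq_of_generic_mem j₁ j₂ ((hsup j₂).le hh))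
  have hη₂ : η₂ ∉ j₁.ker.support := fun hh => hne (range_eq_of_generic_mem j₂ j₁ ((hsup j₁).le hh)).symm
  obtain ⟨a, K', hK, hK1⟩ := exists_max_pow hC₁ hJ0 ⟨η₁, (hsup j₁).ge ⟨_, rfl⟩⟩
  have hKc : BlowUp.IsEffCartierIdeal K' := BlowCompLib.isEffCartier_of_mul (hK ▸ hJc)
  have hK0 : K' ≠ ⊥ := fun hb => hJ0 (le_bot_iff.1 (DivisorialLib.le_of_stalk fun z => by
    rw [hK, DivisorialLib.stalkIdeal_mul, hb]
    exact Ideal.mul_le_left))
  obtain ⟨c, J', hJ', hJ2⟩ := exists_max_pow hC₂ hK0 ⟨η₂, (hsup j₂).ge ⟨_, rfl⟩⟩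
  have hJ'c : BlowUp.IsEffCartierIdeal J' := BlowCompLib.isEffCartier_of_mul (hJ' ▸ hKc)
  have hJ1 : ¬ J' ≤ j₁.ker := fun hle => hK1 (le_trans (DivisorialLib.le_of_stalk fun z => by
    rw [hJ', DivisorialLib.stalkIdeal_mul]; exact Ideal.mul_le_left) hle)
  have hg1 : η₁ ∉ J'.support := fun hh => hJ1 (le_ker_of_mem j₁ hh)
  have hg2 : η₂ ∉ J'.support := fun hh => hJ2 (le_ker_of_mem j₂ hh)
  have hsplit : ∀ {k : Type u} [Field k] (j : CohB1.ProjSpace 1 k ⟶ Z),
      degOn j (ClSub.idealMod J') + c * degOn j (ClSub.idealMod j₂.ker) + a * degOn j (ClSub.idealMod j₁.ker) = 0 :=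
    fun {k} _ j => by
      obtain ⟨h1c, h1⟩ := degOn_pow j hC₁ a
      obtain ⟨h2c, h2⟩ := degOn_pow j hC₂ c
      have hh := hJd j
      rw [hK, degOn_mul j hKc h1c, h1, hJ', degOn_mul j hJ'c h2c, h2] at hh
      exact hh
  have d12 := degOn_le j₁ hC₂ hη₁
  have d21 := degOn_le j₂ hC₁ hη₂
  have d12' : degOn j₁ (ClSub.idealMod j₂.ker) ≤ -1 := by
    by_contra hlt
    refine hmeet (Set.disjoint_left.2 ?_)
    rintro _ ⟨z, rfl⟩ hz
    exact d12.2 (le_antisymm d12.1 (by omega)) z ((hsup j₂).ge hz)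
  have d21' : degOn j₂ (ClSub.idealMod j₁.ker) ≤ -1 := by
    by_contra hlt
    refine hmeet (Set.disjoint_right.2 ?_)
    rintro _ ⟨z, rfl⟩ hz
    exact d21.2 (le_antisymm d21.1 (by omega)) z ((hsup j₁).ge hz)
  have r1 := hsplit j₁
  have r2 := hsplit j₂
  rw [degOn_self e₁] at r1
  rw [degOn_self e₂] at r2
  have z1 := degOn_le j₁ hJ'c hg1
  have z2 := degOn_le j₂ hJ'c hg2
  have m1 : (c : ℤ) * degOn j₁ (ClSub.idealMod j₂.ker) ≤ -c := by nlinarith
  have m2 : (a : ℤ) * degOn j₂ (ClSub.idealMod j₁.ker) ≤ -a := by nlinarith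
  have n1 := z1.2 (by linarith [z1.1, z2.1])
  have n2 := z2.2 (by linarith [z1.1, z2.1])
  have hac : (a : ℤ) = c := by linarith [z1.1, z2.1]
  have hca : c = a := by exact_mod_cast hac.symm
  subst hca
  let K : Z.IdealSheafData := j₂.ker ^ c * j₁.ker ^ c
  have hJK : ∀ z, IntMult.stalkIdeal J z = IntMult.stalkIdeal J' z * IntMult.stalkIdeal K z := fun z => by
    rw [hK, hJ', DivisorialLib.stalkIdeal_mul, DivisorialLib.stalkIdeal_mul, DivisorialLib.stalkIdeal_mul, mul_assoc]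
  -- the fibre is connected
  have hJsupp : ∀ z, z ∈ J.support → z ∈ Set.range j₁ ∪ Set.range j₂ ∪ (J'.support : Set Z) := fun z hz => by
    by_contra hnot
    simp only [Set.mem_union, not_or] at hnot
    refine (stalkIdeal_ne_top_iff J z).2 hz ?_
    rw [hK, hJ', DivisorialLib.stalkIdeal_mul, DivisorialLib.stalkIdeal_mul, InfNbhdLib.stalkIdeal_pow,
      InfNbhdLib.stalkIdeal_pow, (stalkIdeal_eq_top_iff J' z).2 hnot.2,
      (stalkIdeal_eq_top_iff j₁.ker z).2 (fun hh => hnot.1.1 ((hsup j₁).le hh)),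
      (stalkIdeal_eq_top_iff j₂.ker z).2 (fun hh => hnot.1.2 ((hsup j₂).le hh))]
    simp [← Ideal.one_eq_top]
  have hdis : ∀ z ∈ Set.range j₁ ∪ Set.range j₂, z ∉ J'.support := by
    rintro _ (⟨z, rfl⟩ | ⟨z, rfl⟩)
    exacts [n1 z, n2 z]
  have hfibJ : ∀ z, p z = t₀ → z ∈ J.support := fun z hz => (hsJ z).2 (by rw [hz]; exact hϖm)
  have hfib : ∀ z, p z = t₀ → z ∉ J'.support := fun z hz hz' => by
    obtain ⟨w, hw, hw1, hw2⟩ := isPreconnected_closed_iff.1 (isPreconnected_fibre_toSpecΓ Z t₀)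
      (Set.range j₁ ∪ Set.range j₂) J'.support
      (j₁.isClosedEmbedding.isClosed_range.union j₂.isClosedEmbedding.isClosed_range) J'.support.isClosed
      (fun v hv => by
        rcases hJsupp v (hfibJ v hv) with hv' | hv'
        exacts [Or.inl hv', Or.inr hv'])
      ⟨η₁, h₁ _, Or.inl ⟨_, rfl⟩⟩ ⟨z, hz, hz'⟩
    exact hdis w hw1 hw2
  have hc0 : 0 < c := Nat.pos_of_ne_zero fun h0 => by
    have h3 := (stalkIdeal_ne_top_iff J η₁).2 (hfibJ η₁ rfl)
    refine h3 ?_
    rw [hJK, (stalkIdeal_eq_top_iff J' η₁).2 hg1, DivisorialLib.stalkIdeal_mul, InfNbhdLib.stalkIdeal_pow,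
      InfNbhdLib.stalkIdeal_pow, h0, pow_zero, pow_zero]
    simp [← Ideal.one_eq_top]
  have hc0' : (1 : ℤ) ≤ c := by exact_mod_cast hc0
  have d12e : degOn j₁ (ClSub.idealMod j₂.ker) = -1 := by nlinarith [z1.1, z2.1]
  have d21e : degOn j₂ (ClSub.idealMod j₁.ker) = -1 := by nlinarith [z1.1, z2.1]
  -- no cohomology on the multiple of the two lines
  have hO := ParaFLib.isInvertible_structureModule (X := Z)
  have hLJ : ∀ n : ℕ, Subsingleton (Coh.HH Z
      (CohB1.tensorMod (ClSub.quotMod (j₂.ker ^ n * j₁.ker ^ n)) (Coh.structureModule Z)) 1) := by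
    intro n
    induction n with
    | zero =>
      rw [pow_zero, pow_zero, one_mul, Scheme.IdealSheafData.one_eq_top]
      exact CurveLib.subsingleton_HH_of_support _ (⊤ : Z.IdealSheafData).support.isClosed
        (support_LJ_subset (L := Coh.structureModule Z) ⊤) (d := 0) (by rw [dim_top_support]; exact bot_le) one_pos
    | succ n ih =>
      obtain ⟨c2, -⟩ := degOn_pow j₁ hC₂ n
      obtain ⟨c1, -⟩ := degOn_pow j₁ hC₁ n
      let B := j₂.ker ^ n * j₁.ker ^ n
      have hBc : BlowUp.IsEffCartierIdeal B := BlowCompLib.isEffCartier_mul c2 c1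
      have hB'c : BlowUp.IsEffCartierIdeal (j₁.ker * B) := BlowCompLib.isEffCartier_mul hC₁ hBc
      have hBi := (S8914.result _).2 hBc
      have hB'i := (S8914.result _).2 hB'c
      have hdeg : ∀ {k : Type u} [Field k] (j : CohB1.ProjSpace 1 k ⟶ Z) {M : Z.IdealSheafData},
          PicF.IsInvertible (ClSub.idealMod M) →
          degOn j (CohB1.tensorMod (ClSub.idealMod M) (Coh.structureModule Z)) = degOn j (ClSub.idealMod M) :=
        fun j M _ => degP_congr (IntLib.mk_congr ((Scheme.Modules.pullback j).mapIso (AmpleLib.unitR (ClSub.idealMod M))))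
      have hdB : ∀ {k : Type u} [Field k] (j : CohB1.ProjSpace 1 k ⟶ Z), degOn j (ClSub.idealMod B) =
          n * (degOn j (ClSub.idealMod j₂.ker) + degOn j (ClSub.idealMod j₁.ker)) := fun j => by
        rw [degOn_mul j c2 c1, (degOn_pow j hC₂ n).2, (degOn_pow j hC₁ n).2]; ring
      have h1 : Subsingleton (Coh.HH Z
          (CohB1.tensorMod (ClSub.quotMod (j₁.ker * B)) (Coh.structureModule Z)) 1) := by
        refine peel_twist hO (subsingleton_H1_layer j₁ (AmpleLib.isInvertible_tensor hBi hO) ?_) ih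
        rw [hdeg j₁ hBi, hdB j₁, d12e, degOn_self e₁]
        simp
      have h2 := peel_twist (C := j₂.ker) hO (subsingleton_H1_layer j₂ (AmpleLib.isInvertible_tensor hB'i hO) (by
        rw [hdeg j₂ hB'i, degOn_mul j₂ hC₁ hBc, hdB j₂, d21e, degOn_self e₂]
        simp)) h1
      rwa [show j₂.ker * (j₁.ker * B) = j₂.ker ^ (n + 1) * j₁.ker ^ (n + 1) by
        simp only [B, pow_succ]; ac_rfl] at h2
  haveI hK1' : Subsingleton (Coh.HH Z (ClSub.quotMod K) 1) :=
    CurveLib.subsingleton_HH_iso (AmpleLib.unitR _) 1 (hLJ c)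
  -- the factorisation
  let O := Coh.structureModule Z
  let qK := ClSub.toSubscheme K
  let q := ClSub.toSubscheme J
  haveI : Epi qK := HilbObsLib.epi_toSubscheme K
  have hsK : ∀ (z : Z) (r : Z.presheaf.stalk z), r ∈ IntMult.stalkIdeal K z →
      (Z.presheaf.germ ⊤ z trivial).hom s * r ∈ IntMult.stalkIdeal J z := fun z r hr => by
    by_cases hz : p z = t₀
    · rw [hJK, (stalkIdeal_eq_top_iff J' z).2 (hfib z hz), Ideal.top_mul]
      exact Ideal.mul_mem_left _ _ hr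
    · obtain ⟨x, hxm, hxz⟩ : ∃ x ∈ m, x ∉ (p z : PrimeSpectrum A).asIdeal := by
        by_contra h
        push Not at h
        exact hz (PrimeSpectrum.ext (hmax.eq_of_le (p z : PrimeSpectrum A).isPrime.ne_top h).symm)
      obtain ⟨u, hu⟩ := Ideal.mem_span_singleton'.1 (hs x hxm)
      obtain ⟨v, hv⟩ := ((hbas x z).2 hxz)
      refine Ideal.mul_mem_right _ _ ?_
      rw [hJst, ← Units.mul_inv_cancel_right ((Z.presheaf.germ ⊤ z trivial).hom s) v, hv, ← map_mul, ← hu,
        map_mul, mul_assoc, mul_comm ((Z.presheaf.germ ⊤ z trivial).hom ϖ), ← mul_assoc]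
      exact Ideal.mul_mem_left _ _ (Ideal.mem_span_singleton_self _)
  have hSK : (H1ZeroLib.kerSeq qK).ShortExact := H1ZeroLib.kerSeq_shortExact qK
    fun x => (PullbackMod.epi_iff_stalk _).1 inferInstance x
  have hw : (H1ZeroLib.kerSeq qK).f ≫ (Formal.smulModΓ O s ≫ q) = 0 :=
    PullbackMod.hom_ext_stalk fun z => LinearMap.ext fun n => by
      rw [PullbackMod.stalkLin_comp, PullbackMod.stalkLin_comp, LinearMap.comp_apply, LinearMap.comp_apply,
        DevLib.stalkLin_zero, LinearMap.zero_apply]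
      obtain ⟨r, hr⟩ := (ParaFLib.bijective_oneG z).2 (PullbackMod.stalkLin (kernel.ι qK) z n)
      simp only at hr
      have h0 := HilbObsLib.stalk_kernel_ι_comp qK z n
      rw [← hr] at h0
      show PullbackMod.stalkLin q z (PullbackMod.stalkLin (Formal.smulModΓ O s) z
        (PullbackMod.stalkLin (kernel.ι qK) z n)) = 0
      rw [← hr, BCLib.stalkLin_smulModΓ, smul_smul]
      exact (H1ZeroLib.qv_eq_zero_iff J z _).2 (hsK z r ((H1ZeroLib.qv_eq_zero_iff K z r).1 h0))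
  haveI : Epi (H1ZeroLib.kerSeq qK).g := hSK.epi_g
  let χ := hSK.exact.desc (Formal.smulModΓ O s ≫ q) hw
  have hχ : qK ≫ χ = Formal.smulModΓ O s ≫ q := hSK.exact.g_desc _ _
  have hϖne : (show Γ(Z, ⊤) from ϖ) ≠ 0 := hϖ0
  obtain ⟨w, hS⟩ := shortExact_smul hϖne hJst
  have hAb := QCohLib.toAb_shortExact hS
  letI : Module A (Coh.HH Z O 1) := Module.compHom _ (Coh.toGlobal p)
  haveI : Module.Finite A (Coh.HH Z O 1) := ProperFin.allFin_of_isCoh p O (DevLib.isCoh_structureModule Z) 1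
  have hsmul : ∀ (r : A) (x : Coh.HH Z O 1), r • x = (show Coh.Γtop Z from r) • x := fun r x => by
    show Coh.toGlobal p r • x = _
    rw [toGlobal_toSpecΓ]
  have hrange : ∀ x : Coh.HH Z O 1, s • x ∈ Ideal.span {ϖ} • (⊤ : Submodule A (Coh.HH Z O 1)) := fun x => by
    rw [hsmul]
    let y : Sheaf.H ((QCohLib.toAbF Z).obj O) 1 := (show Coh.Γtop Z from s) • x
    have hy : Sheaf.H.map ((QCohLib.toAbF Z).map q) 1 y = 0 := by
      have e1 : Sheaf.H.map ((QCohLib.toAbF Z).map q) 1 y =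
          Sheaf.H.map ((QCohLib.toAbF Z).map (Formal.smulModΓ O s ≫ q)) 1 x := by
        rw [Functor.map_comp, Sheaf.H.map_comp_apply]
        rfl
      rw [e1, ← hχ, Functor.map_comp, Sheaf.H.map_comp_apply]
      rw [Subsingleton.elim (α := Coh.HH Z (ClSub.quotMod K) 1) (Sheaf.H.map ((QCohLib.toAbF Z).map qK) 1 x) 0]
      exact map_zero _
    obtain ⟨z, hz⟩ := Abelian.Ext.covariant_sequence_exact₂ _ hAb y hy
    let z' : Coh.HH Z O 1 := z
    have hyz : (show Coh.Γtop Z from s) • x = ϖ • z' := by rw [hsmul]; exact hz.symm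
    rw [hyz]
    exact Submodule.smul_mem_smul (Ideal.mem_span_singleton_self ϖ) Submodule.mem_top
  obtain ⟨P, hPm, -, hPc, hP⟩ := LinearMap.exists_monic_and_natDegree_eq_and_coeff_mem_pow_and_aeval_eq_zero A
    (LinearMap.lsmul A (Coh.HH Z O 1) s) (Ideal.span {ϖ}) (by rintro _ ⟨x, rfl⟩; exact hrange x)
  have hev : ∀ x : Coh.HH Z O 1, P.eval s • x = 0 := fun x => by
    have h := LinearMap.congr_fun hP x
    rw [show LinearMap.lsmul A (Coh.HH Z O 1) s = algebraMap A (Module.End A (Coh.HH Z O 1)) s from rfl,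
      Polynomial.aeval_algebraMap_apply_eq_algebraMap_eval] at h
    exact h
  refine ⟨P.eval s, fun h => ?_, fun x => (hsmul _ x).symm.trans (hev x)⟩
  apply hsm
  refine hmax.isPrime.mem_of_pow_mem P.natDegree ?_
  have hsum : P.eval s - s ^ P.natDegree ∈ m := by
    rw [Polynomial.eval_eq_sum_range, Finset.sum_range_succ, hPm.coeff_natDegree, one_mul, add_sub_cancel_right]
    refine sum_mem fun i hi => Ideal.mul_mem_right _ _ ?_
    have hlt : P.natDegree - i ≠ 0 := by have := Finset.mem_range.1 hi; omega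
    exact (Ideal.span_singleton_le_iff_mem m).2 hϖm (Ideal.pow_le_self hlt (hPc i))
  rw [show (P.eval s : A) = 0 from h, zero_sub, Ideal.neg_mem_iff] at hsum
  exact hsum

end Groth.Agent.CastLib
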