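import Groth.Agent.CastLib.HensContract
import Groth.Agent.FinDiscScheme

/-!
# Powers of horizontal effective Cartier divisors
-/

set_option autoImplicit false
set_option backward.isDefEq.respectTransparency false
set_option linter.style.haveILetI false
set_option maxHeartbeats 1000000

universe u

open CategoryTheory CategoryTheory.Limits AlgebraicGeometry TopologicalSpace
open Groth.Agent.AmpleLib

noncomputable section

namespace Groth.Agent.CastLib.HorizGG

variable {R : Type u} [CommRing R] [IsDedekindDomain R]

/-- Large powers of a horizontal effective Cartier divisor on a fibred surface are globally generated. -/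
theorem exists_pow_globallyGenerated (hR : ¬ IsField R) {X : Over (Spec (CommRingCat.of R))} [IsIntegral X.left]
    (hdim : topologicalKrullDim X.left = 2) [Flat X.hom] (hproj : Neron.IsProjectiveOver R X)
    {D : Scheme.{u}} (d : D ⟶ X.left) [IsClosedImmersion d] (hD : BlowUp.IsEffCartierIdeal d.ker)
    (hhor : ∀ p : D, ∃ q : D, q ⤳ p ∧ ((d ≫ X.hom).base q).asIdeal = ⊥)
    {L : X.left.Modules} (hL : ClSub.IsInverseOf L (ClSub.idealMod d.ker)) :
    ∃ m₀ : ℕ, 1 ≤ m₀ ∧ ∀ m : ℕ, m₀ ≤ m → Curv2.IsGloballyGenerated (CohB1.tensorPow L m) := by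
  classical
  haveI : IsProper X.hom := by
    obtain ⟨n, i, hi, hiX⟩ := hproj
    haveI := hi
    haveI : IsProper (CohB1.ProjSpaceOver.toBase n (Spec (CommRingCat.of R))) := BCLib.isProper_toBase _ _
    rw [← hiX]; infer_instance
  haveI : IsLocallyNoetherian X.left := LocallyOfFiniteType.isLocallyNoetherian X.hom
  haveI : CompactSpace X.left := QuasiCompact.compactSpace_of_compactSpace X.hom
  haveI : AlgebraicGeometry.IsNoetherian X.left := { }
  letI : X.left.Over (Spec (CommRingCat.of R)) := ⟨X.hom⟩
  haveI : IsProper (X.left ↘ Spec (CommRingCat.of R)) := ‹IsProper X.hom›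
  have hd2 : topologicalKrullDim X.left ≤ 2 := hdim.le
  have hηd := genericPoint_notMem_range d hD
  have hclosed : ∀ y : X.left, IsClosed ({y} : Set X.left) → (X.hom y).asIdeal ≠ ⊥ := fun y hy h => by
    have h1 := X.hom.isClosedMap _ hy
    rw [Set.image_singleton] at h1
    have h2 := (PrimeSpectrum.isClosed_singleton_iff_isMaximal (X.hom y)).1 h1
    rw [h] at h2
    exact hR (Ring.isField_iff_maximal_bot.2 h2)
  have hT1 : ∀ p w : D, d p ⤳ d w → X.hom (d p) = X.hom (d w) → d p = d w := fun p w hs he => by
    by_contra hne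
    obtain ⟨z, hz, hzc⟩ := (isClosed_closure (s := ({d w} : Set X.left))).exists_closed_singleton
      ⟨_, subset_closure rfl⟩
    by_cases hbot : (X.hom (d p)).asIdeal = ⊥
    · exact GGContract.no_four_chain hd2
        (GGContract.lt_of_spec (specializes_iff_mem_closure.2 hz) fun h => hclosed z hzc (by rw [h, ← he, hbot]))
        (GGContract.lt_of_spec hs fun h => hne h.symm)
        (GGContract.lt_of_spec (genericPoint_specializes (d p)) fun h => hηd ⟨p, h⟩)
    · obtain ⟨q, hq, hq0⟩ := hhor p
      exact GGContract.no_four_chain hd2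
        (GGContract.lt_of_spec hs fun h => hne h.symm)
        (GGContract.lt_of_spec (hq.map d.continuous) fun h => hbot (h ▸ hq0))
        (GGContract.lt_of_spec (genericPoint_specializes (d q)) fun h => hηd ⟨q, h⟩)
  haveI : IsLocallyNoetherian D := LocallyOfFiniteType.isLocallyNoetherian d
  haveI : CompactSpace D := QuasiCompact.compactSpace_of_compactSpace d
  haveI : AlgebraicGeometry.IsNoetherian D := { }
  haveI : IsFinite (d ≫ X.hom) := by
    haveI : LocallyQuasiFinite (d ≫ X.hom) := by
      refine LocallyQuasiFinite.of_finite_preimage_singleton _ fun b => ?_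
      let F := (d ≫ X.hom).fiber b
      haveI : IsLocallyNoetherian F := by
        haveI : LocallyOfFiniteType ((d ≫ X.hom).fiberToSpecResidueField b) :=
          MorphismProperty.of_isPullback (P := @LocallyOfFiniteType) (IsPullback.of_hasPullback (d ≫ X.hom) _) inferInstance
        exact LocallyOfFiniteType.isLocallyNoetherian ((d ≫ X.hom).fiberToSpecResidueField b)
      haveI : NoetherianSpace F := ((d ≫ X.hom).fiberι b).isEmbedding.isInducing.noetherianSpace
      haveI : T1Space F := ⟨fun a => closure_subset_iff_isClosed.1 fun c hc => by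
        have hs : d ((d ≫ X.hom).fiberι b a) ⤳ d ((d ≫ X.hom).fiberι b c) :=
          (((specializes_iff_mem_closure.2 hc).map ((d ≫ X.hom).fiberι b).continuous)).map d.continuous
        have hy : ∀ e : F, X.hom (d ((d ≫ X.hom).fiberι b e)) = b := fun e =>
          ((d ≫ X.hom).range_fiberι b).le ⟨e, rfl⟩
        exact (((d ≫ X.hom).fiberι b).isEmbedding.injective
          (d.isClosedEmbedding.injective (hT1 _ _ hs ((hy a).trans (hy c).symm)))).symm⟩
      haveI := FinDiscScheme.finite_of_t1 F
      rw [← (d ≫ X.hom).range_fiberι b]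
      exact Set.finite_range _
    exact IsFinite.of_isProper_of_locallyQuasiFinite (d ≫ X.hom)
  have hLi : PicF.IsInvertible L := isInvertible_inverse_ideal hL
  obtain ⟨t, ht⟩ := AVLib.exists_section_genLocus_compl hD hLi hL
  have htmem : ∀ y, y ∈ CohB1.genLocus L t ↔ y ∉ Set.range d := fun y => by
    rw [ht]
    show y ∉ (d.ker.support : Set X.left) ↔ _
    rw [Scheme.Hom.support_ker, IsClosed.closure_eq d.isClosedEmbedding.isClosed_range]
  haveI : Mono t := by
    refine CurveLib.mono_of_ne_zero ParaFLib.isInvertible_structureModule hLi fun h0 => ?_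
    have h1 := (mem_genLocus_iff hLi).1 ((htmem _).2 hηd)
    rw [h0] at h1
    refine one_ne_zero (h1.1 (a₁ := 1) (a₂ := 0) ?_)
    show (1 : X.left.presheaf.stalk _) • _ = (0 : X.left.presheaf.stalk _) • _
    rw [show sec (0 : Coh.structureModule X.left ⟶ L) = 0 from rfl, map_zero, smul_zero, smul_zero]
  obtain ⟨n₀, hn₀⟩ := RegPow.exists_gg_pow (A := R) hLi t fun Z i hci hi => by
    haveI := hci
    have hsub : Set.range i ⊆ Set.range d := by
      rintro _ ⟨z, rfl⟩
      exact not_not.1 fun h => hi z ((htmem _).2 h)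
    haveI : LocallyQuasiFinite (i ≫ X.hom) := by
      refine LocallyQuasiFinite.of_finite_preimage_singleton _ fun b => ?_
      refine ((((d ≫ X.hom).finite_preimage_singleton b).image d).preimage i.isClosedEmbedding.injective.injOn).subset ?_
      intro z hz
      obtain ⟨p, hp⟩ := hsub ⟨z, rfl⟩
      exact ⟨p, show X.hom (d p) = b by rw [hp]; exact hz, hp⟩
    haveI : IsFinite (i ≫ X.hom) := IsFinite.of_isProper_of_locallyQuasiFinite (i ≫ X.hom)
    exact isAffine_of_isAffineHom (i ≫ X.hom)
  refine ⟨n₀ + 1, by omega, fun m hm => ?_⟩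
  obtain ⟨n, rfl⟩ : ∃ n, m = n + 1 := ⟨m - 1, by omega⟩
  exact hn₀ n (by omega)

end Groth.Agent.CastLib.HorizGG
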