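import Groth.Agent.SurfPtBlow.CartierPart
import Groth.Agent.S8909
import Groth.Agent.BlowCompLib.Compose

/-!
# A Cartier divisor is the sum of its components with multiplicities
-/

set_option autoImplicit false
set_option backward.isDefEq.respectTransparency false
set_option linter.style.haveILetI false
set_option maxHeartbeats 1000000

universe u

open CategoryTheory CategoryTheory.Limits AlgebraicGeometry TopologicalSpace IsLocalRing IntMult

noncomputable section

namespace Groth.Agent.CastLib

open Groth.Agent.SurfPtBlow Groth.Agent.DivisorialLib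

variable {X : Scheme.{u}}

/-- The reduced ideal of the closure of a point. -/
def cl (η : X) : X.IdealSheafData :=
  Scheme.IdealSheafData.vanishingIdeal (⟨closure {η}, isClosed_closure⟩ : Closeds X)

theorem mem_support_cl {η x : X} : x ∈ (cl η).support ↔ η ⤳ x := by
  rw [← SetLike.mem_coe, cl, Scheme.IdealSheafData.coe_support_vanishingIdeal]
  exact specializes_iff_mem_closure.symm

theorem stalkIdeal_cl_self (η : X) : stalkIdeal (cl η) η = maximalIdeal (X.presheaf.stalk η) := by
  haveI : IsIntegral (cl η).subscheme := CurveLib.isIntegral_vanishingIdeal isClosed_closure isIrreducible_singleton.closure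
  have hsupp : η ∈ (cl η).support := mem_support_cl.2 specializes_rfl
  have hgen : genPt (cl η) = η :=
    ((specializes_genPt (cl η) hsupp).antisymm (mem_support_cl.1 (genPt_mem (cl η)))).eq
  have key : ∀ z, z = η → stalkIdeal (cl η) z = maximalIdeal (X.presheaf.stalk z) → stalkIdeal (cl η) η =
      maximalIdeal (X.presheaf.stalk η) := by
    rintro z rfl h
    exact h
  exact key _ hgen (stalkIdeal_genPt (cl η))

theorem stalkIdeal_cl_of_ne {η ζ : X} (h1 : Order.coheight η = 1) (h2 : Order.coheight ζ = 1) (hne : η ≠ ζ) :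
    stalkIdeal (cl η) ζ = ⊤ := by
  by_contra h
  have h3 := S8909.succ_le (mem_support_cl.1 (mem_support_of_ne_top h)) hne
  rw [h1, h2] at h3
  exact absurd h3 (by decide)

variable [IsLocallyNoetherian X]

/-- A nontrivial Cartier divisor has a point of codimension one. -/
theorem eq_top_of_no_codimOne [NoetherianSpace X] {I : X.IdealSheafData} (hI : BlowUp.IsEffCartierIdeal I)
    (h : ∀ η ∈ I.support, Order.coheight η ≠ 1) : I = ⊤ := by
  refine ext_stalk fun x => ?_
  rw [stalkIdeal_top]
  by_contra hx
  have hxI := mem_support_of_ne_top hx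
  obtain ⟨U, hxU, g, -, hgU⟩ := hI x
  have hxz : x ∈ X.zeroLocus (U := U.1) (I.ideal U) := (Scheme.IdealSheafData.mem_support_iff_of_mem hxU).1 hxI
  replace hxz : U.2.fromSpec (U.2.primeIdealOf ⟨x, hxU⟩) ∈ X.zeroLocus (U := U.1) (I.ideal U) := by
    rw [U.2.fromSpec_primeIdealOf]; exact hxz
  have hle0 : Ideal.span {g} ≤ (U.2.primeIdealOf ⟨x, hxU⟩).asIdeal := hgU ▸
    (Set.ext_iff.1 (U.2.fromSpec_preimage_zeroLocus _) _).1 hxz
  obtain ⟨q, hq, -⟩ := Ideal.exists_minimalPrimes_le hle0
  haveI : q.IsPrime := hq.1.1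
  let P : PrimeSpectrum Γ(X, U.1) := ⟨q, inferInstance⟩
  let ζ := U.2.fromSpec P
  have hζI : ζ ∈ I.support := (Scheme.IdealSheafData.mem_support_iff_of_mem (U.2.range_fromSpec.le ⟨P, rfl⟩)).2
    ((Set.ext_iff.1 (U.2.fromSpec_preimage_zeroLocus (I.ideal U : Set Γ(X, U.1))) P).2 (hgU ▸ hq.1.2))
  have hle : Order.coheight ζ ≤ 1 := by
    haveI : IsNoetherianRing Γ(X, U.1) := IsLocallyNoetherian.component_noetherian U
    have h2 : Order.coheight ζ = q.height := by
      rw [coheight_eq_of_isOpenImmersion]
      exact (idealHeight_eq_coheight _ P).symm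
    exact h2.le.trans (Ideal.height_le_one_of_isPrincipal_of_mem_minimalPrimes (Ideal.span {g}) q hq)
  refine h ζ hζI (le_antisymm hle ?_)
  exact Order.one_le_iff_pos.2 (pos_iff_ne_zero.2 (S8909.coheight_ne_zero hI hζI))

/-- **A Cartier divisor is the sum of its components with multiplicities.** -/
theorem eq_prod_cl [NoetherianSpace X] [IsIntegral X] (hreg : ∀ x : X, IsRegularLocalRing (X.presheaf.stalk x))
    {n : ℕ} (ξ : Fin n → X) (hξ : ∀ i, Order.coheight (ξ i) = 1) (hinj : Function.Injective ξ) :
    ∀ (m : ℕ) (a : Fin n → ℕ), ∑ i, a i = m → ∀ (I : X.IdealSheafData), BlowUp.IsEffCartierIdeal I →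
      (∀ η ∈ I.support, Order.coheight η = 1 → ∃ i, ξ i = η) →
      (∀ i, stalkIdeal I (ξ i) = maximalIdeal (X.presheaf.stalk (ξ i)) ^ a i) → I = ∏ i, cl (ξ i) ^ a i := by
  intro m
  induction m with
  | zero =>
    intro a ha I hI hsupp hst
    have ha0 : ∀ i, a i = 0 := fun i => Finset.sum_eq_zero_iff.1 ha i (Finset.mem_univ i)
    rw [Finset.prod_eq_one (fun i _ => by rw [ha0, pow_zero])]
    refine eq_top_of_no_codimOne hI fun η hη h1 => ?_
    obtain ⟨i, rfl⟩ := hsupp η hη h1
    have h := IdealStalkLib.stalkIdeal_le_maximal I hη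
    rw [hst, ha0, pow_zero, Ideal.one_eq_top, top_le_iff] at h
    exact (maximalIdeal.isMaximal _).ne_top h
  | succ m ih =>
    intro a ha I hI hsupp hst
    classical
    obtain ⟨j, hj⟩ : ∃ j, a j ≠ 0 := by
      by_contra h
      push Not at h
      rw [Finset.sum_eq_zero fun i _ => h i] at ha
      exact absurd ha (by omega)
    have hjI : ξ j ∈ I.support := mem_support_of_ne_top fun h => (maximalIdeal.isMaximal _).ne_top
      (top_le_iff.1 (h.symm.le.trans ((hst j).le.trans (Ideal.pow_le_self hj))))
    have hC : BlowUp.IsEffCartierIdeal (cl (ξ j)) := isEffCartier_closure hreg _ (hξ j)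
    obtain ⟨K, hK⟩ := exists_eq_mul hC (Scheme.IdealSheafData.le_support_iff_le_vanishingIdeal.1
      (show closure {ξ j} ⊆ (I.support : Set X) from
        closure_minimal (Set.singleton_subset_iff.2 hjI) I.support.isClosed))
    change I = K * cl (ξ j) at hK
    have hKc : BlowUp.IsEffCartierIdeal K := BlowCompLib.isEffCartier_of_mul (hK ▸ hI)
    let a' := Function.update a j (a j - 1)
    have ha' : ∀ i, a i = a' i + if i = j then 1 else 0 := fun i => by
      by_cases hij : i = j
      · subst hij
        simp only [a', Function.update_self, if_true]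
        omega
      · simp [a', hij]
    have hsum : ∑ i, a' i = m := by
      have h : ∑ i, a i = ∑ i, a' i + 1 := by
        rw [Finset.sum_congr rfl fun i _ => ha' i, Finset.sum_add_distrib, Finset.sum_ite_eq']
        simp
      omega
    have hKsupp : ∀ η ∈ K.support, Order.coheight η = 1 → ∃ i, ξ i = η := fun η hη h1 =>
      hsupp η (mem_support_of_ne_top fun htop => (maximalIdeal.isMaximal _).ne_top (top_le_iff.1 (by
        rw [← htop, hK, stalkIdeal_mul]
        exact Ideal.mul_le_left.trans (IdealStalkLib.stalkIdeal_le_maximal K hη)))) h1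
    have hKst : ∀ i, stalkIdeal K (ξ i) = maximalIdeal (X.presheaf.stalk (ξ i)) ^ a' i := fun i => by
      have h := hst i
      rw [hK, stalkIdeal_mul, ha' i] at h
      by_cases hij : i = j
      · subst hij
        rw [stalkIdeal_cl_self, if_pos rfl, pow_succ] at h
        obtain ⟨f, hf, hfm⟩ := exists_gen hC (ξ i)
        rw [stalkIdeal_cl_self] at hfm
        conv at h => lhs; rw [hfm]
        conv at h => rhs; arg 2; rw [hfm]
        exact (Ideal.span_singleton_mul_left_inj (nonZeroDivisors.ne_zero hf)).1 h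
      · rw [stalkIdeal_cl_of_ne (hξ j) (hξ i) (fun h => hij (hinj h).symm), Ideal.mul_top, if_neg hij,
          add_zero] at h
        exact h
    have hp : ∏ i, cl (ξ i) ^ a i = (∏ i, cl (ξ i) ^ a' i) * cl (ξ j) := by
      have h1 : ∀ i ∈ (Finset.univ : Finset (Fin n)), cl (ξ i) ^ a i =
          cl (ξ i) ^ a' i * (if i = j then cl (ξ i) else 1) := fun i _ => by
        rw [ha' i, pow_add]
        split_ifs <;> simp
      rw [Finset.prod_congr rfl h1, Finset.prod_mul_distrib, Finset.prod_ite_eq']
      simp
    rw [hp, ← ih a' hsum K hKc hKsupp hKst]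
    exact hK

end Groth.Agent.CastLib
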