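import Groth.Agent.CastLib.Twist
import Groth.Agent.AmpleEmb.FibreAmple

/-!
# Functions vanishing on a divisor with two generating equations
-/

set_option autoImplicit false
set_option backward.isDefEq.respectTransparency false
set_option linter.style.haveILetI false
set_option maxHeartbeats 1000000

universe u

open CategoryTheory CategoryTheory.Limits AlgebraicGeometry TopologicalSpace
open Groth.Agent.PullbackMod Groth.Agent.AmpleLib
open scoped TensorProduct

noncomputable section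

namespace Groth.Agent.CastLib

variable {U : Scheme.{u}} (I : U.IdealSheafData)

/-- Multiplication by a function vanishing on the divisor lifts to its ideal. -/
theorem exists_ideal_lift {c : Γ(U, ⊤)}
    (hc : ∀ x, (U.presheaf.germ ⊤ x trivial).hom c ∈ IntMult.stalkIdeal I x) :
    ∃ σ : Coh.structureModule U ⟶ ClSub.idealMod I,
      σ ≫ ClSub.idealModι I = Formal.smulModΓ (Coh.structureModule U) c := by
  refine ⟨kernel.lift (ClSub.toSubscheme I) (Formal.smulModΓ (Coh.structureModule U) c) ?_, kernel.lift_ι _ _ _⟩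
  refine hom_ext_stalk fun x => LinearMap.ext fun m => ?_
  obtain ⟨r, rfl⟩ := (ParaFLib.bijective_oneG x).2 m
  rw [stalkLin_comp, LinearMap.comp_apply, BCLib.stalkLin_smulModΓ, DevLib.stalkLin_zero, LinearMap.zero_apply,
    smul_smul]
  exact (H1ZeroLib.qv_eq_zero_iff I x _).2 (Ideal.mul_mem_right _ _ (hc x))

variable {N : U.Modules}

/-- The map `N ⟶ O` given by such a function. -/
def eqMap (eN : CohB1.tensorMod (ClSub.idealMod I) N ≅ Coh.structureModule U)
    (σ : Coh.structureModule U ⟶ ClSub.idealMod I) : N ⟶ Coh.structureModule U :=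
  (unitL N).inv ≫ ((DCoh.tensorBi (X := U)).map σ).app N ≫ eN.hom

/-- On stalks the map is multiplication by the coefficient. -/
theorem stalkLin_eqMap (eN : CohB1.tensorMod (ClSub.idealMod I) N ≅ Coh.structureModule U)
    {σ : Coh.structureModule U ⟶ ClSub.idealMod I} {x : U} {g : (ClSub.idealMod I).presheaf.stalk x}
    {η : N.presheaf.stalk x} {α : U.presheaf.stalk x} (hσ : stalkLin σ x (ParaFLib.oneG x) = α • g)
    {η' : N.presheaf.stalk x}
    (hη : stalkLin (unitL N).inv x η' = DCohLib.stalkTensor x (Coh.structureModule U) N (ParaFLib.oneG x ⊗ₜ η)) :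
    stalkLin (eqMap I eN σ) x η' =
      α • stalkLin eN.hom x (DCohLib.stalkTensor x (ClSub.idealMod I) N (g ⊗ₜ η)) := by
  rw [eqMap, stalkLin_comp, stalkLin_comp, LinearMap.comp_apply, LinearMap.comp_apply, hη]
  have h : stalkLin (((DCoh.tensorBi (X := U)).map σ).app N) x
      (DCohLib.stalkTensor x (Coh.structureModule U) N (ParaFLib.oneG x ⊗ₜ η)) =
      α • DCohLib.stalkTensor x (ClSub.idealMod I) N (g ⊗ₜ η) := by
    refine (DCohLib.stalkTensor_natural_left x σ _).trans ?_
    rw [LinearMap.rTensor_tmul, hσ, ← TensorProduct.smul_tmul', map_smul]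
  erw [h]
  rw [map_smul]
  rfl

theorem stalkLin_neg_apply {M M' : U.Modules} (φ : M ⟶ M') (x : U) (z : M.presheaf.stalk x) :
    stalkLin (-φ) x z = -stalkLin φ x z := by
  refine eq_neg_of_add_eq_zero_left ?_
  rw [← AssTower.stalkLin_add, neg_add_cancel, DevLib.stalkLin_zero, LinearMap.zero_apply]

/-- **Two equations generate.** -/
theorem mem_span_pair [IsIntegral U] (hI : BlowUp.IsEffCartierIdeal I) (hN : PicF.IsInvertible N)
    (eN : CohB1.tensorMod (ClSub.idealMod I) N ≅ Coh.structureModule U)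
    (hN1 : Subsingleton (Coh.HH U N 1)) {a b c : Γ(U, ⊤)}
    (hab : ∀ x, IntMult.stalkIdeal I x =
      Ideal.span {(U.presheaf.germ ⊤ x trivial).hom a, (U.presheaf.germ ⊤ x trivial).hom b})
    (hc : ∀ x, (U.presheaf.germ ⊤ x trivial).hom c ∈ IntMult.stalkIdeal I x) :
    c ∈ Ideal.span {a, b} := by
  let O := Coh.structureModule U
  obtain ⟨σa, hσa⟩ := exists_ideal_lift I fun x => by rw [hab]; exact Ideal.subset_span (Set.mem_insert _ _)
  obtain ⟨σb, hσb⟩ := exists_ideal_lift I fun x => by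
    rw [hab]; exact Ideal.subset_span (Set.mem_insert_of_mem _ rfl)
  obtain ⟨σc, hσc⟩ := exists_ideal_lift I hc
  let ψ : N ⟶ O ⊞ O := biprod.lift (-eqMap I eN σb) (eqMap I eN σa)
  let χ : O ⊞ O ⟶ ClSub.idealMod I := biprod.desc σa σb
  have hst : ∀ (x : U) (z : (O ⊞ O : U.Modules).presheaf.stalk x),
      z = stalkLin biprod.inl x (stalkLin (biprod.fst : O ⊞ O ⟶ O) x z) +
        stalkLin biprod.inr x (stalkLin (biprod.snd : O ⊞ O ⟶ O) x z) := fun x z => by
    have h := congrArg (fun f => stalkLin f x z) (biprod.total (X := O) (Y := O))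
    simp only [AssTower.stalkLin_add, stalkLin_comp, LinearMap.comp_apply] at h
    rw [h, stalkLin_id]
    rfl
  -- local coordinates
  have key : ∀ x : U, ∃ (g : (ClSub.idealMod I).presheaf.stalk x) (α β : U.presheaf.stalk x) (η : N.presheaf.stalk x),
      (Function.Bijective fun r : U.presheaf.stalk x => r • g) ∧
      (Function.Bijective fun r : U.presheaf.stalk x => r • η) ∧ IsCoprime α β ∧
      stalkLin σa x (ParaFLib.oneG x) = α • g ∧ stalkLin σb x (ParaFLib.oneG x) = β • g ∧
      ∃ v : U.presheaf.stalk x, IsUnit v ∧ stalkLin (eqMap I eN σa) x η = (α * v) • ParaFLib.oneG x ∧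
        stalkLin (eqMap I eN σb) x η = (β * v) • ParaFLib.oneG x := fun x => by
    obtain ⟨g, hg⟩ := ParaFLib.exists_stalk_gen ((S8914.result I).2 hI) x
    obtain ⟨η₀, hη₀⟩ := ParaFLib.exists_stalk_gen hN x
    obtain ⟨α, hα⟩ := hg.2 (stalkLin σa x (ParaFLib.oneG x))
    obtain ⟨β, hβ⟩ := hg.2 (stalkLin σb x (ParaFLib.oneG x))
    obtain ⟨f, hf⟩ := (ParaFLib.bijective_oneG x).2 (stalkLin (ClSub.idealModι I) x g)
    simp only at hα hβ hf
    have hmono := (mono_iff_stalk (ClSub.idealModι I)).1 (inferInstanceAs (Mono (kernel.ι _))) x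
    have hfc : ∀ (σ : O ⟶ ClSub.idealMod I) (d : Γ(U, ⊤)) (δ : U.presheaf.stalk x),
        σ ≫ ClSub.idealModι I = Formal.smulModΓ O d → δ • g = stalkLin σ x (ParaFLib.oneG x) →
        (U.presheaf.germ ⊤ x trivial).hom d = δ * f := fun σ d δ h1 h2 => by
      apply (ParaFLib.bijective_oneG x).1
      show _ • ParaFLib.oneG x = (δ * f) • ParaFLib.oneG x
      rw [mul_smul, hf, ← map_smul, h2, ← LinearMap.comp_apply, ← stalkLin_comp, h1, BCLib.stalkLin_smulModΓ]
    have hgen : f ∈ IntMult.stalkIdeal I x := (HilbObsLib.mem_range_idealModι I x f).1 ⟨g, hf.symm⟩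
    rw [hab, hfc σa a α hσa hα, hfc σb b β hσb hβ, Ideal.mem_span_pair] at hgen
    obtain ⟨p, q, hpq⟩ := hgen
    have hf0 : f ≠ 0 := fun h0 => by
      rw [h0, zero_smul] at hf
      have hg0 : g = 0 := hmono (hf.symm.trans (map_zero _).symm)
      exact one_ne_zero (hg.1 (a₁ := 1) (a₂ := 0) (by simp [hg0]))
    have hco : IsCoprime α β := ⟨p, q, mul_right_cancel₀ hf0 (by linear_combination hpq)⟩
    have hbl : Function.Bijective (stalkLin (unitL N).inv x) := (isIso_iff_stalk (unitL N).inv).1 inferInstance x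
    obtain ⟨η, hη⟩ := hbl.2 (DCohLib.stalkTensor x O N (ParaFLib.oneG x ⊗ₜ η₀))
    have hηgen : Function.Bijective fun r : U.presheaf.stalk x => r • η := by
      rw [← Function.Bijective.of_comp_iff' hbl]
      show Function.Bijective fun r : U.presheaf.stalk x => stalkLin (unitL N).inv x (r • η)
      simp only [map_smul, hη]
      exact bijective_stalkTensor (ParaFLib.bijective_oneG x) hη₀
    obtain ⟨v, hv⟩ := (ParaFLib.bijective_oneG x).2 (stalkLin eN.hom x (DCohLib.stalkTensor x (ClSub.idealMod I) N (g ⊗ₜ η₀)))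
    simp only at hv
    have hvu : IsUnit v := by
      rw [← bijective_smul_iff (ParaFLib.bijective_oneG x), hv]
      exact (AVLib.bijective_stalkLin_iff_of_gen eN.hom (bijective_stalkTensor hg hη₀)).1
        ((isIso_iff_stalk eN.hom).1 inferInstance x)
    exact ⟨g, α, β, η, hg, hηgen, hco, hα.symm, hβ.symm, v, hvu,
      (stalkLin_eqMap I eN hα.symm hη).trans (by rw [mul_smul, hv]),
      (stalkLin_eqMap I eN hβ.symm hη).trans (by rw [mul_smul, hv])⟩
  have hχ : ∀ (x : U) (r s : U.presheaf.stalk x),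
      stalkLin χ x (stalkLin biprod.inl x (r • ParaFLib.oneG x) + stalkLin biprod.inr x (s • ParaFLib.oneG x)) =
        r • stalkLin σa x (ParaFLib.oneG x) + s • stalkLin σb x (ParaFLib.oneG x) := fun x r s => by
    rw [map_add, ← LinearMap.comp_apply, ← LinearMap.comp_apply (stalkLin χ x), ← stalkLin_comp, ← stalkLin_comp,
      biprod.inl_desc, biprod.inr_desc, map_smul, map_smul]
  have hψ : ∀ (x : U) (m : N.presheaf.stalk x), stalkLin ψ x m =
      stalkLin biprod.inl x (-stalkLin (eqMap I eN σb) x m) + stalkLin biprod.inr x (stalkLin (eqMap I eN σa) x m) :=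
    fun x m => by
    rw [hst x (stalkLin ψ x m), ← LinearMap.comp_apply (stalkLin biprod.fst x), ← stalkLin_comp,
      ← LinearMap.comp_apply (stalkLin biprod.snd x), ← stalkLin_comp, biprod.lift_fst, biprod.lift_snd]
    rw [stalkLin_neg_apply]
  have w : ψ ≫ χ = 0 := hom_ext_stalk fun x => LinearMap.ext fun m => by
    obtain ⟨g, α, β, η, hg, hη, -, hα, hβ, v, -, ha, hb⟩ := key x
    obtain ⟨t, rfl⟩ := hη.2 m
    rw [stalkLin_comp, LinearMap.comp_apply, DevLib.stalkLin_zero, LinearMap.zero_apply, hψ]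
    rw [map_smul, map_smul, ha, hb, smul_smul, smul_smul, ← neg_smul, hχ, hα, hβ, smul_smul, smul_smul, ← add_smul]
    convert zero_smul (U.presheaf.stalk x) g
    ring
  have hS : (ShortComplex.mk ψ χ w).ShortExact := by
    refine ShortComplex.ShortExact.mk' ?_ ?_ ?_
    · rw [ShortComplex.exact_iff_epi_kernel_lift]
      refine (epi_iff_stalk _).2 fun x z => ?_
      obtain ⟨g, α, β, η, hg, hη, ⟨p, q, hpq⟩, hα, hβ, v, ⟨v, rfl⟩, ha, hb⟩ := key x
      have hinj := (mono_iff_stalk (kernel.ι χ)).1 inferInstance x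
      obtain ⟨r, hr⟩ := (ParaFLib.bijective_oneG x).2 (stalkLin (biprod.fst : O ⊞ O ⟶ O) x (stalkLin (kernel.ι χ) x z))
      obtain ⟨s, hs⟩ := (ParaFLib.bijective_oneG x).2 (stalkLin (biprod.snd : O ⊞ O ⟶ O) x (stalkLin (kernel.ι χ) x z))
      simp only at hr hs
      have h0 := HilbObsLib.stalk_kernel_ι_comp χ x z
      rw [hst x (stalkLin (kernel.ι χ) x z), ← hr, ← hs, hχ, hα, hβ, smul_smul, smul_smul, ← add_smul] at h0
      have h1 : r * α + s * β = 0 := hg.1 (h0.trans (zero_smul _ _).symm)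
      refine ⟨((s * p - r * q) * ↑v⁻¹) • η, hinj ?_⟩
      rw [← LinearMap.comp_apply, ← stalkLin_comp, kernel.lift_ι]
      show stalkLin ψ x _ = _
      rw [hψ, hst x (stalkLin (kernel.ι χ) x z), ← hr, ← hs]
      simp only [map_smul, ha, hb, smul_smul, ← neg_smul]
      congr 2
      · linear_combination r * hpq - p * h1 - (s * p - r * q) * β * (v.mul_inv)
      · linear_combination s * hpq - q * h1 + (s * p - r * q) * α * (v.mul_inv)
    · refine (mono_iff_stalk _).2 fun x => (injective_iff_map_eq_zero _).2 fun m hm => ?_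
      obtain ⟨g, α, β, η, hg, hη, ⟨p, q, hpq⟩, -, -, v, hv, ha, hb⟩ := key x
      obtain ⟨t, rfl⟩ := hη.2 m
      have h1 := congrArg (stalkLin (biprod.fst : O ⊞ O ⟶ O) x) hm
      have h2 := congrArg (stalkLin (biprod.snd : O ⊞ O ⟶ O) x) hm
      change stalkLin (biprod.fst : O ⊞ O ⟶ O) x (stalkLin ψ x (t • η)) = _ at h1
      change stalkLin (biprod.snd : O ⊞ O ⟶ O) x (stalkLin ψ x (t • η)) = _ at h2
      rw [← LinearMap.comp_apply, ← stalkLin_comp, biprod.lift_fst, map_zero] at h1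
      rw [← LinearMap.comp_apply, ← stalkLin_comp, biprod.lift_snd, map_zero, map_smul, ha, smul_smul] at h2
      have h3 : stalkLin (eqMap I eN σb) x (t • η) = 0 := neg_eq_zero.1
        ((stalkLin_neg_apply (eqMap I eN σb) x (t • η)).symm.trans h1)
      rw [map_smul, hb, smul_smul] at h3
      have e1 := (ParaFLib.bijective_oneG x).1 (h2.trans (zero_smul (U.presheaf.stalk x) _).symm)
      have e2 := (ParaFLib.bijective_oneG x).1 (h3.trans (zero_smul (U.presheaf.stalk x) _).symm)
      have : t = 0 := hv.mul_left_eq_zero.1 (by linear_combination p * e1 + q * e2 - t * v * hpq)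
      show t • η = 0
      rw [this, zero_smul]
    · refine (epi_iff_stalk _).2 fun x z => ?_
      obtain ⟨g, α, β, η, hg, -, ⟨p, q, hpq⟩, hα, hβ, -, -, -, -⟩ := key x
      obtain ⟨t, rfl⟩ := hg.2 z
      refine ⟨stalkLin biprod.inl x ((t * p) • ParaFLib.oneG x) + stalkLin biprod.inr x ((t * q) • ParaFLib.oneG x), ?_⟩
      rw [hχ, hα, hβ, smul_smul, smul_smul, ← add_smul]
      congr 1
      linear_combination t * hpq
  haveI : Subsingleton (Coh.HH U (ShortComplex.mk ψ χ w).X₁ 1) := hN1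
  obtain ⟨τ, hτ⟩ := exists_lift hS σc
  -- read off the coefficients
  let u : Γ(U, ⊤) := (τ ≫ biprod.fst).app ⊤ (1 : Γ(U, ⊤))
  let u' : Γ(U, ⊤) := (τ ≫ biprod.snd).app ⊤ (1 : Γ(U, ⊤))
  have hτ2 : (τ ≫ biprod.fst) ≫ Formal.smulModΓ O a + (τ ≫ biprod.snd) ≫ Formal.smulModΓ O b =
      Formal.smulModΓ O c := by
    rw [← hσa, ← hσb, ← hσc, ← hτ]
    show _ = (τ ≫ χ) ≫ _
    have hd : χ = biprod.fst ≫ σa + biprod.snd ≫ σb := biprod.desc_eq
    refine Eq.trans ?_ (congrArg (fun q : (O ⊞ O : U.Modules) ⟶ _ => (τ ≫ q) ≫ ClSub.idealModι I) hd.symm)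
    simp [Preadditive.comp_add, Preadditive.add_comp, Category.assoc]
    rfl
  have h5 := congrArg (fun f => Scheme.Modules.Hom.app f ⊤ (1 : Γ(U, ⊤))) hτ2
  rw [Ideal.mem_span_pair]
  refine ⟨u, u', ?_⟩
  simp only [Scheme.Modules.Hom.add_app, Scheme.Modules.Hom.comp_app] at h5
  have hsm : ∀ (d e : Γ(U, ⊤)), (Formal.smulModΓ O d).app ⊤ e = d * e := fun d e => by
    show (U.presheaf.map (homOfLE (le_top : (⊤ : U.Opens) ≤ ⊤)).op).hom d * e = d * e
    rw [show (homOfLE (le_top : (⊤ : U.Opens) ≤ ⊤)).op = 𝟙 _ from rfl, CategoryTheory.Functor.map_id]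
    rfl
  change (Formal.smulModΓ O a).app ⊤ u + (Formal.smulModΓ O b).app ⊤ u' =
    (Formal.smulModΓ O c).app ⊤ (1 : Γ(U, ⊤)) at h5
  rw [hsm, hsm, hsm, mul_one] at h5
  rw [mul_comm u, mul_comm u']
  exact h5

end Groth.Agent.CastLib
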