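import Groth.Agent.CastLib.Contract
import Groth.Agent.CastLib.Koszul
import Groth.Agent.SurfPtBlow.Minimal

/-!
# Vanishing near a contracted line
-/

set_option autoImplicit false
set_option backward.isDefEq.respectTransparency false
set_option linter.style.haveILetI false
set_option maxHeartbeats 1000000

universe u

open CategoryTheory CategoryTheory.Limits AlgebraicGeometry TopologicalSpace
open Groth.Agent.IntLib (mk)
open Groth.Agent.AmpleLib

noncomputable section

namespace Groth.Agent.CastLib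

open Groth.Agent.SurfPtBlow

/-- All powers of an ample conormal bundle and the normal bundle have no `H¹`. -/
theorem vanish_of_isAmple {B : Type u} [CommRing B] [IsNoetherianRing B] {U : Scheme.{u}} [IsLocallyNoetherian U]
    (F : U ⟶ Spec (CommRingCat.of B)) [IsProper F] {k : Type u} [Field k] (j : CohB1.ProjSpace 1 k ⟶ U)
    [IsClosedImmersion j] (hC : BlowUp.IsEffCartierIdeal j.ker)
    (e : (Scheme.Modules.pullback j).obj (ClSub.idealMod j.ker) ≅ Twist.twistProjSpace 1 k 1)
    (hA : CohB1.IsAmple (ClSub.idealMod j.ker)) :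
    (∀ n : ℕ, Subsingleton (Coh.HH U (CohB1.tensorPow (ClSub.idealMod j.ker) n) 1)) ∧
      ∀ N : U.Modules, PicF.IsInvertible N → Nonempty (CohB1.tensorMod (ClSub.idealMod j.ker) N ≅ Coh.structureModule U) →
        Subsingleton (Coh.HH U N 1) := by
  have hI := hA.1
  obtain ⟨n₀, hn₀⟩ := AmpleEmb.serre_vanishing F hA (DevLib.isCoh_structureModule U)
  have hbig : ∀ n, n₀ ≤ n → Subsingleton (Coh.HH U (CohB1.tensorPow (ClSub.idealMod j.ker) n) 1) := fun n hn =>
    CurveLib.subsingleton_HH_iso (unitL _) 1 (hn₀ n hn 1 one_pos)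
  have hall : ∀ n : ℕ, Subsingleton (Coh.HH U (CohB1.tensorPow (ClSub.idealMod j.ker) n) 1) := fun n => by
    obtain ⟨d, hd⟩ : ∃ d, n₀ ≤ n + d := ⟨n₀, by omega⟩
    induction d generalizing n with
    | zero => exact hbig n hd
    | succ d ih =>
      refine subsingleton_step j (isInvertible_tensorPow hI n)
        (CurveLib.subsingleton_HH_iso (comm _ _) 1 (ih (n + 1) (by omega))) ?_
      rw [degOn_tensorPow j hI, degOn_self e]
      omega
  refine ⟨hall, fun N hN ⟨eN⟩ => subsingleton_step j hN (CurveLib.subsingleton_HH_iso eN.symm 1 (hall 0)) ?_⟩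
  have h := (degOn_congr j eN).trans (degOn_one j)
  rw [degOn_tensor j hI hN, degOn_self e] at h
  omega

variable {X Y : Scheme.{u}} [IsNoetherian X] [IsIntegral Y] [IsLocallyNoetherian Y]

omit [IsIntegral Y] [IsLocallyNoetherian Y] in
/-- Near the contracted line the conormal bundle is ample. -/
theorem exists_local (g : X ⟶ Y) [IsProper g] {k : Type u} [Field k]
    (j : CohB1.ProjSpace 1 k ⟶ X) [IsClosedImmersion j] (hC : BlowUp.IsEffCartierIdeal j.ker)
    (e : (Scheme.Modules.pullback j).obj (ClSub.idealMod j.ker) ≅ Twist.twistProjSpace 1 k 1)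
    {V : Y.Opens} (hjV : Set.range j ⊆ g ⁻¹ᵁ V) {H L : X.Modules} (hH : CohB1.IsAmple H) (hL : PicF.IsInvertible L)
    {r : ℕ} (hr : 0 < r)
    (hIL : Nonempty (CohB1.tensorMod (CohB1.tensorPow (ClSub.idealMod j.ker) r) L ≅ H))
    {τ : Coh.structureModule X ⟶ L} (hτ : g ⁻¹ᵁ V ≤ CohB1.genLocus L τ) :
    ∃ j' : CohB1.ProjSpace 1 k ⟶ (g ⁻¹ᵁ V).toScheme, j' ≫ (g ⁻¹ᵁ V).ι = j ∧ IsClosedImmersion j' ∧
      BlowUp.IsEffCartierIdeal j'.ker ∧ j.ker.comap (g ⁻¹ᵁ V).ι = j'.ker ∧
      Nonempty ((Scheme.Modules.pullback j').obj (ClSub.idealMod j'.ker) ≅ Twist.twistProjSpace 1 k 1) ∧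
      CohB1.IsAmple (ClSub.idealMod j'.ker) := by
  let W := g ⁻¹ᵁ V
  obtain ⟨j', hj', hci, hC', ⟨e'⟩⟩ := lift_exc j hC e W hjV
  haveI := hci
  have hker : j.ker.comap W.ι = j'.ker := by
    haveI : IsClosedImmersion (j' ≫ W.ι) := by rw [hj']; infer_instance
    have h := TwistShriek.comap_ker_of_mono j' W.ι
    rwa [hj'] at h
  refine ⟨j', hj', hci, hC', hker, ⟨e'⟩, ?_⟩
  haveI : CompactSpace W := by
    haveI : NoetherianSpace X := inferInstance
    exact isCompact_iff_compactSpace.mp (NoetherianSpace.isCompact (W : Set X))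
  have hI := (S8914.result j.ker).2 hC
  obtain ⟨e₁⟩ := JacLib.nonempty_iso_pullback_idealMod W.ι j.ker hC (hker ▸ hC')
  have htriv : mk ((Scheme.Modules.pullback W.ι).obj L) = 1 := by
    have hP := isInvertible_pullback W.ι hL
    have htop : CohB1.genLocus _ (pullS W.ι τ) = ⊤ := by
      rw [genLocus_pullS W.ι hL]
      exact eq_top_iff.2 fun z _ => hτ z.2
    haveI := GenMorph.isIso_of_genLocus_eq_top hP htop
    exact (IntLib.mk_congr (asIso (pullS W.ι τ))).symm
  obtain ⟨eIL⟩ := hIL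
  have hcls : mk (CohB1.tensorPow (ClSub.idealMod j'.ker) r) = mk ((Scheme.Modules.pullback W.ι).obj H) := by
    rw [← IntLib.pullCls_mk, ← IntLib.mk_congr eIL, IntLib.mk_tensor, map_mul, IntLib.pullCls_mk _ L, htriv, mul_one,
      IntLib.mk_tensorPow, IntLib.mk_tensorPow, map_pow, IntLib.pullCls_mk, IntLib.mk_congr e₁, hker]
  obtain ⟨f⟩ := IntLib.mk_eq_mk.1 hcls
  have hHA : CohB1.IsAmple ((Scheme.Modules.pullback W.ι).obj H) :=
    isAmple_pullback_of_isInducing W.ι W.ι.isOpenEmbedding.isInducing hH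
  exact (isAmple_pow_iff ((S8914.result _).2 hC') hr).1 (isAmple_of_iso f.symm hHA)

end Groth.Agent.CastLib
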