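import Groth.Agent.CastLib.PtSeqModel

/-!
# Comparing two models without exceptional curves
-/

set_option autoImplicit false
set_option backward.isDefEq.respectTransparency false
set_option linter.style.haveILetI false
set_option maxHeartbeats 1000000

universe u

open CategoryTheory CategoryTheory.Limits AlgebraicGeometry TopologicalSpace
open Groth.Agent.TwistShriek Groth.Agent.TwistShriek.PointBlow

noncomputable section

namespace Groth.Agent.CastLib

open Groth.Agent.SurfPtBlow

variable {R : Type u} [CommRing R] [IsDomain R] [IsDiscreteValuationRing R]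

/-- Some sequence of point blow-ups carries two exceptional curves which meet, one of them not contracted. -/
def MeetOver {W : Scheme.{u}} (g : W ⟶ Spec (CommRingCat.of R)) : Prop :=
  ∃ (Z : Scheme.{u}) (q : Z ⟶ W) (_ : PtSeq q) (C₁ C₂ : Scheme.{u}) (ι₁ : C₁ ⟶ Z) (ι₂ : C₂ ⟶ Z),
    IsClosedImmersion ι₁ ∧ IsClosedImmersion ι₂ ∧ Models.IsExcCurve ι₁ ∧ Models.IsExcCurve ι₂ ∧
    (∀ c, g (q (ι₁ c)) = IsLocalRing.closedPoint R) ∧ (∀ c, g (q (ι₂ c)) = IsLocalRing.closedPoint R) ∧
    Set.range ι₁ ≠ Set.range ι₂ ∧ ¬ Disjoint (Set.range ι₁) (Set.range ι₂) ∧ ∀ w, ∃ c, q (ι₁ c) ≠ w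

/-- An exceptional curve over the closed point not contracted by point blow-ups has exceptional image, unless two meet. -/
theorem exists_exc_or_meet {Z W : Scheme.{u}} {q : Z ⟶ W} (hq : PtSeq q) [hWi : IsIntegral W] [hWn : IsNoetherian W]
    (hreg : ∀ w : W, IsRegularLocalRing (W.presheaf.stalk w)) {g : W ⟶ Spec (CommRingCat.of R)} [hgp : IsProper g]
    {C : Scheme.{u}} (ι : C ⟶ Z) [hι : IsClosedImmersion ι] (hE : Models.IsExcCurve ι)
    (hy : ∀ c, g (q (ι c)) = IsLocalRing.closedPoint R) (hne : ∀ w, ∃ c, q (ι c) ≠ w) :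
    (∃ (C' : Scheme.{u}) (ι' : C' ⟶ W), IsClosedImmersion ι' ∧ Models.IsExcCurve ι' ∧
      ∀ c, g (ι' c) = IsLocalRing.closedPoint R) ∨ MeetOver g := by
  revert hWi hWn hreg g hgp ι hι hE hy hne
  induction hq with
  | refl W =>
    intro hWi hWn hreg g hgp ι hι hE hy hne
    exact Or.inl ⟨C, ι, hι, hE, hy⟩
  | @step Z Z₁ W b r z hz hzreg hd hb hr ih =>
    intro hWi hWn hreg g hgp ι hι hE hy hne
    obtain ⟨hint₁, hreg₁, hbir₁, -⟩ := hr.invariants hreg
    haveI := hint₁
    haveI := hr.isNoetherian.1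
    haveI := hr.isNoetherian.2
    haveI := PointBlow.isProper hb
    haveI := isNoetherian_blowUp hb
    obtain ⟨hint, hbirb⟩ := integral_blowUp hb hd
    haveI := hint
    obtain ⟨P⟩ := exists_pointParams hz hzreg hd
    have hgr : g (r z) = IsLocalRing.closedPoint R := apply_closed_eq (r ≫ g) hz
    have hFy : ∀ c, (b ≫ r ≫ g) (jE b hz c) = IsLocalRing.closedPoint R := fun c => by
      have hc : b (jE b hz c) = z := (range_jE_eq (π := b) (hw := hz)).le ⟨c, rfl⟩
      simp [hc, hgr]
    have hrne : Set.range ι ≠ Set.range (jE b hz) := fun h => by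
      obtain ⟨c, hc⟩ := hne (r z)
      refine hc ?_
      have hc' : b (ι c) = z := (range_jE_eq (π := b) (hw := hz)).le (h.le ⟨c, rfl⟩)
      show r (b (ι c)) = r z
      rw [hc']
    by_cases hdis : ¬ Disjoint (Set.range ι) (Set.range (jE b hz))
    · exact Or.inr ⟨Z, _, .step b r z hz hzreg hd hb hr, C, _, ι, jE b hz, hι, inferInstance, hE, isExcCurve hb P,
        fun c => by simpa using hy c, fun c => by simpa using hFy c, hrne, hdis, hne⟩
    rw [not_not] at hdis
    let U : Z₁.Opens := ⟨{z}ᶜ, hz.isOpen_compl⟩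
    haveI : IsIso (b ∣_ U) := isIso_restrict_compl hb U fun h => h rfl
    have hU : Set.range ι ⊆ b ⁻¹ᵁ U := by
      rintro _ ⟨c, rfl⟩ hcz
      exact Set.disjoint_left.1 hdis ⟨c, rfl⟩ ((range_jE_eq (π := b) (hw := hz)).ge hcz)
    obtain ⟨hci, hexc⟩ := exc_transport ι hE b U hU
    exact ih hreg (ι ≫ b) hexc (by simpa using hy) (by simpa using hne)

variable {X : Scheme.{u}} [IsIntegral X] [IsNoetherian X]

/-- Morphisms through point blow-ups descend to a model without exceptional curves. -/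
theorem exists_descend_or_meet (hX : ∀ x : X, IsRegularLocalRing (X.presheaf.stalk x))
    (hdX : topologicalKrullDim X ≤ 2) {g : X ⟶ Spec (CommRingCat.of R)} [IsProper g]
    (hexc : ∀ (C : Scheme.{u}) (ι : C ⟶ X) [IsClosedImmersion ι], Models.IsExcCurve ι →
      ¬ ∀ c, g (ι c) = IsLocalRing.closedPoint R)
    {Z X' : Scheme.{u}} {p : Z ⟶ X'} (hp : PtSeq p) [hi : IsIntegral X'] [hn : IsNoetherian X'] [hZi : IsIntegral Z]
    (hX' : ∀ x : X', IsRegularLocalRing (X'.presheaf.stalk x)) {g' : X' ⟶ Spec (CommRingCat.of R)} [hgp : IsProper g']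
    (hdZ : topologicalKrullDim Z ≤ 2) (q : Z ⟶ X) (hq : q ≫ g = p ≫ g') (hqgen : q (genericPoint Z) = genericPoint X)
    (hqst : IsIso (q.stalkMap (genericPoint Z))) :
    (∃ h : X' ⟶ X, h ≫ g = g' ∧ p ≫ h = q ∧ h (genericPoint X') = genericPoint X ∧
      IsIso (h.stalkMap (genericPoint X'))) ∨ MeetOver g := by
  revert hi hn hZi hX' g' hgp hdZ q hq hqgen hqst
  induction hp with
  | refl X' =>
    intro hi hn hZi hX' g' hgp hdZ q hq hqgen hqst
    exact Or.inl ⟨q, by rwa [Category.id_comp] at hq, Category.id_comp q, hqgen, hqst⟩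
  | @step Z Z₁ X' b r z hz hzreg hd hb hr ih =>
    intro hi hn hZi hX' g' hgp hdZ q hq hqgen hqst
    obtain ⟨hint₁, hreg₁, hbir₁, -⟩ := hr.invariants hX'
    haveI := hint₁
    haveI := hr.isNoetherian.1
    haveI := hr.isNoetherian.2
    haveI := PointBlow.isProper hb
    haveI := isNoetherian_blowUp hb
    obtain ⟨-, hbirb⟩ := integral_blowUp hb hd
    obtain ⟨P⟩ := exists_pointParams hz hzreg hd
    have hq' : q ≫ g = b ≫ r ≫ g' := by rw [hq, Category.assoc]
    haveI : IsProper (q ≫ g) := hq' ▸ inferInstance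
    haveI : IsProper q := IsProper.of_comp q g
    have hregZ := regular_blowUp hb hreg₁ hd
    have hgr : g' (r z) = IsLocalRing.closedPoint R := apply_closed_eq (r ≫ g') hz
    have hfib : ∀ w, b w = z → g (q w) = IsLocalRing.closedPoint R := fun w hw => by
      rw [← Scheme.Hom.comp_apply, hq']
      simp [hw, hgr]
    have hqbir := exists_iso_open (normal_of_regular hX) q hqgen hqst
    -- the exceptional curve is contracted
    by_cases hM : MeetOver g
    · exact Or.inr hM
    have hconst : ∃ x, ∀ w, b w = z → q w = x := by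
      by_contra hcon
      push Not at hcon
      have hne : ∀ x, ∃ c, q (jE b hz c) ≠ x := fun x => by
        obtain ⟨w, hw, hw'⟩ := hcon x
        obtain ⟨c, rfl⟩ := (range_jE_eq (π := b) (hw := hz)).ge hw
        exact ⟨c, hw'⟩
      have hmem : ∀ c, g (q (jE b hz c)) = IsLocalRing.closedPoint R := fun c =>
        hfib _ ((range_jE_eq (π := b) (hw := hz)).le ⟨c, rfl⟩)
      rcases isIso_or_ptSeq hregZ hdZ _ hX hdX q hqbir le_rfl with h | h
      · haveI := h
        haveI : IsIso (q ∣_ ⊤) := inferInstance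
        obtain ⟨hci, hexc'⟩ := exc_transport (jE b hz) (isExcCurve hb P) q ⊤ (fun _ _ => trivial)
        exact hexc _ (jE b hz ≫ q) hexc' (by simpa using hmem)
      · obtain ⟨C', ι', hι', hexc', hy'⟩ | hM' := exists_exc_or_meet h hX (jE b hz) (isExcCurve hb P) hmem hne
        · haveI := hι'
          exact hexc C' ι' hexc' hy'
        · exact hM hM'
    obtain ⟨x, hx⟩ := hconst
    obtain ⟨q₁, hq₁, -⟩ := existsUnique_desc hb hzreg hd q x hx
    obtain ⟨hgen₁, hst₁⟩ := birational_snd b hbirb q q₁ hq₁ hqgen hqst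
    have hq₁g : q₁ ≫ g = r ≫ g' := by
      obtain ⟨ψ, -, huniq⟩ := existsUnique_desc hb hzreg hd (b ≫ r ≫ g') (g' (r z))
        fun w hw => by simp [hw]
      refine (huniq (q₁ ≫ g) ?_).trans (huniq (r ≫ g') rfl).symm
      show b ≫ q₁ ≫ g = b ≫ r ≫ g'
      rw [reassoc_of% hq₁, hq']
    obtain ⟨h, h1, h2, h3, h4⟩ | hM' := ih hX' ((topologicalKrullDim_le_of_isClosedMap b.continuous b.isClosedMap
      (surjective_of_birational b hbirb)).trans hdZ) q₁ hq₁g hgen₁ hst₁
    · exact Or.inl ⟨h, h1, by rw [Category.assoc, h2, hq₁], h3, h4⟩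
    · exact Or.inr hM'

section Models

variable {C Y : Scheme.{u}} {f : C ⟶ Spec (CommRingCat.of (FractionRing R))} {p : X ⟶ Spec (CommRingCat.of R)}
  {q : Y ⟶ Spec (CommRingCat.of R)} {gX : C ⟶ X} {gY : C ⟶ Y}

/-- **The mapping property of minimal models.** -/
theorem exists_hom_or_meet [IsProper p] [IsProper q] [IsIntegral C] [IsIntegral Y] [IsNoetherian Y]
    (hX : ∀ x : X, IsRegularLocalRing (X.presheaf.stalk x)) (hdX : topologicalKrullDim X ≤ 2) 
    (hmin : ∀ Γ : ArSurf.VertComp R (Over.mk p), ¬ Models.IsExcCurve Γ.ι)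
    (hY : ∀ y : Y, IsRegularLocalRing (Y.presheaf.stalk y)) (hdY : topologicalKrullDim Y ≤ 2)
    (hgX : IsPullback gX f p (Spec.map (CommRingCat.ofHom (algebraMap R (FractionRing R)))))
    (hgY : IsPullback gY f q (Spec.map (CommRingCat.ofHom (algebraMap R (FractionRing R))))) :
    (∃ b : Y ⟶ X, b ≫ p = q ∧ gY ≫ b = gX ∧ Models.IsContractionSeq b) ∨ MeetOver p := by
  haveI := isOpenImmersion_gen hgX
  haveI := isOpenImmersion_gen hgY
  have hX0 : gX (genericPoint C) = genericPoint X := genericPoint_eq_of_isOpenImmersion gX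
  have hY0 : gY (genericPoint C) = genericPoint Y := genericPoint_eq_of_isOpenImmersion gY
  haveI := funMap_isIso_of_open gX hX0
  haveI := funMap_isIso_of_open gY hY0
  let zK : Spec Y.functionField ⟶ X := Spec.map (funMap gX hX0 ≫ inv (funMap gY hY0)) ≫ X.fromSpecStalk (genericPoint X)
  have hzC : Spec.map (funMap gY hY0) ≫ zK = C.fromSpecStalk (genericPoint C) ≫ gX := by
    rw [← fromSpecStalk_funMap gX hX0, ← Spec.map_comp_assoc, Category.assoc, IsIso.inv_hom_id, Category.comp_id]
  obtain ⟨Z, hZi, π, hπη, q', hπ, hq', hq'K⟩ := exists_ptSeq_extend hY hdY q p zK (by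
    rw [← cancel_epi (Spec.map (funMap gY hY0)), reassoc_of% hzC, reassoc_of% (fromSpecStalk_funMap gY hY0)]
    rw [hgX.w, hgY.w])
  haveI := hZi
  obtain ⟨-, -, hπbir, -⟩ := hπ.invariants hY
  haveI : IsIso (funMap π hπη) := by
    obtain ⟨V, hV, hVi⟩ := hπbir
    obtain ⟨hgen, hst⟩ := BirQFLib.birational_of_isIso_restrict π V hV hVi
    haveI := hst
    haveI : IsIso (Y.presheaf.stalkSpecializes (specializes_of_eq hπη)) :=
      ⟨Y.presheaf.stalkSpecializes (specializes_of_eq hπη.symm), by simp, by simp⟩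
    exact IsIso.comp_isIso' inferInstance inferInstance
  -- the map on the blown-up surface is birational
  let θ : X.functionField ⟶ Z.functionField := funMap gX hX0 ≫ inv (funMap gY hY0) ≫ funMap π hπη
  have hθ : Z.fromSpecStalk (genericPoint Z) ≫ q' = Spec.map θ ≫ X.fromSpecStalk (genericPoint X) := by
    rw [hq'K, ← Spec.map_comp_assoc]
    simp [θ]
  have hqgen : q' (genericPoint Z) = genericPoint X := by
    have h1 := congrArg (fun m => m (IsLocalRing.closedPoint Z.functionField)) hθ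
    simp only [Scheme.Hom.comp_apply, Scheme.fromSpecStalk_closedPoint] at h1
    rw [h1, Subsingleton.elim (α := PrimeSpectrum X.functionField)
      (Spec.map θ (IsLocalRing.closedPoint Z.functionField)) (IsLocalRing.closedPoint _), Scheme.fromSpecStalk_closedPoint]
  have hθ' : funMap q' hqgen = θ := Spec.map_injective ((cancel_mono (X.fromSpecStalk (genericPoint X))).1
    ((fromSpecStalk_funMap q' hqgen).trans hθ))
  have hqst : IsIso (q'.stalkMap (genericPoint Z)) := by
    haveI : IsIso (funMap q' hqgen) := by rw [hθ']; infer_instance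
    haveI : IsIso (X.presheaf.stalkSpecializes (specializes_of_eq hqgen)) :=
      ⟨X.presheaf.stalkSpecializes (specializes_of_eq hqgen.symm), by simp, by simp⟩
    haveI : IsIso (X.presheaf.stalkSpecializes (specializes_of_eq hqgen) ≫ q'.stalkMap (genericPoint Z)) :=
      ‹IsIso (funMap q' hqgen)›
    exact IsIso.of_isIso_comp_left (X.presheaf.stalkSpecializes (specializes_of_eq hqgen))
      (q'.stalkMap (genericPoint Z))
  obtain ⟨b, hb, hπb, hbgen, hbst⟩ | hM := exists_descend_or_meet hX hdX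
    (fun C' ι _ hι hy => (exists_vertComp p ι hι hy).elim fun Γ hΓ => hmin Γ hΓ)
    hπ hY (hπ.dim_le hdY) q' hq' hqgen hqst
  swap
  · exact Or.inr hM
  have hbg : gY ≫ b = gX := by
    haveI : IsDominant (C.fromSpecStalk (genericPoint C)) := ⟨by
      rw [DenseRange, dense_iff_closure_eq]
      exact Set.eq_univ_of_univ_subset (((genericPoint_spec C).def).ge.trans (closure_mono
        (Set.singleton_subset_iff.2 ⟨_, Scheme.fromSpecStalk_closedPoint⟩)))⟩
    refine ext_of_isDominant_of_isSeparated p (by rw [Category.assoc, hb, hgY.w, hgX.w])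
      (C.fromSpecStalk (genericPoint C)) ?_
    rw [← reassoc_of% (fromSpecStalk_funMap gY hY0), ← hzC]
    refine congrArg (_ ≫ ·) ?_
    rw [← cancel_epi (Spec.map (funMap π hπη)), reassoc_of% (fromSpecStalk_funMap π hπη), hπb, hq'K]
  refine Or.inl ⟨b, hb, hbg, ?_⟩
  haveI : IsProper (b ≫ p) := hb.symm ▸ ‹IsProper q›
  haveI : IsProper b := IsProper.of_comp b p
  rcases isIso_or_ptSeq hY hdY _ hX hdX b (exists_iso_open (normal_of_regular hX) b hbgen hbst) le_rfl with h | h
  · haveI := h
    exact Models.IsContractionSeq.iso (asIso b)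
  · exact h.isContractionSeq

end Models

end Groth.Agent.CastLib
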