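import Groth.Agent.CastLib.MinimalCompare
import Groth.Agent.CastLib.CompList
import Groth.Agent.CastLib.ExcMeet
import Groth.Agent.CastLib.NumType
import Groth.Agent.FinBirLib.Iso
import Groth.Agent.CastLib.Section

/-!
# Minimal models which are not unique
-/

set_option autoImplicit false
set_option backward.isDefEq.respectTransparency false
set_option backward.isDefEq.respectTransparency.types false
set_option linter.style.haveILetI false
set_option maxHeartbeats 1000000
set_option synthInstance.maxHeartbeats 200000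

universe u

open CategoryTheory CategoryTheory.Limits AlgebraicGeometry TopologicalSpace IsLocalRing

noncomputable section

namespace Groth.Agent.CastLib

open Groth.Agent.SurfPtBlow

variable {R : Type u} [CommRing R] [IsDomain R] [IsDiscreteValuationRing R]
variable {C Y : Scheme.{u}} {f : C ⟶ Spec (CommRingCat.of (FractionRing R))} {p : Y ⟶ Spec (CommRingCat.of R)}

/-- **A minimal model of a curve of genus zero has irreducible reduced closed fibre of genus zero.** -/
theorem fibre_of_minimal_genus_zero (hC : Curve.IsSmoothProperCurve (FractionRing R) C f) (hH0 : IsIso f.appTop)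
    (hY : Models.IsMinimalModel R Y p C f) (hg : Models.curveGenus (FractionRing R) C f = 0) :
    ∃ Γ : ArSurf.VertComp R (Over.mk p), Models.wdeg R (Over.mk p) Γ = 1 ∧ Models.h1 R (Over.mk p) Γ = 0 ∧
      Models.specialFibreIdeal R (Over.mk p) = Γ.ι.ker := by
  classical
  obtain ⟨n, Γ, hΓ⟩ := exists_componentList hC hY.1
  have hV := VSurf.of_model hC hY.1
  haveI : IsProper (Over.mk p).hom := hV.proper
  haveI : IsProper p := hY.1.2.1
  haveI : Flat p := hY.1.1.1
  obtain ⟨g, hgg⟩ := hY.1.1.2.2.2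
  have hconn : _root_.IsPreconnected (Models.specialFibreSet R (Over.mk p)) :=
    SteinConn.isPreconnected_closedFibre p (SurfPtBlow.toGlobal_surjective hgg hH0)
  obtain ⟨L, hL⟩ := exists_inverse_list hC hY.1 Γ
  obtain ⟨i₀⟩ := exists_index hC hH0 hY.1 hΓ
  let m : Fin n → ℕ := fun l => Models.mult R (Over.mk p) (Γ l)
  let A : Fin n → Fin n → ℤ := fun a b => ArSurf.inter R (Over.mk p) (L b) (Γ a)
  let w : Fin n → ℕ := fun l => Models.wdeg R (Over.mk p) (Γ l)
  let h : Fin n → ℕ := fun l => Models.h1 R (Over.mk p) (Γ l)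
  have hsymm : ∀ a b, a ≠ b → A a b = A b a := fun a b hab =>
    hV.inter_symm (fun e => hab (hΓ.1 e)) (hL a) (hL b)
  have hoff : ∀ a b, a ≠ b → 0 ≤ A a b := fun a b hab => (hV.inter_nonneg_of_ne (fun e => hab (hΓ.1 e)) (hL b)).1
  have hrow : ∀ a, ∑ b, (m b : ℤ) * A a b = 0 := fun a => hV.sum_mult_inter_list hΓ hL (Γ a)
  have hgen := genus_formula hC hH0 hY.1 hΓ hL
  rw [hg] at hgen
  have hw : ∀ l, 0 < w l ∧ w l ∣ h l ∧ (w l : ℤ) ∣ A l l := fun l =>
    ⟨(wdeg_dvd (Γ l)).1, (wdeg_dvd (Γ l)).2.1, (wdeg_dvd (Γ l)).2.2 (L l) (isInvertible_inverse_ideal (hL l))⟩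
  have hne : ∀ l, ¬ (h l = 0 ∧ A l l = -(w l : ℤ)) := fun l hl =>
    haveI := isProper_vertComp (Γ l)
    hY.2 (Γ l) ((isExcCurve_iff (k := ResidueField R) (Γ l).dim_eq (Γ l).ι (hV.isEffCartier_ker (Γ l)) (hL l)).2 hl)
  have hn1 : n = 1 := by
    by_contra hn
    have hneg : ∀ l, A l l < 0 := fun l => by
      have hsum : ∀ a : Fin n → ℤ, (∀ j, a j = if j = l then 1 else 0) → ∑ i, ∑ j, a i * a j * A i j = A l l := by
        intro a ha
        simp [ha, Finset.sum_ite_eq']
      let a : Fin n → ℤ := fun j => if j = l then 1 else 0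
      refine lt_of_le_of_ne (hsum a (fun _ => rfl) ▸
        CastLib.form_nonpos A m hsymm hoff (hV.mult_pos hΓ) (fun i => (hrow i).le) a) fun h0 => ?_
      obtain ⟨c, hc⟩ := proportional_of_form_eq_zero A m hsymm hoff (hV.mult_pos hΓ) hrow
        (fun I hI hI' => hV.exists_link hΓ hconn hL I hI hI') a ((hsum a fun _ => rfl).trans h0)
      have hcl : (1 : ℚ) = c * m l := by simpa [a] using hc l
      have hc0 : c ≠ 0 := fun h => by simp [h] at hcl
      haveI : Nontrivial (Fin n) := Fin.nontrivial_iff_two_le.2 (by have := i₀.pos; omega)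
      obtain ⟨l', hl'⟩ := exists_ne l
      have h1 := hc l'
      simp [a, hl', hc0, (hV.mult_pos hΓ l').ne', m] at h1
    have hterm : ∀ i : Fin n, 0 ≤ (m i : ℤ) * (2 * ((h i : ℤ) - (w i : ℤ)) - A i i) := fun i => by
      refine mul_nonneg (Int.natCast_nonneg _) ?_
      obtain ⟨h1, ⟨b, hb⟩, ⟨q, hq⟩⟩ := hw i
      rcases Nat.eq_zero_or_pos b with rfl | hb0
      · rw [mul_zero] at hb
        have h2 : A i i ≠ -(w i : ℤ) := fun e => hne i ⟨hb, e⟩
        have h3 := hneg i
        rw [hq] at h2 h3 ⊢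
        have h4 : q ≤ -2 := by
          by_contra hcon
          rcases lt_or_ge q 0 with hq0 | hq0
          · obtain rfl : q = -1 := by omega
            exact h2 (by ring)
          · have := mul_nonneg (Int.natCast_nonneg (w i)) hq0
            omega
        have h5 := mul_le_mul_of_nonneg_left h4 (Int.natCast_nonneg (w i))
        rw [hb]
        omega
      · have h2 : w i ≤ h i := hb ▸ Nat.le_mul_of_pos_right _ hb0
        have := hneg i
        omega
    have h0 : 0 ≤ ∑ i, (m i : ℤ) * (2 * ((h i : ℤ) - (w i : ℤ)) - A i i) := Finset.sum_nonneg fun i _ => hterm i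
    have h9 : ∑ i, (m i : ℤ) * (2 * ((h i : ℤ) - (w i : ℤ)) - A i i) = -2 := by
      simp only [m, h, w, A]; omega
    omega
  subst hn1
  obtain rfl : i₀ = 0 := Subsingleton.elim _ _
  have hA : A 0 0 = 0 := by
    have h1 := hrow 0
    rw [Fin.sum_univ_one] at h1
    exact (mul_eq_zero.1 h1).resolve_left (by exact_mod_cast (hV.mult_pos hΓ 0).ne')
  rw [Fin.sum_univ_one] at hgen
  have h1 : (m 0 : ℤ) * ((w 0 : ℤ) - (h 0 : ℤ)) = 1 := by
    have h2 : (m 0 : ℤ) * (2 * ((h 0 : ℤ) - (w 0 : ℤ)) - A 0 0) = -2 := by simp only [m, h, w, A]; omega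
    rw [hA] at h2
    linarith
  have hm : m 0 = 1 := by exact_mod_cast Int.eq_one_of_mul_eq_one_right (Int.natCast_nonneg _) h1
  rw [hm, Nat.cast_one, one_mul] at h1
  obtain ⟨hw0, ⟨b, hb⟩, -⟩ := hw 0
  have hb' : (w 0 : ℤ) * (1 - (b : ℤ)) = 1 := by
    refine Eq.trans ?_ h1
    rw [hb]
    push_cast
    ring
  have hwone : w 0 = 1 := by exact_mod_cast Int.eq_one_of_mul_eq_one_right (Int.natCast_nonneg _) hb'
  refine ⟨Γ 0, hwone, show h 0 = 0 by omega, ?_⟩
  obtain ⟨-, hfib⟩ := hV.toFibreGood.fibre_eq_prod hΓ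
  rw [hfib, Fin.prod_univ_one, show Models.mult R (Over.mk p) (Γ 0) = 1 from hm, pow_one]

/-- The closed fibre is the curve which cuts it out. -/
theorem specialFibre_iso (Γ : ArSurf.VertComp R (Over.mk p))
    (hfib : Models.specialFibreIdeal R (Over.mk p) = Γ.ι.ker) :
    ∃ e : Models.specialFibre R Y p ≅ Γ.curve.left, e.hom ≫ Γ.curve.hom =
      pullback.snd p (Spec.map (CommRingCat.ofHom (algebraMap R (ResidueField R)))) := by
  let s := Spec.map (CommRingCat.ofHom (algebraMap R (ResidueField R)))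
  haveI : IsClosedImmersion s := IsClosedImmersion.spec_of_surjective _ IsLocalRing.residue_surjective
  let i : pullback p s ⟶ Y := pullback.fst p s
  let j : Γ.curve.left ⟶ Y := Γ.ι
  haveI : IsClosedImmersion j := Γ.isClosedImmersion
  have hker : i.ker = j.ker := by
    show _ = Γ.ι.ker
    rw [← hfib]
    have h1 : i.ker = SurfPtBlow.fibreIdeal p := by
      rw [SurfPtBlow.fibreIdeal, ← IsLocalRing.ker_residue (R := R), ← TwistShriek.ker_specMap]
      exact Scheme.IdealSheafData.ker_fst_of_isClosedImmersion s p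
    exact h1
  let a : pullback p s ⟶ Γ.curve.left := IsClosedImmersion.lift j i hker.ge
  have ha : a ≫ j = i := IsClosedImmersion.lift_fac _ _ _
  let b : Γ.curve.left ⟶ pullback p s := IsClosedImmersion.lift i j hker.le
  have hb : b ≫ i = j := IsClosedImmersion.lift_fac _ _ _
  refine ⟨⟨a, b, by rw [← cancel_mono i, Category.assoc, hb, ha, Category.id_comp],
    by rw [← cancel_mono j, Category.assoc, ha, hb, Category.id_comp]⟩, ?_⟩
  show a ≫ Γ.curve.hom = pullback.snd p s
  rw [← cancel_mono s, Category.assoc, show Γ.curve.hom ≫ s = j ≫ p from Γ.w.symm, reassoc_of% ha]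
  exact pullback.condition

theorem isGenericPoint_or_closed {Z : Scheme.{u}} [IsIntegral Z] (hdim : topologicalKrullDim Z ≤ 1) (y : Z) :
    y = genericPoint Z ∨ IsClosed ({y} : Set Z) := by
  by_contra hcon
  rw [not_or] at hcon
  refine hcon.2 ?_
  rw [← closure_eq_iff_isClosed]
  refine Set.Subset.antisymm (fun d hd => ?_) subset_closure
  rw [Set.mem_singleton_iff]
  by_contra hne
  have hsp : y ⤳ d := specializes_iff_mem_closure.2 hd
  have h1 : d < y := lt_of_le_not_ge (Scheme.le_iff_specializes.2 hsp) fun h =>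
    hne ((Scheme.le_iff_specializes.1 h).antisymm hsp).eq
  have h2 : y < genericPoint Z := lt_of_le_not_ge (Scheme.le_iff_specializes.2 (genericPoint_specializes _)) fun h =>
    hcon.1 ((Scheme.le_iff_specializes.1 h).antisymm (genericPoint_specializes y)).eq
  rw [ASp.topologicalKrullDim_eq_krullDim] at hdim
  have h3 := (Order.LTSeries.length_le_krullDim (((RelSeries.singleton _ d).snoc y h1).snoc (genericPoint Z)
    (by simpa using h2))).trans hdim
  simp only [RelSeries.snoc_length, RelSeries.singleton_length] at h3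
  exact absurd h3 (by decide)

/-- **Where two exceptional curves meet over a minimal model, its closed fibre is a line.** -/
theorem exists_iso_P1_of_meet (hC : Curve.IsSmoothProperCurve (FractionRing R) C f) (hH0 : IsIso f.appTop)
    (hY : Models.IsMinimalModel R Y p C f) (hmeet : MeetOver p) :
    ∃ e : Models.specialFibre R Y p ≅ CohB1.ProjSpace 1 (ResidueField R),
      e.hom ≫ CohB1.ProjSpace.toSpec 1 (ResidueField R) =
        pullback.snd p (Spec.map (CommRingCat.ofHom (algebraMap R (ResidueField R)))) := by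
  classical
  obtain ⟨Z, q, hq, C₁, C₂, ι₁, ι₂, hι₁, hι₂, hE₁, hE₂, hv₁, hv₂, hne, hmt, hcon⟩ := hmeet
  haveI := hι₁
  haveI := hι₂
  have hZ := model_of_ptSeq hC hY.1 hq
  have hVZ := VSurf.of_model hC hZ
  haveI : IsIntegral Z := hVZ.int
  haveI : IsNoetherian Z := hVZ.noeth
  haveI : IsProper (Over.mk (q ≫ p)).hom := hVZ.proper
  have hV := VSurf.of_model hC hY.1
  haveI : IsIntegral Y := hV.int
  haveI : IsNoetherian Y := hV.noeth
  haveI : IsProper p := hY.1.2.1
  haveI : IsProper (Over.mk p).hom := hV.proper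
  haveI := hq.isNoetherian.2
  obtain ⟨n, Γ, hΓ⟩ := exists_componentList hC hZ
  obtain ⟨hco, -, hall⟩ := hVZ.toFibreGood.componentList hΓ
  have hfind : ∀ {E : Scheme.{u}} (ι : E ⟶ Z) [IsClosedImmersion ι], Models.IsExcCurve ι →
      (∀ c, p (q (ι c)) = closedPoint R) → ∃ i, Set.range (Γ i).ι = Set.range ι ∧ Models.IsExcCurve (Γ i).ι := by
    intro E ι hι hE hv
    obtain ⟨-, k, hk, e, -⟩ := id hE
    haveI := isIntegral_P1 (k := k)
    haveI : Nonempty E := ⟨e.hom (genericPoint _)⟩
    haveI : IsIntegral E := isIntegral_of_isOpenImmersion e.inv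
    let res := Spec.map (CommRingCat.ofHom (IsLocalRing.residue R))
    haveI : IsClosedImmersion res := IsClosedImmersion.spec_of_surjective _ IsLocalRing.residue_surjective
    obtain ⟨t, ht⟩ := DVRCrit.exists_factor_closed res (ι ≫ q ≫ p) (by
      rintro _ ⟨c, rfl⟩
      exact ⟨IsLocalRing.closedPoint _, (IsLocalRing.comap_closedPoint (IsLocalRing.residue R)).trans (hv c).symm⟩)
    have hdim : topologicalKrullDim E = 1 := by
      rw [← dim_P1 (k := k)]
      exact (e.inv.homeomorph.isHomeomorph.topologicalKrullDim_eq)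
    let Δ : ArSurf.VertComp R (Over.mk (q ≫ p)) := ⟨Over.mk t, ι, hι, ‹IsIntegral E›, hdim, ht.symm⟩
    obtain ⟨i, hi⟩ := hall (Models.genPtOf R _ Δ) (vertComp_vertical Δ _) (hVZ.coheight_genPtOf Δ)
    refine ⟨i, (range_vertComp (Γ i)).trans ((congrArg (fun z => closure {z}) hi).trans (range_vertComp Δ).symm), ?_⟩
    exact isExcCurve_of_ker_eq (ι := Δ.ι)
      ((ker_vertComp Δ).trans ((congrArg cl hi.symm).trans (ker_vertComp (Γ i)).symm)) hE
  obtain ⟨i, hir, hi⟩ := hfind ι₁ hE₁ hv₁
  obtain ⟨j, hjr, hj⟩ := hfind ι₂ hE₂ hv₂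
  have hij : i ≠ j := fun e => hne (hir.symm.trans (e ▸ hjr))
  obtain ⟨-, -, hP, -, hg0⟩ := excCurves_meet hC hH0 hZ hΓ hij hi hj (by rw [hir, hjr]; exact hmt)
  obtain ⟨Δ, hw, hh1, hfib⟩ := fibre_of_minimal_genus_zero hC hH0 hY hg0
  obtain ⟨e₁, he₁⟩ := hP i
  obtain ⟨esp, hesp⟩ := specialFibre_iso Δ hfib
  suffices hiso : ∃ φ : (Γ i).curve.left ≅ Δ.curve.left, φ.hom ≫ Δ.curve.hom = (Γ i).curve.hom by
    obtain ⟨φ, hφ⟩ := hiso
    refine ⟨esp ≪≫ φ.symm ≪≫ e₁, ?_⟩
    simp only [Iso.trans_hom, Iso.symm_hom, Category.assoc, he₁]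
    rw [← hφ, φ.inv_hom_id_assoc, hesp]
  -- the map between the two curves
  let jZ : (Γ i).curve.left ⟶ Z := (Γ i).ι
  let jY : Δ.curve.left ⟶ Y := Δ.ι
  haveI : IsClosedImmersion jZ := (Γ i).isClosedImmersion
  haveI : IsClosedImmersion jY := Δ.isClosedImmersion
  have hfibset : ∀ y : Y, p y = closedPoint R → y ∈ Set.range jY := fun y hy => by
    have h1 := (FibreGood.mem_fibre (X := Over.mk p)).2 hy
    rw [show fibreIdeal (Over.mk p).hom = Δ.ι.ker from hfib, ← SetLike.mem_coe, support_ker] at h1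
    exact h1
  obtain ⟨φ, hφ⟩ := DVRCrit.exists_factor_closed jY (jZ ≫ q) (by
    rintro _ ⟨c, rfl⟩
    exact hfibset _ (vertComp_vertical (Γ i) c))
  let res := Spec.map (CommRingCat.ofHom (IsLocalRing.residue R))
  haveI : IsClosedImmersion res := IsClosedImmersion.spec_of_surjective _ IsLocalRing.residue_surjective
  have hφk : φ ≫ Δ.curve.hom = (Γ i).curve.hom := by
    rw [← cancel_mono res, Category.assoc]
    have h1 : Δ.curve.hom ≫ res = jY ≫ p := Δ.w.symm
    have h2 : (Γ i).curve.hom ≫ res = jZ ≫ q ≫ p := (Γ i).w.symm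
    rw [h1, h2, reassoc_of% hφ]
  haveI : IsProper (Γ i).curve.hom := isProper_vertComp (Γ i)
  haveI : IsProper Δ.curve.hom := isProper_vertComp Δ
  haveI : IsProper φ := by
    haveI : IsProper (φ ≫ Δ.curve.hom) := hφk.symm ▸ inferInstance
    exact IsProper.of_comp φ Δ.curve.hom
  -- the generic point goes to the generic point
  have hgen : φ (genericPoint (Γ i).curve.left) = genericPoint Δ.curve.left := by
    refine (isGenericPoint_or_closed Δ.dim_eq.le _).resolve_right fun hcl => ?_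
    obtain ⟨c, hc⟩ := hcon (jY (φ (genericPoint (Γ i).curve.left)))
    obtain ⟨c', hc'⟩ := hir.ge ⟨c, rfl⟩
    refine hc ?_
    have h1 : φ c' = φ (genericPoint (Γ i).curve.left) := by
      have h2 := ((genericPoint_specializes c').map φ.continuous).mem_closure
      rwa [hcl.closure_eq, Set.mem_singleton_iff] at h2
    rw [← h1, ← hc']
    exact (congrArg (fun ψ : (Γ i).curve.left ⟶ Y => ψ c') hφ).symm
  haveI : Surjective φ := ⟨fun y => by
    have h1 := φ.isClosedMap _ isClosed_univ
    rw [Set.image_univ] at h1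
    exact h1.stableUnderSpecialization (genericPoint_specializes y) ⟨_, hgen⟩⟩
  -- an open over which it is an isomorphism
  obtain ⟨F, hF, -, hFcl, hiso⟩ := ptSeq_iso_compl hq
  let V : Y.Opens := ⟨Fᶜ, hF.isOpen_compl⟩
  let U : Δ.curve.left.Opens := jY ⁻¹ᵁ V
  have hgU : genericPoint Δ.curve.left ∈ U := fun hmem : jY (genericPoint Δ.curve.left) ∈ F =>
    not_isClosed_of_coheight_one hC hY.1 (vertComp_vertical Δ _) (hV.coheight_genPtOf Δ) (hFcl _ hmem)
  have hU : Dense (U : Set Δ.curve.left) := U.2.dense ⟨_, hgU⟩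
  have hU' : Dense ((φ ⁻¹ᵁ U : (Γ i).curve.left.Opens) : Set (Γ i).curve.left) :=
    (φ ⁻¹ᵁ U).2.dense ⟨genericPoint _, show φ _ ∈ U from hgen.symm ▸ hgU⟩
  haveI hφU : IsIso (φ ∣_ U) := by
    haveI := hiso
    haveI : IsClosedImmersion ((φ ≫ jY) ∣_ V) := by
      rw [hφ, morphismRestrict_comp]
      infer_instance
    haveI : IsClosedImmersion (φ ∣_ U ≫ jY ∣_ V) := by
      rw [← morphismRestrict_comp]; infer_instance
    haveI : IsClosedImmersion (φ ∣_ U) := IsClosedImmersion.of_comp (φ ∣_ U) (jY ∣_ V)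
    haveI : Surjective (φ ∣_ U) := IsZariskiLocalAtTarget.restrict (P := @Surjective) inferInstance U
    exact isIso_of_isClosedImmersion_of_surjective (φ ∣_ U)
  have h0 : Function.Surjective (φ.app ⊤) := fun a => by
    haveI := isProper_vertComp (Γ i)
    have hF' : IsField Γ((Γ i).curve.left, ⊤) := isField_of_universallyClosed (K := ResidueField R) (Γ i).curve.hom
    have hP0 := (finrank_HH_P1 (ResidueField R)).1
    have hbij := CurveP1Lib.bijective_toGlobal_of_h0 (k := ResidueField R) hP0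
    obtain ⟨r, hr⟩ := hbij.2 (e₁.inv.appTop a)
    refine ⟨Coh.toGlobal Δ.curve.hom r, ?_⟩
    refine (ConcreteCategory.bijective_of_isIso e₁.inv.appTop).1 (Eq.trans ?_ hr)
    show e₁.inv.appTop (φ.appTop (Δ.curve.hom.appTop ((Scheme.ΓSpecIso _).inv r))) = _
    rw [← ConcreteCategory.comp_apply, ← ConcreteCategory.comp_apply, ← Scheme.Hom.comp_appTop,
      ← Scheme.Hom.comp_appTop, Category.assoc, hφk, ← he₁, e₁.inv_hom_id_assoc]
    rfl
  have h1 : Curv2.genus (ResidueField R) (Γ i).curve.left = Curv2.genus (ResidueField R) Δ.curve.left := by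
    have hi1 : Models.h1 R (Over.mk (q ≫ p)) (Γ i) = 0 := by
      obtain ⟨L, hL⟩ := exists_inverse_idealMod (hVZ.isEffCartier_ker (Γ i))
      haveI := isProper_vertComp (Γ i)
      exact ((isExcCurve_iff (k := ResidueField R) (Γ i).dim_eq (Γ i).ι (hVZ.isEffCartier_ker (Γ i)) hL).1 hi).1
    exact hi1.trans hh1.symm
  haveI := isProper_vertComp Δ
  haveI : IsIso φ := FinBirLib.isIso_of_genus_eq (ResidueField R) Δ.dim_eq.le φ hφk U hU hU' hφU h0 h1
  exact ⟨asIso φ, hφk⟩

end Groth.Agent.CastLib
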