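import Groth.Agent.CastLib.MinimalP1
import Groth.Agent.ProjSmoothLib.Basic
import Mathlib.AlgebraicGeometry.Morphisms.SmoothFiber

/-!
# Minimal models under good reduction
-/

set_option autoImplicit false
set_option backward.isDefEq.respectTransparency false
set_option backward.isDefEq.respectTransparency.types false
set_option linter.style.haveILetI false
set_option maxHeartbeats 1000000
set_option synthInstance.maxHeartbeats 200000

universe u

open CategoryTheory CategoryTheory.Limits AlgebraicGeometry TopologicalSpace IsLocalRing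

noncomputable section

namespace Groth.Agent.CastLib

open Groth.Agent.SurfPtBlow

variable {R : Type u} [CommRing R] [IsDomain R] [IsDiscreteValuationRing R]
variable {C X Y : Scheme.{u}} {f : C ⟶ Spec (CommRingCat.of (FractionRing R))} {p : X ⟶ Spec (CommRingCat.of R)}
  {q : Y ⟶ Spec (CommRingCat.of R)}

/-- **Two minimal models are isomorphic, or their closed fibre is a line.** -/
theorem iso_or_P1 (hC : Curve.IsSmoothProperCurve (FractionRing R) C f) (hH0 : IsIso f.appTop)
    (hX : Models.IsMinimalModel R X p C f) (hY : Models.IsMinimalModel R Y q C f) {gX : C ⟶ X}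
    (hgX : IsPullback gX f p (Spec.map (CommRingCat.ofHom (algebraMap R (FractionRing R))))) {gY : C ⟶ Y}
    (hgY : IsPullback gY f q (Spec.map (CommRingCat.ofHom (algebraMap R (FractionRing R))))) :
    (∃ e : Y ≅ X, e.hom ≫ p = q ∧ gY ≫ e.hom = gX) ∨
      ∃ e : Models.specialFibre R X p ≅ CohB1.ProjSpace 1 (ResidueField R),
        e.hom ≫ CohB1.ProjSpace.toSpec 1 (ResidueField R) =
          pullback.snd p (Spec.map (CommRingCat.ofHom (algebraMap R (ResidueField R)))) := by
  obtain ⟨hp, hXi, hXn, hXd⟩ := model_facts hC hX.1 hgX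
  obtain ⟨hq, hYi, hYn, hYd⟩ := model_facts hC hY.1 hgY
  haveI := hp
  haveI := hq
  haveI := hXi
  haveI := hYi
  haveI := hXn
  haveI := hYn
  haveI : IsIntegral C := hC.2.2.1
  rcases exists_hom_or_meet hX.1.2.2 hXd hX.2 hY.1.2.2 hYd hgX hgY with ⟨b, hb, hbg, hseq⟩ | hM
  · refine Or.inl ?_
    cases hseq with
    | iso e => exact ⟨e, hb, hbg⟩
    | @step _ Z' _ E ι b₀ r hι hE hb₀ hr =>
      exfalso
      haveI := hι
      haveI : IsProper ((b₀ ≫ r) ≫ p) := hb.symm ▸ hq
      haveI : IsProper (b₀ ≫ r) := IsProper.of_comp (b₀ ≫ r) p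
      obtain ⟨-, -, y, -, hrange, -⟩ := hb₀
      have himg : (b₀ ≫ r) '' Set.range ι = {r y} := by
        refine Set.Subset.antisymm ?_ ?_
        · rintro _ ⟨_, ⟨c, rfl⟩, rfl⟩
          exact congrArg r (hrange.le ⟨c, rfl⟩)
        · rintro _ rfl
          obtain ⟨c, hc⟩ := hrange.ge (Set.mem_singleton y)
          exact ⟨ι c, ⟨c, rfl⟩, congrArg r hc⟩
      have hry : IsClosed ({r y} : Set X) := himg ▸ (b₀ ≫ r).isClosedMap _ ι.isClosedEmbedding.isClosed_range
      obtain ⟨Γ, hΓ⟩ := exists_vertComp q ι hE fun c => by
        rw [← hb, Scheme.Hom.comp_apply]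
        have h1 : (b₀ ≫ r) (ι c) = r y := himg.le ⟨ι c, ⟨c, rfl⟩, rfl⟩
        rw [h1]
        exact apply_closed_eq p hry
      exact hY.2 Γ hΓ
  · exact Or.inr (exists_iso_P1_of_meet hC hH0 hX hM)

/-- A fibre computed from a point with values in a field which embeds by a monomorphism. -/
theorem smooth_fibre_of_field_point {S : Scheme.{u}} (t : X ⟶ S) {K : Type u} [Field K]
    (j : Spec (CommRingCat.of K) ⟶ S) [IsPreimmersion j] (s : S) (hs : j (closedPoint K) = s)
    (h : Smooth (pullback.snd t j)) : Smooth (t.fiberToSpecResidueField s) := by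
  subst hs
  let φ := S.descResidueField (Scheme.stalkClosedPointTo j)
  have hj : Spec.map φ ≫ S.fromSpecResidueField (j (closedPoint K)) = j :=
    Scheme.descResidueField_stalkClosedPointTo_fromSpecResidueField K S j
  have hsurj : Function.Surjective φ := fun a => by
    obtain ⟨z, hz⟩ := j.stalkMap_surjective (closedPoint K) ((stalkClosedPointIso (CommRingCat.of K)).inv a)
    refine ⟨S.residue _ z, ?_⟩
    rw [← ConcreteCategory.comp_apply, Scheme.residue_descResidueField]
    show (stalkClosedPointIso (CommRingCat.of K)).hom (j.stalkMap (closedPoint K) z) = a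
    rw [hz, Iso.inv_hom_id_apply]
  haveI : IsIso φ := (ConcreteCategory.isIso_iff_bijective φ).2 ⟨φ.hom.injective, hsurj⟩
  haveI : IsIso (Spec.map φ) := inferInstance
  have h1 : IsPullback (pullback.fst t j) (pullback.snd t j ≫ Spec.map φ) t
      (S.fromSpecResidueField (j (closedPoint K))) :=
    IsPullback.of_iso (IsPullback.of_hasPullback t j) (Iso.refl _) (Iso.refl _) (asIso (Spec.map φ)) (Iso.refl _)
      (by simp) (by simp) (by simp) (by simp [hj])
  show Smooth (pullback.snd t (S.fromSpecResidueField (j (closedPoint K))))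
  rw [← h1.isoPullback_inv_snd]
  infer_instance

/-- A model with smooth closed fibre of a smooth curve is smooth. -/
theorem smooth_of_smooth_closedFibre (hC : Curve.IsSmoothProperCurve (FractionRing R) C f)
    (hX : Models.IsRegularProperModel R X p C f)
    (h : Smooth (pullback.snd p (Spec.map (CommRingCat.ofHom (algebraMap R (ResidueField R)))))) : Smooth p := by
  obtain ⟨g, hg⟩ := hX.1.2.2.2
  haveI : Flat p := hX.1.1
  haveI : LocallyOfFiniteType p := hX.1.2.1
  haveI : LocallyOfFinitePresentation p := inferInstance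
  refine Smooth.of_smooth_fiberToSpecResidueField p fun s => ?_
  by_cases hs : s = closedPoint R
  · haveI : IsClosedImmersion (Spec.map (CommRingCat.ofHom (algebraMap R (ResidueField R)))) :=
      IsClosedImmersion.spec_of_surjective _ IsLocalRing.residue_surjective
    exact smooth_fibre_of_field_point p (Spec.map (CommRingCat.ofHom (algebraMap R (ResidueField R)))) s
      (by rw [hs]; exact IsLocalRing.comap_closedPoint (IsLocalRing.residue R)) h
  · let gK := Spec.map (CommRingCat.ofHom (algebraMap R (FractionRing R)))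
    haveI : IsPreimmersion gK := IsPreimmersion.of_isLocalization (nonZeroDivisors R)
    have hK : Smooth (pullback.snd p gK) := by
      haveI : Smooth f := hC.2.1
      rw [← hg.isoPullback_inv_snd]
      infer_instance
    refine smooth_fibre_of_field_point p gK s ?_ hK
    have h2 : gK (closedPoint (FractionRing R)) ∈ Set.range gK := ⟨_, rfl⟩
    rw [range_specGen] at h2
    rw [show gK (closedPoint (FractionRing R)) = (⟨⊥, Ideal.isPrime_bot⟩ : PrimeSpectrum R) from h2]
    refine PrimeSpectrum.ext ?_
    by_contra hne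
    exact hs (PrimeSpectrum.ext (IsLocalRing.eq_maximalIdeal ((s : PrimeSpectrum R).isPrime.isMaximal (Ne.symm hne))))

end Groth.Agent.CastLib
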