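import Groth.Agent.CastLib.Models
import Groth.Agent.CastLib.InterSymm
import Groth.Agent.SurfPtBlow.DvrMinimalModel

/-!
# Point blow-ups of models are models
-/

set_option autoImplicit false
set_option backward.isDefEq.respectTransparency false
set_option linter.style.haveILetI false
set_option maxHeartbeats 1000000

universe u

open CategoryTheory CategoryTheory.Limits AlgebraicGeometry TopologicalSpace
open Groth.Agent.TwistShriek Groth.Agent.TwistShriek.PointBlow

noncomputable section

namespace Groth.Agent.CastLib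

open Groth.Agent.SurfPtBlow

/-- Point blow-ups are isomorphisms off a finite set of closed points. -/
theorem ptSeq_iso_compl {Y X : Scheme.{u}} {q : Y ⟶ X} (hq : PtSeq q) [hX : IsNoetherian X] :
    ∃ (F : Set X) (hF : IsClosed F), F.Finite ∧ (∀ x ∈ F, IsClosed ({x} : Set X)) ∧
      IsIso (q ∣_ ⟨Fᶜ, hF.isOpen_compl⟩) := by
  revert hX
  induction hq with
  | refl X => intro hX; exact ⟨∅, isClosed_empty, Set.finite_empty, fun x hx => absurd hx (Set.notMem_empty x), inferInstance⟩
  | @step Y Z X b r z hz hzreg hd hb hr ih =>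
    intro hX
    obtain ⟨F, hF, hfin, hcl, hiso⟩ := ih
    haveI := hr.isNoetherian.1
    haveI := hr.isNoetherian.2
    have hc : IsClosed ({r z} : Set X) := by
      simpa only [Set.image_singleton] using r.isClosedMap _ hz
    have hF' : IsClosed (F ∪ {r z}) := hF.union hc
    refine ⟨F ∪ {r z}, hF', hfin.union (Set.finite_singleton _), fun x hx => ?_, ?_⟩
    · rcases hx with hx | hx
      · exact hcl x hx
      · rw [Set.mem_singleton_iff] at hx; rw [hx]; exact hc
    · let W : X.Opens := ⟨(F ∪ {r z})ᶜ, hF'.isOpen_compl⟩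
      rw [morphismRestrict_comp]
      haveI := hiso
      haveI : IsIso (r ∣_ W) := BMCohLib.isIso_restrict_le r (show W ≤ (⟨Fᶜ, hF.isOpen_compl⟩ : X.Opens) from
        fun x hx hxF => hx (Or.inl hxF))
      haveI : IsIso (b ∣_ (r ⁻¹ᵁ W)) := isIso_restrict_compl hb _ fun h => h (Or.inr rfl)
      exact IsIso.comp_isIso

variable {R : Type u} [CommRing R] [IsDomain R] [IsDiscreteValuationRing R]
variable {C Y : Scheme.{u}} {f : C ⟶ Spec (CommRingCat.of (FractionRing R))}
  {p : Y ⟶ Spec (CommRingCat.of R)}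

/-- **Point blow-ups of a regular proper model are regular proper models.** -/
theorem model_of_ptSeq (hC : Curve.IsSmoothProperCurve (FractionRing R) C f)
    (hY : Models.IsRegularProperModel R Y p C f) {Z : Scheme.{u}} {q : Z ⟶ Y} (hq : PtSeq q) :
    Models.IsRegularProperModel R Z (q ≫ p) C f := by
  obtain ⟨g, hg⟩ := hY.1.2.2.2
  obtain ⟨hp, hYi, hYn, -⟩ := model_facts hC hY hg
  haveI := hp
  haveI := hYi
  haveI := hYn
  haveI : IsIntegral C := hC.2.2.1
  haveI := hq.isNoetherian.1
  haveI := hq.isNoetherian.2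
  obtain ⟨hZi, hreg, -, -⟩ := hq.invariants hY.2.2
  haveI := hZi
  obtain ⟨F, hF, -, hcl, hiso⟩ := ptSeq_iso_compl hq
  haveI := hiso
  haveI := isOpenImmersion_gen hg
  let U : Y.Opens := ⟨Fᶜ, hF.isOpen_compl⟩
  let gU : C ⟶ U.toScheme := IsOpenImmersion.lift U.ι g (by
    rw [Scheme.Opens.range_ι]
    rintro y ⟨c, rfl⟩ (hy : g c ∈ F)
    exact p_apply_gen hg c (apply_closed_eq p (hcl _ hy)))
  have hgU : gU ≫ U.ι = g := IsOpenImmersion.lift_fac _ _ _
  let gZ : C ⟶ Z := gU ≫ inv (q ∣_ U) ≫ (q ⁻¹ᵁ U).ι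
  have hgZ : gZ ≫ q = g := by
    simp only [gZ, Category.assoc, ← morphismRestrict_ι, IsIso.inv_hom_id_assoc, hgU]
  have hsq : IsPullback gZ f (q ≫ p) (Spec.map (CommRingCat.ofHom (algebraMap R (FractionRing R)))) := by
    have h1 : IsPullback gZ (𝟙 C) q g := by
      have ht : IsPullback (gU ≫ inv (q ∣_ U)) (𝟙 C) (q ∣_ U) gU :=
        IsPullback.of_vert_isIso ⟨by simp⟩
      have h2 := ht.paste_horiz (isPullback_morphismRestrict q U).flip
      rw [Category.assoc, hgU] at h2
      exact h2
    have h3 := h1.paste_vert hg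
    rwa [Category.id_comp] at h3
  haveI : IsDominant (q ≫ p) := by
    refine ⟨?_⟩
    have h1 : (q ≫ p) (genericPoint Z) = (⟨⊥, Ideal.isPrime_bot⟩ : PrimeSpectrum R) := by
      haveI := isOpenImmersion_gen hsq
      rw [← genericPoint_eq_of_isOpenImmersion gZ, ← Scheme.Hom.comp_apply, hsq.w, Scheme.Hom.comp_apply]
      have h2 : (Spec.map (CommRingCat.ofHom (algebraMap R (FractionRing R)))) (f (genericPoint C)) ∈
          Set.range (Spec.map (CommRingCat.ofHom (algebraMap R (FractionRing R)))) := ⟨_, rfl⟩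
      rw [range_specGen] at h2
      exact h2
    have hbot : Dense ({(⟨⊥, Ideal.isPrime_bot⟩ : PrimeSpectrum R)} : Set (PrimeSpectrum R)) := fun z =>
      specializes_iff_mem_closure.1 ((PrimeSpectrum.le_iff_specializes _ z).1 bot_le)
    exact hbot.mono (Set.singleton_subset_iff.2 ⟨_, h1⟩)
  haveI : Flat (q ≫ p) := flat_of_dominant _
  exact ⟨⟨inferInstance, inferInstance, inferInstance, gZ, hsq⟩, inferInstance, hreg⟩

end Groth.Agent.CastLib
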