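import Groth.Agent.CastLib.FieldVert
import Groth.Agent.CastLib.NumType
import Groth.Agent.CastLib.ExcCriterion

/-!
# The reduced closed fibre of a minimal model against the closed fibre
-/

set_option autoImplicit false
set_option backward.isDefEq.respectTransparency false
set_option backward.isDefEq.respectTransparency.types false
set_option linter.style.haveILetI false
set_option maxHeartbeats 1000000

universe u

open CategoryTheory CategoryTheory.Limits AlgebraicGeometry TopologicalSpace IsLocalRing IntMult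
open Groth.Agent.SurfPtBlow Groth.Agent.PullbackMod Groth.Agent.DCohLib Groth.Agent.CurveLib Groth.Agent.H1ZeroLib Groth.Agent.TwistShriek Groth.Agent.DivisorialLib

noncomputable section

namespace Groth.Agent.CastLib

variable {R : Type u} [CommRing R] [IsDomain R] [IsDiscreteValuationRing R]
variable {X : Over (Spec (CommRingCat.of R))}

/-- `H⁰` can only shrink across a peeled curve of negative degree. -/
theorem length_H0_peel [IsProper X.hom] (Γ : ArSurf.VertComp R X) {B : X.left.IdealSheafData}
    (hB : BlowUp.IsEffCartierIdeal B) (hneg : ArSurf.inter R X (ClSub.idealMod B) Γ < 0) :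
    letI : X.left.Over (Spec (CommRingCat.of R)) := ⟨X.hom⟩
    Module.length R (Coh.HH X.left (ClSub.quotMod (Γ.ι.ker * B)) 0) ≤
      Module.length R (Coh.HH X.left (ClSub.quotMod B) 0) := by
  letI : X.left.Over (Spec (CommRingCat.of R)) := ⟨X.hom⟩
  haveI := isProper_vertComp Γ
  haveI : IsLocallyNoetherian X.left := LocallyOfFiniteType.isLocallyNoetherian X.hom
  haveI := EulerIneqLib.isNoetherian_proper (X := Γ.curve.left) (ResidueField R)
  let O := Coh.structureModule X.left
  have hO : PicF.IsInvertible O := ParaFLib.isInvertible_structureModule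
  have hI : PicF.IsInvertible (ClSub.idealMod B) := (S8914.result B).2 hB
  have hle := mul_le_right' Γ.ι.ker B
  let g := qmapL hle O
  haveI : Epi g := (epi_iff_stalk g).2 fun x z => by
    obtain ⟨e, he⟩ := ParaFLib.exists_stalk_gen hO x
    obtain ⟨r, hr⟩ := tq_surjective he B z
    exact ⟨tq (Γ.ι.ker * B) x e r, by rw [stalk_qmapL]; exact hr⟩
  let S := ShortComplex.mk (kernel.ι g) g (kernel.condition g)
  have hS : S.ShortExact := ShortComplex.ShortExact.mk'
    (ShortComplex.exact_of_f_is_kernel _ (kernelIsKernel g)) inferInstance inferInstance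
  let M' := (Scheme.Modules.pullback Γ.ι).obj (ClSub.idealMod B)
  have hM' : PicF.IsInvertible M' := AmpleLib.isInvertible_pullback _ hI
  have hM'c := CurveLib.isCoh_of_isInvertible hM'
  obtain ⟨q⟩ := nonempty_quotMod_ker_iso Γ.ι
  let e₁ : kernel g ≅ (Scheme.Modules.pushforward Γ.ι).obj M' :=
    (peelIso (C := Γ.ι.ker) (B := B) hO).symm ≪≫
      ((DCoh.tensorBi (X := X.left)).obj (ClSub.quotMod Γ.ι.ker)).mapIso (AmpleLib.unitR (ClSub.idealMod B)) ≪≫
      ((DCoh.tensorBi (X := X.left)).mapIso q).app (ClSub.idealMod B) ≪≫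
      projIso Γ.ι (Coh.structureModule Γ.curve.left) (ClSub.idealMod B) ≪≫
      (Scheme.Modules.pushforward Γ.ι).mapIso (CurveLib.tmodUnit M')
  haveI : Subsingleton (Coh.HH Γ.curve.left M' 0) := subsingleton_HH_of_neg (dim_vertComp Γ) hM' hneg
  haveI : Subsingleton (Coh.HH X.left S.X₁ 0) := Module.length_eq_zero_iff.1
    ((length_iso R e₁ 0).trans ((length_push_vertComp Γ M' hM'c 0).trans
      (by rw [Module.finrank_zero_of_subsingleton]; rfl)))
  have hinj : Function.Injective (CurveLib.hMap (k := R) g 0) := by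
    rw [← LinearMap.ker_eq_bot, eq_bot_iff]
    intro c hc
    have h1 : c ∈ LinearMap.range (CurveLib.hMap (k := R) S.f 0) := by
      rw [CurveLib.range_hMap_f hS 0]; exact hc
    obtain ⟨d, rfl⟩ := h1
    rw [Subsingleton.elim d 0, map_zero]
    exact Submodule.zero_mem _
  have h := Module.length_le_of_injective (CurveLib.hMap (k := R) g 0) hinj
  exact (length_iso R (AmpleLib.unitR (ClSub.quotMod (Γ.ι.ker * B))) 0).symm.le.trans
    (h.trans (length_iso R (AmpleLib.unitR (ClSub.quotMod B)) 0).le)

/-- A non-empty closed subscheme has non-zero global functions. -/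
theorem length_H0_ne_zero {I : X.left.IdealSheafData} (h : ∃ x, x ∈ I.support) :
    letI : X.left.Over (Spec (CommRingCat.of R)) := ⟨X.hom⟩
    Module.length R (Coh.HH X.left (ClSub.quotMod I) 0) ≠ 0 := by
  letI : X.left.Over (Spec (CommRingCat.of R)) := ⟨X.hom⟩
  intro h0
  haveI := Module.length_eq_zero_iff.1 h0
  obtain ⟨x, hx⟩ := h
  obtain ⟨z, -⟩ : x ∈ Set.range I.subschemeι := by rwa [Scheme.IdealSheafData.range_subschemeι]
  haveI : Nonempty (⊤ : I.subscheme.Opens) := ⟨⟨z, trivial⟩⟩
  haveI : Subsingleton Γ(I.subscheme, ⊤) :=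
    (CurveLib.secOf (ClSub.quotMod I)).symm.toEquiv.subsingleton
  haveI : Nontrivial Γ(I.subscheme, ⊤) := inferInstance
  exact false_of_nontrivial_of_subsingleton Γ(I.subscheme, ⊤)

section Model

variable {C Y : Scheme.{u}} {f : C ⟶ Spec (CommRingCat.of (FractionRing R))} {p : Y ⟶ Spec (CommRingCat.of R)}

/-- The reduced closed fibre is the sum of its components. -/
theorem redFibreIdeal_eq_prod (hC : Curve.IsSmoothProperCurve (FractionRing R) C f)
    (hY : Models.IsRegularProperModel R Y p C f) {n : ℕ} {Γ : Fin n → ArSurf.VertComp R (Over.mk p)}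
    (hΓ : Models.IsComponentList R (Over.mk p) Γ) :
    Models.redFibreIdeal R (Over.mk p) = ∏ i, (Γ i).ι.ker := by
  classical
  have hF := (VSurf.of_model hC hY).toFibreGood
  haveI := hF.int
  haveI := hF.noeth
  obtain ⟨hco, hinj, hall⟩ := hF.componentList hΓ
  obtain ⟨hK, -⟩ := hF.fibre_eq_prod hΓ
  let J := Models.redFibreIdeal R (Over.mk p)
  have hJsupp : (J.support : Set (Over.mk p).left) = Models.specialFibreSet R (Over.mk p) :=
    Scheme.IdealSheafData.coe_support_vanishingIdeal _
  have hJs : ∀ i, J ≤ cl (Models.genPtOf R (Over.mk p) (Γ i)) := fun i => by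
    refine Scheme.IdealSheafData.le_support_iff_le_vanishingIdeal.1 ?_
    intro x hx
    rw [← SetLike.mem_coe, hJsupp]
    exact closure_minimal (show {Models.genPtOf R (Over.mk p) (Γ i)} ⊆ Models.specialFibreSet R (Over.mk p) from
      Set.singleton_subset_iff.2 (vertComp_vertical (Γ i) _))
      (Models.isClosed_specialFibreSet R (Over.mk p)) hx
  refine le_antisymm ?_ ?_
  · suffices h : ∀ s : Finset (Fin n), BlowUp.IsEffCartierIdeal (∏ i ∈ s, (Γ i).ι.ker) ∧ J ≤ ∏ i ∈ s, (Γ i).ι.ker ∧
        ∀ j ∉ s, stalkIdeal (∏ i ∈ s, (Γ i).ι.ker) (Models.genPtOf R (Over.mk p) (Γ j)) = ⊤ from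
      (h Finset.univ).2.1
    intro s
    induction s using Finset.induction_on with
    | empty =>
      have h0 := mk_idealMod_prod (fun i => (Γ i).ι.ker) hK (fun _ => 1) (∅ : Finset (Fin n))
      simp only [Finset.prod_empty] at h0 ⊢
      exact ⟨h0.1, by rw [Scheme.IdealSheafData.one_eq_top]; exact le_top, fun j _ => by
        rw [Scheme.IdealSheafData.one_eq_top, stalkIdeal_top]⟩
    | @insert j s hj ih =>
      obtain ⟨hP, hle, htop⟩ := ih
      have h1 := mk_idealMod_prod (fun i => (Γ i).ι.ker) hK (fun _ => 1) (insert j s)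
      simp only [pow_one] at h1
      refine ⟨h1.1, ?_, fun l hl => ?_⟩
      · obtain ⟨K, hKeq⟩ := exists_eq_mul hP hle
        have hξ : Models.genPtOf R (Over.mk p) (Γ j) ∈ K.support := mem_support_of_ne_top fun hK' => by
          have h2 := congrArg (fun I => stalkIdeal I (Models.genPtOf R (Over.mk p) (Γ j))) hKeq
          simp only [stalkIdeal_mul, hK', htop j hj, Ideal.mul_top] at h2
          have hmem : Models.genPtOf R (Over.mk p) (Γ j) ∈ J.support := by
            rw [← SetLike.mem_coe, hJsupp]
            exact vertComp_vertical (Γ j) _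
          exact (maximalIdeal.isMaximal _).ne_top
            (top_le_iff.1 (h2.ge.trans (IdealStalkLib.stalkIdeal_le_maximal J hmem)))
        have hKle : K ≤ (Γ j).ι.ker := by
          rw [ker_vertComp]
          exact Scheme.IdealSheafData.le_support_iff_le_vanishingIdeal.1
            (closure_minimal (Set.singleton_subset_iff.2 hξ) K.support.isClosed)
        rw [Finset.prod_insert hj, hKeq]
        exact mul_le_mul' hKle le_rfl
      · rw [Finset.mem_insert, not_or] at hl
        rw [Finset.prod_insert hj, stalkIdeal_mul, htop l hl.2, Ideal.mul_top, ker_vertComp,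
          stalkIdeal_cl_of_ne (hco j) (hco l) fun e => hl.1 (hinj e).symm]
  · refine Scheme.IdealSheafData.le_support_iff_le_vanishingIdeal.1 ?_
    intro x hx
    have hxF : x ∈ (SurfPtBlow.fibreIdeal p).support := (FibreGood.mem_fibre (X := Over.mk p)).2 hx
    rw [show SurfPtBlow.fibreIdeal p = ∏ i, (Γ i).ι.ker ^ Models.mult R (Over.mk p) (Γ i) from (hF.fibre_eq_prod hΓ).2] at hxF
    by_contra hx'
    refine (maximalIdeal.isMaximal (Y.presheaf.stalk x)).ne_top (top_le_iff.1 (le_trans ?_
      (IdealStalkLib.stalkIdeal_le_maximal _ hxF)))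
    have htop : stalkIdeal (∏ i, (Γ i).ι.ker) x = ⊤ := IdealMulLib.stalkIdeal_eq_top _ hx'
    have hall : ∀ i, stalkIdeal (Γ i).ι.ker x = ⊤ := fun i => by
      have h := htop
      rw [← Finset.mul_prod_erase _ _ (Finset.mem_univ i), stalkIdeal_mul] at h
      exact top_le_iff.1 (h.ge.trans Ideal.mul_le_left)
    suffices h : ∀ s : Finset (Fin n),
        stalkIdeal (∏ i ∈ s, (Γ i).ι.ker ^ Models.mult R (Over.mk p) (Γ i)) x = ⊤ from (h _).ge
    intro s
    induction s using Finset.induction_on with
    | empty => rw [Finset.prod_empty, Scheme.IdealSheafData.one_eq_top, stalkIdeal_top]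
    | @insert j s hj ih =>
      rw [Finset.prod_insert hj, stalkIdeal_mul, ih, Ideal.mul_top]
      induction Models.mult R (Over.mk p) (Γ j) with
      | zero => rw [pow_zero, Scheme.IdealSheafData.one_eq_top, stalkIdeal_top]
      | succ e ihe => rw [pow_succ, stalkIdeal_mul, ihe, hall, Ideal.mul_top]

/-- Before the full fibre there is always a component to add in negative degree. -/
theorem exists_add_step (hC : Curve.IsSmoothProperCurve (FractionRing R) C f) (hH0 : IsIso f.appTop)
    (hY : Models.IsRegularProperModel R Y p C f) {n : ℕ} {Γ : Fin n → ArSurf.VertComp R (Over.mk p)}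
    (hΓ : Models.IsComponentList R (Over.mk p) Γ) {L : Fin n → Y.Modules}
    (hL : ∀ i, ClSub.IsInverseOf (L i) (ClSub.idealMod (Γ i).ι.ker))
    (hgcd : Models.multGcd R (Over.mk p) Γ = 1) (a : Fin n → ℕ) (ha1 : ∀ i, 1 ≤ a i)
    (hat : ∀ i, a i ≤ Models.mult R (Over.mk p) (Γ i)) (hne : a ≠ fun i => Models.mult R (Over.mk p) (Γ i)) :
    ∃ i, a i < Models.mult R (Over.mk p) (Γ i) ∧
      0 < ∑ l, (a l : ℤ) * ArSurf.inter R (Over.mk p) (L l) (Γ i) := by
  obtain ⟨g, hg⟩ := hY.1.2.2.2
  haveI : IsProper p := hY.2.1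
  haveI : Flat p := hY.1.1
  haveI : IsIntegral Y := (VSurf.of_model hC hY).int
  exact (VSurf.of_model hC hY).exists_add_step
    (SteinConn.isPreconnected_closedFibre p (SurfPtBlow.toGlobal_surjective hg hH0)) hΓ hL hgcd a ha1 hat hne

/-- The dimension of `H¹` of the reduced fibre is at most that of the fibre, less if not reduced. -/
theorem h1_redFibre (hC : Curve.IsSmoothProperCurve (FractionRing R) C f) (hH0 : IsIso f.appTop)
    (hmin : Models.IsMinimalModel R Y p C f) {n : ℕ} {Γ : Fin n → ArSurf.VertComp R (Over.mk p)}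
    (hΓ : Models.IsComponentList R (Over.mk p) Γ) (hgcd : Models.multGcd R (Over.mk p) Γ = 1)
    (hH0k : Models.lengthH R (Over.mk p) (ClSub.quotMod (Models.redFibreIdeal R (Over.mk p))) 0 = 1) :
    Models.lengthH R (Over.mk p) (ClSub.quotMod (Models.redFibreIdeal R (Over.mk p))) 1 ≤
        Models.lengthH R (Over.mk p) (ClSub.quotMod (Models.specialFibreIdeal R (Over.mk p))) 1 ∧
      (Models.specialFibreIdeal R (Over.mk p) ≠ Models.redFibreIdeal R (Over.mk p) →
        Models.lengthH R (Over.mk p) (ClSub.quotMod (Models.redFibreIdeal R (Over.mk p))) 1 <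
          Models.lengthH R (Over.mk p) (ClSub.quotMod (Models.specialFibreIdeal R (Over.mk p))) 1) := by
  classical
  have hY := hmin.1
  letI : Y.Over (Spec (CommRingCat.of R)) := ⟨p⟩
  have hV := VSurf.of_model hC hY
  haveI : IsProper (Over.mk p).hom := hV.proper
  obtain ⟨L, hL⟩ := exists_inverse_list hC hY Γ
  let m : Fin n → ℕ := fun i => Models.mult R (Over.mk p) (Γ i)
  let D : (Fin n → ℕ) → (Over.mk p).left.IdealSheafData := fun a => ∏ j, (Γ j).ι.ker ^ a j
  let l : (Fin n → ℕ) → ℕ → ℕ := fun a q => Models.lengthH R (Over.mk p) (ClSub.quotMod (D a)) q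
  obtain ⟨i₀⟩ := exists_index hC hH0 hY hΓ
  have hchi : ∀ a, chiLen R (ClSub.quotMod (D a)) = (l a 0 : ℤ) - l a 1 := fun a => rfl
  have hpos : ∀ a : Fin n → ℕ, (∀ i, 1 ≤ a i) → 1 ≤ l a 0 := fun a ha => by
    refine Nat.one_le_iff_ne_zero.2 fun h0 => ?_
    refine length_H0_ne_zero (X := Over.mk p) (I := D a) ⟨Models.genPtOf R (Over.mk p) (Γ i₀), ?_⟩ ?_
    · have hle : D a ≤ (Γ i₀).ι.ker := by
        show ∏ j, (Γ j).ι.ker ^ a j ≤ _
        rw [← Finset.mul_prod_erase _ _ (Finset.mem_univ i₀)]
        refine le_trans (mul_le_left' _ _) ?_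
        obtain ⟨e, he⟩ := Nat.exists_eq_add_of_le (ha i₀)
        rw [he, pow_add, pow_one]
        exact mul_le_left' _ _
      exact Scheme.IdealSheafData.support_antitone hle (by
        rw [← SetLike.mem_coe, Scheme.Hom.support_ker]; exact subset_closure ⟨_, rfl⟩)
    · exact (ENat.toNat_eq_zero.1 h0).resolve_right ((finLen_prod hV Γ a) 0 zero_le_one)
  have key : ∀ k, ∀ a : Fin n → ℕ, (∀ i, 1 ≤ a i) → (∀ i, a i ≤ m i) → ∑ i, (m i - a i) = k → l a 0 = 1 →
      l a 1 ≤ l m 1 ∧ (k ≠ 0 → l a 1 < l m 1) := by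
    intro k
    induction k with
    | zero =>
      intro a ha1 hat hsum _
      have : a = m := funext fun i => le_antisymm (hat i)
        (Nat.sub_eq_zero_iff_le.1 (Finset.sum_eq_zero_iff.1 hsum i (Finset.mem_univ i)))
      exact ⟨this ▸ le_rfl, fun h => absurd rfl h⟩
    | succ k ih =>
      intro a ha1 hat hsum hl0
      have hne : a ≠ m := fun h => by simp [h] at hsum
      obtain ⟨i, hit₀, hA⟩ := exists_add_step hC hH0 hY hΓ hL hgcd a ha1 hat hne
      have hit : a i < m i := hit₀
      obtain ⟨hD, hint⟩ := inter_idealMod_pow hC hY hΓ hL a (Γ i)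
      let a' : Fin n → ℕ := a + Pi.single i 1
      have heq : D a' = (Γ i).ι.ker * D a := by
        simp only [D, a', Pi.add_apply, pow_add, Finset.prod_mul_distrib]
        rw [mul_comm, Finset.prod_eq_single i]
        · rw [Pi.single_eq_same, pow_one]
        · exact fun j _ hj => by rw [Pi.single_eq_of_ne hj, pow_zero]
        · exact fun h => absurd (Finset.mem_univ i) h
      have hneg : ArSurf.inter R (Over.mk p) (ClSub.idealMod (D a)) (Γ i) < 0 := by rw [hint]; omega
      have ha'1 : ∀ j, 1 ≤ a' j := fun j => (ha1 j).trans (by simp [a'])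
      have hl0' : l a' 0 = 1 := by
        refine le_antisymm ?_ (hpos a' ha'1)
        rw [← hl0]
        show ENat.toNat _ ≤ ENat.toNat _
        rw [heq]
        exact ENat.toNat_le_toNat (length_H0_peel (Γ i) hD hneg) ((finLen_prod hV Γ a) 0 zero_le_one)
      have hstep := (chiLen_peel (Γ i) hD (finLen_prod hV Γ a)).2
      rw [← heq, hchi, hchi, hl0, hl0'] at hstep
      obtain ⟨hw, hwh, hwL⟩ := wdeg_dvd (X := Over.mk p) (Γ i)
      have hdeg := hwL (ClSub.idealMod (D a)) ((S8914.result _).2 hD)
      let δ : ℤ := ArSurf.inter R (Over.mk p) (ClSub.idealMod (D a)) (Γ i) +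
        ((Models.wdeg R (Over.mk p) (Γ i) : ℤ) - (Models.h1 R (Over.mk p) (Γ i) : ℤ))
      have hdegw : ArSurf.inter R (Over.mk p) (ClSub.idealMod (D a)) (Γ i) ≤
          -(Models.wdeg R (Over.mk p) (Γ i) : ℤ) := by
        have := Int.le_of_dvd (by omega) (dvd_neg.2 hdeg)
        omega
      have hδ : δ ≤ 0 := by simp only [δ]; omega
      have hlast : k = 0 → δ < 0 := fun hk => by
        refine lt_of_le_of_ne hδ fun h0 => hmin.2 (Γ i) ?_
        simp only [δ] at h0
        have hm : ∀ j, (m j : ℤ) = a j + if j = i then 1 else 0 := fun j => by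
          rw [← Finset.sum_erase_add _ _ (Finset.mem_univ i)] at hsum
          by_cases hj : j = i
          · subst hj; simp only [if_true]; omega
          · have h1 : m j - a j ≤ ∑ x ∈ Finset.univ.erase i, (m x - a x) :=
              Finset.single_le_sum (f := fun x => m x - a x) (fun x _ => Nat.zero_le _)
                (Finset.mem_erase.2 ⟨hj, Finset.mem_univ j⟩)
            rw [if_neg hj]
            have := hat j
            omega
        have hself : ArSurf.inter R (Over.mk p) (ClSub.idealMod (D a)) (Γ i) =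
            ArSurf.inter R (Over.mk p) (L i) (Γ i) := by
          have hr : ∑ j, (m j : ℤ) * ArSurf.inter R (Over.mk p) (L j) (Γ i) = 0 :=
            hV.sum_mult_inter_list hΓ hL (Γ i)
          simp only [hm, add_mul, Finset.sum_add_distrib, ite_mul, one_mul, zero_mul, Finset.sum_ite_eq',
            Finset.mem_univ, if_true] at hr
          rw [hint]
          linarith
        haveI := isProper_vertComp (Γ i)
        refine (isExcCurve_iff (k := ResidueField R) (Γ i).dim_eq (Γ i).ι (hV.isEffCartier_ker (Γ i)) (hL i)).2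
          ⟨?_, ?_⟩
        · show Models.h1 R (Over.mk p) (Γ i) = 0
          omega
        · show ArSurf.inter R (Over.mk p) (L i) (Γ i) = -(Models.wdeg R (Over.mk p) (Γ i) : ℤ)
          omega
      obtain ⟨hle, hlt⟩ := ih a' ha'1
        (fun j => by
          by_cases hj : j = i
          · subst hj; simp only [a', Pi.add_apply, Pi.single_eq_same]; exact hit
          · simp only [a', Pi.add_apply, Pi.single_eq_of_ne hj, add_zero]; exact hat j)
        (by
          rw [← Finset.sum_erase_add _ _ (Finset.mem_univ i)] at hsum ⊢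
          rw [Finset.sum_congr rfl fun j hj => by
            rw [show a' j = a j + 0 from congrArg (a j + ·) (Pi.single_eq_of_ne (Finset.ne_of_mem_erase hj) 1),
              add_zero]]
          simp only [a', Pi.add_apply, Pi.single_eq_same]
          have : a i < m i := hit
          omega) hl0'
      change _ = _ + δ at hstep
      refine ⟨by omega, fun _ => ?_⟩
      rcases Nat.eq_zero_or_pos k with hk | hk
      · have := hlast hk; omega
      · have := hlt hk.ne'; omega
  have hone : D (fun _ => 1) = Models.redFibreIdeal R (Over.mk p) := by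
    rw [redFibreIdeal_eq_prod hC hY hΓ]; simp [D]
  have hm' : D m = Models.specialFibreIdeal R (Over.mk p) := ((hV.toFibreGood.fibre_eq_prod hΓ).2).symm
  obtain ⟨h1, h2⟩ := key _ (fun _ => 1) (fun _ => le_rfl) (hV.mult_pos hΓ) rfl
    (show Models.lengthH R (Over.mk p) (ClSub.quotMod (D fun _ => 1)) 0 = 1 by rw [hone]; exact hH0k)
  simp only [l, hone, hm'] at h1 h2
  refine ⟨h1, fun hne => h2 fun h => hne ?_⟩
  rw [← hone, ← hm']
  congr 1
  exact funext fun i => le_antisymm (Nat.sub_eq_zero_iff_le.1 (Finset.sum_eq_zero_iff.1 h i (Finset.mem_univ i)))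
    (hV.mult_pos hΓ i)

end Model

end Groth.Agent.CastLib
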