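import Groth.Agent.CastLib.Twist
import Groth.Agent.CurveP1Lib.Transport
import Groth.Prelude.Def_ArSurf

/-!
# Exceptional curves from self-intersection numbers
-/

set_option autoImplicit false
set_option backward.isDefEq.respectTransparency false
set_option linter.style.haveILetI false
set_option maxHeartbeats 1000000

universe u

open CategoryTheory CategoryTheory.Limits AlgebraicGeometry TopologicalSpace

noncomputable section

namespace Groth.Agent.CastLib

open Groth.Agent.SurfPtBlow Groth.Agent.AmpleLib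

/-- Cohomology over a smaller field. -/
theorem finrank_restrict {k k' : Type u} [Field k] [Field k'] [Algebra k k'] (X : Scheme.{u})
    [X.Over (Spec (CommRingCat.of k'))] [inst : X.Over (Spec (CommRingCat.of k))]
    (h : (X ↘ Spec (CommRingCat.of k')) ≫ Spec.map (CommRingCat.ofHom (algebraMap k k')) =
      X ↘ Spec (CommRingCat.of k)) (M : X.Modules) (i : ℕ) :
    Module.finrank k (Coh.HH X M i) = Module.finrank k k' * Module.finrank k' (Coh.HH X M i) := by
  have key : ∀ a : k, Coh.toGlobal (X ↘ Spec (CommRingCat.of k)) a =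
      Coh.toGlobal (X ↘ Spec (CommRingCat.of k')) (algebraMap k k' a) := fun a => by
    rw [← h]
    simp only [Coh.toGlobal, Scheme.Hom.comp_appTop, RingHom.coe_comp, Function.comp_apply, CommRingCat.hom_comp]
    exact congrArg (X ↘ Spec (CommRingCat.of k')).appTop.hom
      (ConcreteCategory.congr_hom (Scheme.ΓSpecIso_inv_naturality (CommRingCat.ofHom (algebraMap k k'))) a).symm
  haveI : IsScalarTower k k' (Coh.HH X M i) := IsScalarTower.of_algebraMap_smul fun a x => by
    show Coh.toGlobal (X ↘ Spec (CommRingCat.of k')) (algebraMap k k' a) • x =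
      Coh.toGlobal (X ↘ Spec (CommRingCat.of k)) a • x
    rw [key]
  exact (Module.finrank_mul_finrank k k' (Coh.HH X M i)).symm

/-- The degree over the base field of a module on a line over an extension field. -/
theorem curveDeg_eq {k k' : Type u} [Field k] [Field k'] [Algebra k k'] {E : Scheme.{u}}
    [E.Over (Spec (CommRingCat.of k))] (e : E ≅ CohB1.ProjSpace 1 k')
    (he : e.hom ≫ (CohB1.ProjSpace 1 k' ↘ Spec (CommRingCat.of k')) ≫
      Spec.map (CommRingCat.ofHom (algebraMap k k')) = E ↘ Spec (CommRingCat.of k))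
    {M : E.Modules} (hM : PicF.IsInvertible M) :
    ArSurf.curveDeg k E M = Module.finrank k k' * degP k' ((Scheme.Modules.pullback e.inv).obj M) := by
  haveI := isProper_P1 (k := k')
  letI ov : (CohB1.ProjSpace 1 k').Over (Spec (CommRingCat.of k)) :=
    ⟨(CohB1.ProjSpace 1 k' ↘ Spec (CommRingCat.of k')) ≫ Spec.map (CommRingCat.ofHom (algebraMap k k'))⟩
  have hg : e.inv ≫ (E ↘ Spec (CommRingCat.of k)) = CohB1.ProjSpace 1 k' ↘ Spec (CommRingCat.of k) := by
    rw [← he, Iso.inv_hom_id_assoc]
    rfl
  haveI := EulerIneqLib.isNoetherian_proper (X := CohB1.ProjSpace 1 k') k'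
  haveI : IsLocallyNoetherian E := LocallyOfFiniteType.isLocallyNoetherian e.hom
  haveI : Coh.IsQCoh M := (CurveLib.isCoh_of_isInvertible hM).1
  haveI : Coh.IsQCoh (Coh.structureModule E) := (CurveLib.isCoh_of_isInvertible ParaFLib.isInvertible_structureModule).1
  have hk : ∀ (N : E.Modules) [Coh.IsQCoh N] (i : ℕ), (Module.finrank k (Coh.HH E N i) : ℤ) =
      Module.finrank k k' * Module.finrank k' (Coh.HH (CohB1.ProjSpace 1 k') ((Scheme.Modules.pullback e.inv).obj N) i) :=
    fun N _ i => by
      rw [← CurveP1Lib.finrank_HH_pullback (k := k) e.inv hg N i, finrank_restrict (k := k) (k' := k') _ rfl _ i]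
      push_cast
      rfl
  rw [ArSurf.curveDeg, FGA.eulerCharLE, FGA.eulerCharLE, degP, Curv2.deg,
    CurveLib.euler_eq_sub (k := k') dim_P1.le, CurveLib.euler_eq_sub (k := k') dim_P1.le,
    ← ShBCLib.finrank_HH_iso (K := k') (pullO e.inv) 0, ← ShBCLib.finrank_HH_iso (K := k') (pullO e.inv) 1]
  simp only [Finset.sum_range_succ, Finset.sum_range_zero, zero_add, pow_zero, pow_one, one_mul, hk, Nat.cast_one]
  ring

/-- A line of self-intersection minus one is exceptional of the first kind. -/
theorem isExcCurve_of_selfInt {k k' : Type u} [Field k] [Field k'] [Algebra k k'] [FiniteDimensional k k']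
    {E X : Scheme.{u}} [E.Over (Spec (CommRingCat.of k))] (ι : E ⟶ X) (hC : BlowUp.IsEffCartierIdeal ι.ker)
    (e : E ≅ CohB1.ProjSpace 1 k')
    (he : e.hom ≫ (CohB1.ProjSpace 1 k' ↘ Spec (CommRingCat.of k')) ≫
      Spec.map (CommRingCat.ofHom (algebraMap k k')) = E ↘ Spec (CommRingCat.of k))
    {L : X.Modules} (hL : ClSub.IsInverseOf L (ClSub.idealMod ι.ker))
    (hself : ArSurf.curveDeg k E ((Scheme.Modules.pullback ι).obj L) = -(Module.finrank k k' : ℤ)) :
    Models.IsExcCurve ι := by
  obtain ⟨eL⟩ := hL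
  have hLi : PicF.IsInvertible L := isInvertible_of_tensor_iso eL
  have hI := (S8914.result ι.ker).2 hC
  have h1 := curveDeg_eq (k := k) e he (isInvertible_pullback ι hLi)
  rw [hself] at h1
  replace h1 := h1.trans (congrArg (fun z : ℤ => (Module.finrank k k' : ℤ) * z)
    (degP_congr (k := k') (IntLib.mk_congr ((Scheme.Modules.pullbackComp e.inv ι).app L))))
  have hd : degOn (e.inv ≫ ι) L = -1 := by
    have hpos : (0 : ℤ) < Module.finrank k k' := by exact_mod_cast Module.finrank_pos
    refine mul_left_cancel₀ hpos.ne' ?_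
    rw [mul_neg_one]
    exact h1.symm
  have h2 := (degOn_congr (e.inv ≫ ι) eL).trans (degOn_one _)
  rw [degOn_tensor _ hLi hI, hd] at h2
  obtain ⟨t⟩ := nonempty_iso_twist_degP (isInvertible_pullback (e.inv ≫ ι) hI) (n := 1)
    (show degOn (e.inv ≫ ι) (ClSub.idealMod ι.ker) = ((1 : ℕ) : ℤ) by push_cast; omega)
  exact ⟨hC, k', inferInstance, e.symm, ⟨t⟩⟩

end Groth.Agent.CastLib
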