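import Groth.Agent.CastLib.CurveCfg

/-!
# Radicals of Cartier divisors on regular surfaces with normal crossing curves
-/

set_option autoImplicit false
set_option backward.isDefEq.respectTransparency false
set_option linter.style.haveILetI false

universe u

open CategoryTheory CategoryTheory.Limits AlgebraicGeometry TopologicalSpace
open Groth.Agent.TwistShriek Groth.Agent.TwistShriek.PointBlow Groth.Agent.SurfPtBlow

noncomputable section

namespace Groth.Agent.CastLib.CurveCfg

open CurveRes CurveEmb CurveSep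

variable {A : Scheme.{u}} [IsIntegral A] [AlgebraicGeometry.IsNoetherian A]

omit [AlgebraicGeometry.IsNoetherian A] in
/-- The ideal of the curve of an affine point is its prime. -/
theorem ideal_cv_fromSpec (U : A.affineOpens) (q : PrimeSpectrum Γ(A, U.1)) :
    (cvI (U.2.fromSpec q)).ideal U = q.asIdeal := by
  rw [Scheme.IdealSheafData.vanishingIdeal_ideal]
  have h1 : U.2.fromSpec ⁻¹' (closure {U.2.fromSpec q}) = closure {q} := by
    rw [U.2.fromSpec.isOpenEmbedding.isOpenMap.preimage_closure_eq_closure_preimage U.2.fromSpec.continuous,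
      ← Set.image_singleton, Set.preimage_image_eq _ U.2.fromSpec.isEmbedding.injective]
  show PrimeSpectrum.vanishingIdeal (U.2.fromSpec ⁻¹' (closure {U.2.fromSpec q})) = _
  rw [h1, PrimeSpectrum.vanishingIdeal_closure, PrimeSpectrum.vanishingIdeal_singleton]

/-- The hypotheses on the curves of a divisor through a point. -/
structure SncAt (D : A.IdealSheafData) (p : A) : Prop where
  reg : ∀ θ, IsCP θ → θ ∈ D.support → θ ⤳ p → RegCv θ
  noThree : ∀ a c e, IsCP a → IsCP c → IsCP e → a ∈ D.support → c ∈ D.support → e ∈ D.support →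
    a ⤳ p → c ⤳ p → e ⤳ p → a ≠ c → a ≠ e → c ≠ e → False
  trans : ∀ a c, IsCP a → IsCP c → a ∈ D.support → c ∈ D.support → a ⤳ p → c ⤳ p → a ≠ c → Trans a c

theorem exists_single {R : Type u} [CommRing R] {n : ℕ} (g : Fin n → R) (hn : n ≤ 1) :
    ∃ t, Ideal.span (Set.range g) = Ideal.span {t} := by
  match n, hn with
  | 0, _ => exact ⟨0, by rw [Set.range_eq_empty, Ideal.span_empty, eq_comm, Ideal.span_singleton_eq_bot]⟩
  | 1, _ => exact ⟨g 0, by rw [Set.range_unique]; rfl⟩

/-- A regular curve through a point supplies a second parameter. -/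
theorem exists_second (C : A.IdealSheafData) {p : A} (hp : p ∈ Set.range C.subschemeι)
    (hC : ∀ z : C.subscheme, IsRegularLocalRing (C.subscheme.presheaf.stalk z))
    (hd : topologicalKrullDim C.subscheme ≤ 1) :
    ∃ y ∈ IsLocalRing.maximalIdeal (A.presheaf.stalk p),
      IsLocalRing.maximalIdeal (A.presheaf.stalk p) ≤ Ideal.span {y} ⊔ IntMult.stalkIdeal C p := by
  obtain ⟨z, rfl⟩ := hp
  haveI := hC z
  obtain ⟨g, hg⟩ := RegLocal.exists_generators (R := C.subscheme.presheaf.stalk z)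
  have h1 : (IsLocalRing.maximalIdeal (C.subscheme.presheaf.stalk z)).spanFinrank ≤ 1 := by
    have h3 := (FibreComp.ringKrullDim_stalk_le_topologicalKrullDim z).trans hd
    rw [← (hC z).spanFinrank_maximalIdeal] at h3
    exact_mod_cast h3
  obtain ⟨t, ht⟩ := exists_single g h1
  rw [hg] at ht
  obtain ⟨y, rfl⟩ := C.subschemeι.stalkMap_surjective z t
  refine ⟨y, (IsLocalRing.mem_maximalIdeal _).2 fun hu =>
    (IsLocalRing.maximalIdeal.isMaximal _).ne_top
      (ht.trans (Ideal.span_singleton_eq_top.2 (hu.map (C.subschemeι.stalkMap z).hom))), ?_⟩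
  have h2 : (IsLocalRing.maximalIdeal (A.presheaf.stalk (C.subschemeι z))).map (C.subschemeι.stalkMap z).hom ≤
      (Ideal.span {y}).map (C.subschemeι.stalkMap z).hom := by
    rw [map_maximal, ht, Ideal.map_span, Set.image_singleton]
  rwa [Ideal.map_le_iff_le_comap, Ideal.comap_map_of_surjective _ (C.subschemeι.stalkMap_surjective z),
    ← RingHom.ker_eq_comap_bot, IdealStalkLib.ker_stalkMap_subschemeι] at h2

attribute [local instance 10] specializationOrder in
theorem snc_of_sncAt (hreg : ∀ a : A, IsRegularLocalRing (A.presheaf.stalk a)) (hdim : topologicalKrullDim A ≤ 2)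
    (D : A.IdealSheafData) (hD : BlowUp.IsEffCartierIdeal D) {p : A} (hp : p ∈ D.support) (h : SncAt D p) :
    ∃ (U : A.affineOpens) (hpU : p ∈ (U : A.Opens)) (d r : ℕ) (x : Fin d → A.presheaf.stalk p),
      1 ≤ r ∧ r ≤ d ∧ ringKrullDim (A.presheaf.stalk p) = (d : WithBot ℕ∞) ∧
      Ideal.span (Set.range x) = IsLocalRing.maximalIdeal (A.presheaf.stalk p) ∧
      (D.radical.ideal U).map (A.presheaf.germ (U : A.Opens) p hpU).hom =
        Ideal.span {∏ i : Fin d, if (i : ℕ) < r then x i else 1} := by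
  classical
  obtain ⟨U, hpU, e, he, hU⟩ := hD p
  refine ⟨U, hpU, ?_⟩
  haveI : Nonempty U.1 := ⟨⟨p, hpU⟩⟩
  haveI := hreg p
  haveI := RegLocal.isDomain (A.presheaf.stalk p)
  letI := TopCat.Presheaf.algebra_section_stalk A.presheaf ⟨p, hpU⟩
  haveI : IsLocalization.AtPrime (A.presheaf.stalk p) (U.2.primeIdealOf ⟨p, hpU⟩).asIdeal := U.2.isLocalization_stalk ⟨p, hpU⟩
  let M := (U.2.primeIdealOf ⟨p, hpU⟩).asIdeal.primeCompl
  haveI : IsNoetherianRing Γ(A, U.1) := IsLocallyNoetherian.component_noetherian U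
  let f : A.presheaf.stalk p := A.presheaf.germ U.1 p hpU e
  have hf0 : f ≠ 0 := fun h0 => nonZeroDivisors.ne_zero he (germ_injective_of_isIntegral A p hpU (h0.trans (map_zero _).symm))
  have hstalk : IntMult.stalkIdeal D p = Ideal.span {f} := by
    rw [IdealStalkLib.stalkIdeal_eq _ U p hpU, hU, Ideal.map_span, Set.image_singleton]
  have hfm : f ∈ IsLocalRing.maximalIdeal (A.presheaf.stalk p) :=
    IdealStalkLib.stalkIdeal_le_maximal D hp (hstalk ▸ Ideal.mem_span_singleton_self f)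
  have hrad : (D.radical.ideal U).map (A.presheaf.germ (U : A.Opens) p hpU).hom = (Ideal.span {f}).radical := by
    rw [Scheme.IdealSheafData.radical_ideal, hU, ← Set.image_singleton (f := (A.presheaf.germ U.1 p hpU).hom),
      ← Ideal.map_span]
    exact IsLocalization.map_radical M (A.presheaf.stalk p) (Ideal.span {e})
  rw [hrad]
  have hd2 : ringKrullDim (A.presheaf.stalk p) ≤ 2 := (FibreComp.ringKrullDim_stalk_le_topologicalKrullDim p).trans hdim
  have hmin : ∀ P ∈ (Ideal.span {f}).minimalPrimes, P.height = 1 ∧ P ≠ ⊥ := by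
    intro P hP
    haveI := hP.1.1
    have hne : P ≠ ⊥ := fun h0 => hf0 (by
      have h1 : f ∈ P := hP.1.2 (Ideal.mem_span_singleton_self f)
      rwa [h0, Ideal.mem_bot] at h1)
    refine ⟨le_antisymm (Ideal.height_le_one_of_isPrincipal_of_mem_minimalPrimes (Ideal.span {f}) P hP) ?_, hne⟩
    exact le_trans le_add_self (Ideal.height_add_one_le_of_lt_of_isPrime (I := (⊥ : Ideal (A.presheaf.stalk p))) (J := P) (bot_lt_iff_ne_bot.2 hne))
  obtain ⟨n, hn⟩ : ∃ n : ℕ, ringKrullDim (A.presheaf.stalk p) = (n : WithBot ℕ∞) :=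
    ⟨_, (inferInstance : IsRegularLocalRing (A.presheaf.stalk p)).spanFinrank_maximalIdeal.symm⟩
  have hn2 : n ≤ 2 := by rw [hn] at hd2; exact_mod_cast hd2
  have hn0 : n ≠ 0 := by
    rintro rfl
    haveI : Ring.KrullDimLE 0 (A.presheaf.stalk p) := by rw [Ring.krullDimLE_iff, hn]
    have h1 := IsLocalRing.isField_iff_maximalIdeal_eq.1 (Ring.KrullDimLE.isField_of_isDomain (R := A.presheaf.stalk p))
    exact hf0 (by rw [h1, Ideal.mem_bot] at hfm; exact hfm)
  obtain ⟨P₀, hP₀⟩ : (Ideal.span {f}).minimalPrimes.Nonempty := Set.nonempty_coe_sort.1 <|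
    Ideal.nonempty_minimalPrimes fun ht => (IsLocalRing.maximalIdeal.isMaximal _).ne_top
      (top_le_iff.1 (ht ▸ (Ideal.span_singleton_le_iff_mem _).2 hfm))
  by_cases hn1 : n = 1
  · subst hn1
    obtain ⟨x, hx⟩ := RegLocal.exists_generators (R := A.presheaf.stalk p)
    have hsf : (IsLocalRing.maximalIdeal (A.presheaf.stalk p)).spanFinrank = 1 := by
      have := (inferInstance : IsRegularLocalRing (A.presheaf.stalk p)).spanFinrank_maximalIdeal
      rw [hn] at this
      exact_mod_cast this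
    obtain ⟨t, ht⟩ := exists_single x hsf.le
    refine ⟨1, 1, fun _ => t, le_rfl, le_rfl, hn, ?_, ?_⟩
    · rw [Set.range_const, ← ht, hx]
    · rw [Fin.prod_univ_one]
      simp only [Fin.val_zero, zero_lt_one, if_true]
      rw [← ht, hx]
      refine le_antisymm (Ideal.IsPrime.radical_le_iff inferInstance |>.2 ((Ideal.span_singleton_le_iff_mem _).2 hfm)) ?_
      rw [Ideal.radical_eq_sInf]
      refine le_sInf ?_
      rintro P ⟨hfP, hP⟩
      have hPne : P ≠ ⊥ := fun h0 => hf0 (by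
        have h1 : f ∈ P := hfP (Ideal.mem_span_singleton_self f)
        rwa [h0, Ideal.mem_bot] at h1)
      haveI : Ring.KrullDimLE 1 (A.presheaf.stalk p) := by rw [Ring.krullDimLE_iff, hn]
      exact (IsLocalRing.eq_maximalIdeal (Ring.krullDimLE_one_iff_of_noZeroDivisors.1 inferInstance P hPne hP)).ge
  have hn' : n = 2 := by omega
  subst hn'
  have hcurve : ∀ P ∈ (Ideal.span {f}).minimalPrimes, ∃ θ : A, IsCP θ ∧ θ ∈ D.support ∧ θ ⤳ p ∧
      IntMult.stalkIdeal (cvI θ) p = P ∧ Order.coheight θ = 1 := by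
    intro P hP
    haveI := hP.1.1
    let q : PrimeSpectrum Γ(A, U.1) := ⟨P.under Γ(A, U.1), inferInstance⟩
    let θ : A := U.2.fromSpec q
    have hq1 : Order.coheight θ = 1 := by
      rw [show θ = U.2.fromSpec q from rfl, coheight_eq_of_isOpenImmersion]
      refine ((idealHeight_eq_coheight _ q).symm).trans ?_
      show (P.under Γ(A, U.1)).height = 1
      rw [IsLocalization.height_under M P]
      exact (hmin P hP).1
    have hθp : θ ⤳ p := by
      have hle : q.asIdeal ≤ (U.2.primeIdealOf ⟨p, hpU⟩).asIdeal := by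
        rw [← IsLocalization.AtPrime.under_maximalIdeal (A.presheaf.stalk p) (U.2.primeIdealOf ⟨p, hpU⟩).asIdeal]
        exact Ideal.comap_mono (IsLocalRing.le_maximalIdeal hP.1.1.ne_top)
      have := ((PrimeSpectrum.le_iff_specializes q (U.2.primeIdealOf ⟨p, hpU⟩)).1 hle).map U.2.fromSpec.continuous
      rwa [U.2.fromSpec_primeIdealOf] at this
    have hθD : θ ∈ D.support := (Scheme.IdealSheafData.mem_support_iff_of_mem (U.2.range_fromSpec.le ⟨q, rfl⟩)).2
      ((Set.ext_iff.1 (U.2.fromSpec_preimage_zeroLocus (D.ideal U : Set Γ(A, U.1))) q).2 (by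
        rw [hU]
        refine Ideal.span_le.2 (Set.singleton_subset_iff.2 ?_)
        exact hP.1.2 (Ideal.mem_span_singleton_self f)))
    have hgen : θ ≠ genericPoint A := fun he => by
      have h1 : ringKrullDim (A.presheaf.stalk θ) = 1 := by rw [ringKrullDim_stalk_eq_coheight, hq1]; rfl
      rw [he, ringKrullDim_eq_zero_of_isField (Field.toIsField A.functionField)] at h1
      exact absurd h1 (by norm_num)
    have hnc : ¬ IsClosed ({θ} : Set A) := fun hc => by
      have he : p = θ := hθp.mem_closed hc rfl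
      have h1 : ringKrullDim (A.presheaf.stalk θ) = 1 := by rw [ringKrullDim_stalk_eq_coheight, hq1]; rfl
      rw [← he, hn] at h1
      norm_cast at h1
    refine ⟨θ, ⟨hnc, hgen⟩, hθD, hθp, ?_, hq1⟩
    rw [IdealStalkLib.stalkIdeal_eq _ U p hpU, ideal_cv_fromSpec U q]
    exact IsLocalization.map_under M (A.presheaf.stalk p) P
  have huniq : ∀ P ∈ (Ideal.span {f}).minimalPrimes, ∃ θ : A, IsCP θ ∧ θ ∈ D.support ∧ θ ⤳ p ∧
      IntMult.stalkIdeal (cvI θ) p = P ∧ ∃ π, P = Ideal.span {π} := fun P hP => by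
    obtain ⟨θ, h1, h2, h3, h4, h5⟩ := hcurve P hP
    refine ⟨θ, h1, h2, h3, h4, ?_⟩
    obtain ⟨V, hpV, g, -, hV⟩ := isEffCartier_closure hreg θ h5 p
    exact ⟨A.presheaf.germ V.1 p hpV g, by
      rw [← h4, IdealStalkLib.stalkIdeal_eq _ V p hpV, hV, Ideal.map_span, Set.image_singleton]⟩
  choose! θ hθcp hθD hθp hθP π hπ using huniq
  have hθinj : ∀ P ∈ (Ideal.span {f}).minimalPrimes, ∀ Q ∈ (Ideal.span {f}).minimalPrimes, P ≠ Q → θ P ≠ θ Q :=
    fun P hP Q hQ hne he => hne (by rw [← hθP P hP, ← hθP Q hQ, he])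
  by_cases hone : ∀ Q ∈ (Ideal.span {f}).minimalPrimes, Q = P₀
  · -- one curve
    have hr := h.reg _ (hθcp P₀ hP₀) (hθD P₀ hP₀) (hθp P₀ hP₀)
    obtain ⟨y, hym, hy⟩ := exists_second (cvI (θ P₀)) (by rw [range_cv]; exact specializes_iff_mem_closure.1 (hθp P₀ hP₀))
      hr (dim_cv hdim (hθcp P₀ hP₀).2)
    rw [hθP P₀ hP₀] at hy
    have hm : IsLocalRing.maximalIdeal (A.presheaf.stalk p) = Ideal.span {π P₀, y} := by
      refine le_antisymm (hy.trans ?_) (Ideal.span_le.2 (Set.insert_subset ?_ (Set.singleton_subset_iff.2 hym)))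
      · refine sup_le (Ideal.span_mono (Set.singleton_subset_iff.2 (Set.mem_insert_of_mem _ rfl))) ?_
        exact (hπ P₀ hP₀).le.trans (Ideal.span_mono (Set.singleton_subset_iff.2 (Set.mem_insert _ _)))
      · exact IsLocalRing.le_maximalIdeal hP₀.1.1.ne_top ((hπ P₀ hP₀).ge (Ideal.mem_span_singleton_self _))
    refine ⟨2, 1, ![π P₀, y], le_rfl, one_le_two, hn, ?_, ?_⟩
    · rw [hm]
      congr 1
      simp [Matrix.range_cons, Matrix.range_empty, Set.pair_comm]
    · simp only [Fin.prod_univ_two, Fin.val_zero, Fin.val_one, zero_lt_one, if_true, lt_irrefl, if_false,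
        Matrix.cons_val_zero, mul_one]
      rw [← hπ P₀ hP₀, ← Ideal.sInf_minimalPrimes]
      exact le_antisymm (sInf_le hP₀) (le_sInf fun Q hQ => (hone Q hQ).ge)
  · -- two curves
    push Not at hone
    obtain ⟨P₁, hP₁, hne⟩ := hone
    have hall : ∀ Q ∈ (Ideal.span {f}).minimalPrimes, Q = P₀ ∨ Q = P₁ := fun Q hQ => by
      by_contra hh
      rw [not_or] at hh
      exact h.noThree (θ P₀) (θ P₁) (θ Q) (hθcp _ hP₀) (hθcp _ hP₁) (hθcp _ hQ) (hθD _ hP₀) (hθD _ hP₁) (hθD _ hQ)
        (hθp _ hP₀) (hθp _ hP₁) (hθp _ hQ) (hθinj _ hP₀ _ hP₁ hne.symm) (hθinj _ hP₀ _ hQ (Ne.symm hh.1))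
        (hθinj _ hP₁ _ hQ (Ne.symm hh.2))
    have htr := h.trans (θ P₀) (θ P₁) (hθcp _ hP₀) (hθcp _ hP₁) (hθD _ hP₀) (hθD _ hP₁) (hθp _ hP₀) (hθp _ hP₁)
      (hθinj _ hP₀ _ hP₁ hne.symm) p
    rw [hθP _ hP₀, hθP _ hP₁, hπ _ hP₀, hπ _ hP₁] at htr
    haveI hp₀ := hP₀.1.1
    haveI hp₁ := hP₁.1.1
    have hle0 : π P₀ ∈ P₀ := (hπ _ hP₀).ge (Ideal.mem_span_singleton_self _)
    have hle1 : π P₁ ∈ P₁ := (hπ _ hP₁).ge (Ideal.mem_span_singleton_self _)
    refine ⟨2, 2, ![π P₀, π P₁], one_le_two, le_rfl, hn, ?_, ?_⟩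
    · refine le_antisymm (Ideal.span_le.2 ?_) ?_
      · rintro _ ⟨i, rfl⟩
        fin_cases i
        · exact IsLocalRing.le_maximalIdeal hp₀.ne_top hle0
        · exact IsLocalRing.le_maximalIdeal hp₁.ne_top hle1
      · refine htr.trans (sup_le (Ideal.span_mono ?_) (Ideal.span_mono ?_))
        · exact Set.singleton_subset_iff.2 ⟨0, rfl⟩
        · exact Set.singleton_subset_iff.2 ⟨1, rfl⟩
    · simp only [Fin.prod_univ_two, Fin.val_zero, Fin.val_one, zero_lt_two, one_lt_two, if_true,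
        Matrix.cons_val_zero, Matrix.cons_val_one]
      have hinf : (Ideal.span {f}).radical = P₀ ⊓ P₁ := by
        rw [← Ideal.sInf_minimalPrimes]
        refine le_antisymm (le_inf (sInf_le hP₀) (sInf_le hP₁)) (le_sInf fun Q hQ => ?_)
        rcases hall Q hQ with rfl | rfl
        exacts [inf_le_left, inf_le_right]
      rw [hinf]
      refine le_antisymm (fun a ha => ?_) (Ideal.span_le.2 (Set.singleton_subset_iff.2 ?_))
      · obtain ⟨ha0, ha1⟩ := ha
        rw [SetLike.mem_coe, hπ _ hP₀, Ideal.mem_span_singleton] at ha0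
        obtain ⟨v, rfl⟩ := ha0
        have hv : v ∈ P₁ := (hp₁.mem_or_mem ha1).resolve_left fun h0 => hne (by
          have hle : P₀ ≤ P₁ := by rw [hπ _ hP₀, Ideal.span_singleton_le_iff_mem]; exact h0
          exact le_antisymm (hP₁.2 hP₀.1 hle) hle)
        rw [hπ _ hP₁, Ideal.mem_span_singleton] at hv
        exact Ideal.mem_span_singleton.2 (mul_dvd_mul_left _ hv)
      · exact ⟨Ideal.mul_mem_right _ _ hle0, Ideal.mul_mem_left _ _ hle1⟩

end Groth.Agent.CastLib.CurveCfg

end
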