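import Groth.Agent.CastLib.SncLocal
import Groth.Agent.SurfPtBlow.Principal

/-!
# Embedded resolution: making the inverse image a normal crossings divisor
-/

set_option autoImplicit false
set_option backward.isDefEq.respectTransparency false
set_option linter.style.haveILetI false
set_option maxHeartbeats 1000000

universe u

open CategoryTheory CategoryTheory.Limits AlgebraicGeometry TopologicalSpace
open Groth.Agent.TwistShriek Groth.Agent.TwistShriek.PointBlow Groth.Agent.SurfPtBlow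

noncomputable section

namespace Groth.Agent.CastLib.CurveCfg

open CurveRes CurveEmb CurveSep

variable {A X : Scheme.{u}}

/-- Point blow-up sequences of surfaces are blow-up sequences. -/
theorem toPtBlowupSeq {g : A ⟶ X} (hg : PtSeq g) : Resolve.IsPtBlowupSeq g := by
  induction hg with
  | refl X => exact Resolve.IsPtBlowupSeq.iso (Iso.refl X)
  | step b r z hz _ _ hb _ ih => exact Resolve.IsPtBlowupSeq.step b r z hz hb ih

/-- The basic properties of a sequence. -/
theorem seq_facts [IsIntegral X] [AlgebraicGeometry.IsNoetherian X] (hregX : ∀ x : X, IsRegularLocalRing (X.presheaf.stalk x))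
    (hdimX : topologicalKrullDim X ≤ 2) {g : A ⟶ X} (hg : PtSeq g) :
    IsIntegral A ∧ AlgebraicGeometry.IsNoetherian A ∧ IsProper g ∧ (∀ a : A, IsRegularLocalRing (A.presheaf.stalk a)) ∧
      topologicalKrullDim A ≤ 2 := by
  obtain ⟨hI, hr, -, -⟩ := hg.invariants hregX
  exact ⟨hI, hg.isNoetherian.1, hg.isNoetherian.2, hr, hg.dim_le hdimX⟩

/-- Sequences are injective over the non-closed points. -/
theorem inj_seq {g : A ⟶ X} (hg : PtSeq g) :
    ∀ [AlgebraicGeometry.IsNoetherian X], ∀ a a' : A, g a = g a' → ¬ IsClosed ({g a} : Set X) → a = a' := by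
  induction hg with
  | refl X => intro _ a a' h _; exact h
  | @step A Z X b r z hz hreg hd hb hr ih =>
    intro _ a a' h hc
    haveI := hr.isNoetherian.2
    have h1 : b a = b a' := ih (b a) (b a') h hc
    refine inj_off hb h1 fun e => hc ?_
    have h2 := r.isClosedMap _ hz
    rw [Set.image_singleton, ← e] at h2
    exact h2

/-- Effective Cartier ideals pull back along sequences. -/
theorem isEffCartier_seq {g : A ⟶ X} (hg : PtSeq g) :
    ∀ [AlgebraicGeometry.IsNoetherian X] {D : X.IdealSheafData}, BlowUp.IsEffCartierIdeal D →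
      BlowUp.IsEffCartierIdeal (D.comap g) := by
  induction hg with
  | refl X => intro _ D hD; rwa [Scheme.IdealSheafData.comap_id]
  | @step A Z X b r z hz hreg hd hb hr ih =>
    intro _ D hD
    haveI := hr.isNoetherian.1
    rw [Scheme.IdealSheafData.comap_comp]
    exact isEffCartier_comap hb (ih hD)

/-- The curves in a proper closed subset are finitely many. -/
theorem curves_finite [IsIntegral A] [AlgebraicGeometry.IsNoetherian A] (hdim : topologicalKrullDim A ≤ 2)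
    (D : A.IdealSheafData) (hgen : genericPoint A ∉ D.support) : {θ : A | IsCP θ ∧ θ ∈ D.support}.Finite := by
  haveI : IsLocallyNoetherian D.subscheme := LocallyOfFiniteType.isLocallyNoetherian D.subschemeι
  haveI : CompactSpace D.subscheme := QuasiCompact.compactSpace_of_compactSpace D.subschemeι
  haveI : AlgebraicGeometry.IsNoetherian D.subscheme := {}
  have hfin := TopologicalSpace.NoetherianSpace.finite_irreducibleComponents (α := ↥D.subscheme)
  refine (hfin.biUnion (t := fun C => {θ : A | ∃ w, IsGenericPoint w C ∧ D.subschemeι w = θ}) fun C _ => ?_).subset ?_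
  · refine Set.Subsingleton.finite ?_
    rintro _ ⟨w, hw, rfl⟩ _ ⟨w', hw', rfl⟩
    rw [hw.eq hw']
  rintro θ ⟨hθ, hθD⟩
  obtain ⟨w, rfl⟩ : θ ∈ Set.range D.subschemeι := by rw [Scheme.IdealSheafData.range_subschemeι]; exact hθD
  obtain ⟨ζ, hζ⟩ := QuasiSober.sober (isIrreducible_irreducibleComponent (x := w)) isClosed_irreducibleComponent
  have hζw : ζ ⤳ w := hζ.specializes mem_irreducibleComponent
  have hne : D.subschemeι ζ ≠ genericPoint A := fun e => hgen (e ▸ by
    rw [← SetLike.mem_coe, ← Scheme.IdealSheafData.range_subschemeι]; exact ⟨ζ, rfl⟩)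
  have he : w = ζ := by
    by_contra hwz
    apply hθ.1
    obtain ⟨z, hz⟩ : D.subschemeι w ∈ Set.range (cvI (D.subschemeι ζ)).subschemeι := by
      rw [range_cv]
      exact specializes_iff_mem_closure.1 (hζw.map D.subschemeι.continuous)
    have hz' : z ≠ genericPoint (cvI (D.subschemeι ζ)).subscheme := fun e => hwz (D.subschemeι.isEmbedding.injective (by
      rw [← hz, e, gen_cv]))
    have hc := H6CurveCorr.isClosed_singleton (dim_cv hdim hne) (fun a => genericPoint_specializes a) hz'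
    have := (cvI (D.subschemeι ζ)).subschemeι.isClosedEmbedding.isClosedMap _ hc
    rwa [Set.image_singleton, hz] at this
  refine Set.mem_iUnion₂.2 ⟨irreducibleComponent w, irreducibleComponent_mem_irreducibleComponents w, w, ?_, rfl⟩
  rw [IsGenericPoint, he]
  exact hζ.trans (by rw [he])

/-- Contracted curves are regular. -/
def ExcReg (g : A ⟶ X) : Prop :=
  ∀ _ : IsIntegral A, ∀ θ : A, IsCP θ → IsClosed ({g θ} : Set X) → RegCv θ

variable [IsIntegral X] [AlgebraicGeometry.IsNoetherian X] (hregX : ∀ x : X, IsRegularLocalRing (X.presheaf.stalk x))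
  (hdimX : topologicalKrullDim X ≤ 2)
include hregX hdimX

theorem excReg_step {A' : Scheme.{u}} {g : A ⟶ X} (hg : PtSeq g) (he : ExcReg g) {x : A} (hx : IsClosed ({x} : Set A))
    (hreg : IsRegularLocalRing (A.presheaf.stalk x)) (hd : ringKrullDim (A.presheaf.stalk x) = 2) (b : A' ⟶ A)
    (hb : BlowUp.IsBlowUp b (pointIdeal hx)) : ExcReg (b ≫ g) := by
  obtain ⟨hI, hn, hp, hr, hdA⟩ := seq_facts hregX hdimX hg
  obtain ⟨hI', hn', -, -, hdA'⟩ := seq_facts hregX hdimX (PtSeq.step b g x hx hreg hd hb hg)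
  haveI := hI
  haveI := hn
  intro hint θ hθ hc
  by_cases hbx : b θ = x
  · obtain ⟨η₀, -, -, hreg₀, -, huniq⟩ := exists_exc hb hr hd hdA'
    exact huniq θ hbx hθ.1 ▸ hreg₀
  · have hcp := isCP_image hb hr hd hθ hbx
    obtain ⟨k, -, hkc, hkg⟩ := exists_transform hb hr hd hdA hbx hcp (he hI _ hcp (by rwa [Scheme.Hom.comp_apply] at hc))
    haveI := hkc
    exact hkg ▸ regCv_of k (he hI _ hcp (by rwa [Scheme.Hom.comp_apply] at hc))

/-- Above a curve the centres have two-dimensional local rings. -/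
theorem dim_centre {g : A ⟶ X} (hg : PtSeq g) {x w : A} (hx : IsClosed ({x} : Set A)) (hw : w ⤳ x)
    (hgw : IsCP (g w)) :
    IsRegularLocalRing (A.presheaf.stalk x) ∧ ringKrullDim (A.presheaf.stalk x) = 2 := by
  obtain ⟨hI, hn, hp, hr, hdA⟩ := seq_facts hregX hdimX hg
  haveI := hI
  haveI := hp
  obtain ⟨-, -, ⟨V, hV, hiso⟩, -⟩ := hg.invariants hregX
  obtain ⟨hgen, -⟩ := BirQFLib.birational_of_isIso_restrict g V hV hiso
  refine ⟨hr x, dim_stalk_eq_two hdA (w := w) ⟨fun hc => hgw.1 ?_, fun he => hgw.2 ?_⟩ hw hx⟩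
  · simpa only [Set.image_singleton] using g.isClosedMap _ hc
  · rw [he, hgen]

/-- The image of a curve that is not contracted is a curve. -/
theorem isCP_map [IsIntegral A] {g : A ⟶ X} (hg : PtSeq g) {θ : A} (hθ : IsCP θ) (hc : ¬ IsClosed ({g θ} : Set X)) :
    IsCP (g θ) := by
  refine ⟨hc, fun he => hθ.2 ?_⟩
  obtain ⟨-, -, ⟨V, hV, hiso⟩, -⟩ := hg.invariants hregX
  obtain ⟨hgen, -⟩ := BirQFLib.birational_of_isIso_restrict g V hV hiso
  exact inj_seq hg θ _ (by rw [he, hgen]) hc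

omit hregX hdimX in
/-- The generic point avoids the inverse image. -/
theorem gen_notMem_comap [IsIntegral A] {g : A ⟶ X} (hgen : g (genericPoint A) = genericPoint X) (I : X.IdealSheafData)
    (hI : genericPoint X ∉ I.support) : genericPoint A ∉ (I.comap g).support := by
  rw [← SetLike.mem_coe, Scheme.IdealSheafData.support_comap, Closeds.coe_preimage, Set.mem_preimage]
  rw [hgen]
  exact hI

/-- Stage one: all curves of the inverse image are regular and the inverse image is Cartier. -/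
theorem exists_regular_cartier (I : X.IdealSheafData) (hI : genericPoint X ∉ I.support)
    (hfin : ∀ θ : X, IsCP θ → θ ∈ I.support → ∃ (N : Scheme.{u}) (ν : N ⟶ (cvI θ).subscheme),
      IsFinite ν ∧ IsIntegral N ∧ IsDominant ν ∧ ∀ z : N, IsRegularLocalRing (N.presheaf.stalk z)) :
    ∃ (A : Scheme.{u}) (g : A ⟶ X), PtSeq g ∧ BlowUp.IsEffCartierIdeal (I.comap g) ∧
      ∀ _ : IsIntegral A, ∀ θ : A, IsCP θ → θ ∈ (I.comap g).support → RegCv θ := by
  classical
  haveI : Finite {θ : X | IsCP θ ∧ θ ∈ I.support} := (curves_finite hdimX I hI).to_subtype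
  obtain ⟨m, ⟨e⟩⟩ := Finite.exists_equiv_fin {θ : X | IsCP θ ∧ θ ∈ I.support}
  let θs : Fin m → X := fun i => (e.symm i).1
  have hcpi : ∀ i, IsCP (θs i) := fun i => (e.symm i).2.1
  choose N ν hν hN hdom hNreg using fun i => hfin (θs i) (hcpi i) (e.symm i).2.2
  haveI : ∀ i, AlgebraicGeometry.IsNoetherian (cvI (θs i)).subscheme := fun i => by
    haveI : IsLocallyNoetherian (cvI (θs i)).subscheme := LocallyOfFiniteType.isLocallyNoetherian (cvI (θs i)).subschemeι
    haveI : CompactSpace (cvI (θs i)).subscheme := QuasiCompact.compactSpace_of_compactSpace (cvI (θs i)).subschemeι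
    exact {}
  haveI := hν
  haveI := hN
  haveI := hdom
  have hd : ∀ i, topologicalKrullDim (cvI (θs i)).subscheme ≤ 1 := fun i => dim_cv hdimX (hcpi i).2
  have hnc : ∀ i, ¬ IsClosed ({genericPoint (cvI (θs i)).subscheme} : Set (cvI (θs i)).subscheme) := fun i hc =>
    (hcpi i).1 (by
      have := (cvI (θs i)).subschemeι.isClosedEmbedding.isClosedMap _ hc
      rwa [Set.image_singleton, gen_cv] at this)
  have hQstep : ∀ {B B' : Scheme.{u}} (g : B ⟶ X) (b : B' ⟶ B) (x : B) (hx : IsClosed ({x} : Set B)),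
      BlowUp.IsBlowUp b (pointIdeal hx) →
      (∃ i, ∃ w, w ⤳ x ∧ g w = (cvI (θs i)).subschemeι (genericPoint (cvI (θs i)).subscheme)) →
      (PtSeq g ∧ ExcReg g) → (PtSeq (b ≫ g) ∧ ExcReg (b ≫ g)) := by
    rintro B B' g b x hx hb ⟨i, w, hw, hgw⟩ ⟨hg, he⟩
    rw [gen_cv] at hgw
    obtain ⟨hr, hd⟩ := dim_centre hregX hdimX hg hx hw (hgw ▸ hcpi i)
    exact ⟨PtSeq.step b g x hx hr hd hb hg, excReg_step hregX hdimX hg he hx hr hd b hb⟩
  have hQ0 : PtSeq (𝟙 X) ∧ ExcReg (𝟙 X) := ⟨.refl X, fun _ θ hθ hc => absurd hc hθ.1⟩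
  obtain ⟨A₁, g₁, hgood⟩ := exists_all_regular (fun i => (cvI (θs i)).subschemeι) ν hd hnc hNreg
    (fun {B} g => PtSeq g ∧ ExcReg g) hQ0 hQstep
  obtain ⟨hI₁, hn₁, hp₁, hr₁, hd₁⟩ := seq_facts hregX hdimX hgood.2.1.1
  haveI := hI₁
  haveI := hn₁
  have hgen₁ : g₁ (genericPoint A₁) = genericPoint X := by
    obtain ⟨-, -, ⟨V, hV, hiso⟩, -⟩ := hgood.2.1.1.invariants hregX
    exact (BirQFLib.birational_of_isIso_restrict g₁ V hV hiso).1
  have hI1 : genericPoint A₁ ∉ (I.comap g₁).support := gen_notMem_comap hgen₁ I hI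
  have hI10 : I.comap g₁ ≠ ⊥ := fun h0 => hI1 (by rw [h0, Scheme.IdealSheafData.support_bot]; trivial)
  obtain ⟨D, K, hD, hIK, hKfin, hpts⟩ := exists_cartier_mul hr₁ hd₁ (I.comap g₁) hI10
  obtain ⟨A₂, h, -, hseq, -, hcart, hpull⟩ := principalised K hKfin hpts
  have key : ∀ {B C : Scheme.{u}} {h : B ⟶ C}, PtSeq h → ∀ (g : C ⟶ X),
      Good (fun i => (cvI (θs i)).subschemeι) ν (fun {B} g => PtSeq g ∧ ExcReg g) (fun _ => True) g →
      Good (fun i => (cvI (θs i)).subschemeι) ν (fun {B} g => PtSeq g ∧ ExcReg g) (fun _ => True) (h ≫ g) := by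
    intro B C h hh
    induction hh with
    | refl C => intro g hg; rwa [Category.id_comp]
    | step b r z hz hr hdz hb _ ih =>
      intro g hg
      obtain ⟨hs, ⟨hq, he⟩, ht⟩ := ih g hg
      obtain ⟨hp', hn'⟩ := seq_proper hs
      haveI := hp'
      haveI := hn'
      rw [Category.assoc]
      exact ⟨Resolve.IsPtBlowupSeq.step b _ z hz hb hs,
        ⟨PtSeq.step b _ z hz hr hdz hb hq, excReg_step hregX hdimX hq he hz hr hdz b hb⟩,
        fun i => tracked_step (hd i) (hnc i) _ (ν i) (hNreg i) _ _ (ht i) hz b hb⟩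
  obtain ⟨-, ⟨hpt₂, hexc₂⟩, ht₂⟩ := key hseq g₁ hgood
  refine ⟨A₂, h ≫ g₁, hpt₂, ?_, fun hI₂ θ hθ hθD => ?_⟩
  · rw [Scheme.IdealSheafData.comap_comp, hIK, BlowCompLib.comap_mul]
    exact BlowCompLib.isEffCartier_mul hcart (hpull D hD)
  by_cases hc : IsClosed ({(h ≫ g₁) θ} : Set X)
  · exact hexc₂ hI₂ θ hθ hc
  haveI := hI₂
  have hcp := isCP_map hregX hdimX hpt₂ hθ hc
  have hmem : (h ≫ g₁) θ ∈ I.support := by
    rw [← SetLike.mem_coe, Scheme.IdealSheafData.support_comap, Closeds.coe_preimage] at hθD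
    exact hθD
  let i := e ⟨_, hcp, hmem⟩
  have hi : θs i = (h ≫ g₁) θ := congrArg Subtype.val (e.symm_apply_apply _)
  obtain ⟨Z, k, r, h', hk, hZ, -, hkg, ⟨V, hV, hiso⟩, -, -, hZreg⟩ := ht₂ i
  haveI := hk
  haveI := hZ
  obtain ⟨hgenr, -⟩ := BirQFLib.birational_of_isIso_restrict r V hV hiso
  have hθk : k (genericPoint Z) = θ := inj_seq hpt₂ _ _
    (by rw [← Scheme.Hom.comp_apply, hkg, Scheme.Hom.comp_apply, hgenr, gen_cv, hi])
    (by rw [← Scheme.Hom.comp_apply, hkg, Scheme.Hom.comp_apply, hgenr, gen_cv, hi]; exact hc)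
  exact hθk ▸ regCv_of k (hZreg trivial)

/-- Stage two: separate the curves; the configuration becomes a normal crossings one. -/
theorem exists_snc_regular (D : X.IdealSheafData) (hD : BlowUp.IsEffCartierIdeal D) (hgenD : genericPoint X ∉ D.support)
    (hregD : ∀ θ : X, IsCP θ → θ ∈ D.support → RegCv θ) :
    ∃ (A : Scheme.{u}) (g : A ⟶ X), PtSeq g ∧ BlowUp.IsEffCartierIdeal (D.comap g) ∧
      ∀ _ : IsIntegral A, ∀ p ∈ (D.comap g).support, SncAt (D.comap g) p := by
  classical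
  haveI : Finite {θ : X | IsCP θ ∧ θ ∈ D.support} := (curves_finite hdimX D hgenD).to_subtype
  obtain ⟨m, ⟨e⟩⟩ := Finite.exists_equiv_fin {θ : X | IsCP θ ∧ θ ∈ D.support}
  let θs : Fin m → X := fun i => (e.symm i).1
  have hcpi : ∀ i, IsCP (θs i) := fun i => (e.symm i).2.1
  have hregi : ∀ i, RegCv (θs i) := fun i => hregD _ (hcpi i) (e.symm i).2.2
  haveI : ∀ i, AlgebraicGeometry.IsNoetherian (cvI (θs i)).subscheme := fun i => by
    haveI : IsLocallyNoetherian (cvI (θs i)).subscheme := LocallyOfFiniteType.isLocallyNoetherian (cvI (θs i)).subschemeι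
    haveI : CompactSpace (cvI (θs i)).subscheme := QuasiCompact.compactSpace_of_compactSpace (cvI (θs i)).subschemeι
    exact {}
  let T : Set X := Set.range θs
  have hQstep : ∀ {B B' : Scheme.{u}} (g : B ⟶ X) (b : B' ⟶ B) (x : B) (hx : IsClosed ({x} : Set B)),
      BlowUp.IsBlowUp b (pointIdeal hx) →
      (∃ i, ∃ w, w ⤳ x ∧ g w = (cvI (θs i)).subschemeι (genericPoint (cvI (θs i)).subscheme)) →
      (PtSeq g ∧ ∀ _ : IsIntegral B, Cfg {θ : B | IsCP θ ∧ (IsClosed ({g θ} : Set X) ∨ g θ ∈ T)}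
        {θ : B | IsCP θ ∧ IsClosed ({g θ} : Set X)}) →
      (PtSeq (b ≫ g) ∧ ∀ _ : IsIntegral B', Cfg {θ : B' | IsCP θ ∧ (IsClosed ({(b ≫ g) θ} : Set X) ∨ (b ≫ g) θ ∈ T)}
        {θ : B' | IsCP θ ∧ IsClosed ({(b ≫ g) θ} : Set X)}) := by
    rintro B B' g b x hx hb ⟨i, w, hw, hgw⟩ ⟨hg, hcfg⟩
    rw [gen_cv] at hgw
    obtain ⟨hrx, hdx⟩ := dim_centre hregX hdimX hg hx hw (hgw ▸ hcpi i)
    have hg' := PtSeq.step b g x hx hrx hdx hb hg
    obtain ⟨hI, hn, hp, hr, hdB⟩ := seq_facts hregX hdimX hg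
    obtain ⟨hI', hn', -, -, hdB'⟩ := seq_facts hregX hdimX hg'
    haveI := hI
    haveI := hn
    haveI := hp
    refine ⟨hg', fun hint => ?_⟩
    haveI := hint
    have hstep := (hcfg hI).step hr hdB hx hdx b hb hdB'
    have hgx : IsClosed ({g x} : Set X) := by simpa only [Set.image_singleton] using g.isClosedMap _ hx
    have hiff : ∀ (S : Set X → Prop) (Sₚ : X → Prop), ∀ θ : B', IsCP θ →
        ((b θ ∈ {θ : B | IsCP θ ∧ (IsClosed ({g θ} : Set X) ∨ Sₚ (g θ))} ∨ b θ = x) ↔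
          (IsClosed ({(b ≫ g) θ} : Set X) ∨ Sₚ ((b ≫ g) θ))) := by
      intro _ Sₚ θ hθ
      rw [Scheme.Hom.comp_apply]
      constructor
      · rintro (⟨-, h⟩ | h)
        · exact h
        · exact Or.inl (h ▸ hgx)
      · intro h
        by_cases hbx : b θ = x
        · exact Or.inr hbx
        · exact Or.inl ⟨isCP_image hb hr hdx hθ hbx, h⟩
    have hM : {θ : B' | IsCP θ ∧ (IsClosed ({(b ≫ g) θ} : Set X) ∨ (b ≫ g) θ ∈ T)} =
        {θ : B' | IsCP θ ∧ (b θ ∈ {θ : B | IsCP θ ∧ (IsClosed ({g θ} : Set X) ∨ g θ ∈ T)} ∨ b θ = x)} := by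
      ext θ
      exact ⟨fun h => ⟨h.1, (hiff (fun _ => True) (fun y => y ∈ T) θ h.1).2 h.2⟩,
        fun h => ⟨h.1, (hiff (fun _ => True) (fun y => y ∈ T) θ h.1).1 h.2⟩⟩
    have hN : {θ : B' | IsCP θ ∧ IsClosed ({(b ≫ g) θ} : Set X)} =
        {θ : B' | IsCP θ ∧ (b θ ∈ {θ : B | IsCP θ ∧ IsClosed ({g θ} : Set X)} ∨ b θ = x)} := by
      ext θ
      have h := fun hθ => hiff (fun _ => True) (fun _ => False) θ hθ
      simp only [or_false] at h
      exact ⟨fun h' => ⟨h'.1, (h h'.1).2 h'.2⟩, fun h' => ⟨h'.1, (h h'.1).1 h'.2⟩⟩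
    rw [hM, hN]
    exact hstep
  have hdist : ∀ i l, i ≠ l → (cvI (θs i)).subschemeι (genericPoint (cvI (θs i)).subscheme) ∉
      Set.range (cvI (θs l)).subschemeι := by
    rintro i l hil ⟨z, hz⟩
    rw [gen_cv] at hz
    by_cases hzg : z = genericPoint (cvI (θs l)).subscheme
    · rw [hzg, gen_cv] at hz
      exact hil (e.symm.injective (Subtype.ext hz.symm))
    · have hc := H6CurveCorr.isClosed_singleton (dim_cv hdimX (hcpi l).2) (fun a => genericPoint_specializes a) hzg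
      have hc' := (cvI (θs l)).subschemeι.isClosedEmbedding.isClosedMap _ hc
      rw [Set.image_singleton, hz] at hc'
      exact (hcpi i).1 hc'
  have hQ0 : PtSeq (𝟙 X) ∧ ∀ _ : IsIntegral X, Cfg {θ : X | IsCP θ ∧ (IsClosed ({(𝟙 X : X ⟶ X) θ} : Set X) ∨ (𝟙 X : X ⟶ X) θ ∈ T)}
      {θ : X | IsCP θ ∧ IsClosed ({(𝟙 X : X ⟶ X) θ} : Set X)} := by
    refine ⟨.refl X, fun _ => ⟨fun θ hθ => absurd hθ.2 hθ.1.1, fun θ hθ => hθ.1, ?_,
      fun a ha => absurd ha.2 ha.1.1, fun a ha => absurd ha.2 ha.1.1⟩⟩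
    rintro θ ⟨hθ, hc | ⟨i, hi⟩⟩
    · exact absurd hc hθ.1
    · exact (show θs i = θ from hi) ▸ hregi i
  obtain ⟨A, g, k, -, ⟨hg, hcfg⟩, hk, hkg, hdisj⟩ := exists_separate (fun i => (cvI (θs i)).subschemeι) hregi
    (fun i => dim_cv hdimX (hcpi i).2) (fun i => by rw [gen_cv]; exact (hcpi i).1) hdist
    (fun {B} g => PtSeq g ∧ ∀ _ : IsIntegral B, Cfg {θ : B | IsCP θ ∧ (IsClosed ({g θ} : Set X) ∨ g θ ∈ T)}
      {θ : B | IsCP θ ∧ IsClosed ({g θ} : Set X)})
    hQstep (𝟙 X) (Resolve.IsPtBlowupSeq.iso (Iso.refl X)) hQ0 (fun i => (cvI (θs i)).subschemeι)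
    (fun i => inferInstance) (fun i => Category.comp_id _)
  refine ⟨A, g, hg, isEffCartier_seq hg hD, fun hint p hp => ?_⟩
  haveI := hint
  haveI := hk
  have hC := hcfg hint
  have hM : ∀ θ : A, IsCP θ → θ ∈ (D.comap g).support → IsClosed ({g θ} : Set X) ∨ ∃ i, g θ = θs i := fun θ hθ hθD => by
    by_cases hc : IsClosed ({g θ} : Set X)
    · exact Or.inl hc
    · have hmem : g θ ∈ D.support := by
        rw [← SetLike.mem_coe, Scheme.IdealSheafData.support_comap, Closeds.coe_preimage] at hθD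
        exact hθD
      refine Or.inr ⟨e ⟨_, isCP_map hregX hdimX hg hθ hc, hmem⟩, ?_⟩
      show g θ = (e.symm (e ⟨_, isCP_map hregX hdimX hg hθ hc, hmem⟩)).1
      rw [e.symm_apply_apply]
  have hMem : ∀ θ : A, IsCP θ → θ ∈ (D.comap g).support → θ ∈ {θ : A | IsCP θ ∧ (IsClosed ({g θ} : Set X) ∨ g θ ∈ T)} :=
    fun θ hθ hθD => ⟨hθ, (hM θ hθ hθD).imp_right fun ⟨i, hi⟩ => ⟨i, hi.symm⟩⟩
  -- two curves through a point are not both old
  have hnew : ∀ a c : A, IsCP a → IsCP c → a ∈ (D.comap g).support → c ∈ (D.comap g).support → a ⤳ p → c ⤳ p → a ≠ c →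
      IsClosed ({g a} : Set X) ∨ IsClosed ({g c} : Set X) := fun a c ha hc haD hcD hap hcp hac => by
    rcases hM a ha haD with h | ⟨i, hi⟩
    · exact Or.inl h
    rcases hM c hc hcD with h | ⟨l, hl⟩
    · exact Or.inr h
    exfalso
    have hfix : ∀ (q : A) (j : Fin m), g q = θs j → k j (genericPoint (cvI (θs j)).subscheme) = q := fun q j hq =>
      inj_seq hg _ _ (by rw [← Scheme.Hom.comp_apply, hkg, gen_cv, hq])
        (by rw [← Scheme.Hom.comp_apply, hkg, gen_cv]; exact (hcpi j).1)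
    have hil : i ≠ l := fun h => hac (by rw [← hfix a i hi, ← hfix c l hl, h])
    refine (fun h1 h2 => Set.disjoint_left.1 (hdisj i l hil) (show p ∈ _ from h1) h2) ?_ ?_
    · rw [range_eq_closure, hfix a i hi]; exact specializes_iff_mem_closure.1 hap
    · rw [range_eq_closure, hfix c l hl]; exact specializes_iff_mem_closure.1 hcp
  refine ⟨fun θ hθ hθD _ => hC.reg θ (hMem θ hθ hθD), ?_, ?_⟩
  · intro a c d ha hc hd haD hcD hdD hap hcp hdp hac had hcd
    rcases hnew a c ha hc haD hcD hap hcp hac with hA | hC'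
    · rcases hnew c d hc hd hcD hdD hcp hdp hcd with hC' | hD'
      · exact hC.noTriple a ⟨ha, hA⟩ c ⟨hc, hC'⟩ d (hMem d hd hdD) hac had hcd p hap hcp hdp
      · exact hC.noTriple a ⟨ha, hA⟩ d ⟨hd, hD'⟩ c (hMem c hc hcD) had hac (Ne.symm hcd) p hap hdp hcp
    · rcases hnew a d ha hd haD hdD hap hdp had with hA | hD'
      · exact hC.noTriple a ⟨ha, hA⟩ c ⟨hc, hC'⟩ d (hMem d hd hdD) hac had hcd p hap hcp hdp
      · exact hC.noTriple c ⟨hc, hC'⟩ d ⟨hd, hD'⟩ a (hMem a ha haD) hcd (Ne.symm hac) (Ne.symm had) p hcp hdp hap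
  · intro a c ha hc haD hcD hap hcp hac
    rcases hnew a c ha hc haD hcD hap hcp hac with hA | hC'
    · exact hC.trans a ⟨ha, hA⟩ c (hMem c hc hcD) hac
    · exact (hC.trans c ⟨hc, hC'⟩ a (hMem a ha haD) hac.symm).symm

end Groth.Agent.CastLib.CurveCfg

end
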