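import Groth.Agent.CastLib.TorsionThick
import Groth.Agent.CastLib.FieldConst
import Groth.Agent.CastLib.CompList

/-!
# Torsion prime to the residue characteristic injects into the reduced fibre
-/

set_option autoImplicit false
set_option backward.isDefEq.respectTransparency false
set_option linter.style.haveILetI false
set_option maxHeartbeats 1000000

universe u

open CategoryTheory CategoryTheory.Limits AlgebraicGeometry TopologicalSpace IsLocalRing

noncomputable section

namespace Groth.Agent.CastLib

variable {R : Type u} [CommRing R] [IsDomain R] [IsDiscreteValuationRing R]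
variable {C X : Scheme.{u}} {f : C ⟶ Spec (CommRingCat.of (FractionRing R))} {p : X ⟶ Spec (CommRingCat.of R)}

theorem specialFibreIdeal_le_red (X : Over (Spec (CommRingCat.of R))) :
    Models.specialFibreIdeal R X ≤ Models.redFibreIdeal R X := by
  refine Scheme.IdealSheafData.le_support_iff_le_vanishingIdeal.1 ?_
  intro x hx
  exact (FibreGood.mem_fibre (X := X)).2 hx

/-- **Torsion prime to the residue characteristic, trivial on the reduced fibre, is trivial.** -/
theorem torsion_trivial_of_red (hC : Curve.IsSmoothProperCurve (FractionRing R) C f) (hH0 : IsIso f.appTop)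
    (hX : Models.IsRegularProperModel R X p C f) {h : ℕ} (hh : 0 < h)
    (hchar : ∀ q : ℕ, q.Prime → CharP (ResidueField R) q → ¬ q ∣ h)
    {M : X.Modules} (hM : PicF.IsInvertible M)
    (htors : Nonempty (CohB1.tensorPow M h ≅ Coh.structureModule X))
    (htriv : Nonempty ((Scheme.Modules.pullback (Models.redFibreIdeal R (Over.mk p)).subschemeι).obj M ≅
      Coh.structureModule (Models.redFibreIdeal R (Over.mk p)).subscheme)) :
    Nonempty (M ≅ Coh.structureModule X) := by
  classical
  haveI : IsProper p := hX.2.1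
  haveI : Flat p := hX.1.1
  have hV := VSurf.of_model hC hX
  obtain ⟨g, hg⟩ := hX.1.2.2.2
  haveI : IsIntegral X := hV.int
  let XX : Over (Spec (CommRingCat.of R)) := Over.mk p
  have hconn : _root_.IsPreconnected (Models.specialFibreSet R XX) :=
    SteinConn.isPreconnected_closedFibre p (SurfPtBlow.toGlobal_surjective hg hH0)
  obtain ⟨n, Γ, hΓ⟩ := exists_componentList hC hX
  obtain ⟨i₀⟩ := hV.nonempty_index hΓ
  let J := Models.redFibreIdeal R XX
  let W := J.subscheme
  let ι : W ⟶ X := J.subschemeι
  have hF : FieldFin (X := XX) J := by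
    have h1 := hV.fieldFin_ones hconn hΓ i₀
    simp only [pow_one] at h1
    rw [show J = ∏ j, (Γ j).ι.ker from redFibreIdeal_eq_prod hC hX hΓ]
    exact h1
  letI : Field Γ(W, ⊤) := hF.1.toField
  obtain ⟨z, hz⟩ := exists_fibre_structure XX
  let zR : W ⟶ Spec (CommRingCat.of (ResidueField R)) :=
    Scheme.IdealSheafData.inclusion (specialFibreIdeal_le_red XX) ≫ z
  have hzR : ι ≫ p = zR ≫ Spec.map (CommRingCat.ofHom (IsLocalRing.residue R)) := by
    rw [Category.assoc, ← hz.w, ← Category.assoc, Scheme.IdealSheafData.inclusion_subschemeι]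
    rfl
  let k := ResidueField R
  let φ : k →+* Γ(W, ⊤) := Coh.toGlobal zR
  letI : Algebra k Γ(W, ⊤) := φ.toAlgebra
  letI : Algebra R Γ(W, ⊤) := (φ.comp (IsLocalRing.residue R)).toAlgebra
  haveI : IsScalarTower R k Γ(W, ⊤) := IsScalarTower.of_algebraMap_eq fun r => rfl
  have hRW : ((ι ≫ p).appTop.hom.comp (Scheme.ΓSpecIso (CommRingCat.of R)).inv.hom) = φ.comp (IsLocalRing.residue R) :=
    RingHom.ext fun r => toGlobal_w hzR r
  haveI : Module.Finite R Γ(W, ⊤) := by
    have h2 := hF.2
    rw [show (J.subschemeι ≫ XX.hom).appTop.hom.comp (Scheme.ΓSpecIso (CommRingCat.of R)).inv.hom = _ from hRW] at h2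
    exact h2
  haveI : FiniteDimensional k Γ(W, ⊤) := Module.Finite.of_restrictScalars_finite R k _
  -- the order is prime to the characteristic exponent
  obtain ⟨q, hq⟩ := ExpChar.exists k
  have hqh : ∀ e : ℕ, (q ^ e).Coprime h := fun e => by
    cases hq with
    | zero => rw [one_pow]; exact Nat.coprime_one_left h
    | prime hprime => exact ((hprime.coprime_iff_not_dvd).2 (hchar q hprime ‹_›)).pow_left e
  have hu : IsUnit (h : Γ(W, ⊤)) := by
    have hne : (h : k) ≠ 0 := fun h0 => by
      obtain ⟨c, hc⟩ := CharP.exists k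
      rcases CharP.char_is_prime_or_zero k c with hcp | hc0
      · exact hchar c hcp hc ((CharP.cast_eq_zero_iff k c h).1 h0)
      · subst hc0
        exact hh.ne' (Nat.zero_dvd.1 ((CharP.cast_eq_zero_iff k 0 h).1 h0))
    rw [← map_natCast φ h]
    exact (IsUnit.mk0 _ hne).map φ
  refine Groth.Agent.S11968.result R (maximalIdeal R) le_rfl p M hM fun j => ?_
  let s := Spec.map (CommRingCat.ofHom (Ideal.Quotient.mk (maximalIdeal R ^ (j + 1))))
  let X' := pullback p s
  let fac : R ⧸ maximalIdeal R ^ (j + 1) →+* k := Ideal.Quotient.factor (Ideal.pow_le_self (Nat.succ_ne_zero j))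
  let i : W ⟶ X' := pullback.lift ι (zR ≫ Spec.map (CommRingCat.ofHom fac)) (by
    rw [Category.assoc, ← Spec.map_comp]; exact hzR)
  haveI : IsClosedImmersion s := IsClosedImmersion.spec_of_surjective _ Ideal.Quotient.mk_surjective
  haveI : IsClosedImmersion (i ≫ pullback.fst p s) := by rw [pullback.lift_fst]; infer_instance
  haveI : IsClosedImmersion i := IsClosedImmersion.of_comp i (pullback.fst p s)
  haveI : Surjective i := ⟨fun y => by
    have h1 : p (pullback.fst p s y) = closedPoint R := by
      rw [← Scheme.Hom.comp_apply, pullback.condition, Scheme.Hom.comp_apply]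
      let P : PrimeSpectrum (R ⧸ maximalIdeal R ^ (j + 1)) := pullback.snd p s y
      refine PrimeSpectrum.ext ?_
      show Ideal.comap (Ideal.Quotient.mk (maximalIdeal R ^ (j + 1))) P.asIdeal = maximalIdeal R
      refine ((maximalIdeal.isMaximal R).eq_of_le (Ideal.IsPrime.ne_top inferInstance) ?_).symm
      refine (Ideal.IsPrime.pow_le_iff (Nat.succ_ne_zero j)).1 fun r hr => ?_
      show Ideal.Quotient.mk _ r ∈ P.asIdeal
      rw [Ideal.Quotient.eq_zero_iff_mem.2 hr]
      exact zero_mem _
    obtain ⟨w, hw⟩ : pullback.fst p s y ∈ Set.range ι := by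
      rw [Scheme.IdealSheafData.range_subschemeι]
      exact (Scheme.IdealSheafData.coe_support_vanishingIdeal
        (⟨Models.specialFibreSet R XX, Models.isClosed_specialFibreSet R XX⟩ : Closeds X)).ge h1
    refine ⟨w, (pullback.fst p s).isClosedEmbedding.injective ?_⟩
    rw [← Scheme.Hom.comp_apply, pullback.lift_fst]
    exact hw⟩
  have hunits : ∀ u : Γ(W, ⊤), IsUnit u → ∃ N : ℕ, N.Coprime h ∧ ∃ v : Γ(X', ⊤), i.appTop v = u ^ N := fun u _ => by
    obtain ⟨e, w, hw⟩ := IsPurelyInseparable.pow_mem (separableClosure k Γ(W, ⊤)) q u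
    have hsep : IsSeparable k (w : Γ(W, ⊤)) := mem_separableClosure_iff.1 w.2
    obtain ⟨P, hP⟩ := Polynomial.map_surjective (IsLocalRing.residue R) IsLocalRing.residue_surjective
      (minpoly k (w : Γ(W, ⊤)))
    let ρ : R →+* Γ(X', ⊤) := Coh.toGlobal (pullback.fst p s ≫ p)
    have hρ : i.appTop.hom.comp ρ = (algebraMap k Γ(W, ⊤)).comp (IsLocalRing.residue R) := by
      rw [show algebraMap k Γ(W, ⊤) = φ from rfl, ← hRW, ← show i ≫ pullback.fst p s ≫ p = ι ≫ p by
        rw [← Category.assoc, pullback.lift_fst], Scheme.Hom.comp_appTop]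
      rfl
    have hev : ∀ Q : Polynomial R, (Q.map ρ).eval₂ i.appTop.hom (w : Γ(W, ⊤)) =
        Polynomial.aeval (w : Γ(W, ⊤)) (Q.map (IsLocalRing.residue R)) := fun Q => by
      rw [Polynomial.eval₂_map, hρ, Polynomial.aeval_def, Polynomial.eval₂_map]
    obtain ⟨v, hv⟩ := exists_lift_simple_root i (P.map ρ) (w := (w : Γ(W, ⊤)))
      (by rw [hev, hP, minpoly.aeval])
      (by
        rw [Polynomial.derivative_map, hev, ← Polynomial.derivative_map, hP]
        exact isUnit_iff_ne_zero.2 (hsep.aeval_derivative_ne_zero (minpoly.aeval _ _)))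
    exact ⟨q ^ e, hqh e, v, hv.trans hw⟩
  obtain ⟨φh⟩ := htors
  obtain ⟨ψ⟩ := htriv
  obtain ⟨φ'⟩ : Nonempty (CohB1.tensorPow ((Scheme.Modules.pullback (pullback.fst p s)).obj M) h ≅
      Coh.structureModule X') := IntLib.mk_eq_mk.1 (by
    rw [IntLib.mk_tensorPow, ← IntLib.pullCls_mk, ← map_pow, ← IntLib.mk_tensorPow, IntLib.mk_congr φh,
      IntLib.mk_structureModule, map_one, IntLib.mk_structureModule])
  exact torsion_trivial_of_thickening i hu hunits (AmpleLib.isInvertible_pullback _ hM) φ'
    ((Scheme.Modules.pullbackComp i (pullback.fst p s)).app M ≪≫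
      (Scheme.Modules.pullbackCongr (pullback.lift_fst _ _ _)).app M ≪≫ ψ)

/-- The same, for triviality on the closed fibre. -/
theorem torsion_trivial_of_fibre (hC : Curve.IsSmoothProperCurve (FractionRing R) C f) (hH0 : IsIso f.appTop)
    (hX : Models.IsRegularProperModel R X p C f) {h : ℕ} (hh : 0 < h)
    (hchar : ∀ q : ℕ, q.Prime → CharP (ResidueField R) q → ¬ q ∣ h)
    {M : X.Modules} (hM : PicF.IsInvertible M)
    (htors : Nonempty (CohB1.tensorPow M h ≅ Coh.structureModule X))
    (htriv : Nonempty ((Scheme.Modules.pullback (pullback.fst p (Spec.map (CommRingCat.ofHom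
          (algebraMap R (ResidueField R)))))).obj M ≅
        Coh.structureModule (Models.specialFibre R X p))) :
    Nonempty (M ≅ Coh.structureModule X) := by
  refine torsion_trivial_of_red hC hH0 hX hh hchar hM htors ?_
  obtain ⟨z, hz⟩ := exists_fibre_structure (Over.mk p)
  obtain ⟨ψ⟩ := htriv
  let s := Spec.map (CommRingCat.ofHom (algebraMap R (ResidueField R)))
  have hz' : IsPullback (Models.specialFibreIdeal R (Over.mk p)).subschemeι z p s := hz
  let l : (Models.redFibreIdeal R (Over.mk p)).subscheme ⟶ pullback p s :=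
    Scheme.IdealSheafData.inclusion (specialFibreIdeal_le_red (Over.mk p)) ≫ hz'.isoPullback.hom
  have hl : l ≫ pullback.fst p s = (Models.redFibreIdeal R (Over.mk p)).subschemeι := by
    rw [Category.assoc, IsPullback.isoPullback_hom_fst]
    exact Scheme.IdealSheafData.inclusion_subschemeι _
  exact ⟨((Scheme.Modules.pullbackCongr hl).app M).symm ≪≫
    ((Scheme.Modules.pullbackComp l (pullback.fst p s)).app M).symm ≪≫
    (Scheme.Modules.pullback l).mapIso ψ ≪≫ AmpleLib.pullO l⟩

end Groth.Agent.CastLib
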