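import Groth.Agent.CastLib.RedFibre
import Groth.Agent.PicRootLib.Main
import Groth.Agent.S11968
import Mathlib.FieldTheory.PurelyInseparable.Basic

/-!
# Torsion invertible modules trivial on the reduced closed fibre
-/

set_option autoImplicit false
set_option backward.isDefEq.respectTransparency false
set_option linter.style.haveILetI false
set_option maxHeartbeats 1000000

universe u

open CategoryTheory CategoryTheory.Limits AlgebraicGeometry TopologicalSpace IsLocalRing Opposite
open Groth.Agent.ParaFLib Groth.Agent.AmpleLib Groth.Agent.PullbackMod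

noncomputable section

namespace Groth.Agent.CastLib

variable {X X' : Scheme.{u}} (i : X ⟶ X') [IsClosedImmersion i] [Surjective i]

/-- A simple root of a polynomial lifts through a thickening. -/
theorem exists_lift_simple_root (P : Polynomial Γ(X', ⊤)) {w : Γ(X, ⊤)} (hw : P.eval₂ i.appTop.hom w = 0)
    (hd : IsUnit ((Polynomial.derivative P).eval₂ i.appTop.hom w)) :
    ∃ v : Γ(X', ⊤), i.appTop v = w := by
  classical
  let ι := {W : X'.Opens // IsAffineOpen W}
  let r : ∀ W : ι, Γ(X', ⊤) →+* Γ(X', W.1) := fun W => (X'.presheaf.map (homOfLE le_top).op).hom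
  let r' : ∀ W : ι, Γ(X, ⊤) →+* Γ(X, i ⁻¹ᵁ W.1) := fun W => (X.presheaf.map (homOfLE le_top).op).hom
  have hcomp : ∀ W : ι, (i.app W.1).hom.comp (r W) = (r' W).comp i.appTop.hom := fun W =>
    RingHom.ext fun a => PicRootLib.app_res i le_top a
  have loc : ∀ W : ι, ∃ a : Γ(X', W.1), i.app W.1 a = r' W w ∧ P.eval₂ (r W) a = 0 := fun W => by
    obtain ⟨a₀, ha₀⟩ := i.app_surjective W.1 W.2 (r' W w)
    have he : ∀ (Q : Polynomial Γ(X', ⊤)) (a : Γ(X', W.1)), i.app W.1 a = r' W w →
        i.app W.1 (Q.eval₂ (r W) a) = r' W (Q.eval₂ i.appTop.hom w) := fun Q a ha => by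
      show (i.app W.1).hom _ = _
      rw [Polynomial.hom_eval₂, Polynomial.hom_eval₂, hcomp]
      exact congrArg (fun z => Polynomial.eval₂ ((r' W).comp i.appTop.hom) z Q) ha
    let PW := P.map (r W)
    have h1 : IsNilpotent (Polynomial.aeval a₀ PW) := by
      refine PicRootLib.isNilpotent_of_app_eq_zero i W.2.isCompact ?_
      rw [Polynomial.coe_aeval_eq_eval, Polynomial.eval_map, he P a₀ ha₀, hw, map_zero]
    have h2 : IsUnit (Polynomial.aeval a₀ (Polynomial.derivative PW)) := by
      refine PicRootLib.isUnit_of_app i ?_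
      rw [Polynomial.coe_aeval_eq_eval, Polynomial.derivative_map, Polynomial.eval_map, he _ a₀ ha₀]
      exact hd.map _
    obtain ⟨a, ⟨ha, ha0⟩, -⟩ := Polynomial.existsUnique_nilpotent_sub_and_aeval_eq_zero h1 h2
    rw [Polynomial.coe_aeval_eq_eval, Polynomial.eval_map] at ha0
    refine ⟨a, ?_, ha0⟩
    let Q := P.map ((r' W).comp i.appTop.hom)
    have q1 : IsNilpotent (Polynomial.aeval (r' W w) Q) := by
      rw [Polynomial.coe_aeval_eq_eval, Polynomial.eval_map, ← Polynomial.hom_eval₂, hw, map_zero]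
      exact IsNilpotent.zero
    have q2 : IsUnit (Polynomial.aeval (r' W w) (Polynomial.derivative Q)) := by
      rw [Polynomial.coe_aeval_eq_eval, Polynomial.derivative_map, Polynomial.eval_map, ← Polynomial.hom_eval₂]
      exact hd.map _
    refine (Polynomial.existsUnique_nilpotent_sub_and_aeval_eq_zero q1 q2).unique ⟨?_, ?_⟩ ⟨by simp, ?_⟩
    · have h3 := ha.map (i.app W.1).hom
      rw [map_sub] at h3
      rwa [show (i.app W.1).hom a₀ = r' W w from ha₀] at h3
    · rw [Polynomial.coe_aeval_eq_eval, Polynomial.eval_map, ← hcomp, ← Polynomial.hom_eval₂, ha0, map_zero]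
    · rw [Polynomial.coe_aeval_eq_eval, Polynomial.eval_map, ← Polynomial.hom_eval₂, hw, map_zero]
  choose a hai haP using loc
  have huniq : ∀ (T : X'.Opens) (b c : Γ(X', T)) (φ : Γ(X', ⊤) →+* Γ(X', T)),
      φ = (X'.presheaf.map (homOfLE (le_top : T ≤ ⊤)).op).hom → P.eval₂ φ b = 0 → P.eval₂ φ c = 0 →
      i.app T b = i.app T c → i.app T b = (X.presheaf.map (homOfLE (le_top : i ⁻¹ᵁ T ≤ ⊤)).op).hom w → b = c := by
    intro T b c φ hφ hb hc hbc hbw
    obtain ⟨q, hq⟩ := (P.map φ).binomExpansion b (c - b)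
    rw [add_sub_cancel, Polynomial.eval_map, Polynomial.derivative_map, Polynomial.eval_map, Polynomial.eval_map, hb, hc,
      zero_add] at hq
    have hu : IsUnit ((Polynomial.derivative P).eval₂ φ b + q * (c - b)) := by
      refine PicRootLib.isUnit_of_app i ?_
      rw [map_add, map_mul, map_sub, hbc, sub_self, mul_zero, add_zero]
      show IsUnit ((i.app T).hom _)
      rw [Polynomial.hom_eval₂, hφ,
        show (i.app T).hom.comp (X'.presheaf.map (homOfLE (le_top : T ≤ ⊤)).op).hom =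
          (X.presheaf.map (homOfLE (le_top : i ⁻¹ᵁ T ≤ ⊤)).op).hom.comp i.appTop.hom from
          RingHom.ext fun a => PicRootLib.app_res i le_top a,
        show (i.app T).hom b = _ from hbw, ← Polynomial.hom_eval₂]
      exact hd.map _
    have h0 : ((Polynomial.derivative P).eval₂ φ b + q * (c - b)) * (c - b) = 0 := by linear_combination -hq
    exact (sub_eq_zero.1 (hu.mul_right_eq_zero.1 h0)).symm
  have hcov : (⊤ : X'.Opens) ≤ ⨆ W : ι, W.1 := fun x _ => by
    obtain ⟨W, hW, hxW, -⟩ := exists_isAffineOpen_mem_and_subset (U := (⊤ : X'.Opens)) (show x ∈ ⊤ from trivial)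
    exact Opens.mem_iSup.2 ⟨⟨W, hW⟩, hxW⟩
  obtain ⟨v, hv, -⟩ := X'.sheaf.existsUnique_gluing' (fun W : ι => W.1) ⊤ (fun W => homOfLE le_top) hcov a
    (fun W W' => by
      refine huniq _ _ _ _ rfl ?_ ?_ ?_ ?_
      · have h := congrArg (X'.presheaf.map (homOfLE (inf_le_left : W.1 ⊓ W'.1 ≤ W.1)).op).hom (haP W)
        rw [map_zero, Polynomial.hom_eval₂, ← CommRingCat.hom_comp, ← Functor.map_comp] at h
        exact h
      · have h := congrArg (X'.presheaf.map (homOfLE (inf_le_right : W.1 ⊓ W'.1 ≤ W'.1)).op).hom (haP W')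
        rw [map_zero, Polynomial.hom_eval₂, ← CommRingCat.hom_comp, ← Functor.map_comp] at h
        exact h
      · erw [PicRootLib.app_res, PicRootLib.app_res, hai, hai]
        simp only [r', ← ConcreteCategory.comp_apply, ← Functor.map_comp]
        rfl
      · erw [PicRootLib.app_res, hai]
        simp only [r', ← ConcreteCategory.comp_apply, ← Functor.map_comp]
        rfl)
  refine ⟨v, X.sheaf.eq_of_locally_eq' (fun W : ι => i ⁻¹ᵁ W.1) ⊤ (fun W => homOfLE le_top) (fun x _ => by
    obtain ⟨W, hW⟩ := Opens.mem_iSup.1 (hcov (show i x ∈ ⊤ from trivial))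
    exact Opens.mem_iSup.2 ⟨W, hW⟩) _ _ fun W => ?_⟩
  exact (PicRootLib.app_res i le_top v).symm.trans ((congrArg _ (hv W)).trans (hai W))

/-- **A torsion class trivial on the thickened scheme is trivial if units lift up to powers.** -/
theorem torsion_trivial_of_thickening {n : ℕ} (hu : IsUnit (n : Γ(X, ⊤)))
    (hunits : ∀ u : Γ(X, ⊤), IsUnit u → ∃ N : ℕ, N.Coprime n ∧ ∃ v : Γ(X', ⊤), i.appTop v = u ^ N)
    {L : X'.Modules} (hL : PicF.IsInvertible L) (φ : CohB1.tensorPow L n ≅ Coh.structureModule X')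
    (ψ : (Scheme.Modules.pullback i).obj L ≅ Coh.structureModule X) :
    Nonempty (L ≅ Coh.structureModule X') := by
  classical
  have loc : ∀ x : X', ∃ (V : X'.Opens) (e : Γ(L, V)), x ∈ V ∧ Gen V e := fun x => exists_gen_nhd hL x
  choose V e hxV he using loc
  let U : X' → X.Opens := fun x => i ⁻¹ᵁ V x
  have hV' : iSup V = ⊤ := eq_top_iff.2 fun x _ => Opens.mem_iSup.2 ⟨x, hxV x⟩
  have hU : iSup U = ⊤ := eq_top_iff.2 fun x _ => Opens.mem_iSup.2 ⟨i x, hxV (i x)⟩
  -- transition functions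
  have hη : ∀ x y : X', ∃ a : Γ(X', V x ⊓ V y), IsUnit a ∧
      a • L.presheaf.map (homOfLE (inf_le_right : V x ⊓ V y ≤ V y)).op (e y) =
        L.presheaf.map (homOfLE (inf_le_left : V x ⊓ V y ≤ V x)).op (e x) := fun x y =>
    ((he x).res inf_le_left).exists_unit ((he y).res (inf_le_right : V x ⊓ V y ≤ V y))
  choose η hηu hη using hη
  have hh : ∀ x, ∃ h : Γ(X', V x), IsUnit h ∧ h • (show Γ(Coh.structureModule X', V x) from (1 : Γ(X', V x))) =
      φ.hom.app (V x) (powLoc (e x) n) := fun x =>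
    (PicRootLib.gen_iso φ (gen_powLoc (he x) n)).exists_unit (gen_one (V x))
  choose h hhu hh using hh
  have hc : ∀ x, ∃ c : Γ(X, U x), IsUnit c ∧ c • (show Γ(Coh.structureModule X, U x) from (1 : Γ(X, U x))) =
      ψ.hom.app (U x) (pullMap i L le_rfl (e x)) := fun x =>
    (PicRootLib.gen_iso ψ (AmpleEmb.gen_pullMap i hL (he x))).exists_unit (gen_one (U x))
  choose c hcu hc using hc
  have one_res : ∀ {Z : Scheme.{u}} {A B : Z.Opens} (hAB : B ≤ A), (Coh.structureModule Z).presheaf.map (homOfLE hAB).op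
      (show Γ(Coh.structureModule Z, A) from (1 : Γ(Z, A))) = (1 : Γ(Z, B)) :=
    fun {Z A B} hAB => map_one (Z.presheaf.map (homOfLE hAB).op).hom
  have inj : ∀ {Z : Scheme.{u}} (A : Z.Opens), Function.Injective fun r : Γ(Z, A) =>
      r • (show Γ(Coh.structureModule Z, A) from (1 : Γ(Z, A))) := fun {Z} A => by
    have := (gen_one (X := Z) A A le_rfl).1
    simpa only [one_res] using this
  have hhη : ∀ x y, X'.presheaf.map (homOfLE (inf_le_left : V x ⊓ V y ≤ V x)).op (h x) =
      η x y ^ n * X'.presheaf.map (homOfLE (inf_le_right : V x ⊓ V y ≤ V y)).op (h y) := fun x y => by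
    have e1 := congrArg ((Coh.structureModule X').presheaf.map (homOfLE (inf_le_left : V x ⊓ V y ≤ V x)).op) (hh x)
    have e2 := congrArg ((Coh.structureModule X').presheaf.map (homOfLE (inf_le_right : V x ⊓ V y ≤ V y)).op) (hh y)
    rw [(Coh.structureModule X').map_smul, one_res, ← DCohLib.app_natural, powLoc_res] at e1 e2
    rw [← hη x y, powLoc_smul] at e1
    refine inj (V x ⊓ V y) (e1.trans ?_)
    rw [Scheme.Modules.Hom.app_smul, ← e2]
    exact (mul_smul _ _ _).symm
  have hcη : ∀ x y, X.presheaf.map (homOfLE (inf_le_left : U x ⊓ U y ≤ U x)).op (c x) =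
      (show Γ(X, U x ⊓ U y) from i.app (V x ⊓ V y) (η x y)) *
        X.presheaf.map (homOfLE (inf_le_right : U x ⊓ U y ≤ U y)).op (c y) := fun x y => by
    have e1 := congrArg ((Coh.structureModule X).presheaf.map (homOfLE (inf_le_left : U x ⊓ U y ≤ U x)).op) (hc x)
    have e2 := congrArg ((Coh.structureModule X).presheaf.map (homOfLE (inf_le_right : U x ⊓ U y ≤ U y)).op) (hc y)
    rw [(Coh.structureModule X).map_smul, one_res, ← DCohLib.app_natural] at e1 e2
    rw [pullMap_res i L _ inf_le_left inf_le_left (le_rfl : U x ⊓ U y ≤ i ⁻¹ᵁ (V x ⊓ V y)), ← hη x y,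
      pullMap_smul] at e1
    rw [pullMap_res i L _ inf_le_right inf_le_right (le_rfl : U x ⊓ U y ≤ i ⁻¹ᵁ (V x ⊓ V y))] at e2
    refine inj (U x ⊓ U y) (e1.trans ?_)
    rw [Scheme.Modules.Hom.app_smul, ← e2, ← mul_smul, Scheme.Hom.app_eq_appLE]
    rfl
  -- the obstruction unit
  let w : ∀ x, Γ(X, U x) := fun x => i.app (V x) (h x) * ↑((hcu x).pow n).unit⁻¹
  have hw : ∀ x, w x * c x ^ n = i.app (V x) (h x) := fun x => by
    simp only [w, mul_assoc, IsUnit.val_inv_mul, mul_one]
  obtain ⟨u₀, hu₀, -⟩ := X.sheaf.existsUnique_gluing' U ⊤ (fun x => homOfLE le_top) hU.ge w (fun x y => by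
    show X.presheaf.map (homOfLE inf_le_left).op (w x) = X.presheaf.map (homOfLE inf_le_right).op (w y)
    refine (((hcu x).map (X.presheaf.map (homOfLE (inf_le_left : U x ⊓ U y ≤ U x)).op).hom).pow n).mul_left_injective ?_
    dsimp only
    have h1 := congrArg (X.presheaf.map (homOfLE (inf_le_left : U x ⊓ U y ≤ U x)).op).hom (hw x)
    have h2 := congrArg (X.presheaf.map (homOfLE (inf_le_right : U x ⊓ U y ≤ U y)).op).hom (hw y)
    have h3 : X.presheaf.map (homOfLE (inf_le_left : U x ⊓ U y ≤ U x)).op (i.app (V x) (h x)) =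
        (show Γ(X, U x ⊓ U y) from i.app (V x ⊓ V y) (η x y)) ^ n *
          X.presheaf.map (homOfLE (inf_le_right : U x ⊓ U y ≤ U y)).op (i.app (V y) (h y)) := by
      have h4 := congrArg (i.app (V x ⊓ V y)) (hhη x y)
      rw [map_mul, map_pow, PicRootLib.app_res, PicRootLib.app_res] at h4
      exact h4
    rw [map_mul, map_pow] at h1 h2
    erw [h1, h3, ← h2, hcη x y]
    ring)
  have hu₀' : ∀ x, X.presheaf.map (homOfLE (le_top : U x ≤ ⊤)).op u₀ = w x := hu₀
  have hu₀u : IsUnit u₀ := RingedSpace.isUnit_of_isUnit_germ X.toSheafedSpace ⊤ u₀ fun z _ => by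
    have hz : z ∈ U (i z) := hxV (i z)
    have hwu : IsUnit (w (i z)) := ((hhu _).map _).mul (Units.isUnit _)
    rw [← hu₀' (i z)] at hwu
    have h5 := hwu.map (X.presheaf.germ (U (i z)) z hz).hom
    erw [X.presheaf.germ_res_apply] at h5
    exact h5
  obtain ⟨N, hN, v, hv⟩ := hunits u₀ hu₀u
  have hvu : IsUnit v := PicRootLib.isUnit_of_app i (V := ⊤) (by
    show IsUnit (i.appTop v)
    rw [hv]; exact hu₀u.pow N)
  let v' : ∀ x, Γ(X', V x) := fun x => ↑(hvu.map (X'.presheaf.map (homOfLE (le_top : V x ≤ ⊤)).op).hom).unit⁻¹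
  have hr : ∀ x, ∃ r : Γ(X', V x), IsUnit r ∧ i.app (V x) r = c x ^ N ∧ r ^ n = h x ^ N * v' x := fun x => by
    refine PicRootLib.exists_root i hu ((hcu x).pow N) _ ?_
    have h1 : i.app (V x) (v' x) * w x ^ N = 1 := by
      have h2 : i.app (V x) (X'.presheaf.map (homOfLE (le_top : V x ≤ ⊤)).op v) = w x ^ N := by
        refine (PicRootLib.app_res i le_top v).trans ?_
        rw [show i.app ⊤ v = u₀ ^ N from hv, map_pow]
        exact congrArg (· ^ N) (hu₀' x)
      rw [← h2, ← map_mul]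
      simp only [v', IsUnit.val_inv_mul]
      exact map_one _
    rw [map_mul, map_pow, ← hw x, mul_pow, ← pow_mul, ← pow_mul, mul_comm N n]
    calc w x ^ N * c x ^ (n * N) * i.app (V x) (v' x) = c x ^ (n * N) * (i.app (V x) (v' x) * w x ^ N) := by ring
      _ = c x ^ (n * N) := by rw [h1, mul_one]
  choose r hru hri hrn using hr
  have hrel : ∀ x y, X'.presheaf.map (homOfLE (inf_le_left : V x ⊓ V y ≤ V x)).op (r x) =
      η x y ^ N * X'.presheaf.map (homOfLE (inf_le_right : V x ⊓ V y ≤ V y)).op (r y) := fun x y => by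
    refine PicRootLib.root_unique i hu ((hru x).map _) ?_ ?_
    · rw [map_mul, map_pow, PicRootLib.app_res, PicRootLib.app_res, hri, hri, map_pow, map_pow, ← mul_pow]
      exact congrArg (· ^ N) (hcη x y)
    · rw [mul_pow, ← map_pow, ← map_pow, hrn, hrn, map_mul, map_mul, map_pow, map_pow, hhη x y, mul_pow,
        ← pow_mul, ← pow_mul, mul_comm n N]
      have hvv : X'.presheaf.map (homOfLE (inf_le_left : V x ⊓ V y ≤ V x)).op (v' x) =
          X'.presheaf.map (homOfLE (inf_le_right : V x ⊓ V y ≤ V y)).op (v' y) := by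
        refine (((hvu.map (X'.presheaf.map (homOfLE (le_top : V x ⊓ V y ≤ ⊤)).op).hom))).mul_left_injective ?_
        have a1 : ∀ z, v' z * X'.presheaf.map (homOfLE (le_top : V z ≤ ⊤)).op v = 1 := fun z => by
          simp only [v', IsUnit.val_inv_mul]
        have a2 := congrArg (X'.presheaf.map (homOfLE (inf_le_left : V x ⊓ V y ≤ V x)).op).hom (a1 x)
        have a3 := congrArg (X'.presheaf.map (homOfLE (inf_le_right : V x ⊓ V y ≤ V y)).op).hom (a1 y)
        simp only [map_mul, map_one, ← ConcreteCategory.comp_apply, ← Functor.map_comp] at a2 a3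
        exact a2.trans a3.symm
      rw [hvv]
      ring
  obtain ⟨eN⟩ : Nonempty (CohB1.tensorPow L N ≅ Coh.structureModule X') :=
    nonempty_iso_of_bases hV' (L := CohB1.tensorPow L N) (L' := Coh.structureModule X')
      (s := fun x => powLoc (e x) N) (t := fun x => r x • (show Γ(Coh.structureModule X', V x) from (1 : Γ(X', V x))))
      (fun x => gen_powLoc (he x) N) (fun x => (gen_one (V x)).smul (hru x)) (fun x y => η x y ^ N)
      (fun x y => by rw [powLoc_res, powLoc_res, ← hη x y, powLoc_smul])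
      (fun x y => by
        rw [(Coh.structureModule X').map_smul, (Coh.structureModule X').map_smul, one_res, one_res, ← mul_smul, hrel])
  refine IntLib.mk_eq_mk.1 ?_
  have a1 : IntLib.mk L ^ n = 1 := (IntLib.mk_tensorPow L n).symm.trans ((IntLib.mk_congr φ).trans IntLib.mk_structureModule)
  have a2 : IntLib.mk L ^ N = 1 := (IntLib.mk_tensorPow L N).symm.trans ((IntLib.mk_congr eN).trans IntLib.mk_structureModule)
  have a3 : IntLib.mk L ^ N.gcd n = 1 := pow_gcd_eq_one.2 ⟨a2, a1⟩
  rw [hN.gcd_eq_one, pow_one] at a3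
  rw [a3, IntLib.mk_structureModule]

end Groth.Agent.CastLib
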