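import Groth.Agent.SurfPtBlow.DvrMeet
import Groth.Agent.AVLib.DivSection
import Groth.Agent.AmpleEmb.Inverse
import Groth.Agent.AmpleEmb.Serre

/-!
# Twisting an ample module by an exceptional line
-/

set_option autoImplicit false
set_option backward.isDefEq.respectTransparency false
set_option linter.style.haveILetI false
set_option maxHeartbeats 1000000

universe u

open CategoryTheory CategoryTheory.Limits AlgebraicGeometry TopologicalSpace
open Groth.Agent.IntLib (mk)
open Groth.Agent.AmpleLib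

noncomputable section

namespace Groth.Agent.CastLib

open Groth.Agent.SurfPtBlow

variable {X : Scheme.{u}}

/-- Global sections lift when the kernel has no `H¹`. -/
theorem exists_lift {S : ShortComplex X.Modules} (hS : S.ShortExact) [Subsingleton (Coh.HH X S.X₁ 1)]
    (σ : Coh.structureModule X ⟶ S.X₃) : ∃ τ : Coh.structureModule X ⟶ S.X₂, τ ≫ S.g = σ := by
  have hAb := QCohLib.toAb_shortExact hS
  let c : Sheaf.H ((QCohLib.toAbF X).obj S.X₃) 0 := (CurveLib.secOf S.X₃).symm (sec σ)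
  obtain ⟨b, hb⟩ := Abelian.Ext.covariant_sequence_exact₃ _ hAb c (n₁ := 1) rfl
    (Subsingleton.elim (α := Coh.HH X S.X₁ 1) _ _)
  refine ⟨DCohLib.secHom S.X₂ (CurveLib.secOf S.X₂ b), DCohLib.hom_unit_ext ?_⟩
  show S.g.app ⊤ (sec (DCohLib.secHom S.X₂ _)) = sec σ
  rw [sec_secHom]
  have h1 : CurveLib.secOf S.X₃ (Sheaf.H.map ((QCohLib.toAbF X).map S.g) 0 b) =
      S.g.app ⊤ (CurveLib.secOf S.X₂ b) := by
    show CohBase.H0Equiv (⊤ : X.Opens) (Coh.toAb S.X₃) (CohBase.HEquiv _ 0 (Sheaf.H.map _ 0 b)) = _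
    rw [CohBase.HEquiv_map, CohBase.H0Equiv_hmap]
    rfl
  rw [← h1]
  exact (congrArg (CurveLib.secOf S.X₃) hb).trans ((CurveLib.secOf S.X₃).apply_symm_apply _)

section Seq

variable {k : Type u} [Field k] (j : CohB1.ProjSpace 1 k ⟶ X) [IsClosedImmersion j]

/-- The sequence `I_E ⊗ M → M → M|_E` exists with no cohomological content. -/
theorem exists_seq [IsLocallyNoetherian X] {M : X.Modules} (hM : PicF.IsInvertible M) :
    ∃ S : ShortComplex X.Modules, S.ShortExact ∧ S.X₁ = CohB1.tensorMod (ClSub.idealMod j.ker) M ∧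
      Nonempty (S.X₂ ≅ M) ∧ Nonempty (S.X₃ ≅ (Scheme.Modules.pushforward j).obj ((Scheme.Modules.pullback j).obj M)) ∧
      S.X₃ = CohB1.tensorMod (ClSub.quotMod j.ker) M := by
  have hS := H1ZeroLib.kerSeq_shortExact (ClSub.toSubscheme j.ker) fun x => by
    haveI : Epi (ClSub.toSubscheme j.ker) := HilbObsLib.epi_toSubscheme _
    exact (PullbackMod.epi_iff_stalk _).1 inferInstance x
  obtain ⟨q⟩ := TwistShriek.nonempty_quotMod_ker_iso j
  exact ⟨_, CurveLib.shortExact_tensR hS (CurveLib.freeAt_one_of_isInvertible hM), rfl, ⟨unitL M⟩,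
    ⟨((DCoh.tensorBi (X := X)).mapIso q).app M ≪≫ DCohLib.projIso j (Coh.structureModule _) M ≪≫
      (Scheme.Modules.pushforward j).mapIso (unitL _)⟩, rfl⟩

/-- One step of the vanishing. -/
theorem subsingleton_step [IsLocallyNoetherian X] {M : X.Modules} (hM : PicF.IsInvertible M)
    (h1 : Subsingleton (Coh.HH X (CohB1.tensorMod (ClSub.idealMod j.ker) M) 1)) (hd : -1 ≤ degOn j M) :
    Subsingleton (Coh.HH X M 1) := by
  obtain ⟨S, hS, e1, ⟨e2⟩, -, e3⟩ := exists_seq j hM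
  haveI : Subsingleton (Coh.HH X S.X₁ 1) := by rw [e1]; exact h1
  haveI : Subsingleton (Coh.HH X S.X₃ 1) := by rw [e3]; exact subsingleton_H1_layer j hM hd
  exact CurveLib.subsingleton_HH_iso e2 1 (CurveLib.subsingleton_mid hS 1)

/-- Sections on the line lift to sections generating where they do. -/
theorem exists_lift_gen [IsLocallyNoetherian X] {M : X.Modules} (hM : PicF.IsInvertible M)
    (h1 : Subsingleton (Coh.HH X (CohB1.tensorMod (ClSub.idealMod j.ker) M) 1))
    (θ : Coh.structureModule (CohB1.ProjSpace 1 k) ⟶ (Scheme.Modules.pullback j).obj M) :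
    ∃ τ : Coh.structureModule X ⟶ M, CohB1.genLocus _ θ ≤ j ⁻¹ᵁ CohB1.genLocus M τ := by
  obtain ⟨S, hS, e1, ⟨e2⟩, ⟨e3⟩, -⟩ := exists_seq j hM
  haveI : Subsingleton (Coh.HH X S.X₁ 1) := by rw [e1]; exact h1
  let P := (Scheme.Modules.pullback j).obj M
  have hP : PicF.IsInvertible P := isInvertible_pullback j hM
  let π : M ⟶ (Scheme.Modules.pushforward j).obj P := e2.inv ≫ S.g ≫ e3.hom
  let σ : Coh.structureModule X ⟶ (Scheme.Modules.pushforward j).obj P :=
    DCohLib.secHom _ (show Γ((Scheme.Modules.pushforward j).obj P, ⊤) from sec (L := P) θ)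
  obtain ⟨τ₀, hτ₀⟩ := exists_lift hS (σ ≫ e3.inv)
  refine ⟨τ₀ ≫ e2.hom, fun z hz => ?_⟩
  have hπ : (τ₀ ≫ e2.hom) ≫ π = σ := by
    simp only [π, Category.assoc, Iso.hom_inv_id_assoc]
    rw [reassoc_of% hτ₀, Iso.inv_hom_id, Category.comp_id]
  obtain ⟨W, e, hxW, he⟩ := ParaFLib.exists_gen_nhd hM (j z)
  obtain ⟨r, hr⟩ := (he W le_rfl).2 (resT (sec (τ₀ ≫ e2.hom)) W)
  simp only [ParaFLib.res_self] at hr
  show j z ∈ CohB1.genLocus M (τ₀ ≫ e2.hom)
  refine ((genLocus_inf_eq_basicOpen _ he hr).ge ?_).1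
  -- compare on the line
  let v : Γ(P, j ⁻¹ᵁ W) := π.app W e
  have hθ : resT (sec θ) (j ⁻¹ᵁ W) = j.app W r • v := by
    have h2 : π.app W (r • e) = j.app W r • v := Scheme.Modules.Hom.app_smul π r e
    rw [← h2, hr]
    have h3 : sec σ = (show Γ((Scheme.Modules.pushforward j).obj P, ⊤) from sec (L := P) θ) := sec_secHom _
    have h5 : π.app ⊤ (sec (τ₀ ≫ e2.hom)) = sec σ := congrArg sec hπ
    show _ = π.app W (M.presheaf.map (homOfLE (le_top : W ≤ ⊤)).op (sec (τ₀ ≫ e2.hom)))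
    refine Eq.symm (Eq.trans (ConcreteCategory.congr_hom (π.mapPresheaf.naturality (homOfLE (le_top : W ≤ ⊤)).op)
      (sec (τ₀ ≫ e2.hom))) ?_)
    show ((Scheme.Modules.pushforward j).obj P).presheaf.map _ (π.app ⊤ (sec (τ₀ ≫ e2.hom))) = _
    rw [h5, h3]
    rfl
  have hu : IsUnit ((CohB1.ProjSpace 1 k).presheaf.germ (j ⁻¹ᵁ W) z hxW (j.app W r)) := by
    have hb := (mem_genLocus_iff hP).1 hz
    have h4 : P.presheaf.germ ⊤ z trivial (sec θ) =
        (CohB1.ProjSpace 1 k).presheaf.germ (j ⁻¹ᵁ W) z hxW (j.app W r) • P.presheaf.germ (j ⁻¹ᵁ W) z hxW v := by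
      rw [← ParaFLib.germ_smul', ← hθ, resT, TopCat.Presheaf.germ_res_apply]
    rw [h4] at hb
    obtain ⟨b, hb'⟩ := hb.2 (P.presheaf.germ (j ⁻¹ᵁ W) z hxW v)
    obtain ⟨g, hg⟩ := ParaFLib.exists_stalk_gen hP z
    obtain ⟨a, ha⟩ := hg.2 (P.presheaf.germ (j ⁻¹ᵁ W) z hxW v)
    simp only at ha hb'
    rw [← ha] at hb
    have hb2 : IsUnit ((CohB1.ProjSpace 1 k).presheaf.germ (j ⁻¹ᵁ W) z hxW (j.app W r) * a) := by
      rw [← bijective_smul_iff hg]
      simpa [smul_smul] using hb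
    exact isUnit_of_mul_isUnit_left hb2
  have hz' : z ∈ (CohB1.ProjSpace 1 k).basicOpen (j.app W r) :=
    ((CohB1.ProjSpace 1 k).mem_basicOpen (j.app W r) z hxW).2 hu
  rw [← Scheme.preimage_basicOpen] at hz'
  exact hz'

end Seq

section Deg

variable {k : Type u} [Field k]

theorem degP_twist_nat (n : ℕ) : degP k (Twist.twistProjSpace 1 k (n : ℤ)) = n := by
  haveI := isProper_P1 (k := k)
  have h1 : ∀ n : ℕ, Module.finrank k (Coh.HH (CohB1.ProjSpace 1 k) (Twist.twistProjSpace 1 k (n : ℤ)) 1) = 0 := fun n => by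
    haveI : Subsingleton (Coh.HH (CohB1.ProjSpace 1 k) (Twist.twistProjSpace 1 k (n : ℤ)) 1) :=
      ProjTwist.subsingleton_HH 1 k (n : ℤ) 1 (by omega) (by omega)
    exact Module.finrank_zero_of_subsingleton
  have h0 : ∀ n : ℕ, Module.finrank k (Coh.HH (CohB1.ProjSpace 1 k) (Twist.twistProjSpace 1 k (n : ℤ)) 0) = n + 1 := fun n => by
    obtain ⟨e⟩ := ProjTwist.nonempty_H0 1 k n
    rw [e.finrank_eq, S4466.finrank_forms k 1 n, Nat.choose_one_right]
  let φ : Coh.structureModule (CohB1.ProjSpace 1 k) ≅ Twist.twistProjSpace 1 k ((0 : ℕ) : ℤ) :=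
    @asIso _ _ _ _ (ProjCoh.unitToTwist (CohB1.polyGrading 1 k)) ProjCoh.isIso_unitToTwist
  rw [degP, Curv2.deg, CurveLib.euler_eq_sub (k := k) dim_P1.le, CurveLib.euler_eq_sub (k := k) dim_P1.le,
    ShBCLib.finrank_HH_iso (K := k) φ 0, ShBCLib.finrank_HH_iso (K := k) φ 1, h0, h1, h0, h1]
  omega

theorem degP_twist_neg {d : ℤ} (hd : d < 0) : degP k (Twist.twistProjSpace 1 k d) < 0 := by
  haveI := isProper_P1 (k := k)
  haveI : Subsingleton (Coh.HH (CohB1.ProjSpace 1 k) (Twist.twistProjSpace 1 k d) 0) :=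
    ProjTwist.subsingleton_HH 1 k d 0 (by omega) (by omega)
  haveI := EulerIneqLib.isNoetherian_proper (X := CohB1.ProjSpace 1 k) k
  let φ : Coh.structureModule (CohB1.ProjSpace 1 k) ≅ Twist.twistProjSpace 1 k ((0 : ℕ) : ℤ) :=
    @asIso _ _ _ _ (ProjCoh.unitToTwist (CohB1.polyGrading 1 k)) ProjCoh.isIso_unitToTwist
  haveI : Subsingleton (Coh.HH (CohB1.ProjSpace 1 k) (Twist.twistProjSpace 1 k ((0 : ℕ) : ℤ)) 1) :=
    ProjTwist.subsingleton_HH 1 k _ 1 (by omega) (by omega)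
  have hO0 : Module.finrank k (Coh.HH (CohB1.ProjSpace 1 k) (Coh.structureModule _) 0) = 1 := by
    obtain ⟨e0⟩ := ProjTwist.nonempty_H0 1 k 0
    rw [ShBCLib.finrank_HH_iso (K := k) φ 0]
    refine e0.finrank_eq.trans ?_
    rw [S4466.finrank_forms k 1 0, Nat.choose_one_right]
  rw [degP, Curv2.deg, CurveLib.euler_eq_sub (k := k) dim_P1.le, CurveLib.euler_eq_sub (k := k) dim_P1.le,
    hO0, show Module.finrank k (Coh.HH (CohB1.ProjSpace 1 k) (Twist.twistProjSpace 1 k d) 0) = 0 from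
      Module.finrank_zero_of_subsingleton, ShBCLib.finrank_HH_iso (K := k) φ 1,
    show Module.finrank k (Coh.HH (CohB1.ProjSpace 1 k) (Twist.twistProjSpace 1 k ((0 : ℕ) : ℤ)) 1) = 0 from
      Module.finrank_zero_of_subsingleton]
  omega

/-- Invertible modules on the line, by degree. -/
theorem nonempty_iso_twist_degP {M : (CohB1.ProjSpace 1 k).Modules} (hM : PicF.IsInvertible M) {n : ℕ}
    (h : degP k M = n) : Nonempty (M ≅ Twist.twistProjSpace 1 k (n : ℤ)) := by
  obtain ⟨d, ⟨e⟩⟩ := PicProjLib.exists_iso_twist (n := 1) (R := k) hM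
  have hd := degP_congr (k := k) (IntLib.mk_congr e)
  rcases lt_or_ge d 0 with hneg | hnn
  · have := degP_twist_neg (k := k) hneg
    omega
  · obtain ⟨m, rfl⟩ := Int.eq_ofNat_of_zero_le hnn
    rw [h, degP_twist_nat] at hd
    obtain rfl : n = m := by exact_mod_cast hd
    exact ⟨e⟩

variable {Z : Scheme.{u}} (j : CohB1.ProjSpace 1 k ⟶ Z)

theorem degOn_tensor {A B : Z.Modules} (hA : PicF.IsInvertible A) (hB : PicF.IsInvertible B) :
    degOn j (CohB1.tensorMod A B) = degOn j A + degOn j B :=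
  (degP_congr (IntLib.mk_congr (pullTensor j A B))).trans
    (degP_tensor (isInvertible_pullback j hA) (isInvertible_pullback j hB))

theorem degOn_one : degOn j (Coh.structureModule Z) = 0 :=
  (degP_congr (IntLib.mk_congr (pullO j))).trans degP_one

theorem degOn_tensorPow {A : Z.Modules} (hA : PicF.IsInvertible A) :
    ∀ n : ℕ, degOn j (CohB1.tensorPow A n) = n * degOn j A
  | 0 => by simp [CohB1.tensorPow, degOn_one]
  | n + 1 => by
    show degOn j (CohB1.tensorMod (CohB1.tensorPow A n) A) = _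
    rw [degOn_tensor j (isInvertible_tensorPow hA n) hA, degOn_tensorPow hA n]
    push_cast
    ring

theorem degOn_congr {A B : Z.Modules} (e : A ≅ B) : degOn j A = degOn j B :=
  degP_congr (IntLib.mk_congr ((Scheme.Modules.pullback j).mapIso e))

/-- A nonzero section forces a nonnegative degree. -/
theorem degP_nonneg {M : (CohB1.ProjSpace 1 k).Modules} (hM : PicF.IsInvertible M)
    {s : Coh.structureModule (CohB1.ProjSpace 1 k) ⟶ M} (hs : s ≠ 0) : 0 ≤ degP k M := by
  haveI := isIntegral_P1 (k := k)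
  haveI := isProper_P1 (k := k)
  obtain ⟨hle, -⟩ := CurveLib.deg_le_of_ne_zero (k := k) dim_P1.le ParaFLib.isInvertible_structureModule hM hs
  rw [CurveLib.deg_structureModule] at hle
  exact hle

/-- Ample modules have positive degree on lines. -/
theorem degOn_pos_of_isAmple [IsClosedImmersion j] {H : Z.Modules} (hH : CohB1.IsAmple H) : 0 < degOn j H := by
  haveI := isIntegral_P1 (k := k)
  haveI := isProper_P1 (k := k)
  haveI := EulerIneqLib.isNoetherian_proper (X := CohB1.ProjSpace 1 k) k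
  have hA := isAmple_pullback j hH
  let H' := (Scheme.Modules.pullback j).obj H
  obtain ⟨N, hN, ⟨e⟩⟩ := AmpleEmb.exists_isInverseOf (PicProjLib.isInvertible_twist (n := 1) (R := k) ((1 : ℕ) : ℤ))
  have hdN : degP k N = -1 := by
    have h1 := degP_congr (k := k) (IntLib.mk_congr e)
    rw [degP_tensor (PicProjLib.isInvertible_twist _) hN, degP_twist_nat, degP_one] at h1
    omega
  obtain ⟨n₀, hn₀⟩ := AmpleEmb.eventually_isGloballyGenerated hA (CurveLib.isCoh_of_isInvertible hN)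
  have hinv : PicF.IsInvertible (CohB1.tensorMod N (CohB1.tensorPow H' n₀)) :=
    isInvertible_tensor hN (isInvertible_tensorPow hA.1 n₀)
  obtain ⟨t, ht⟩ := exists_genLocus_of_isGloballyGenerated hinv (hn₀ n₀ le_rfl) (genericPoint (CohB1.ProjSpace 1 k))
  have ht0 : t ≠ 0 := fun h => by
    rw [mem_genLocus_iff hinv, h] at ht
    have h1 := ht.1 (a₁ := 1) (a₂ := 0) (by
      show (1 : _) • _ = (0 : (CohB1.ProjSpace 1 k).presheaf.stalk _) • _
      rw [show sec (0 : Coh.structureModule (CohB1.ProjSpace 1 k) ⟶ _) = 0 from rfl, map_zero, smul_zero, smul_zero])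
    exact one_ne_zero h1
  have h2 := degP_nonneg hinv ht0
  have h3 : degP k (CohB1.tensorPow H' n₀) = n₀ * degOn j H :=
    (degP_congr (IntLib.mk_congr (pullPow j H n₀))).symm.trans (degOn_tensorPow j hH.1 n₀)
  rw [degP_tensor hN (isInvertible_tensorPow hA.1 n₀), hdN, h3] at h2
  by_contra hle
  have := mul_nonpos_of_nonneg_of_nonpos (Int.natCast_nonneg n₀) (not_lt.1 hle)
  omega

end Deg

/-- A generated module near a line with all degrees killed: the twist `H(rE)`. -/
theorem exists_twist [IsLocallyNoetherian X] {k : Type u} [Field k] (j : CohB1.ProjSpace 1 k ⟶ X)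
    [IsClosedImmersion j] (hC : BlowUp.IsEffCartierIdeal j.ker)
    (e : (Scheme.Modules.pullback j).obj (ClSub.idealMod j.ker) ≅ Twist.twistProjSpace 1 k 1)
    {H : X.Modules} (hH : PicF.IsInvertible H) {r : ℕ} (hr : degOn j H = r) (hr0 : 0 < r)
    (h1 : Subsingleton (Coh.HH X H 1)) :
    ∃ L : X.Modules, PicF.IsInvertible L ∧ degOn j L = 0 ∧
      Nonempty (CohB1.tensorMod (CohB1.tensorPow (ClSub.idealMod j.ker) r) L ≅ H) ∧
      (∃ τ : Coh.structureModule X ⟶ L, Set.range j ⊆ CohB1.genLocus L τ) ∧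
      ∀ t : Coh.structureModule X ⟶ H, ∃ t' : Coh.structureModule X ⟶ L,
        (CohB1.genLocus L t' : Set X) = (CohB1.genLocus H t : Set X) \ Set.range j := by
  have hI := (S8914.result j.ker).2 hC
  obtain ⟨N, hN, ⟨eN⟩⟩ := AmpleEmb.exists_isInverseOf hI
  have hIN : mk (ClSub.idealMod j.ker) * mk N = 1 := IntLib.mk_congr eN
  have hdI : degOn j (ClSub.idealMod j.ker) = 1 := degOn_self e
  have hdN : degOn j N = -1 := by
    have := (degOn_congr j eN).trans (degOn_one j)
    rw [degOn_tensor j hI hN, hdI] at this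
    omega
  let L : ℕ → X.Modules := fun i => CohB1.tensorMod H (CohB1.tensorPow N i)
  have hL : ∀ i, PicF.IsInvertible (L i) := fun i => isInvertible_tensor hH (isInvertible_tensorPow hN i)
  have hdL : ∀ i, degOn j (L i) = (r : ℤ) - i := fun i => by
    rw [degOn_tensor j hH (isInvertible_tensorPow hN i), degOn_tensorPow j hN, hdN, hr]
    ring
  have hstep : ∀ i, Nonempty (CohB1.tensorMod (ClSub.idealMod j.ker) (L (i + 1)) ≅ L i) := fun i =>
    IntLib.mk_eq_mk.1 (by
      simp only [L, IntLib.mk_tensor, IntLib.mk_tensorPow, pow_succ]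
      calc _ = mk H * mk N ^ i * (mk (ClSub.idealMod j.ker) * mk N) := by ac_rfl
        _ = _ := by rw [hIN, mul_one])
  have hvan : ∀ i, i < r → Subsingleton (Coh.HH X (L i) 1) := by
    intro i
    induction i with
    | zero => intro _; exact CurveLib.subsingleton_HH_iso (unitR H).symm 1 h1
    | succ i ih =>
      intro hi
      obtain ⟨f⟩ := hstep i
      refine subsingleton_step j (hL _) (CurveLib.subsingleton_HH_iso f.symm 1 (ih (by omega))) ?_
      rw [hdL]
      omega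
  refine ⟨L r, hL r, by rw [hdL]; omega, IntLib.mk_eq_mk.1 ?_, ?_, fun t => ?_⟩
  · simp only [L, IntLib.mk_tensor, IntLib.mk_tensorPow]
    calc _ = mk H * (mk (ClSub.idealMod j.ker) * mk N) ^ r := by rw [mul_pow]; ac_rfl
      _ = _ := by rw [hIN, one_pow, mul_one]
  · obtain ⟨q, rfl⟩ := Nat.exists_eq_succ_of_ne_zero hr0.ne'
    obtain ⟨f⟩ := hstep q
    obtain ⟨g⟩ := nonempty_iso_twist_degP (isInvertible_pullback j (hL (q + 1))) (n := 0)
      (show degOn j (L (q + 1)) = 0 by rw [hdL]; push_cast; ring)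
    let φ : Coh.structureModule (CohB1.ProjSpace 1 k) ≅ Twist.twistProjSpace 1 k ((0 : ℕ) : ℤ) :=
      @asIso _ _ _ _ (ProjCoh.unitToTwist (CohB1.polyGrading 1 k)) ProjCoh.isIso_unitToTwist
    obtain ⟨τ, hτ⟩ := exists_lift_gen j (hL (q + 1))
      (CurveLib.subsingleton_HH_iso f.symm 1 (hvan q (by omega))) (φ.hom ≫ g.inv)
    refine ⟨τ, ?_⟩
    rintro _ ⟨z, rfl⟩
    refine hτ ?_
    have htop : CohB1.genLocus _ (φ.hom ≫ g.inv) = ⊤ := by
      rw [show φ.hom ≫ g.inv = 𝟙 _ ≫ (φ ≪≫ g.symm).hom by simp, genLocus_comp_iso, genLocus_id]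
    rw [htop]
    trivial
  · obtain ⟨σ, hσ⟩ := AVLib.exists_section_genLocus_compl hC hN ⟨comm N (ClSub.idealMod j.ker) ≪≫ eN⟩
    obtain ⟨q, rfl⟩ := Nat.exists_eq_succ_of_ne_zero hr0.ne'
    refine ⟨tensorS t (powS σ (q + 1)), ?_⟩
    rw [genLocus_tensorS hH (isInvertible_tensorPow hN _), genLocus_powS hN, hσ, Opens.coe_inf, Set.diff_eq]
    refine congrArg (_ ∩ ·) ?_
    show ((j.ker.support : Set X))ᶜ = _
    rw [Scheme.Hom.support_ker, j.isClosedEmbedding.isClosed_range.closure_eq]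

end Groth.Agent.CastLib
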